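import Groth.Statements.S8975
import Mathlib.Tactic

set_option autoImplicit false
set_option linter.unusedSectionVars false
set_option linter.unusedVariables false
universe u
open TensorProduct
open QFDual

namespace Groth.Agent.S8975

section Helpers

variable {A B' B C' C : Type u} [CommRing A] [CommRing B'] [CommRing B] [CommRing C'] [CommRing C]
  [Algebra A B'] [Algebra B' B] [Algebra A B] [IsScalarTower A B' B]
  [Algebra A C'] [Algebra C' C] [Algebra A C] [IsScalarTower A C' C]

/-- restriction of a functional on `B' × C'` to the first factor. -/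
def resL (φ : Disc.Omega A (B' × C')) : Disc.Omega A B' :=
  Disc.Omega.mk (φ.toLinearMap ∘ₗ LinearMap.inl A B' C')

/-- restriction of a functional on `B' × C'` to the second factor. -/
def resR (φ : Disc.Omega A (B' × C')) : Disc.Omega A C' :=
  Disc.Omega.mk (φ.toLinearMap ∘ₗ LinearMap.inr A B' C')

/-- extension of a functional on `B'` by zero. -/
def extL (ψ : Disc.Omega A B') : Disc.Omega A (B' × C') :=
  Disc.Omega.mk (ψ.toLinearMap ∘ₗ LinearMap.fst A B' C')

/-- extension of a functional on `C'` by zero. -/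
def extR (ψ : Disc.Omega A C') : Disc.Omega A (B' × C') :=
  Disc.Omega.mk (ψ.toLinearMap ∘ₗ LinearMap.snd A B' C')

theorem resL_add (φ ψ : Disc.Omega A (B' × C')) : resL (φ + ψ) = resL φ + resL ψ := by
  apply Disc.Omega.ext; apply LinearMap.ext; intro x; rfl

theorem resR_add (φ ψ : Disc.Omega A (B' × C')) : resR (φ + ψ) = resR φ + resR ψ := by
  apply Disc.Omega.ext; apply LinearMap.ext; intro x; rfl

theorem extL_add (φ ψ : Disc.Omega A B') : extL (C' := C') (φ + ψ) = extL φ + extL ψ := by
  apply Disc.Omega.ext; apply LinearMap.ext; intro x; rfl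

theorem extR_add (φ ψ : Disc.Omega A C') : extR (B' := B') (φ + ψ) = extR φ + extR ψ := by
  apply Disc.Omega.ext; apply LinearMap.ext; intro x; rfl

theorem resL_smul (r : B' × C') (φ : Disc.Omega A (B' × C')) : resL (r • φ) = r.1 • resL φ := by
  apply Disc.Omega.ext; apply LinearMap.ext; intro x
  show φ.toLinearMap (r * (x, 0)) = φ.toLinearMap ((r.1 * x, 0))
  congr 1
  ext <;> simp

theorem resR_smul (r : B' × C') (φ : Disc.Omega A (B' × C')) : resR (r • φ) = r.2 • resR φ := by
  apply Disc.Omega.ext; apply LinearMap.ext; intro x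
  show φ.toLinearMap (r * (0, x)) = φ.toLinearMap ((0, r.2 * x))
  congr 1
  ext <;> simp

theorem extL_smul (b' : B') (ψ : Disc.Omega A B') :
    extL (C' := C') (b' • ψ) = ((b', 0) : B' × C') • extL ψ := by
  apply Disc.Omega.ext; apply LinearMap.ext; intro x
  show ψ.toLinearMap (b' * x.1) = ψ.toLinearMap (((b', 0) * x : B' × C').1)
  rfl

theorem extR_smul (c' : C') (ψ : Disc.Omega A C') :
    extR (B' := B') (c' • ψ) = ((0, c') : B' × C') • extR ψ := by
  apply Disc.Omega.ext; apply LinearMap.ext; intro x
  show ψ.toLinearMap (c' * x.2) = ψ.toLinearMap (((0, c') * x : B' × C').2)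
  rfl

theorem resL_extL (ψ : Disc.Omega A B') : resL (extL (C' := C') ψ) = ψ := by
  apply Disc.Omega.ext; apply LinearMap.ext; intro x; rfl

theorem resR_extR (ψ : Disc.Omega A C') : resR (extR (B' := B') ψ) = ψ := by
  apply Disc.Omega.ext; apply LinearMap.ext; intro x; rfl

theorem resR_extL (ψ : Disc.Omega A B') : resR (extL (C' := C') ψ) = 0 := by
  apply Disc.Omega.ext; apply LinearMap.ext; intro x
  show ψ.toLinearMap 0 = 0
  rw [map_zero]

theorem resL_extR (ψ : Disc.Omega A C') : resL (extR (B' := B') ψ) = 0 := by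
  apply Disc.Omega.ext; apply LinearMap.ext; intro x
  show ψ.toLinearMap 0 = 0
  rw [map_zero]

theorem extL_resL (φ : Disc.Omega A (B' × C')) : extL (resL φ) = ((1, 0) : B' × C') • φ := by
  apply Disc.Omega.ext; apply LinearMap.ext; intro x
  show φ.toLinearMap (x.1, 0) = φ.toLinearMap ((1, 0) * x)
  congr 1
  ext <;> simp

theorem extR_resR (φ : Disc.Omega A (B' × C')) : extR (resR φ) = ((0, 1) : B' × C') • φ := by
  apply Disc.Omega.ext; apply LinearMap.ext; intro x
  show φ.toLinearMap (0, x.2) = φ.toLinearMap ((0, 1) * x)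
  congr 1
  ext <;> simp

section Maps

variable [Algebra (B' × C') (B × C)]
  (halg : algebraMap (B' × C') (B × C) = (algebraMap B' B).prodMap (algebraMap C' C))

include halg in
theorem smul_pair (r : B' × C') (x : B × C) : r • x = (r.1 • x.1, r.2 • x.2) := by
  rw [Algebra.smul_def, halg, Algebra.smul_def, Algebra.smul_def]
  rfl

/-- the forward map. -/
noncomputable def fwd : omega A (B' × C') (B × C) →+ omega A B' B × omega A C' C :=
  TensorProduct.liftAddHom
    { toFun := fun x =>
        { toFun := fun φ => (x.1 ⊗ₜ[B'] resL φ, x.2 ⊗ₜ[C'] resR φ)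
          map_zero' := by
            have h1 : resL (0 : Disc.Omega A (B' × C')) = 0 := rfl
            have h2 : resR (0 : Disc.Omega A (B' × C')) = 0 := rfl
            rw [h1, h2, tmul_zero, tmul_zero]
            rfl
          map_add' := fun φ ψ => by
            rw [resL_add, resR_add, tmul_add, tmul_add]
            rfl }
      map_zero' := by
        ext φ
        · show (0 : B) ⊗ₜ[B'] resL φ = 0
          rw [zero_tmul]
        · show (0 : C) ⊗ₜ[C'] resR φ = 0
          rw [zero_tmul]
      map_add' := fun x y => by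
        ext φ
        · show (x.1 + y.1) ⊗ₜ[B'] resL φ = x.1 ⊗ₜ[B'] resL φ + y.1 ⊗ₜ[B'] resL φ
          rw [add_tmul]
        · show (x.2 + y.2) ⊗ₜ[C'] resR φ = x.2 ⊗ₜ[C'] resR φ + y.2 ⊗ₜ[C'] resR φ
          rw [add_tmul] }
    (by
      intro r x φ
      show ((r • x).1 ⊗ₜ[B'] resL φ, (r • x).2 ⊗ₜ[C'] resR φ) =
        (x.1 ⊗ₜ[B'] resL (r • φ), x.2 ⊗ₜ[C'] resR (r • φ))
      rw [smul_pair halg, resL_smul, resR_smul, smul_tmul, smul_tmul])

theorem fwd_tmul (x : B × C) (φ : Disc.Omega A (B' × C')) :
    fwd halg (x ⊗ₜ[B' × C'] φ) = (x.1 ⊗ₜ[B'] resL φ, x.2 ⊗ₜ[C'] resR φ) := rfl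

/-- the backward map on the first factor. -/
noncomputable def bwdL : omega A B' B →+ omega A (B' × C') (B × C) :=
  TensorProduct.liftAddHom
    { toFun := fun b =>
        { toFun := fun ψ => ((b, 0) : B × C) ⊗ₜ[B' × C'] extL ψ
          map_zero' := by
            have h1 : extL (C' := C') (0 : Disc.Omega A B') = 0 := rfl
            rw [h1, tmul_zero]
          map_add' := fun φ ψ => by
            rw [extL_add, tmul_add] }
      map_zero' := by
        ext ψ
        show ((0, 0) : B × C) ⊗ₜ[B' × C'] extL ψ = 0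
        exact zero_tmul _ _
      map_add' := fun x y => by
        ext ψ
        show ((x + y, 0) : B × C) ⊗ₜ[B' × C'] extL ψ =
          ((x, 0) : B × C) ⊗ₜ[B' × C'] extL ψ + ((y, 0) : B × C) ⊗ₜ[B' × C'] extL ψ
        rw [← add_tmul]
        congr 1
        ext <;> simp }
    (by
      intro b' b ψ
      show ((b' • b, 0) : B × C) ⊗ₜ[B' × C'] extL ψ = ((b, 0) : B × C) ⊗ₜ[B' × C'] extL (b' • ψ)
      rw [extL_smul, ← smul_tmul, smul_pair halg]
      congr 1
      ext <;> simp)

theorem bwdL_tmul (b : B) (ψ : Disc.Omega A B') :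
    bwdL halg (b ⊗ₜ[B'] ψ) = ((b, 0) : B × C) ⊗ₜ[B' × C'] extL ψ := rfl

/-- the backward map on the second factor. -/
noncomputable def bwdR : omega A C' C →+ omega A (B' × C') (B × C) :=
  TensorProduct.liftAddHom
    { toFun := fun c =>
        { toFun := fun ψ => ((0, c) : B × C) ⊗ₜ[B' × C'] extR ψ
          map_zero' := by
            have h1 : extR (B' := B') (0 : Disc.Omega A C') = 0 := rfl
            rw [h1, tmul_zero]
          map_add' := fun φ ψ => by
            rw [extR_add, tmul_add] }
      map_zero' := by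
        ext ψ
        show ((0, 0) : B × C) ⊗ₜ[B' × C'] extR ψ = 0
        exact zero_tmul _ _
      map_add' := fun x y => by
        ext ψ
        show ((0, x + y) : B × C) ⊗ₜ[B' × C'] extR ψ =
          ((0, x) : B × C) ⊗ₜ[B' × C'] extR ψ + ((0, y) : B × C) ⊗ₜ[B' × C'] extR ψ
        rw [← add_tmul]
        congr 1
        ext <;> simp }
    (by
      intro c' c ψ
      show ((0, c' • c) : B × C) ⊗ₜ[B' × C'] extR ψ = ((0, c) : B × C) ⊗ₜ[B' × C'] extR (c' • ψ)
      rw [extR_smul, ← smul_tmul, smul_pair halg]
      congr 1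
      ext <;> simp)

theorem bwdR_tmul (c : C) (ψ : Disc.Omega A C') :
    bwdR halg (c ⊗ₜ[C'] ψ) = ((0, c) : B × C) ⊗ₜ[B' × C'] extR ψ := rfl

theorem fwd_bwdL (x : omega A B' B) : fwd halg (bwdL halg x) = (x, 0) := by
  induction x using TensorProduct.induction_on with
  | zero => rw [map_zero, map_zero]; rfl
  | add x y hx hy => rw [map_add, map_add, hx, hy]; ext <;> simp
  | tmul b ψ =>
    rw [bwdL_tmul, fwd_tmul, resL_extL, resR_extL, tmul_zero]

theorem fwd_bwdR (y : omega A C' C) : fwd halg (bwdR halg y) = (0, y) := by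
  induction y using TensorProduct.induction_on with
  | zero => rw [map_zero, map_zero]; rfl
  | add x y hx hy => rw [map_add, map_add, hx, hy]; ext <;> simp
  | tmul c ψ =>
    rw [bwdR_tmul, fwd_tmul, resR_extR, resL_extR, tmul_zero]

theorem bwd_fwd (z : omega A (B' × C') (B × C)) :
    bwdL halg (fwd halg z).1 + bwdR halg (fwd halg z).2 = z := by
  induction z using TensorProduct.induction_on with
  | zero => simp
  | add x y hx hy =>
    rw [map_add, Prod.fst_add, Prod.snd_add, map_add, map_add]
    conv_rhs => rw [← hx, ← hy]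
    abel
  | tmul x φ =>
    rw [fwd_tmul, bwdL_tmul, bwdR_tmul, extL_resL, extR_resR, ← smul_tmul, ← smul_tmul,
      smul_pair halg, smul_pair halg, ← add_tmul]
    congr 1
    ext <;> simp

end Maps

end Helpers

/-- The relative dualizing module of a product. Suppose A, B, C are Noetherian rings and the ring maps A
→ B, A → C are quasi-finite, presented by factorizations A → B' → B and A → C' → C with A → B', A →
C' finite and Spec B → Spec B', Spec C → Spec C' open immersions, and let B × C carry the product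
algebra structure over B' × C' (so that A → B' × C' → B × C is a factorization of the same kind).
Then ω_{(B × C)/A} = (B × C) ⊗_{B' × C'} Hom_A(B' × C', A) is identified with ω_{B/A} × ω_{C/A}:
there is an A-linear isomorphism sending (b, c) ⊗ φ to (b ⊗ φ∘ι_{B'}, c ⊗ φ∘ι_{C'}), where ι_{B'},
ι_{C'} are the inclusions of the factors; this formula determines the isomorphism and makes it (B ×
C)-linear. -/
theorem result (A B' B C' C : Type u) [CommRing A] [CommRing B'] [CommRing B] [CommRing C'] [CommRing C] [IsNoetherianRing A] [IsNoetherianRing B] [IsNoetherianRing C] [Algebra A B'] [Algebra B' B] [Algebra A B] [IsScalarTower A B' B] [Algebra A C'] [Algebra C' C] [Algebra A C] [IsScalarTower A C' C] (hB : QFDual.IsQFFactor A B' B) (hC : QFDual.IsQFFactor A C' C) [Algebra (B' × C') (B × C)] [IsScalarTower A (B' × C') (B × C)] (halg : algebraMap (B' × C') (B × C) = (algebraMap B' B).prodMap (algebraMap C' C)) : ∃ e : QFDual.omega A (B' × C') (B × C) ≃ₗ[A] QFDual.omega A B' B × QFDual.omega A C' C, ∀ (b : B) (c : C) (φ :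 Disc.Omega A (B' × C')), e ((b, c) ⊗ₜ[B' × C'] φ) = (b ⊗ₜ[B'] Disc.Omega.mk (φ.toLinearMap ∘ₗ LinearMap.inl A B' C'), c ⊗ₜ[C'] Disc.Omega.mk (φ.toLinearMap ∘ₗ LinearMap.inr A B' C')) := by
  have hsmul : ∀ (a : A) (z : omega A (B' × C') (B × C)), fwd halg (a • z) = a • fwd halg z := by
    intro a z
    induction z using TensorProduct.induction_on with
    | zero => rw [smul_zero, map_zero, smul_zero]
    | add x y hx hy => rw [smul_add, map_add, hx, hy, map_add, smul_add]
    | tmul x φ =>
      rw [smul_tmul', fwd_tmul, fwd_tmul]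
      rfl
  refine ⟨{ toFun := fwd halg
            map_add' := map_add _
            map_smul' := hsmul
            invFun := fun p => bwdL halg p.1 + bwdR halg p.2
            left_inv := bwd_fwd halg
            right_inv := ?_ }, ?_⟩
  · intro p
    show fwd halg (bwdL halg p.1 + bwdR halg p.2) = p
    rw [map_add, fwd_bwdL, fwd_bwdR]
    ext <;> simp
  · intro b c φ
    rfl

end Groth.Agent.S8975
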