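import Groth.Statements.S8977
-- import your own Groth.Agent.* helpers here
import Groth.Agent.Lib.SubtrFamH52

set_option autoImplicit false
universe u
open HTop

namespace Groth.Agent.S8977

open CategoryTheory CategoryTheory.Limits AlgebraicGeometry in
/-- For a Noetherian scheme X and a finite family of finite type morphisms X_i → X, the induced morphism
from the coproduct of the X_i to X is universally submersive if and only if the family is an h
covering. -/
theorem result {X : Scheme.{u}} [IsNoetherian X] (E : PreZeroHypercover.{u} X) [Finite E.I₀] [∀ i, LocallyOfFiniteType (E.f i)] [∀ i, QuasiCompact (E.f i)] : SGA1.UnivSubmersive (Sigma.desc E.f) ↔ HTop.IsHCover E := by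
  have hqc : QuasiCompact (Sigma.desc E.f) :=
    Groth.Agent.Lib.SubtrFamH52.quasiCompact_sigmaDesc E.X E.f
  have hX : IsLocallyNoetherian X := inferInstance
  constructor
  · intro h
    refine ⟨fun i => inferInstance, ?_⟩
    apply Groth.Agent.Lib.SubtrFamH52.isVCover_of_univSSubtrusive E
    exact Groth.Agent.Lib.SubtrNoethH52.univSSubtrusive_of_forall_noetherian (Sigma.desc E.f)
      (fun T _ t =>
        Groth.Agent.Lib.SubtrNoethH52.isSSubtrusive_snd_of_univSubmersive (Sigma.desc E.f) h t)
  · intro h
    exact Groth.Agent.Lib.VCoverSubmersive.univSubmersive_of_isVCover E h.2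

end Groth.Agent.S8977
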