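import Groth.Statements.S8979
-- import your own Groth.Agent.* helpers here
import Groth.Agent.S7476

set_option autoImplicit false
universe u
open HTop

namespace Groth.Agent.S8979

open CategoryTheory CategoryTheory.Limits AlgebraicGeometry in
/-- A surjective proper morphism of finite presentation, as a one-member family, is an h covering of its
target. -/
theorem result {X Y : Scheme.{u}} (f : Y ⟶ X) [IsProper f] [Surjective f] [LocallyOfFinitePresentation f] : HTop.IsHCover (PreZeroHypercover.singleton.{0} f) := by
  refine ⟨fun i => ?_, ?_⟩
  · show LocallyOfFinitePresentation f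
    infer_instance
  · apply Groth.Agent.S7476.isVCover_of_hasValLift.{0, u, 0} f
    intro V _ _ g
    have hex : ValuativeCriterion.Existence f := by
      have h1 : UniversallyClosed f := inferInstance
      rw [UniversallyClosed.eq_valuativeCriterion] at h1
      exact h1.1
    obtain ⟨W, hWd, hWv, φ, hφ, g', hg'⟩ :=
      Groth.Agent.Lib.ValSpecialize.exists_lift_of_existence f hex V g
    exact ⟨W, hWd, hWv, φ, hφ, PUnit.unit, g', hg'⟩

end Groth.Agent.S8979
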