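import Groth.Statements.S8980
-- import your own Groth.Agent.* helpers here
import Groth.Agent.Lib.HCoverSigmaH52

set_option autoImplicit false
universe u
open HTop

namespace Groth.Agent.S8980

open CategoryTheory CategoryTheory.Limits AlgebraicGeometry in
/-- A family of morphisms T_i → T, indexed by a type in the universe of T and all locally of finite
presentation, is an h covering if and only if the one-member family given by the induced morphism
from the coproduct of the T_i to T is an h covering. (The published statement also lists, as a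
further equivalent condition, that some h covering refines the family; that equivalence is immediate
from the definitions and is not restated here.) -/
theorem result {T : Scheme.{u}} (E : PreZeroHypercover.{u} T) (hE : ∀ i, LocallyOfFinitePresentation (E.f i)) : HTop.IsHCover E ↔ HTop.IsHCover (PreZeroHypercover.singleton.{0} (Sigma.desc E.f)) := by
  constructor
  · rintro ⟨h1, h2⟩
    refine ⟨?_, ?_⟩
    · intro i
      show LocallyOfFinitePresentation (Sigma.desc E.f)
      rw [IsZariskiLocalAtSource.iff_of_openCover (P := @LocallyOfFinitePresentation)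
        (sigmaOpenCover E.X)]
      intro i
      have : (sigmaOpenCover E.X).f i ≫ Sigma.desc E.f = E.f i := Sigma.ι_desc _ _
      rw [this]
      exact h1 i
    · intro U
      obtain ⟨F, hF, hFE⟩ := h2 U
      refine ⟨F, hF, ?_⟩
      intro j
      obtain ⟨i, h, hh⟩ := hFE j
      refine ⟨PUnit.unit, h ≫ Sigma.ι E.X i, ?_⟩
      show (h ≫ Sigma.ι E.X i) ≫ Sigma.desc E.f = _
      rw [Category.assoc, Sigma.ι_desc]
      exact hh
  · rintro ⟨h1, h2⟩
    refine ⟨hE, ?_⟩
    apply Groth.Agent.Lib.HCoverSigmaH52.isVCover_of_compact_lift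
    intro U
    obtain ⟨F, hF, hFσ⟩ := h2 U
    choose i h hh using hFσ
    let h' : ∀ j, F.X j ⟶ ∐ E.X := fun j => h j
    have hh' : ∀ j, h' j ≫ Sigma.desc E.f = F.f j ≫ (U : T.Opens).ι := hh
    have hfin : Finite F.I₀ := hF.finite_index
    have haff : ∀ j, IsAffine (F.X j) := hF.isAffine_obj
    refine ⟨⋃ j, Set.range (h' j), isCompact_iUnion (fun j => isCompact_range (h' j).continuous),
      ?_, ?_⟩
    · intro x hx
      obtain ⟨j, y, rfl⟩ := Set.mem_iUnion.mp hx
      show Sigma.desc E.f (h' j y) ∈ (U : T.Opens)
      rw [← Scheme.Hom.comp_apply, hh' j, Scheme.Hom.comp_apply]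
      exact (F.f j y).2
    · intro V _ _ g
      obtain ⟨W, hWd, hWv, φ, hφ, j, g', hg'⟩ := hF.lift V g
      refine ⟨W, hWd, hWv, φ, hφ, g' ≫ h' j, ?_, ?_⟩
      · rw [Category.assoc, hh' j, ← Category.assoc, hg', Category.assoc]
      · rw [Scheme.Hom.comp_apply]
        exact Set.mem_iUnion.mpr ⟨j, ⟨_, rfl⟩⟩

end Groth.Agent.S8980
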