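import Groth.Statements.S8991
-- import your own Groth.Agent.* helpers here
import Groth.Agent.Lib.ThickSheafH52b

set_option autoImplicit false
universe u
open HTop

namespace Groth.Agent.S8991

open CategoryTheory CategoryTheory.Limits AlgebraicGeometry Opposite in
/-- A ph sheaf on schemes over S takes the same sections on an S-scheme and on any thickening of it. -/
theorem result (S : Scheme.{u}) (F : HTop.ShPh S) {X X' : Over S} (f : X ⟶ X') (hf : MoreMor.IsThickening f.left) : Function.Bijective (F.obj.map f.op) := by
  obtain ⟨hci, hsurj⟩ := hf
  have hmono : Mono f.left := inferInstance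
  have hmono' : Mono f := (Over.forget S).mono_of_mono_map hmono
  apply Groth.Agent.Lib.ThickSheafH52.bijective_map_of_mono_of_mem HTop.phTopology F f
  apply Precoverage.generate_mem_toGrothendieck
  have h := HTop.presieve₀_mem_phPrecoverage_iff (PreZeroHypercover.singleton.{0} f.left)
  rw [PreZeroHypercover.presieve₀_singleton] at h
  exact h.mpr (Groth.Agent.Lib.ThickSheafH52.isPhCover_singleton_of_isProper_of_isAffineHom f.left)

end Groth.Agent.S8991
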