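import Groth.Statements.S8992
import Mathlib.Algebra.Field.ZMod

set_option autoImplicit false
universe u
open HTop

namespace Groth.Agent.S8992

/-- An algebra over the prime field with p elements is absolutely weakly normal if and only if its p-th
power map is bijective (the algebra is perfect). -/
theorem result (p : ℕ) [Fact p.Prime] (A : Type u) [CommRing A] [Algebra (ZMod p) A] : HTop.IsAWNRing A ↔ PerfectRing A p := by
  have hp : p.Prime := Fact.out
  have hpA : (p : A) = 0 := by
    rw [← map_natCast (algebraMap (ZMod p) A) p, ZMod.natCast_self, map_zero]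
  constructor
  · rintro ⟨_, h⟩
    refine ⟨?_⟩
    rw [Function.bijective_iff_existsUnique]
    intro x
    obtain ⟨a, ⟨ha, _⟩, hu⟩ := h p hp x 0 (by simp [hpA, hp.ne_zero])
    exact ⟨a, ha.symm, fun b hb => hu b ⟨hb.symm, by simp [hpA]⟩⟩
  · intro hperf
    have hbij := hperf.bijective_frobenius
    have hinj : ∀ a b : A, a ^ p = b ^ p → a = b := fun a b h => hbij.1 h
    have hsurj : ∀ z : A, ∃ a : A, a ^ p = z := fun z => hbij.2 z
    have hzero : ∀ z : A, z ^ p = 0 → z = 0 := fun z hz =>
      hinj z 0 (by rw [hz, zero_pow hp.ne_zero])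
    have hpow : ∀ k : ℕ, ∀ z : A, z ^ (p ^ k) = 0 → z = 0 := by
      intro k
      induction k with
      | zero => intro z hz; simpa using hz
      | succ k ih =>
        intro z hz
        apply ih
        apply hzero
        rw [← pow_mul, ← pow_succ]; exact hz
    have hred : ∀ (n : ℕ) (z : A), z ^ n = 0 → z = 0 := by
      intro n z hz
      apply hpow n
      have hle : n ≤ p ^ n := (Nat.lt_pow_self hp.one_lt).le
      rw [← Nat.sub_add_cancel hle, pow_add, hz, mul_zero]
    refine ⟨?_, ?_⟩
    · intro x y hxy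
      obtain ⟨i, j, hij⟩ : ∃ i j : ℕ, 2 * i + 3 * j = p := by
        rcases hp.eq_two_or_odd with h2 | hodd
        · exact ⟨1, 0, by omega⟩
        · have : 2 ≤ p := hp.two_le
          exact ⟨(p - 3) / 2, 1, by omega⟩
      obtain ⟨a, ha⟩ := hsurj (x ^ i * y ^ j)
      have h2 : a ^ 2 = x := by
        apply hinj
        calc (a ^ 2) ^ p = (a ^ p) ^ 2 := by rw [← pow_mul, ← pow_mul, mul_comm]
          _ = x ^ (2 * i) * (y ^ 2) ^ j := by rw [ha]; ring
          _ = x ^ (2 * i) * (x ^ 3) ^ j := by rw [hxy]
          _ = x ^ (2 * i + 3 * j) := by ring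
          _ = x ^ p := by rw [hij]
      have h3 : a ^ 3 = y := by
        apply hinj
        calc (a ^ 3) ^ p = (a ^ p) ^ 3 := by rw [← pow_mul, ← pow_mul, mul_comm]
          _ = (x ^ 3) ^ i * y ^ (3 * j) := by rw [ha]; ring
          _ = (y ^ 2) ^ i * y ^ (3 * j) := by rw [hxy]
          _ = y ^ (2 * i + 3 * j) := by ring
          _ = y ^ p := by rw [hij]
      refine ⟨a, ⟨h2.symm, h3.symm⟩, ?_⟩
      rintro b ⟨hb2, hb3⟩
      have hb2' : b ^ 2 = a ^ 2 := by rw [h2, hb2]
      have hb3' : b ^ 3 = a ^ 3 := by rw [h3, hb3]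
      have : (b - a) ^ 3 = 0 := by
        linear_combination 4 * hb3' - 3 * (b + a) * hb2'
      exact sub_eq_zero.mp (hred 3 _ this)
    · intro q hq x y hxy
      by_cases hqp : q = p
      · subst hqp
        have hy : y = 0 := by
          apply hzero
          rw [← hxy, hpA, zero_pow hp.ne_zero, zero_mul]
        obtain ⟨a, ha⟩ := hsurj x
        refine ⟨a, ⟨ha.symm, by rw [hy, hpA, zero_mul]⟩, ?_⟩
        rintro b ⟨hb, -⟩
        exact hinj b a (by rw [ha, hb])
      · have hqz : (q : ZMod p) ≠ 0 := by
          intro h0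
          rw [ZMod.natCast_eq_zero_iff] at h0
          exact hqp ((Nat.prime_dvd_prime_iff_eq hp hq).mp h0).symm
        have hunit : IsUnit (q : A) := by
          rw [← map_natCast (algebraMap (ZMod p) A) q]
          exact (IsUnit.mk0 _ hqz).map _
        obtain ⟨u, hu⟩ := hunit.exists_left_inv
        refine ⟨u * y, ⟨?_, ?_⟩, ?_⟩
        · calc x = (u * (q : A)) ^ q * x := by rw [hu, one_pow, one_mul]
            _ = u ^ q * ((q : A) ^ q * x) := by ring
            _ = (u * y) ^ q := by rw [hxy]; ring
        · calc y = (u * (q : A)) * y := by rw [hu, one_mul]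
            _ = (q : A) * (u * y) := by ring
        · rintro b ⟨-, hb⟩
          calc b = (u * (q : A)) * b := by rw [hu, one_mul]
            _ = u * ((q : A) * b) := by ring
            _ = u * y := by rw [hb]

end Groth.Agent.S8992
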