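import Groth.Statements.S8993
-- import your own Groth.Agent.* helpers here
import Groth.Agent.Lib.UHCharPH52
import Mathlib.FieldTheory.PerfectClosure

set_option autoImplicit false
universe u
open HTop

namespace Groth.Agent.S8993

open Groth.Agent.Lib.UHRingH52 in
theorem charP_of_isUH {A C : Type u} [CommRing A] [CommRing C] (p : ℕ) [hp : Fact p.Prime]
    [CharP A p] (ψ : A →+* C) (h : IsUH ψ) : CharP C p := by
  have hA : Nontrivial A := CharP.nontrivial_of_char_ne_one (R := A) hp.out.ne_one
  obtain ⟨P⟩ : Nonempty (PrimeSpectrum A) := inferInstance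
  obtain ⟨Q, _⟩ := h.2.1 P
  have hC : Nontrivial C :=
    nontrivial_of_ne (0 : C) 1 (fun h0 => Q.2.one_notMem (h0 ▸ Q.asIdeal.zero_mem))
  have hp0 : (p : C) = 0 := by rw [← map_natCast ψ, CharP.cast_eq_zero, map_zero]
  have hdvd : ringChar C ∣ p := (ringChar.spec C p).mp hp0
  rcases (Nat.dvd_prime hp.out).mp hdvd with h1 | h1
  · exfalso
    have h2 : ((1 : ℕ) : C) = 0 := (ringChar.spec C 1).mpr (by rw [h1])
    simp at h2
  · exact ringChar.of_eq h1

/-- For a ring A of prime characteristic p, the map from A to the direct limit of A along Frobenius (the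
perfect closure) is an absolute weak normalization of A. (The published statement also identifies,
over a base of characteristic p, the h sheafification of the structure sheaf on quasi-compact
quasi-separated objects with this colimit; that part is not stated here.) -/
theorem result (p : ℕ) [Fact p.Prime] (A : Type u) [CommRing A] [CharP A p] : HTop.IsRingAWN (PerfectClosure.of A p) := by
  refine ⟨?_, ?_⟩
  · rw [Groth.Agent.Lib.UHRingH52.isUnivHomeo_iff]
    exact Groth.Agent.Lib.UHCharPH52.isUH_of_isPRadical p _ inferInstance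
  · intro C _ ψ hψ
    rw [Groth.Agent.Lib.UHRingH52.isUnivHomeo_iff] at hψ
    have hC : CharP C p := charP_of_isUH p ψ hψ
    have hrad : IsPRadical ψ p := Groth.Agent.Lib.UHCharPH52.isPRadical_of_isUH p ψ hψ
    refine ⟨PerfectRing.lift ψ (PerfectClosure.of A p) p, PerfectRing.lift_comp ψ _ p, ?_⟩
    intro χ hχ
    apply IsPRadical.injective_comp_of_perfect (PerfectClosure A p) ψ p
    change χ.comp ψ = (PerfectRing.lift ψ (PerfectClosure.of A p) p).comp ψ
    rw [hχ, PerfectRing.lift_comp]

end Groth.Agent.S8993
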