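import Groth.Statements.S8995
import Groth.Agent.Lib.WeaklyEtaleFlat61

set_option autoImplicit false
universe v u
open FlatMor

namespace Groth.Agent.S8995

open CategoryTheory CategoryTheory.Limits AlgebraicGeometry in
/-- For an etale morphism T → S and a point t of T over s, a module over the local ring of T at t is
flat over the local ring of S at s (through the stalk map) if and only if it is flat over the local
ring of T at t. -/
theorem result {T S : Scheme.{u}} (g : T ⟶ S) [Etale g] (t : T) (M : Type v) [AddCommGroup M] [Module (T.presheaf.stalk t) M] [Algebra (S.presheaf.stalk (g.base t)) (T.presheaf.stalk t)] [Module (S.presheaf.stalk (g.base t)) M] [IsScalarTower (S.presheaf.stalk (g.base t)) (T.presheaf.stalk t) M] (halg : algebraMap (S.presheaf.stalk (g.base t)) (T.presheaf.stalk t) = (g.stalkMap t).hom) : Module.Flat (S.presheaf.stalk (g.base t)) M ↔ Module.Flat (T.presheaf.stalk t) M := by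
  have hflat : Module.Flat (S.presheaf.stalk (g.base t)) (T.presheaf.stalk t) := by
    rw [← RingHom.flat_algebraMap_iff, halg]
    exact Flat.stalkMap g t
  have hunr : Algebra.FormallyUnramified (S.presheaf.stalk (g.base t)) (T.presheaf.stalk t) := by
    rw [← RingHom.formallyUnramified_algebraMap, halg]
    exact FormallyUnramified.stalkMap g t
  have hess : Algebra.EssFiniteType (S.presheaf.stalk (g.base t)) (T.presheaf.stalk t) := by
    rw [← RingHom.essFiniteType_algebraMap, halg]
    exact LocallyOfFiniteType.stalkMap g t
  have hoi : IsOpenImmersion (Spec.map (CommRingCat.ofHom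
      (Algebra.TensorProduct.lmul' (S.presheaf.stalk (g.base t))
        (S := T.presheaf.stalk t)).toRingHom)) := inferInstance
  have hwe : Algebra.WeaklyEtale (S.presheaf.stalk (g.base t)) (T.presheaf.stalk t) := by
    refine ⟨hflat, ?_⟩
    have h1 : Flat (Spec.map (CommRingCat.ofHom
      (Algebra.TensorProduct.lmul' (S.presheaf.stalk (g.base t))
        (S := T.presheaf.stalk t)).toRingHom)) := inferInstance
    exact (HasRingHomProperty.Spec_iff (P := @Flat)).mp h1
  constructor
  · intro h
    exact Groth.Agent.Lib.WeaklyEtaleFlat61.flat_of_weaklyEtale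
      (S.presheaf.stalk (g.base t)) (T.presheaf.stalk t) M
  · intro h
    exact Module.Flat.trans (S.presheaf.stalk (g.base t)) (T.presheaf.stalk t) M

end Groth.Agent.S8995
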