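import Groth.Statements.S9000
import Mathlib
import Groth.Agent.S1217
import Groth.Agent.Lib.HenselizationNbhd61
import Groth.Agent.Lib.HenselizationConstr
import Groth.Agent.Lib.HenselizationFlat
import Groth.Agent.Lib.WeaklyEtaleFlat61

set_option autoImplicit false
universe u
open FlatMor

namespace Groth.Agent.S9000

section helpers

open scoped TensorProduct
open IsLocalRing

theorem main_generic {A B : Type u} [CommRing A] [CommRing B] [Algebra A B] [Algebra.FiniteType A B]
    (N : Type u) [AddCommGroup N] [Module B N] (p : Ideal A) [p.IsPrime]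
    (A₁ B₁ N₁ : Type u) [CommRing A₁] [CommRing B₁] [Algebra A A₁] [Algebra B B₁]
    [Algebra A₁ B₁] [Algebra A B₁] [IsScalarTower A B B₁] [IsScalarTower A A₁ B₁]
    [AddCommGroup N₁] [Module B₁ N₁] [Module B N₁] [IsScalarTower B B₁ N₁] [Module A₁ N₁]
    [IsScalarTower A₁ B₁ N₁] (f₁ : N →ₗ[B] N₁) (t₁' t₁ : Ideal A₁) [t₁'.IsPrime] [t₁.IsPrime]
    (P₁ : Ideal B₁) [P₁.IsPrime] (himp : FlatCA.IsImpurity A B N p A₁ B₁ N₁ f₁ t₁' t₁ P₁)
    (hnhd : FlatCA.IsEtaleNhd A A₁ p t₁)
    (Rh : Type u) [CommRing Rh] [IsLocalRing Rh] [Algebra (Localization.AtPrime p) Rh]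
    [IsLocalHom (algebraMap (Localization.AtPrime p) Rh)]
    [Hensel.IsHenselization (Localization.AtPrime p) Rh] [Algebra A Rh]
    [IsScalarTower A (Localization.AtPrime p) Rh] :
    FlatCA.HasImpurity A B N p (fun A' _ _ t => ∃ (_ : IsLocalRing A')
      (_ : Algebra (Localization.AtPrime p) A') (_ : IsScalarTower A (Localization.AtPrime p) A')
      (_ : IsLocalHom (algebraMap (Localization.AtPrime p) A')),
      Hensel.IsHenselization (Localization.AtPrime p) A' ∧ t = maximalIdeal A') := by
  obtain ⟨hét, hover, hbij⟩ := hnhd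
  haveI := hét
  have hq : p = t₁.comap (algebraMap A A₁) := hover.over
  obtain ⟨θ, hθ⟩ := Groth.Agent.Lib.HenselizationNbhd61.exists_algHom p Rh A₁ t₁ hq hbij
  letI : Algebra A₁ Rh := θ.toRingHom.toAlgebra
  haveI : IsScalarTower A A₁ Rh := .of_algebraMap_eq fun x => (θ.commutes x).symm
  haveI : Module.FaithfullyFlat (Localization.AtPrime p) Rh :=
    Groth.Agent.Lib.HenselizationFlat.faithfullyFlat_of_isHenselization _ Rh
  haveI : Module.Flat A (Localization.AtPrime p) := IsLocalization.flat _ p.primeCompl
  haveI : Module.Flat A Rh := Module.Flat.trans A (Localization.AtPrime p) Rh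
  haveI : Module.Flat A₁ Rh := Groth.Agent.Lib.WeaklyEtaleFlat61.flat_of_weaklyEtale A A₁ Rh
  haveI hvt₁ : (maximalIdeal Rh).LiesOver t₁ := ⟨hθ.symm⟩
  have hle := himp.2.2.1
  obtain ⟨v', hv'le, hv'prime, hv'over⟩ :=
    Ideal.exists_ideal_le_liesOver_of_le (p := t₁') (q := t₁) (maximalIdeal Rh) hle
  haveI := hv'prime
  haveI := hv'over
  haveI : (maximalIdeal Rh).LiesOver p := Ideal.LiesOver.trans _ t₁ p
  have hid : IsBaseChange B (LinearMap.id : N →ₗ[B] N) :=
    IsBaseChange.ofEquiv (LinearEquiv.refl B N)
  apply Groth.Agent.S1217.key_mid N p A B N inferInstance LinearMap.id hid p A₁ B₁ N₁ f₁ t₁' t₁ P₁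
    himp Rh v' (maximalIdeal Rh) hv'le
  intro BV NV _ _ _ _ _ _ _ _ _ _ _ _ fV PV _ himpV
  exact ⟨Rh, BV, NV, inferInstance, inferInstance, inferInstance, inferInstance, inferInstance,
    inferInstance, inferInstance, inferInstance, inferInstance, inferInstance, inferInstance,
    inferInstance, inferInstance, inferInstance, fV, v', maximalIdeal Rh, inferInstance,
    inferInstance, PV, inferInstance, himpV, inferInstance, inferInstance, inferInstance,
    inferInstance, inferInstance, rfl⟩

theorem main {A B : Type u} [CommRing A] [CommRing B] [Algebra A B] [Algebra.FiniteType A B]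
    (N : Type u) [AddCommGroup N] [Module B N] (p : Ideal A) [p.IsPrime]
    (h : FlatCA.HasImpurity A B N p (fun A' _ _ t => ∃ _ : t.IsPrime, FlatCA.IsEtaleNhd A A' p t)) :
    FlatCA.HasImpurity A B N p (fun A' _ _ t => ∃ (_ : IsLocalRing A')
      (_ : Algebra (Localization.AtPrime p) A') (_ : IsScalarTower A (Localization.AtPrime p) A')
      (_ : IsLocalHom (algebraMap (Localization.AtPrime p) A')),
      Hensel.IsHenselization (Localization.AtPrime p) A' ∧ t = maximalIdeal A') := by
  obtain ⟨A₁, B₁, N₁, _, _, _, _, _, _, _, _, _, _, _, _, _, _, f₁, t₁', t₁, _, _, P₁, _, himp,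
    _, hnhd⟩ := h
  letI : Algebra A (Groth.Agent.Lib.HenselizationConstr.Hzn (Localization.AtPrime p)) :=
    ((algebraMap (Localization.AtPrime p) _).comp (algebraMap A (Localization.AtPrime p))).toAlgebra
  haveI : IsScalarTower A (Localization.AtPrime p)
      (Groth.Agent.Lib.HenselizationConstr.Hzn (Localization.AtPrime p)) :=
    .of_algebraMap_eq fun _ => rfl
  exact main_generic N p A₁ B₁ N₁ f₁ t₁' t₁ P₁ himp hnhd
    (Groth.Agent.Lib.HenselizationConstr.Hzn (Localization.AtPrime p))

end helpers

open IsLocalRing in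
/-- For Spec B → Spec A of finite type, a finite B-module N and a prime p of A, an impurity of N above p
over an elementary etale neighbourhood of (A, p) yields an impurity of N above p over the
henselization of the local ring of A at p, based at its closed point. (The other implications of the
published equivalence are separate results: from the henselization to an elementary etale
neighbourhood, and between elementary etale neighbourhoods and base rings quasi-finite at the
point.) -/
theorem result {A B : Type u} [CommRing A] [CommRing B] [Algebra A B] [Algebra.FiniteType A B] (N : Type u) [AddCommGroup N] [Module B N] [Module.Finite B N] (p : Ideal A) [p.IsPrime] (h : FlatCA.HasImpurity A B N p (fun A' _ _ t => ∃ _ : t.IsPrime, FlatCA.IsEtaleNhd A A' p t)) : FlatCA.HasImpurity A B N p (fun A' _ _ t => ∃ (_ : IsLocalRing A') (_ : Algebra (Localization.AtPrime p) A') (_ : IsScalarTower A (Localization.AtPrime p) A') (_ : IsLocalHom (algebraMap (Localization.AtPrime p) A')), Hensel.IsHenselization (Localization.AtPrime p) A' ∧ t = maximalIdeal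 A') := by
  exact main N p h

end Groth.Agent.S9000
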