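import Groth.Statements.S8998
import Mathlib
import Groth.Agent.S1247
import Groth.Agent.S1246
import Groth.Agent.S9000
import Groth.Agent.S1248
import Groth.Agent.S1217

set_option autoImplicit false
universe u
open FlatMor

namespace Groth.Agent.S8998

section helpers

open scoped TensorProduct
open IsLocalRing

attribute [local instance] Algebra.TensorProduct.rightAlgebra

/-- transport of the henselization property along a bijective local map of the base. -/
theorem isHenselization_of_bijective (R R' S : Type u) [CommRing R] [IsLocalRing R] [CommRing R']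
    [IsLocalRing R'] [CommRing S] [IsLocalRing S] [Algebra R R'] [Algebra R' S] [Algebra R S]
    [IsScalarTower R R' S] [IsLocalHom (algebraMap R' S)] [IsLocalHom (algebraMap R S)]
    (hbij : Function.Bijective (algebraMap R R')) [hS : Hensel.IsHenselization R' S] :
    Hensel.IsHenselization R S := by
  refine ⟨hS.henselian, ?_⟩
  intro T _ _ f hf
  let e : R ≃+* R' := RingEquiv.ofBijective (algebraMap R R') hbij
  have he : ∀ r, e r = algebraMap R R' r := fun _ => rfl
  have hloc : IsLocalHom (f.comp (e.symm : R' →+* R)) := by
    constructor
    intro a ha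
    obtain ⟨r, rfl⟩ := e.surjective a
    have h1 : (f.comp (e.symm : R' →+* R)) (e r) = f r := by simp
    rw [h1] at ha
    exact (hf.map_nonunit r ha).map e
  obtain ⟨g, hg, hguniq⟩ := hS.universal T (f.comp (e.symm : R' →+* R)) hloc
  refine ⟨g, ?_, ?_⟩
  · ext r
    have h1 := RingHom.congr_fun hg (e r)
    simp only [RingHom.coe_comp, Function.comp_apply, RingHom.coe_coe,
      RingEquiv.symm_apply_apply] at h1
    rw [RingHom.comp_apply, IsScalarTower.algebraMap_apply R R' S, ← he, h1]
  · intro g' hg'
    apply hguniq
    ext r'
    obtain ⟨r, rfl⟩ := e.surjective r'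
    have h1 := RingHom.congr_fun hg' r
    rw [RingHom.comp_apply, IsScalarTower.algebraMap_apply R R' S] at h1
    simp only [RingHom.coe_comp, Function.comp_apply, RingHom.coe_coe,
      RingEquiv.symm_apply_apply]
    rw [he, h1]

/-- an impurity of the base change to `R` is an impurity of the original module. -/
theorem compose_impurity {A B : Type u} [CommRing A] [CommRing B] [Algebra A B]
    (N : Type u) [AddCommGroup N] [Module B N] (p : Ideal A) [p.IsPrime]
    (R BR NR : Type u) [CommRing R] [CommRing BR] [Algebra A R] [Algebra B BR] [Algebra R BR]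
    [Algebra A BR] [IsScalarTower A B BR] [IsScalarTower A R BR]
    (hpush : Algebra.IsPushout A B R BR)
    [AddCommGroup NR] [Module BR NR] [Module B NR] [IsScalarTower B BR NR] (fR : N →ₗ[B] NR)
    (hfR : IsBaseChange BR fR) (p' : Ideal R) [p'.IsPrime] [p'.LiesOver p]
    (H BH NH : Type u) [CommRing H] [CommRing BH] [Algebra R H] [Algebra BR BH] [Algebra H BH]
    [Algebra R BH] [IsScalarTower R BR BH] [IsScalarTower R H BH]
    [AddCommGroup NH] [Module BH NH] [Module BR NH] [IsScalarTower BR BH NH] [Module H NH]
    [IsScalarTower H BH NH] (fH : NR →ₗ[BR] NH) (t' t : Ideal H) [t'.IsPrime] [t.IsPrime]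
    (P : Ideal BH) [P.IsPrime] (himp : FlatCA.IsImpurity R BR NR p' H BH NH fH t' t P)
    [Algebra A H] [IsScalarTower A R H] [Algebra B BH] [IsScalarTower B BR BH] [Algebra A BH]
    [IsScalarTower A B BH] [IsScalarTower A H BH] [Module B NH] [IsScalarTower B BR NH]
    [IsScalarTower B BH NH] :
    FlatCA.IsImpurity A B N p H BH NH ((fH.restrictScalars B).comp fR) t' t P := by
  obtain ⟨hpushH, hfH, hle, hover, hPover, hass, hcl⟩ := himp
  haveI := hover
  haveI : IsScalarTower A BR BH := .of_algebraMap_eq fun a => by
    rw [IsScalarTower.algebraMap_apply A H BH, IsScalarTower.algebraMap_apply A R H,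
      ← IsScalarTower.algebraMap_apply R H BH, IsScalarTower.algebraMap_apply R BR BH,
      ← IsScalarTower.algebraMap_apply A R BR]
  refine ⟨?_, IsBaseChange.comp hfR hfH, hle, Ideal.LiesOver.trans t p' p, hPover, hass, hcl⟩
  haveI : Algebra.IsPushout A R B BR := hpush.symm
  haveI : Algebra.IsPushout R H BR BH := hpushH.symm
  have := (Algebra.IsPushout.comp_iff A R B (S' := BR) (T := H) (T' := BH)).mpr inferInstance
  exact this.symm

theorem descend_hens {A B : Type u} [CommRing A] [CommRing B] [Algebra A B]
    (N : Type u) [AddCommGroup N] [Module B N]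
    (p : Ideal A) [p.IsPrime]
    (BR NR : Type u) [CommRing BR] [Algebra B BR] [Algebra (Localization.AtPrime p) BR]
    [Algebra A BR] [IsScalarTower A B BR] [IsScalarTower A (Localization.AtPrime p) BR]
    (hpush : Algebra.IsPushout A B (Localization.AtPrime p) BR)
    [AddCommGroup NR] [Module BR NR] [Module B NR] [IsScalarTower B BR NR] (fR : N →ₗ[B] NR)
    (hfR : IsBaseChange BR fR)
    (h3 : FlatCA.HasImpurity (Localization.AtPrime p) BR NR
      (maximalIdeal (Localization.AtPrime p)) (fun A' _ _ t => ∃ (_ : IsLocalRing A')
      (_ : Algebra (Localization.AtPrime (maximalIdeal (Localization.AtPrime p))) A')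
      (_ : IsScalarTower (Localization.AtPrime p)
        (Localization.AtPrime (maximalIdeal (Localization.AtPrime p))) A')
      (_ : IsLocalHom (algebraMap
        (Localization.AtPrime (maximalIdeal (Localization.AtPrime p))) A')),
      Hensel.IsHenselization (Localization.AtPrime (maximalIdeal (Localization.AtPrime p))) A' ∧
        t = maximalIdeal A')) :
    FlatCA.HasImpurity A B N p (fun A' _ _ t => ∃ (_ : IsLocalRing A')
      (_ : Algebra (Localization.AtPrime p) A') (_ : IsScalarTower A (Localization.AtPrime p) A')
      (_ : IsLocalHom (algebraMap (Localization.AtPrime p) A')),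
      Hensel.IsHenselization (Localization.AtPrime p) A' ∧ t = maximalIdeal A') := by
  obtain ⟨H, BH, NH, _, _, _, _, _, _, _, _, _, _, _, _, _, _, fH, t', t, _, _, P, _, himp, hloc,
    halg, htower, hlocal, hhens, ht⟩ := h3
  letI : Algebra A H := ((algebraMap (Localization.AtPrime p) H).comp
    (algebraMap A (Localization.AtPrime p))).toAlgebra
  haveI : IsScalarTower A (Localization.AtPrime p) H := .of_algebraMap_eq fun _ => rfl
  letI : Algebra B BH := ((algebraMap BR BH).comp (algebraMap B BR)).toAlgebra
  haveI : IsScalarTower B BR BH := .of_algebraMap_eq fun _ => rfl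
  letI : Algebra A BH := ((algebraMap H BH).comp (algebraMap A H)).toAlgebra
  haveI : IsScalarTower A H BH := .of_algebraMap_eq fun _ => rfl
  haveI : IsScalarTower A B BH := .of_algebraMap_eq fun a => by
    rw [IsScalarTower.algebraMap_apply B BR BH, ← IsScalarTower.algebraMap_apply A B BR,
      IsScalarTower.algebraMap_apply A (Localization.AtPrime p) BR,
      ← IsScalarTower.algebraMap_apply (Localization.AtPrime p) BR BH,
      IsScalarTower.algebraMap_apply (Localization.AtPrime p) H BH,
      ← IsScalarTower.algebraMap_apply A (Localization.AtPrime p) H,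
      ← IsScalarTower.algebraMap_apply A H BH]
  letI : Module B NH := Module.compHom NH (algebraMap B BR)
  haveI : IsScalarTower B BR NH := ⟨fun b b' n => by
    change (b • b') • n = algebraMap B BR b • (b' • n)
    rw [Algebra.smul_def, mul_smul]⟩
  haveI : IsScalarTower B BH NH := ⟨fun b b' n => by
    change (b • b') • n = algebraMap B BR b • (b' • n)
    rw [Algebra.smul_def, mul_smul, IsScalarTower.algebraMap_apply B BR BH, algebraMap_smul]⟩
  have himpA := compose_impurity N p (Localization.AtPrime p) BR NR hpush fR hfR
    (maximalIdeal (Localization.AtPrime p)) H BH NH fH t' t P himp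
  haveI := hloc
  letI := halg
  haveI := htower
  haveI := hlocal
  haveI := hhens
  have hunits : (maximalIdeal (Localization.AtPrime p)).primeCompl ≤
      IsUnit.submonoid (Localization.AtPrime p) := by
    intro x hx
    have hx' : x ∉ maximalIdeal (Localization.AtPrime p) := hx
    rw [IsLocalRing.mem_maximalIdeal, mem_nonunits_iff, not_not] at hx'
    exact hx'
  have hbij : Function.Bijective (algebraMap (Localization.AtPrime p)
      (Localization.AtPrime (maximalIdeal (Localization.AtPrime p)))) :=
    (IsLocalization.atUnits (Localization.AtPrime p)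
      (maximalIdeal (Localization.AtPrime p)).primeCompl
      (S := Localization.AtPrime (maximalIdeal (Localization.AtPrime p))) hunits).bijective
  haveI hloc1 : IsLocalHom (algebraMap (Localization.AtPrime p)
      (Localization.AtPrime (maximalIdeal (Localization.AtPrime p)))) := by
    constructor
    intro a ha
    obtain ⟨b, hb⟩ := ha.exists_right_inv
    obtain ⟨c, rfl⟩ := hbij.2 b
    rw [← map_mul, ← map_one (algebraMap (Localization.AtPrime p)
      (Localization.AtPrime (maximalIdeal (Localization.AtPrime p))))] at hb
    exact IsUnit.of_mul_eq_one _ (hbij.1 hb)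
  haveI hloc2 : IsLocalHom (algebraMap (Localization.AtPrime p) H) := by
    rw [IsScalarTower.algebraMap_eq (Localization.AtPrime p)
      (Localization.AtPrime (maximalIdeal (Localization.AtPrime p))) H]
    exact RingHom.isLocalHom_comp _ _
  haveI := isHenselization_of_bijective (Localization.AtPrime p)
    (Localization.AtPrime (maximalIdeal (Localization.AtPrime p))) H hbij
  exact ⟨H, BH, NH, inferInstance, inferInstance, inferInstance, inferInstance, inferInstance,
    inferInstance, inferInstance, inferInstance, inferInstance, inferInstance, inferInstance,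
    inferInstance, inferInstance, inferInstance, _, t', t, inferInstance, inferInstance, P,
    inferInstance, himpA, hloc, inferInstance, inferInstance, inferInstance, inferInstance, ht⟩

theorem univPure_localization {A B : Type u} [CommRing A] [CommRing B] [Algebra A B]
    [Algebra.FiniteType A B] (N : Type u) [AddCommGroup N] [Module B N] [Module.Finite B N]
    (p : Ideal A) [p.IsPrime] [IsNoetherianRing (Localization.AtPrime p)]
    (BR NR : Type u) [CommRing BR] [Algebra B BR] [Algebra (Localization.AtPrime p) BR]
    [Algebra A BR] [IsScalarTower A B BR] [IsScalarTower A (Localization.AtPrime p) BR]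
    (hpush : Algebra.IsPushout A B (Localization.AtPrime p) BR)
    [AddCommGroup NR] [Module BR NR] [Module B NR] [IsScalarTower B BR NR] (fR : N →ₗ[B] NR)
    (hfR : IsBaseChange BR fR) (hpure : FlatCA.IsPureAlong A B N p) :
    FlatCA.IsUnivPureAlong (Localization.AtPrime p) BR NR
      (maximalIdeal (Localization.AtPrime p)) := by
  haveI : Algebra.FiniteType (Localization.AtPrime p) BR :=
    Algebra.FiniteType.equiv
      (inferInstance : Algebra.FiniteType (Localization.AtPrime p) ((Localization.AtPrime p) ⊗[A] B))
      (Algebra.IsPushout.equiv A (Localization.AtPrime p) B BR (h := hpush.symm))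
  haveI : Module.Finite BR NR := Module.Finite.equiv hfR.equiv
  intro H BH NH _ _ _ _ _ _ _ _ _ _ _ _ _ _ fH t' t _ _ P _ himp
  have h0 : FlatCA.HasImpurity (Localization.AtPrime p) BR NR
      (maximalIdeal (Localization.AtPrime p)) (fun _ _ _ _ => True) :=
    ⟨H, BH, NH, inferInstance, inferInstance, inferInstance, inferInstance, inferInstance,
      inferInstance, inferInstance, inferInstance, inferInstance, inferInstance, inferInstance,
      inferInstance, inferInstance, inferInstance, fH, t', t, inferInstance, inferInstance, P,
      inferInstance, himp, trivial⟩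
  have h1 := Groth.Agent.S1247.result NR (maximalIdeal (Localization.AtPrime p)) h0
  have h2 := Groth.Agent.S1246.result NR (maximalIdeal (Localization.AtPrime p)) h1
  have h3 := Groth.Agent.S9000.result NR (maximalIdeal (Localization.AtPrime p)) h2
  have h4 := descend_hens N p BR NR hpush fR hfR h3
  obtain ⟨A₅, B₅, N₅, _, _, _, _, _, _, _, _, _, _, _, _, _, _, f₅, t₅', t₅, _, _, P₅, _, himp₅, _,
    hnhd⟩ := Groth.Agent.S1248.result N p h4
  exact hpure A₅ B₅ N₅ f₅ t₅' t₅ P₅ hnhd himp₅

theorem exists_baseChange_data {A B : Type u} [CommRing A] [CommRing B] [Algebra A B]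
    (N : Type u) [AddCommGroup N] [Module B N] (R : Type u) [CommRing R] [Algebra A R] :
    ∃ (BR NR : Type u) (_ : CommRing BR) (_ : Algebra B BR) (_ : Algebra R BR) (_ : Algebra A BR)
      (_ : IsScalarTower A B BR) (_ : IsScalarTower A R BR) (_ : AddCommGroup NR)
      (_ : Module BR NR) (_ : Module B NR) (_ : IsScalarTower B BR NR) (fR : N →ₗ[B] NR),
      Algebra.IsPushout A B R BR ∧ IsBaseChange BR fR :=
  ⟨R ⊗[A] B, (R ⊗[A] B) ⊗[B] N, inferInstance, inferInstance, inferInstance, inferInstance,
    inferInstance, inferInstance, inferInstance, inferInstance, inferInstance, inferInstance,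
    TensorProduct.mk B (R ⊗[A] B) N 1, TensorProduct.isPushout',
    TensorProduct.isBaseChange B N (R ⊗[A] B)⟩

theorem main {A B : Type u} [CommRing A] [CommRing B] [Algebra A B] [Algebra.FiniteType A B]
    (N : Type u) [AddCommGroup N] [Module B N] [Module.Finite B N] (p : Ideal A) [p.IsPrime]
    [IsNoetherianRing (Localization.AtPrime p)] :
    FlatCA.IsPureAlong A B N p ↔ FlatCA.IsUnivPureAlong A B N p := by
  constructor
  · intro hpure
    obtain ⟨BR, NR, _, _, _, _, _, _, _, _, _, _, fR, hpush, hfR⟩ :=
      exists_baseChange_data (A := A) (B := B) N (Localization.AtPrime p)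
    have hR := univPure_localization N p BR NR hpush fR hfR hpure
    haveI : Module.Flat A (Localization.AtPrime p) := IsLocalization.flat _ p.primeCompl
    haveI : Module.Flat (Localization.AtPrime p)
        (Localization.AtPrime (maximalIdeal (Localization.AtPrime p))) :=
      IsLocalization.flat _ (maximalIdeal (Localization.AtPrime p)).primeCompl
    haveI : Module.Flat A (Localization.AtPrime (maximalIdeal (Localization.AtPrime p))) :=
      Module.Flat.trans A (Localization.AtPrime p) _
    haveI : (maximalIdeal (Localization.AtPrime p)).LiesOver p := inferInstance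
    haveI := hpush
    exact (Groth.Agent.S1217.result N p (Localization.AtPrime p) BR NR fR hfR
      (maximalIdeal (Localization.AtPrime p))).2 hR
  · intro huniv A' B' N' _ _ _ _ _ _ _ _ _ _ _ _ _ _ f t' t _ _ P _ _ himp
    exact huniv A' B' N' f t' t P himp

end helpers

/-- For an affine finite type morphism Spec B → Spec A: if the local ring of A at the prime p is
Noetherian, then a finite B-module is pure along the fibre over p if and only if it is universally
pure along it. -/
theorem result {A B : Type u} [CommRing A] [CommRing B] [Algebra A B] [Algebra.FiniteType A B] (N : Type u) [AddCommGroup N] [Module B N] [Module.Finite B N] (p : Ideal A) [p.IsPrime] [IsNoetherianRing (Localization.AtPrime p)] : FlatCA.IsPureAlong A B N p ↔ FlatCA.IsUnivPureAlong A B N p := by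
  exact main N p

end Groth.Agent.S8998
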