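import Groth.Statements.S9007
import Mathlib.AlgebraicGeometry.PullbackCarrier

set_option autoImplicit false
universe u
open FlatMor

namespace Groth.Agent.S9007

open CategoryTheory CategoryTheory.Limits AlgebraicGeometry in
theorem result {X S : Scheme.{u}} [CompactSpace S] [QuasiSeparatedSpace S] (p : X ⟶ S) [IsSeparated p] [QuasiCompact p] [LocallyOfFiniteType p] {Y Y' : Scheme.{u}} (j : X ⟶ Y) (q : Y ⟶ S) [IsOpenImmersion j] [IsProper q] (h : j ≫ q = p) (j' : X ⟶ Y') (q' : Y' ⟶ S) [IsOpenImmersion j'] [IsProper q'] (h' : j' ≫ q' = p) (f : Y' ⟶ Y) (hf : f ≫ q = q') (hfj : j' ≫ f = j) (hd : Dense (Set.range j'.base)) : f ⁻¹ᵁ j.opensRange = j'.opensRange := by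
  -- f is separated
  have hsep : IsSeparated f := by
    have : IsSeparated (f ≫ q) := by rw [hf]; infer_instance
    exact IsSeparated.of_comp f q
  -- the section of `pullback.snd f j`
  let σ : X ⟶ pullback f j := pullback.lift j' (𝟙 X) (by rw [hfj, Category.id_comp])
  have hσ1 : σ ≫ pullback.fst f j = j' := pullback.lift_fst _ _ _
  have hσ2 : σ ≫ pullback.snd f j = 𝟙 X := pullback.lift_snd _ _ _
  have hcl : IsClosedImmersion σ := by
    have : IsClosedImmersion (σ ≫ pullback.snd f j) := by rw [hσ2]; infer_instance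
    exact IsClosedImmersion.of_comp σ (pullback.snd f j)
  -- range of σ is the preimage of the range of j'
  have hfst_inj : Function.Injective (pullback.fst f j).base :=
    (pullback.fst f j).isOpenEmbedding.injective
  have hrange : Set.range σ.base = (pullback.fst f j).base ⁻¹' Set.range j'.base := by
    ext z
    constructor
    · rintro ⟨x, rfl⟩
      refine ⟨x, ?_⟩
      rw [← hσ1]
      rfl
    · rintro ⟨x, hx⟩
      refine ⟨x, hfst_inj ?_⟩
      rw [← hx, ← hσ1]
      rfl
  have hdense : Dense (Set.range σ.base) := by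
    rw [hrange]
    exact hd.preimage (pullback.fst f j).isOpenEmbedding.isOpenMap
  have hsurj : Set.range σ.base = Set.univ := by
    rw [← hdense.closure_eq]
    exact (σ.isClosedEmbedding.isClosed_range.closure_eq).symm
  -- conclusion
  ext y'
  constructor
  · intro hy'
    have hy : y' ∈ f.base ⁻¹' Set.range j.base := hy'
    rw [← Scheme.Pullback.range_fst] at hy
    obtain ⟨z, rfl⟩ := hy
    have hz : z ∈ Set.range σ.base := by rw [hsurj]; trivial
    obtain ⟨x, rfl⟩ := hz
    refine ⟨x, ?_⟩
    rw [← hσ1]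
    rfl
  · rintro ⟨x, rfl⟩
    refine ⟨x, ?_⟩
    rw [← hfj]
    rfl

end Groth.Agent.S9007
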