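import Groth.Statements.S9017
import Groth.Agent.Lib.H72FpqcDescent

set_option autoImplicit false
universe u
open FlatMor

namespace Groth.Agent.S9017

open CategoryTheory CategoryTheory.Limits AlgebraicGeometry Opposite in
/-- For f : X → S, a homomorphism u : F → G of quasi-coherent O_X-modules, a scheme T over S and an fpqc
covering family of S-morphisms T_i → T, the base change u_T on X_T = X ×_S T is injective (a
monomorphism in the abelian category of O-modules) if and only if u_{T_i} is injective for every i.
(Injectivity of u_T is not preserved by arbitrary base change, so this variant is a sheaf condition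
on coverings rather than a subfunctor of the final functor.) -/
theorem result {X S : Scheme.{u}} (f : X ⟶ S) {F G : X.Modules} [Coh.IsQCoh F] [Coh.IsQCoh G] (u : F ⟶ G)
    (T : Over S) {ι : Type u} (Ti : ι → Over S) (g : ∀ i, Ti i ⟶ T)
    (hcov : Presieve.ofArrows (fun i => (Ti i).left) (fun i => (g i).left) ∈ Scheme.fpqcPrecoverage T.left) :
    Mono ((Scheme.Modules.pullback (pullback.fst f T.hom)).map u) ↔
      ∀ i, Mono ((Scheme.Modules.pullback (pullback.fst f (Ti i).hom)).map u) := by
  haveI : F.IsQuasicoherent := ‹Coh.IsQCoh F›
  haveI : G.IsQuasicoherent := ‹Coh.IsQCoh G›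
  have h2 : CategoryTheory.Presieve.ofArrows (fun i => (Ti i).left) (fun i => (g i).left) ∈
      AlgebraicGeometry.Scheme.precoverage @AlgebraicGeometry.Flat T.left := hcov.2
  rw [AlgebraicGeometry.Scheme.ofArrows_mem_precoverage_iff] at h2
  obtain ⟨hsurj, hflat⟩ := h2
  constructor
  · intro h i
    exact Groth.Agent.Lib.H72FpqcDescent.stab_mono_of_flat f u (g i) (hflat i) h
  · intro h
    exact Groth.Agent.Lib.H72FpqcDescent.desc_mono f u Ti g hflat
      (fun t => by obtain ⟨i, z, hz⟩ := hsurj t; exact ⟨i, z, hz⟩) h

end Groth.Agent.S9017
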