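import Groth.Statements.S9018
import Groth.Agent.Lib.H72LimXT

set_option autoImplicit false
universe u
open FlatMor

namespace Groth.Agent.S9018

open CategoryTheory CategoryTheory.Limits AlgebraicGeometry Opposite in
/-- For f : X → S quasi-compact and a homomorphism u : F → G of quasi-coherent O_X-modules with G of
finite type, the functor F_surj (one point on T when the base change u_T on X ×_S T is an
epimorphism of O-modules, empty otherwise; the subfunctor of the final functor generated by that
condition) is limit preserving. -/
theorem result {X S : Scheme.{u}} (f : X ⟶ S) [QuasiCompact f] {F G : X.Modules} [Coh.IsQCoh F] [Coh.IsQCoh G]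
    (hG : CohB1.IsFT G) (u : F ⟶ G) :
    AlgSp.IsLimitPreserving (FlatFun.genPSp S (fun T => Epi ((Scheme.Modules.pullback (pullback.fst f T.hom)).map u))) := by
  haveI : F.IsQuasicoherent := ‹Coh.IsQCoh F›
  haveI : G.IsQuasicoherent := ‹Coh.IsQCoh G›
  haveI : G.IsFiniteType := hG
  exact Groth.Agent.Lib.H72LimXT.isLimitPreserving_genPSp
    (fun T => CategoryTheory.Epi ((AlgebraicGeometry.Scheme.Modules.pullback
      (CategoryTheory.Limits.pullback.fst f T.hom)).map u))
    (fun _ _ k h => Groth.Agent.Lib.H72FpqcDescent.stab_epi f u k h)
    (fun D c hc hD h => Groth.Agent.Lib.H72LimXT.exists_uT_epi f D c u hc hD h)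

end Groth.Agent.S9018
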