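import Groth.Statements.S9033
import Mathlib

set_option autoImplicit false
universe u
open Cpct

namespace Groth.Agent.S9033
set_option linter.style.haveILetI false
set_option linter.unusedSectionVars false
open CategoryTheory AlgebraicGeometry CategoryTheory.Limits

section Ore
variable {S : Scheme.{u}} {A B C : Pair S} (f : A ⟶ C) (s : B ⟶ C)

theorem restr_comp_ι {A B : Pair S} (f : A ⟶ B) : restr f ≫ B.U.ι = A.U.ι ≫ f.bar.left :=
  Scheme.Hom.resLE_comp_ι _ _

theorem restr_id (A : Pair S) : restr (𝟙 A) = 𝟙 _ :=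
  congrArg CommaMorphism.left (openOver.map_id A)

theorem restr_comp {A B C : Pair S} (f : A ⟶ B) (g : B ⟶ C) : restr (f ≫ g) = restr f ≫ restr g :=
  congrArg CommaMorphism.left (openOver.map_comp f g)

/-- the scheme `Ā ×_{C̄} B̄` -/
noncomputable abbrev Z : Scheme.{u} := pullback f.bar.left s.bar.left

/-- the open `pr₁⁻¹ A.U ∩ pr₂⁻¹ B.U` -/
noncomputable def UP : (Z f s).Opens :=
  (pullback.fst f.bar.left s.bar.left) ⁻¹ᵁ A.U ⊓ (pullback.snd f.bar.left s.bar.left) ⁻¹ᵁ B.U

theorem UP_le_fst : UP f s ≤ (pullback.fst f.bar.left s.bar.left) ⁻¹ᵁ A.U := inf_le_left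
theorem UP_le_snd : UP f s ≤ (pullback.snd f.bar.left s.bar.left) ⁻¹ᵁ B.U := inf_le_right

variable [IsIso (restr s)]

/-- the section `A.U → Z` -/
noncomputable def g : (A.U : Scheme.{u}) ⟶ Z f s :=
  pullback.lift A.U.ι (restr f ≫ inv (restr s) ≫ B.U.ι) (by
    rw [Category.assoc, Category.assoc, ← restr_comp_ι s, IsIso.inv_hom_id_assoc, restr_comp_ι])

theorem g_fst : g f s ≫ pullback.fst _ _ = A.U.ι := pullback.lift_fst _ _ _
theorem g_snd : g f s ≫ pullback.snd _ _ = restr f ≫ inv (restr s) ≫ B.U.ι := pullback.lift_snd _ _ _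

theorem range_g_le : Set.range (g f s).base ⊆ Set.range (UP f s).ι.base := by
  rw [Scheme.Opens.range_ι]
  rintro _ ⟨a, rfl⟩
  refine ⟨?_, ?_⟩
  · show (pullback.fst f.bar.left s.bar.left).base ((g f s).base a) ∈ A.U
    rw [← Scheme.Hom.comp_apply, g_fst]
    exact a.2
  · show (pullback.snd f.bar.left s.bar.left).base ((g f s).base a) ∈ B.U
    rw [← Scheme.Hom.comp_apply, g_snd]
    simp only [Scheme.Hom.comp_apply]
    exact Subtype.property _

/-- the corestriction of `g` to `UP` -/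
noncomputable def g' : (A.U : Scheme.{u}) ⟶ (UP f s : Scheme.{u}) :=
  IsOpenImmersion.lift (UP f s).ι (g f s) (range_g_le f s)

theorem g'_ι : g' f s ≫ (UP f s).ι = g f s := IsOpenImmersion.lift_fac _ _ _

/-- restriction of the first projection -/
noncomputable def r : (UP f s : Scheme.{u}) ⟶ (A.U : Scheme.{u}) :=
  (pullback.fst f.bar.left s.bar.left).resLE A.U (UP f s) (UP_le_fst f s)

noncomputable def t : (UP f s : Scheme.{u}) ⟶ (B.U : Scheme.{u}) :=
  (pullback.snd f.bar.left s.bar.left).resLE B.U (UP f s) (UP_le_snd f s)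

theorem r_ι : r f s ≫ A.U.ι = (UP f s).ι ≫ pullback.fst _ _ := Scheme.Hom.resLE_comp_ι _ _
theorem t_ι : t f s ≫ B.U.ι = (UP f s).ι ≫ pullback.snd _ _ := Scheme.Hom.resLE_comp_ι _ _

theorem r_restr : r f s ≫ restr f = t f s ≫ restr s := by
  rw [← cancel_mono C.U.ι, Category.assoc, Category.assoc, restr_comp_ι, restr_comp_ι,
    ← Category.assoc, ← Category.assoc, r_ι, t_ι, Category.assoc, Category.assoc, pullback.condition]

theorem g'_r : g' f s ≫ r f s = 𝟙 _ := by
  rw [← cancel_mono A.U.ι, Category.assoc, r_ι, ← Category.assoc, g'_ι, g_fst, Category.id_comp]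

theorem r_g : r f s ≫ g f s = (UP f s).ι := by
  apply pullback.hom_ext
  · rw [Category.assoc, g_fst, r_ι]
  · rw [Category.assoc, g_snd, ← Category.assoc, ← Category.assoc, r_restr, Category.assoc,
      Category.assoc, IsIso.hom_inv_id_assoc, t_ι]

theorem r_g' : r f s ≫ g' f s = 𝟙 _ := by
  rw [← cancel_mono (UP f s).ι, Category.assoc, g'_ι, r_g, Category.id_comp]

instance : IsIso (r f s) := ⟨g' f s, r_g' f s, g'_r f s⟩

theorem UP_eq_range : ((UP f s : (Z f s).Opens) : Set (Z f s)) = Set.range (g f s).base := by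
  apply subset_antisymm
  · intro z hz
    have h : (r f s ≫ g f s).base ⟨z, hz⟩ = (UP f s).ι.base ⟨z, hz⟩ := by rw [r_g]
    exact ⟨(r f s).base ⟨z, hz⟩, h⟩
  · have := range_g_le f s
    rwa [Scheme.Opens.range_ι] at this

theorem isCompact_UP (hA : IsCompact (A.U : Set A.bar.left)) :
    IsCompact ((UP f s : (Z f s).Opens) : Set (Z f s)) := by
  rw [UP_eq_range]
  haveI : CompactSpace A.U := isCompact_iff_compactSpace.mp hA
  exact isCompact_range (g f s).continuous

end Ore
section Ore2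
variable {S : Scheme.{u}} {A B C : Pair S} (f : A ⟶ C) (s : B ⟶ C) [IsIso (restr s)]

theorem isProper_left {A B : Pair S} (s : A ⟶ B) : IsProper s.bar.left := by
  haveI := A.isProper
  haveI := B.isProper
  haveI : IsProper (s.bar.left ≫ B.bar.hom) := by rw [Over.w]; infer_instance
  exact IsProper.of_comp s.bar.left B.bar.hom

noncomputable def P : Pair S where
  bar := Over.mk (pullback.fst f.bar.left s.bar.left ≫ A.bar.hom)
  U := UP f s
  isProper := by
    haveI := isProper_left s
    haveI := A.isProper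
    show IsProper (pullback.fst f.bar.left s.bar.left ≫ A.bar.hom)
    infer_instance
  isCompact := isCompact_UP f s A.isCompact

noncomputable def v : P f s ⟶ A where
  bar := Over.homMk (pullback.fst f.bar.left s.bar.left) rfl
  le := fun _ hx => hx.1

noncomputable def w : P f s ⟶ B where
  bar := Over.homMk (pullback.snd f.bar.left s.bar.left) (by
    show pullback.snd f.bar.left s.bar.left ≫ B.bar.hom = pullback.fst f.bar.left s.bar.left ≫ A.bar.hom
    rw [← Over.w s.bar, ← Over.w f.bar, ← Category.assoc, ← Category.assoc, pullback.condition])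
  le := fun _ hx => hx.2

theorem isIso_restr_v : IsIso (restr (v f s)) := by
  show IsIso (r f s)
  infer_instance

theorem v_f : v f s ≫ f = w f s ≫ s := by
  apply Pair.Hom.ext
  apply Over.OverMorphism.ext
  exact pullback.condition
end Ore2

section Ext
variable {S : Scheme.{u}} {A B C : Pair S} (f₁ f₂ : A ⟶ B) (s : B ⟶ C) [IsIso (restr s)]
  (h : f₁ ≫ s = f₂ ≫ s)

include h in
theorem restr_eq : restr f₁ = restr f₂ := by
  rw [← cancel_mono (restr s), ← restr_comp, ← restr_comp, h]

/-- the equaliser -/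
noncomputable abbrev E : Over S := equalizer f₁.bar f₂.bar
noncomputable abbrev ιE : E f₁ f₂ ⟶ A.bar := equalizer.ι f₁.bar f₂.bar

instance : IsClosedImmersion (ιE f₁ f₂).left := by
  haveI := B.isProper
  exact isClosedImmersion_equalizer_ι_left f₁.bar f₂.bar

noncomputable def UE : (E f₁ f₂).left.Opens := (ιE f₁ f₂).left ⁻¹ᵁ A.U

noncomputable def Q : Pair S where
  bar := E f₁ f₂
  U := UE f₁ f₂
  isProper := by
    haveI := A.isProper
    rw [← Over.w (ιE f₁ f₂)]
    infer_instance
  isCompact := by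
    have := A.isCompact
    exact QuasiCompact.isCompact_preimage (f := (ιE f₁ f₂).left) _ A.U.2 this

noncomputable def s' : Q f₁ f₂ ⟶ A where
  bar := ιE f₁ f₂
  le := fun _ hx => hx

theorem s'_eq : s' f₁ f₂ ≫ f₁ = s' f₁ f₂ ≫ f₂ := by
  apply Pair.Hom.ext
  exact equalizer.condition f₁.bar f₂.bar
end Ext
section Ext2
variable {S : Scheme.{u}} {A B C : Pair S} (f₁ f₂ : A ⟶ B) (s : B ⟶ C) [IsIso (restr s)]
  (h : f₁ ≫ s = f₂ ≫ s)

noncomputable def j (A : Pair S) : openOver.obj A ⟶ A.bar := Over.homMk A.U.ι rfl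

include h in
theorem j_eq : j A ≫ f₁.bar = j A ≫ f₂.bar := by
  apply Over.OverMorphism.ext
  show A.U.ι ≫ f₁.bar.left = A.U.ι ≫ f₂.bar.left
  rw [← restr_comp_ι, ← restr_comp_ι, restr_eq f₁ f₂ s h]

noncomputable def l : openOver.obj A ⟶ E f₁ f₂ := equalizer.lift (j A) (j_eq f₁ f₂ s h)

noncomputable def lL : (A.U : Scheme.{u}) ⟶ (E f₁ f₂).left := (l f₁ f₂ s h).left

theorem l_ι : lL f₁ f₂ s h ≫ (ιE f₁ f₂).left = A.U.ι := by
  have := congrArg CommaMorphism.left (equalizer.lift_ι (j A) (j_eq f₁ f₂ s h))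
  exact this

theorem range_l_le : Set.range (lL f₁ f₂ s h).base ⊆ Set.range (UE f₁ f₂).ι.base := by
  rw [Scheme.Opens.range_ι]
  rintro _ ⟨a, rfl⟩
  show (ιE f₁ f₂).left.base ((lL f₁ f₂ s h).base a) ∈ A.U
  rw [← Scheme.Hom.comp_apply, l_ι]
  exact a.2

noncomputable def l' : (A.U : Scheme.{u}) ⟶ (UE f₁ f₂ : Scheme.{u}) :=
  IsOpenImmersion.lift (UE f₁ f₂).ι (lL f₁ f₂ s h) (range_l_le f₁ f₂ s h)

theorem l'_ι : l' f₁ f₂ s h ≫ (UE f₁ f₂).ι = lL f₁ f₂ s h := IsOpenImmersion.lift_fac _ _ _

noncomputable def rE : (UE f₁ f₂ : Scheme.{u}) ⟶ (A.U : Scheme.{u}) :=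
  (ιE f₁ f₂).left.resLE A.U (UE f₁ f₂) le_rfl

theorem rE_ι : rE f₁ f₂ ≫ A.U.ι = (UE f₁ f₂).ι ≫ (ιE f₁ f₂).left := Scheme.Hom.resLE_comp_ι _ _

include s h in
theorem isIso_rE : IsIso (rE f₁ f₂) := by
  refine ⟨l' f₁ f₂ s h, ?_, ?_⟩
  · rw [← cancel_mono (UE f₁ f₂).ι, Category.assoc, l'_ι, Category.id_comp,
      ← cancel_mono (ιE f₁ f₂).left, Category.assoc, l_ι, rE_ι]
  · rw [← cancel_mono A.U.ι, Category.assoc, Category.id_comp, rE_ι, ← Category.assoc, l'_ι, l_ι]

include s h in
theorem isIso_restr_s' : IsIso (restr (s' f₁ f₂)) := by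
  show IsIso (rE f₁ f₂)
  exact isIso_rE f₁ f₂ s h
end Ext2


open CategoryTheory CategoryTheory.Limits AlgebraicGeometry Opposite in
/-- Let S be a quasi-compact and quasi-separated scheme. In the category of compactifications over S —
objects the pairs (X, X̄) with X̄ proper over S and X a quasi-compact open of X̄, morphisms the
morphisms X̄' → X̄ over S mapping X' into X — the collection of morphisms (u, ū) : (X', X̄') → (X,
X̄) with u : X' → X an isomorphism is a right multiplicative system: it contains the identities and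
is closed under composition; for f : (Y, Ȳ) → (X, X̄) and (u, ū) : (X', X̄') → (X, X̄) in the
collection there are (v, v̄) : (Y', Ȳ') → (Y, Ȳ) in the collection and g : (Y', Ȳ') → (X', X̄') with
f ∘ (v, v̄) = (u, ū) ∘ g; and if two morphisms (X, X̄) → (Y, Ȳ) become equal after composing with
some (Y, Ȳ) → (Y', Ȳ') of the collection, they become equal after precomposing with some (X', X̄') →
(X, X̄) of the collection. -/
theorem result (S : Scheme.{u}) [CompactSpace S] [QuasiSeparatedSpace S] :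
    (Cpct.isoOpen S).HasRightCalculusOfFractions := by
  haveI : (Cpct.isoOpen S).IsMultiplicative :=
    { id_mem := fun A => by
        show IsIso (restr (𝟙 A))
        rw [restr_id]; infer_instance
      comp_mem := fun f g hf hg => by
        show IsIso (restr (f ≫ g))
        haveI : IsIso (restr f) := hf
        haveI : IsIso (restr g) := hg
        rw [restr_comp]; infer_instance }
  refine { exists_rightFraction := ?_, ext := ?_ }
  · intro X Y φ
    haveI : IsIso (restr φ.s) := φ.hs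
    exact ⟨{ X' := P φ.f φ.s, s := v φ.f φ.s, hs := isIso_restr_v φ.f φ.s, f := w φ.f φ.s },
      v_f φ.f φ.s⟩
  · intro X Y Z f₁ f₂ s hs h
    haveI : IsIso (restr s) := hs
    exact ⟨Q f₁ f₂, s' f₁ f₂, isIso_restr_s' f₁ f₂ s h, s'_eq f₁ f₂⟩

end Groth.Agent.S9033
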