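import Groth.Statements.S9034
import Mathlib
import Groth.Agent.S9033

set_option autoImplicit false
universe u
open Cpct

namespace Groth.Agent.S9034
set_option linter.style.haveILetI false
set_option linter.unusedSectionVars false
open CategoryTheory AlgebraicGeometry CategoryTheory.Limits
namespace H47Loc
variable {C D : Type*} [Category C] [Category D] (W : MorphismProperty C) (L : C ⥤ D)
  (hL : W.IsInvertedBy L)
set_option backward.isDefEq.respectTransparency false in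
theorem lift_map_Q {X Y : C} (f : X ⟶ Y) :
    (Localization.Construction.lift L hL).map (W.Q.map f) = L.map f := by
  have := Functor.congr_hom (Localization.Construction.fac L hL) f
  simpa using this
include hL in
/-- A functor inverting a class `W` with a right calculus of fractions, which is essentially
surjective, "full up to right fractions" and "faithful up to `W`", is a localization functor. -/
theorem isLocalization_of_rightFractions [W.HasRightCalculusOfFractions]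
    (hess : ∀ d : D, ∃ X : C, Nonempty (L.obj X ≅ d))
    (hfull : ∀ (X Y : C) (φ : L.obj X ⟶ L.obj Y), ∃ (X' : C) (s : X' ⟶ X) (_ : W s) (f : X' ⟶ Y),
      L.map s ≫ φ = L.map f)
    (hfaith : ∀ (X Y : C) (f₁ f₂ : X ⟶ Y), L.map f₁ = L.map f₂ →
      ∃ (X' : C) (s : X' ⟶ X) (_ : W s), s ≫ f₁ = s ≫ f₂) :
    L.IsLocalization W := by
  refine ⟨hL, ?_⟩
  set G := Localization.Construction.lift L hL with hG
  have hobj : ∀ a : W.Localization, ∃ X, W.Q.obj X = a := fun a =>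
    ⟨_, (Localization.Construction.objEquiv W).apply_symm_apply a⟩
  have hQ : ∀ {X Y : C} (s : X ⟶ Y), W s → IsIso (W.Q.map s) := fun s hs => W.Q_inverts s hs
  have hGQ : ∀ {X Y : C} (f : X ⟶ Y), G.map (W.Q.map f) = L.map f := fun f => lift_map_Q W L hL f
  haveI : G.EssSurj := ⟨fun d => by
    obtain ⟨X, ⟨e⟩⟩ := hess d
    exact ⟨W.Q.obj X, ⟨e⟩⟩⟩
  haveI : G.Full := ⟨by
    intro a b ψ
    obtain ⟨X, rfl⟩ := hobj a
    obtain ⟨Y, rfl⟩ := hobj b
    obtain ⟨X', s, hs, f, hsf⟩ := hfull X Y ψ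
    haveI := hQ s hs
    haveI : IsIso (L.map s) := hL s hs
    refine ⟨inv (W.Q.map s) ≫ W.Q.map f, ?_⟩
    rw [G.map_comp, G.map_inv, IsIso.inv_comp_eq, hGQ, hGQ]
    exact hsf.symm⟩
  haveI : G.Faithful := ⟨by
    intro a b m₁ m₂ hm
    obtain ⟨X, rfl⟩ := hobj a
    obtain ⟨Y, rfl⟩ := hobj b
    obtain ⟨φ₁, h₁⟩ := Localization.exists_rightFraction W.Q W m₁
    obtain ⟨φ₂, h₂⟩ := Localization.exists_rightFraction W.Q W m₂
    obtain ⟨ψ, hψ⟩ := MorphismProperty.HasRightCalculusOfFractions.exists_rightFraction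
      (W := W) (MorphismProperty.LeftFraction.mk φ₁.s φ₂.s φ₂.hs)
    dsimp at hψ
    have hσ : W (ψ.s ≫ φ₁.s) := W.comp_mem _ _ ψ.hs φ₁.hs
    haveI := hQ _ hσ
    haveI := hQ _ φ₁.hs
    haveI := hQ _ φ₂.hs
    have e₁ : W.Q.map (ψ.s ≫ φ₁.s) ≫ m₁ = W.Q.map (ψ.s ≫ φ₁.f) := by
      rw [h₁]
      simp [MorphismProperty.RightFraction.map]
    have e₂ : W.Q.map (ψ.s ≫ φ₁.s) ≫ m₂ = W.Q.map (ψ.f ≫ φ₂.f) := by
      rw [h₂, hψ]
      simp [MorphismProperty.RightFraction.map]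
    have e₃ : L.map (ψ.s ≫ φ₁.f) = L.map (ψ.f ≫ φ₂.f) := by
      rw [← hGQ, ← hGQ, ← e₁, ← e₂, G.map_comp, G.map_comp, hm]
    obtain ⟨X', s', hs', hs'e⟩ := hfaith _ _ _ _ e₃
    haveI := hQ _ hs'
    have e₄ : W.Q.map (ψ.s ≫ φ₁.f) = W.Q.map (ψ.f ≫ φ₂.f) := by
      rw [← cancel_epi (W.Q.map s'), ← W.Q.map_comp, ← W.Q.map_comp, hs'e]
    rw [← cancel_epi (W.Q.map (ψ.s ≫ φ₁.s)), e₁, e₂, e₄]⟩
  exact {}
end H47Loc
open Groth.Agent.S9033

section Graph
variable {S : Scheme.{u}} [QuasiSeparatedSpace S] {X Y : Pair S}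
  (φ : openOver.obj X ⟶ openOver.obj Y)

/-- `X̄ ×_S Ȳ` -/
noncomputable abbrev PP (X Y : Pair S) : Scheme.{u} := pullback X.bar.hom Y.bar.hom

noncomputable def φL : (X.U : Scheme.{u}) ⟶ (Y.U : Scheme.{u}) := φ.left

theorem φL_w : φL φ ≫ Y.U.ι ≫ Y.bar.hom = X.U.ι ≫ X.bar.hom := Over.w φ

/-- the graph morphism -/
noncomputable def γ : (X.U : Scheme.{u}) ⟶ PP X Y :=
  pullback.lift X.U.ι (φL φ ≫ Y.U.ι) (by rw [Category.assoc, φL_w])

theorem γ_fst : γ φ ≫ pullback.fst _ _ = X.U.ι := pullback.lift_fst _ _ _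
theorem γ_snd : γ φ ≫ pullback.snd _ _ = φL φ ≫ Y.U.ι := pullback.lift_snd _ _ _

instance : IsImmersion (γ φ) := by
  haveI : IsImmersion (γ φ ≫ pullback.fst X.bar.hom Y.bar.hom) := by
    rw [γ_fst]; infer_instance
  exact IsImmersion.of_comp (γ φ) (pullback.fst X.bar.hom Y.bar.hom)

theorem isProper_PP : IsProper (pullback.fst X.bar.hom Y.bar.hom ≫ X.bar.hom) := by
  haveI := X.isProper
  haveI := Y.isProper
  infer_instance

instance : QuasiSeparatedSpace (PP X Y) := by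
  haveI := isProper_PP (X := X) (Y := Y)
  exact quasiSeparatedSpace_of_quasiSeparated (pullback.fst X.bar.hom Y.bar.hom ≫ X.bar.hom)

instance : CompactSpace (X.U : Scheme.{u}) := isCompact_iff_compactSpace.mp X.isCompact

instance : QuasiCompact (γ φ) := inferInstance

instance : IsOpenImmersion (γ φ).toImage := inferInstance


/-- the scheme-theoretic closure of the graph -/
noncomputable abbrev Γs : Scheme.{u} := (γ φ).image
noncomputable abbrev τ : (X.U : Scheme.{u}) ⟶ Γs φ := (γ φ).toImage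
noncomputable abbrev κ : Γs φ ⟶ PP X Y := (γ φ).imageι

theorem τ_κ : τ φ ≫ κ φ = γ φ := (γ φ).toImage_imageι

noncomputable def UΓ : (Γs φ).Opens := (τ φ).opensRange

noncomputable def τ' : (X.U : Scheme.{u}) ≅ (UΓ φ : Scheme.{u}) := (τ φ).isoOpensRange

theorem τ'_ι : (τ' φ).hom ≫ (UΓ φ).ι = τ φ := (τ φ).isoOpensRange_hom_ι

noncomputable def Γ : Pair S where
  bar := Over.mk (κ φ ≫ pullback.fst X.bar.hom Y.bar.hom ≫ X.bar.hom)
  U := UΓ φ
  isProper := by
    haveI := isProper_PP (X := X) (Y := Y)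
    show IsProper (κ φ ≫ pullback.fst X.bar.hom Y.bar.hom ≫ X.bar.hom)
    infer_instance
  isCompact := by
    show IsCompact (Set.range (τ φ).base)
    exact isCompact_range (τ φ).continuous

noncomputable def sΓ : Γ φ ⟶ X where
  bar := Over.homMk (κ φ ≫ pullback.fst X.bar.hom Y.bar.hom) (by simp [Γ])
  le := by
    rintro _ ⟨a, rfl⟩
    show (κ φ ≫ pullback.fst X.bar.hom Y.bar.hom).base ((τ φ).base a) ∈ X.U
    rw [← Scheme.Hom.comp_apply, ← Category.assoc, τ_κ, γ_fst]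
    exact a.2

noncomputable def fΓ : Γ φ ⟶ Y where
  bar := Over.homMk (κ φ ≫ pullback.snd X.bar.hom Y.bar.hom) (by
    show (κ φ ≫ pullback.snd X.bar.hom Y.bar.hom) ≫ Y.bar.hom =
      κ φ ≫ pullback.fst X.bar.hom Y.bar.hom ≫ X.bar.hom
    rw [Category.assoc, pullback.condition])
  le := by
    rintro _ ⟨a, rfl⟩
    show (κ φ ≫ pullback.snd X.bar.hom Y.bar.hom).base ((τ φ).base a) ∈ Y.U
    rw [← Scheme.Hom.comp_apply, ← Category.assoc, τ_κ, γ_snd]
    simp only [Scheme.Hom.comp_apply]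
    exact Subtype.property _

theorem UΓ_le_s : UΓ φ ≤ (κ φ ≫ pullback.fst X.bar.hom Y.bar.hom) ⁻¹ᵁ X.U :=
  fun x hx => Pair.Hom.le (sΓ φ) x hx

theorem UΓ_le_f : UΓ φ ≤ (κ φ ≫ pullback.snd X.bar.hom Y.bar.hom) ⁻¹ᵁ Y.U :=
  fun x hx => Pair.Hom.le (fΓ φ) x hx

noncomputable def rs : (UΓ φ : Scheme.{u}) ⟶ (X.U : Scheme.{u}) :=
  (κ φ ≫ pullback.fst X.bar.hom Y.bar.hom).resLE X.U (UΓ φ) (UΓ_le_s φ)

noncomputable def rf : (UΓ φ : Scheme.{u}) ⟶ (Y.U : Scheme.{u}) :=
  (κ φ ≫ pullback.snd X.bar.hom Y.bar.hom).resLE Y.U (UΓ φ) (UΓ_le_f φ)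

theorem rs_ι : rs φ ≫ X.U.ι = (UΓ φ).ι ≫ κ φ ≫ pullback.fst X.bar.hom Y.bar.hom :=
  Scheme.Hom.resLE_comp_ι _ _

theorem rf_ι : rf φ ≫ Y.U.ι = (UΓ φ).ι ≫ κ φ ≫ pullback.snd X.bar.hom Y.bar.hom :=
  Scheme.Hom.resLE_comp_ι _ _

theorem τ'_rs : (τ' φ).hom ≫ rs φ = 𝟙 _ := by
  rw [← cancel_mono X.U.ι, Category.assoc, rs_ι, Category.id_comp,
    ← Category.assoc, τ'_ι, ← Category.assoc, τ_κ, γ_fst]

theorem rs_eq : rs φ = (τ' φ).inv := by
  rw [← cancel_epi (τ' φ).hom, τ'_rs, Iso.hom_inv_id]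

theorem isIso_restr_sΓ : IsIso (restr (sΓ φ)) := by
  show IsIso (rs φ)
  rw [rs_eq]; infer_instance

theorem rs_φL : rs φ ≫ φL φ = rf φ := by
  rw [rs_eq, Iso.inv_comp_eq, ← cancel_mono Y.U.ι, Category.assoc, rf_ι,
    ← Category.assoc, τ'_ι, ← Category.assoc, τ_κ, γ_snd]

theorem openOver_map_eq : openOver.map (sΓ φ) ≫ φ = openOver.map (fΓ φ) := by
  apply Over.OverMorphism.ext
  exact rs_φL φ

end Graph

section Ext
variable {S : Scheme.{u}} {A B : Pair S} (f₁ f₂ : A ⟶ B) (hr : restr f₁ = restr f₂)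

include hr in
theorem j_eq' : j A ≫ f₁.bar = j A ≫ f₂.bar := by
  apply Over.OverMorphism.ext
  show A.U.ι ≫ f₁.bar.left = A.U.ι ≫ f₂.bar.left
  rw [← restr_comp_ι, ← restr_comp_ι, hr]

noncomputable def lE : openOver.obj A ⟶ E f₁ f₂ := equalizer.lift (j A) (j_eq' f₁ f₂ hr)

noncomputable def lLE : (A.U : Scheme.{u}) ⟶ (E f₁ f₂).left := (lE f₁ f₂ hr).left

theorem lE_ι : lLE f₁ f₂ hr ≫ (ιE f₁ f₂).left = A.U.ι := by
  have := congrArg CommaMorphism.left (equalizer.lift_ι (j A) (j_eq' f₁ f₂ hr))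
  exact this

theorem range_lE_le : Set.range (lLE f₁ f₂ hr).base ⊆ Set.range (UE f₁ f₂).ι.base := by
  rw [Scheme.Opens.range_ι]
  rintro _ ⟨a, rfl⟩
  show (ιE f₁ f₂).left.base ((lLE f₁ f₂ hr).base a) ∈ A.U
  rw [← Scheme.Hom.comp_apply, lE_ι]
  exact a.2

noncomputable def lE' : (A.U : Scheme.{u}) ⟶ (UE f₁ f₂ : Scheme.{u}) :=
  IsOpenImmersion.lift (UE f₁ f₂).ι (lLE f₁ f₂ hr) (range_lE_le f₁ f₂ hr)

theorem lE'_ι : lE' f₁ f₂ hr ≫ (UE f₁ f₂).ι = lLE f₁ f₂ hr := IsOpenImmersion.lift_fac _ _ _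

include hr in
theorem isIso_rE' : IsIso (rE f₁ f₂) := by
  refine ⟨lE' f₁ f₂ hr, ?_, ?_⟩
  · rw [← cancel_mono (UE f₁ f₂).ι, Category.assoc, lE'_ι, Category.id_comp,
      ← cancel_mono (ιE f₁ f₂).left, Category.assoc, lE_ι, rE_ι]
  · rw [← cancel_mono A.U.ι, Category.assoc, Category.id_comp, rE_ι, ← Category.assoc, lE'_ι, lE_ι]

include hr in
theorem isIso_restr_s'' : IsIso (restr (s' f₁ f₂)) := by
  show IsIso (rE f₁ f₂)
  exact isIso_rE' f₁ f₂ hr
end Ext


open CategoryTheory CategoryTheory.Limits AlgebraicGeometry Opposite in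
/-- Fix a scheme S which is quasi-separated and quasi-compact. Sending a pair (X, X̄) to X gives a
functor from the category of compactifications over S (pairs of a scheme X̄ proper over S and a
quasi-compact open X ⊆ X̄, with morphisms the S-morphisms X̄' → X̄ sending X' into X) to the
category of compactifyable schemes over S (the full subcategory of schemes over S that are the open
part of such a pair), and this functor is a localization functor for the class of morphisms whose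
open part X' → X is an isomorphism: it inverts that class and the induced functor from the localized
category is an equivalence. -/
theorem result (S : Scheme.{u}) [CompactSpace S] [QuasiSeparatedSpace S] :
    (Cpct.openFunctor S).IsLocalization (Cpct.isoOpen S) := by
  haveI := Groth.Agent.S9033.result S
  have hL : (isoOpen S).IsInvertedBy (openFunctor S) := by
    intro A B f hf
    have h1 : IsIso (openOver.map f) := by
      haveI : IsIso ((Over.forget S).map (openOver.map f)) := hf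
      exact isIso_of_reflects_iso _ (Over.forget S)
    exact (ObjectProperty.isIso_hom_iff _).mp h1
  refine H47Loc.isLocalization_of_rightFractions (isoOpen S) (openFunctor S) hL ?_ ?_ ?_
  · rintro ⟨d, A, ⟨e⟩⟩
    exact ⟨A, ⟨ObjectProperty.isoMk _ e⟩⟩
  · intro X Y φ
    refine ⟨Γ φ.hom, sΓ φ.hom, isIso_restr_sΓ φ.hom, fΓ φ.hom, ?_⟩
    apply ObjectProperty.hom_ext
    exact openOver_map_eq φ.hom
  · intro X Y f₁ f₂ h
    have hr : restr f₁ = restr f₂ := by
      have := congrArg (fun m : (openFunctor S).obj X ⟶ (openFunctor S).obj Y => m.hom.left) h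
      exact this
    exact ⟨Q f₁ f₂, s' f₁ f₂, isIso_restr_s'' f₁ f₂ hr, s'_eq f₁ f₂⟩

end Groth.Agent.S9034
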