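import Groth.Statements.S9036
import Mathlib
import Groth.Agent.Lib.H47CptGen
import Groth.Agent.Lib.QcCompact66
import Groth.Agent.Lib.ModSiteEnoughFlat
import Groth.Agent.S0484

set_option autoImplicit false
universe u
open CategoryTheory CategoryTheory.Limits Opposite
open ModSite

namespace Groth.Agent.S9036
set_option backward.isDefEq.respectTransparency.types false

open Groth.Agent.Lib.QcObject66 Groth.Agent.Lib.TypeAExt66 Groth.Agent.Lib.ModSiteFlat

variable {C : Type u} [SmallCategory C] {J : GrothendieckTopology C} (O : Sheaf J CommRingCat.{u})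

/-- the generating set: `j_{U!} O_U` with `U` quasi-compact -/
def S : Set (ModSite.Mod O) :=
  {M | ∃ U : C, CohCx.IsQcObject ((presheafToSheaf J (Type u)).obj (yoneda.obj U)) ∧
    M = ModSite.freeOn O U}

/-- every module is a quotient of a direct sum of `j_{U!} O_U` with `U` quasi-compact -/
theorem exists_epi
    (hC : ∀ V : C, ∃ R ∈ J V, ∀ ⦃W : C⦄ (g : W ⟶ V), R g →
      ∃ (U : C) (a : W ⟶ U) (b : U ⟶ V),
        CohCx.IsQcObject ((presheafToSheaf J (Type u)).obj (yoneda.obj U)) ∧ a ≫ b = g)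
    (X : ModSite.Mod O) :
    ∃ (ι : Type u) (E : ι → ModSite.Mod O) (π : ∐ E ⟶ X), (∀ i, E i ∈ S O) ∧ Epi π := by
  choose R hR hR' using hC
  let I : Type u := Σ (s : Sec O X), Σ (W : C), {g : W ⟶ s.1 // R s.1 g}
  choose U a b hU hab using fun i : I => hR' i.1.1 i.2.2.1 i.2.2.2
  refine ⟨I, fun i => ModSite.freeOn O (U i),
    Sigma.desc (fun i => zm O (b i) ≫ Sigma.ι (fun s : Sec O X => ModSite.freeOn O s.1) i.1 ≫
      freeCover O X), fun i => ⟨U i, hU i, rfl⟩, ?_⟩
  refine Preadditive.epi_of_cancel_zero _ (fun {M} h hh => ?_)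
  rw [← cancel_epi (freeCover O X), comp_zero]
  apply Sigma.hom_ext
  intro s
  rw [comp_zero]
  let Y : (Σ W : C, {g : W ⟶ s.1 // R s.1 g}) → C := fun t => t.1
  let arr : ∀ t, Y t ⟶ s.1 := fun t => t.2.1
  have hcov : Sieve.ofArrows Y arr ∈ J s.1 := by
    refine J.superset_covering (fun W g hg => ?_) (hR s.1)
    exact Sieve.ofArrows_mk Y arr ⟨W, ⟨g, hg⟩⟩
  refine Groth.Agent.Lib.TypeA66.eq_zero_of_cover O _ Y arr hcov (fun t => ?_)
  have h1 := congrArg (fun k => zm O (a ⟨s, t⟩) ≫
    Sigma.ι (fun i : I => ModSite.freeOn O (U i)) ⟨s, t⟩ ≫ k) hh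
  simp only [comp_zero, Sigma.ι_desc_assoc] at h1
  have h2 : zm O (arr t) = zm O (a ⟨s, t⟩) ≫ zm O (b ⟨s, t⟩) := by
    rw [← zm_comp]
    congr 1
    exact (hab ⟨s, t⟩).symm
  change zm O (arr t) ≫ _ = 0
  rw [h2, Category.assoc]
  simpa only [Category.assoc] using h1


/-- Let (C, O) be a ringed site in which every object has a covering by quasi-compact objects (an object
U is called quasi-compact here when the sheaf h_U^# is a quasi-compact object of the topos, which is
equivalent to the site-level definition). Then every compact object of D(O) is a retract in D(O) of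
the image of a bounded complex whose terms are finite direct sums of modules of the form j_{U!} O_U
with U quasi-compact. The derived category of O-modules, direct sums in it and finite biproducts of
O-modules (automatic) are instance hypotheses. -/
theorem result
    {C : Type u} [SmallCategory C] {J : GrothendieckTopology C} (O : Sheaf J CommRingCat.{u})
    [HasFiniteBiproducts (ModSite.Mod O)]
    [HasDerivedCategory.{u} (ModSite.Mod O)] [HasCoproducts.{u} (DerivedCategory (ModSite.Mod O))]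
    (hC : ∀ V : C, ∃ R ∈ J V, ∀ ⦃W : C⦄ (g : W ⟶ V), R g →
      ∃ (U : C) (a : W ⟶ U) (b : U ⟶ V), CohCx.IsQcObject ((presheafToSheaf J (Type u)).obj (yoneda.obj U)) ∧ a ≫ b = g)
    (K : DerivedCategory (ModSite.Mod O)) (hK : CohDer.IsCompactObject K) :
    ∃ (L : CochainComplex (ModSite.Mod O) ℤ) (a b : ℤ),
      (∀ i : ℤ, i < a ∨ b < i → IsZero (L.X i)) ∧
      (∀ i : ℤ, ∃ (n : ℕ) (U : Fin n → C),
        (∀ j, CohCx.IsQcObject ((presheafToSheaf J (Type u)).obj (yoneda.obj (U j)))) ∧
        Nonempty (L.X i ≅ ⨁ fun j => ModSite.freeOn O (U j))) ∧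
      Nonempty (Retract K (DerivedCategory.Q.obj L)) := by
  classical
  have hG : IsGrothendieckAbelian.{u} (ModSite.Mod O) :=
    Groth.Agent.S0484.result J (ModSite.ringSh O)
  obtain ⟨L, a, b, hz, hF, hr⟩ := Groth.Agent.Lib.H47CptGen.main (S := S O) (exists_epi O hC)
    (fun E hE ι => by
      obtain ⟨U, hU, rfl⟩ := hE
      exact Groth.Agent.Lib.QcCompact66.preservesCoproducts_coyoneda_freeOn O hU ι) K hK
  refine ⟨L, a, b, hz, fun i => ?_, hr⟩
  obtain ⟨n, E, hE, ⟨φ⟩⟩ := hF i
  choose U hU hEU using hE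
  refine ⟨n, U, hU, ⟨φ ≪≫ biproduct.mapIso (fun j => eqToIso (hEU j))⟩⟩

end Groth.Agent.S9036
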