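import Groth.Statements.S9041
import Groth.Agent.Lib.ModSiteSliceFree

set_option autoImplicit false
universe u
open CategoryTheory CategoryTheory.Limits Opposite
open ModSite

namespace Groth.Agent.S9041

/-- On a ringed site (C, O), let E be a direct summand of a finite free O-module, p : G → F a surjection
of O-modules and φ : E → F a morphism. Then locally φ lifts through p: every object V has a covering
sieve such that over each of its arrows W → V there is a morphism E|_W → G|_W whose composite with
p|_W is φ|_W. (The published statement is phrased for modules over the localisation (C/U, O_U) at an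
object U and a covering of U; a localised ringed site is again a ringed site, and this row states
the conclusion at every object of an arbitrary ringed site.) -/
theorem result
    {C : Type u} [SmallCategory C] {J : GrothendieckTopology C} (O : Sheaf J CommRingCat.{u})
    (E F G : ModSite.Mod O) (hE : DCoh.IsFinFreeSummandMod (ModSite.ringSh O) E)
    (p : G ⟶ F) [Epi p] (φ : E ⟶ F) (V : C) :
    ∃ R ∈ J V, ∀ ⦃W : C⦄ (g : W ⟶ V), R g →
      ∃ l : (ModSite.restr O W).obj E ⟶ (ModSite.restr O W).obj G,
        l ≫ (ModSite.restr O W).map p = (ModSite.restr O W).map φ := by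
  classical
  obtain ⟨n, i, pr, hip⟩ := hE
  let ψ : SheafOfModules.free (ULift.{u} (Fin n)) ⟶ F := pr ≫ φ
  have h1 : ∀ k : ULift.{u} (Fin n), ∃ R ∈ J V, ∀ ⦃W : C⦄ (g : W ⟶ V), R g →
      ∃ y : ModSite.sect G W, p.val.app (op W) y =
        F.val.map g.op (Groth.Agent.Lib.ModSiteUnitSec.sec O
          (Groth.Agent.Lib.ModSiteFinFree.inj O k ≫ ψ) V) :=
    fun k => Groth.Agent.Lib.ModSiteSliceFree.exists_local_lift_of_epi O p _
  choose Rk hRk1 hRk2 using h1
  obtain ⟨R, hR, hRle⟩ := Groth.Agent.Lib.ModSiteTensorW.iInf_mem_of_finite J Rk hRk1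
  refine ⟨R, hR, fun W g hg => ?_⟩
  choose y hy using fun k => hRk2 k g (hRle k _ hg)
  let l' : (ModSite.restr O W).obj (SheafOfModules.free (ULift.{u} (Fin n))) ⟶
      (ModSite.restr O W).obj G :=
    Groth.Agent.Lib.ModSiteSliceFree.sliceDesc O W (N' := (ModSite.restr O W).obj G) y
  have h2 : l' ≫ (ModSite.restr O W).map p = (ModSite.restr O W).map ψ := by
    apply Groth.Agent.Lib.ModSiteSliceFree.slice_hom_ext
    intro k
    have e1 : (l' ≫ (ModSite.restr O W).map p).val.app (op (Over.mk (𝟙 W)))
        (Groth.Agent.Lib.ModSiteUnitSec.sec O (Groth.Agent.Lib.ModSiteFinFree.inj O k) W :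
          ModSite.sect (Groth.Agent.Lib.ModSiteFinFree.fr O (ULift.{u} (Fin n))) W) =
        p.val.app (op W) (y k) := by
      have := Groth.Agent.Lib.ModSiteSliceFree.sliceDesc_app_basis O W
        (N' := (ModSite.restr O W).obj G) y k
      exact congrArg (fun z => p.val.app (op W) z) this
    rw [e1, hy k]
    exact Groth.Agent.Lib.ModSiteUnitSec.sec_map (Groth.Agent.Lib.ModSiteFinFree.inj O k ≫ ψ) g
  refine ⟨(ModSite.restr O W).map i ≫ l', ?_⟩
  rw [Category.assoc, h2, ← Functor.map_comp]
  congr 1
  change i ≫ pr ≫ φ = φ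
  rw [← Category.assoc, hip, Category.id_comp]

end Groth.Agent.S9041
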