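import Groth.Statements.S9059
import Groth.Agent.Lib.BifunctorColim35
import Groth.Agent.Lib.HomologyFilteredColim
import Groth.Agent.Lib.ModSiteFlatColim

set_option autoImplicit false
universe u
open CategoryTheory CategoryTheory.Limits Opposite
attribute [local instance] HasDerivedCategory.standard
open ModSite

namespace Groth.Agent.S9059

lemma isZero_of_isColimit_of_isZero {J C : Type*} [Category J] [Category C] [HasZeroMorphisms C]
    {D : J ⥤ C} {c : Cocone D} (hc : IsColimit c) (h : ∀ j, IsZero (D.obj j)) : IsZero c.pt := by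
  rw [IsZero.iff_id_eq_zero]
  apply hc.hom_ext
  intro j
  exact (h j).eq_of_src _ _

/-- On a ringed site (C, O), the colimit of a sequence K₁ → K₂ → … of K-flat complexes of O-modules is
K-flat. -/
theorem result
    {C : Type u} [SmallCategory C] {J : GrothendieckTopology C} (O : Sheaf J CommRingCat.{u})
    (K : ℕ ⥤ CochainComplex (ModSite.Mod O) ℤ) (hK : ∀ n : ℕ, ModSite.IsKFlat (K.obj n)) :
    ModSite.IsKFlat (colimit K) := by
  intro L hL i
  let G := (ModSite.tensorCx O).obj L
  haveI : ∀ X₁ : ModSite.Mod O, PreservesColimitsOfShape ℕ ((ModSite.tensorBi O).obj X₁) :=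
    fun X₁ => by
      haveI : PreservesColimitsOfSize.{0, 0} ((ModSite.tensorBi O).obj X₁) :=
        preservesSmallestColimits_of_preservesColimits.{u, u} _
      infer_instance
  haveI : PreservesColimitsOfShape ℕ G :=
    Groth.Agent.Lib.BifunctorColim35.preservesColimitsOfShape_map₂ (ModSite.tensorBi O) ℕ L
  haveI : HasExactColimitsOfShape ℕ (ModSite.Mod O) := by
    haveI : HasExactColimitsOfShape (ULiftHom.{u} (ULift.{u} ℕ)) AddCommGrpCat.{u} := inferInstance
    haveI := Groth.Agent.Lib.ModSiteTensor.hasExactColimitsOfShape O (ULiftHom.{u} (ULift.{u} ℕ))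
    exact HasExactColimitsOfShape.of_domain_equivalence (ModSite.Mod O)
      (ULiftHomULiftCategory.equiv.{u, u} ℕ).symm
  have hc1 : IsColimit (G.mapCocone (colimit.cocone K)) :=
    isColimitOfPreserves G (colimit.isColimit K)
  have hc2 := isColimitOfPreserves
    (HomologicalComplex.homologyFunctor (ModSite.Mod O) (ComplexShape.up ℤ) i) hc1
  exact isZero_of_isColimit_of_isZero hc2 (fun j => hK j L hL i)

end Groth.Agent.S9059
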