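import Groth.Statements.S9066
import Groth.Agent.Lib.RFTower31
import Groth.Agent.Lib.LocGenConstB31
import Groth.Agent.Lib.PushAdjHomSite31
import Groth.Agent.Lib.ModGen31
import Groth.Agent.Lib.DProd31
import Groth.Agent.Lib.LocGenRlim31
import Groth.Agent.S9076
import Groth.Agent.S0484

set_option autoImplicit false
universe u
open CategoryTheory CategoryTheory.Limits Opposite
attribute [local instance] HasDerivedCategory.standard
open SiteCmp

namespace Groth.Agent.S9066

/-- Let f be a morphism from the ringed site (C, O_C) to the ringed site (D, O_D) with underlying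
continuous functor u : D → C, A ⊂ Mod(O_C) a weak Serre subcategory and N an integer such that (1)
C, O_C, A admit a set B of objects covering everything, every V ∈ B having an integer d_V and a
cofinal system of coverings {V_i → V} with H^p(V_i, F) = 0 for F ∈ A and p > d_V; (2) there is a set
B' of objects of D covering everything, every V' ∈ B' having an integer d_{V'} and a cofinal system
of coverings {V'_i → V'} with H^p(u(V'_i), F) = 0 for F ∈ A and p > d_{V'}; (3) R^p f_* F = 0 for p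
> N and F ∈ A. Then for K in D_A(O_C) the map H^j(Rf_*K) → H^j(Rf_*(τ_{≥ -n}K)) is an isomorphism
for j ≥ N - n. Rf_* is the unbounded total derived direct image under its existence binder and R^p
f_* the right derived functors of f_*. -/
theorem result
    {C : Type u} [SmallCategory C] {J : GrothendieckTopology C} {O_C : Sheaf J CommRingCat.{u}}
    {D : Type u} [SmallCategory D] {K : GrothendieckTopology D} {O_D : Sheaf K CommRingCat.{u}}
    (f : ModSite.RMor O_C O_D) [HasInjectiveResolutions (ModSite.Mod O_C)] [SiteCmp.HasRpushD f]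
    (A : ObjectProperty (ModSite.Mod O_C)) [WSerre.IsWeakSerre A]
    (B : Set C) (B' : Set D)
    (hB : ∀ U : C, ∃ (ι : Type u) (Y : ι → C) (g : ∀ i, Y i ⟶ U), Sieve.ofArrows Y g ∈ J U ∧ ∀ i, Y i ∈ B)
    (hA : ∀ V ∈ B, ∃ d : ℕ, ∀ T ∈ J V, ∃ (ι : Type u) (Y : ι → C) (g : ∀ i, Y i ⟶ V),
      (∀ i, T.arrows (g i)) ∧ Sieve.ofArrows Y g ∈ J V ∧
      ∀ (i : ι) (F : ModSite.Mod O_C), A F → ∀ k : ℕ, d < k → Subsingleton (ModSite.HU O_C F k (Y i)))
    (hB' : ∀ U : D, ∃ (ι : Type u) (Y : ι → D) (g : ∀ i, Y i ⟶ U), Sieve.ofArrows Y g ∈ K U ∧ ∀ i, Y i ∈ B')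
    (hA' : ∀ V ∈ B', ∃ d : ℕ, ∀ T ∈ K V, ∃ (ι : Type u) (Y : ι → D) (g : ∀ i, Y i ⟶ V),
      (∀ i, T.arrows (g i)) ∧ Sieve.ofArrows Y g ∈ K V ∧
      ∀ (i : ι) (F : ModSite.Mod O_C), A F → ∀ k : ℕ, d < k → Subsingleton (ModSite.HU O_C F k (f.fn.obj (Y i))))
    (N : ℤ)
    (h3 : ∀ F : ModSite.Mod O_C, A F → ∀ p : ℕ, N < (p : ℤ) → IsZero ((f.Rpush p).obj F))
    (X : DerivedCategory (ModSite.Mod O_C)) (hX : WSerre.cohIn A X) (n : ℕ) (j : ℤ) (hj : N - (n : ℤ) ≤ j) :
    IsIso ((DerivedCategory.homologyFunctor (ModSite.Mod O_D) j).map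
      ((SiteCmp.RpushD f).map ((DerivedCategory.TStructure.t.truncGEπ (-(n : ℤ))).app X))) := by
  haveI := Groth.Agent.ModGen31.enoughInjectives O_C
  haveI := Groth.Agent.ModGen31.enoughInjectives O_D
  haveI : IsGrothendieckAbelian.{u} (ModSite.Mod O_C) :=
    Groth.Agent.S0484.result J (ModSite.ringSh O_C)
  -- the vanishing hypothesis in the form used by the tower lemmas
  have hN : ∀ (q : ℤ) (p : ℕ), N < (p : ℤ) →
      IsZero ((f.push.rightDerived p).obj
        ((DerivedCategory.homologyFunctor (ModSite.Mod O_C) q).obj X)) :=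
    fun q p hp => h3 _ (hX q) p hp
  have hGE₀ : ∀ n : ℕ, (CohCx.truncTower X n).IsGE (-(n : ℤ)) := fun n =>
    (inferInstance :
      ((DerivedCategory.TStructure.t.truncGE (-(n : ℤ))).obj X).IsGE (-(n : ℤ)))
  -- `X = R lim τ_{≥ -n} X`
  haveI hP₂ : HasProduct (CohCx.truncTower X) :=
    Groth.Agent.DProd31.hasProduct_of_isGE _ (fun n : ℕ => -(n : ℤ)) hGE₀
  have hRlim : CohCx.IsRlimVia (CohCx.truncTower X) (CohCx.truncTowerMap X) X
      (CohCx.toTruncTower X) := by
    refine (Groth.Agent.ModGen31.gen O_C).isRlimVia_truncTower (Groth.Agent.ModGen31.hacyc O_C)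
      X B hB (fun V hV => ?_)
    obtain ⟨d, hd⟩ := hA V hV
    refine ⟨fun _ => (d : ℤ), fun T hT => ?_⟩
    obtain ⟨ι, Y, g, h1, h2, h3'⟩ := hd T hT
    exact ⟨ι, Y, g, h1, h2, fun i m k hk => h3' i _ (hX (m - k)) k (by
      have hk' : (d : ℤ) < k := hk
      exact_mod_cast hk')⟩
  -- the tower downstairs
  have hGE : ∀ n : ℕ, ((SiteCmp.RpushD f).obj (CohCx.truncTower X n)).IsGE (-(n : ℤ)) := fun n => by
    haveI := hGE₀ n
    exact Groth.Agent.RFBdd31.isGE_RF_obj f.push (CohCx.truncTower X n) (-(n : ℤ))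
  haveI hP₁ : HasProduct (fun n => (SiteCmp.RpushD f).obj (CohCx.truncTower X n)) :=
    Groth.Agent.DProd31.hasProduct_of_isGE _ (fun n : ℕ => -(n : ℤ)) hGE
  have hRlim' := Groth.Agent.S9076.result f (CohCx.truncTower X) (CohCx.truncTowerMap X) X
    (CohCx.toTruncTower X) hRlim
  refine (Groth.Agent.ModGen31.gen O_D).isIso_homology_rlim_of_local_bijective B' hB'
    (fun n => (SiteCmp.RpushD f).obj (CohCx.truncTower X n))
    (fun n => (SiteCmp.RpushD f).map (CohCx.truncTowerMap X n)) j n ?_ ?_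
    ((SiteCmp.RpushD f).obj X) (fun n => (SiteCmp.RpushD f).map (CohCx.toTruncTower X n)) hRlim'
  · intro n' hn'
    exact Groth.Agent.RFTower31.isIso_homology_RF_truncTowerMap f.push X N hN n' j (by
      have : (n : ℤ) ≤ n' := by exact_mod_cast hn'
      omega)
  · intro V hV
    obtain ⟨d, hd⟩ := hA' V hV
    refine ⟨((d : ℤ) + 1 - j).toNat, fun T hT => ?_⟩
    obtain ⟨ι, Y, g, h1, h2, hvan⟩ := hd T hT
    refine ⟨ι, Y, g, h1, h2, fun i m' hm1 hm2 n' hn' => ?_⟩
    rw [Groth.Agent.PushAdjHomSite31.bijective_RpushD_iff f (Y i) m' (CohCx.truncTowerMap X n')]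
    haveI h5 : (CohCx.truncTower X (n' + 1)).IsGE (-((n' + 1 : ℕ) : ℤ)) := hGE₀ (n' + 1)
    haveI h6 : (CohCx.truncTower X n').IsGE (-((n' + 1 : ℕ) : ℤ)) := by
      haveI := hGE₀ n'
      exact DerivedCategory.TStructure.t.isGE_of_ge _ (-((n' + 1 : ℕ) : ℤ)) (-(n' : ℤ))
        (by push_cast; omega)
    refine (Groth.Agent.ModGen31.gen O_C).bijective_of_isIso_homology
      (Groth.Agent.ModGen31.hacyc O_C) A (f.fn.obj (Y i)) d (hvan i)
      (CohCx.truncTowerMap X n') (-((n' + 1 : ℕ) : ℤ))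
      (Groth.Agent.RFBdd31.prop_homology_truncGE' A X hX _)
      (Groth.Agent.RFBdd31.prop_homology_truncGE' A X hX _) m' (fun q hq1 hq2 => ?_)
    exact Groth.Agent.TruncStep31.isIso_homologyMap_ν X _ _ q _ (by
      have : (((d : ℤ) + 1 - j).toNat : ℤ) ≤ n' := by exact_mod_cast hn'
      omega)

end Groth.Agent.S9066
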