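import Groth.Statements.S9070
import Groth.Agent.Lib.DAdjEquivUnb66
import Groth.Agent.Lib.ModGen31
import Groth.Agent.Lib.DProd31
import Groth.Agent.Lib.LocGenRlim31
import Groth.Agent.S9064

set_option autoImplicit false
universe u
open CategoryTheory CategoryTheory.Limits Opposite
attribute [local instance] HasDerivedCategory.standard
open SiteCmp

namespace Groth.Agent.S9070

/-- Let f be a flat morphism from the ringed site (C, O_C) to the ringed site (D, O_D) and A ⊂ Mod(O_C),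
A' ⊂ Mod(O_D) weak Serre subcategories such that (2) f^* restricts to an equivalence from A' onto A,
(3) the unit F' → Rf_*f^*F' is invertible for each F' ∈ A', and (4), (5) each of C, O_C, A and D,
O_D, A' admits a set of objects covering everything, every member V having an integer d_V and a
cofinal system of coverings {V_i → V} with H^p(V_i, F) = 0 for F in the subcategory and p > d_V.
Then f^* : D_{A'}(O_D) → D_A(O_C) is an equivalence with quasi-inverse Rf_*: on objects with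
cohomology sheaves in A' (resp. A) the functor f^* (resp. Rf_*) lands in objects with cohomology
sheaves in A (resp. A') and the unit (resp. counit) is an isomorphism there. The adjunction f^* ⊣
Rf_* on unbounded derived categories is a hypothesis; f^* is exact, so it is its own derived
functor. Stated for ringed sites; the published statement is for ringed topoi. -/
theorem result
    {C : Type u} [SmallCategory C] {J : GrothendieckTopology C} {O_C : Sheaf J CommRingCat.{u}}
    {D : Type u} [SmallCategory D] {K : GrothendieckTopology D} {O_D : Sheaf K CommRingCat.{u}}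
    (f : ModSite.RMor O_C O_D) [PreservesFiniteLimits f.pull] [SiteCmp.HasRpushD f]
    (adj : SiteCmp.pullD f ⊣ SiteCmp.RpushD f)
    (A : ObjectProperty (ModSite.Mod O_C)) [WSerre.IsWeakSerre A]
    (A' : ObjectProperty (ModSite.Mod O_D)) [WSerre.IsWeakSerre A']
    (h2a : ∀ F' : ModSite.Mod O_D, A' F' → A (f.pull.obj F'))
    (h2b : ∀ F' G' : ModSite.Mod O_D, A' F' → A' G' →
      Function.Bijective (fun φ : F' ⟶ G' => f.pull.map φ))
    (h2c : ∀ F : ModSite.Mod O_C, A F → ∃ F' : ModSite.Mod O_D, A' F' ∧ Nonempty (f.pull.obj F' ≅ F))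
    (h3 : ∀ F' : ModSite.Mod O_D, A' F' → IsIso (adj.unit.app (SiteCmp.inD O_D F')))
    (B : Set C) (B' : Set D)
    (hB : ∀ U : C, ∃ (ι : Type u) (Y : ι → C) (g : ∀ i, Y i ⟶ U), Sieve.ofArrows Y g ∈ J U ∧ ∀ i, Y i ∈ B)
    (hA : ∀ V ∈ B, ∃ d : ℕ, ∀ T ∈ J V, ∃ (ι : Type u) (Y : ι → C) (g : ∀ i, Y i ⟶ V),
      (∀ i, T.arrows (g i)) ∧ Sieve.ofArrows Y g ∈ J V ∧
      ∀ (i : ι) (F : ModSite.Mod O_C), A F → ∀ k : ℕ, d < k → Subsingleton (ModSite.HU O_C F k (Y i)))
    (hB' : ∀ U : D, ∃ (ι : Type u) (Y : ι → D) (g : ∀ i, Y i ⟶ U), Sieve.ofArrows Y g ∈ K U ∧ ∀ i, Y i ∈ B')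
    (hA' : ∀ V ∈ B', ∃ d : ℕ, ∀ T ∈ K V, ∃ (ι : Type u) (Y : ι → D) (g : ∀ i, Y i ⟶ V),
      (∀ i, T.arrows (g i)) ∧ Sieve.ofArrows Y g ∈ K V ∧
      ∀ (i : ι) (F : ModSite.Mod O_D), A' F → ∀ k : ℕ, d < k → Subsingleton (ModSite.HU O_D F k (Y i))) :
    (∀ Y : DerivedCategory (ModSite.Mod O_D), WSerre.cohIn A' Y →
      WSerre.cohIn A ((SiteCmp.pullD f).obj Y) ∧ IsIso (adj.unit.app Y)) ∧
    (∀ X : DerivedCategory (ModSite.Mod O_C), WSerre.cohIn A X →
      WSerre.cohIn A' ((SiteCmp.RpushD f).obj X) ∧ IsIso (adj.counit.app X)) := by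
  have := Groth.Agent.ModGen31.enoughInjectives O_C
  have := Groth.Agent.ModGen31.enoughInjectives O_D
  have hP₂ : ∀ X : DerivedCategory (ModSite.Mod O_C), HasProduct (CohCx.truncTower X) := fun X =>
    Groth.Agent.DProd31.hasProduct_of_isGE _ (fun n : ℕ => -(n : ℤ))
      (fun n => (inferInstance :
        ((DerivedCategory.TStructure.t.truncGE (-(n : ℤ))).obj X).IsGE (-(n : ℤ))))
  have hP₁ : ∀ X : DerivedCategory (ModSite.Mod O_C),
      HasProduct (fun n => (SiteCmp.RpushD f).obj (CohCx.truncTower X n)) := fun X =>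
    Groth.Agent.DProd31.hasProduct_of_isGE _ (fun n : ℕ => -(n : ℤ))
      (fun n => by
        have : ((DerivedCategory.TStructure.t.truncGE (-(n : ℤ))).obj X).IsGE (-(n : ℤ)) :=
          inferInstance
        exact Groth.Agent.Lib.DAdjEquiv11.isGE_rightAdjoint f.pull (SiteCmp.RpushD f) adj _ (-(n : ℤ)))
  have hRlim : ∀ X : DerivedCategory (ModSite.Mod O_C), WSerre.cohIn A X →
      ∀ [HasProduct (CohCx.truncTower X)],
      CohCx.IsRlimVia (CohCx.truncTower X) (CohCx.truncTowerMap X) X (CohCx.toTruncTower X) := by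
    intro X hX _
    refine (Groth.Agent.ModGen31.gen O_C).isRlimVia_truncTower (Groth.Agent.ModGen31.hacyc O_C) X B hB
      (fun V hV => ?_)
    obtain ⟨d, hd⟩ := hA V hV
    refine ⟨fun _ => (d : ℤ), fun T hT => ?_⟩
    obtain ⟨ι, Y, g, h1, h2, h3⟩ := hd T hT
    exact ⟨ι, Y, g, h1, h2, fun i m k hk => h3 i _ (hX (m - k)) k (by
      have hk' : (d : ℤ) < k := hk
      exact_mod_cast hk')⟩
  have hConst : ∀ (E : ℕ → DerivedCategory (ModSite.Mod O_D)) (t : ∀ n, E (n + 1) ⟶ E n)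
      [HasProduct E], (∀ n, WSerre.cohInPlus A' (E n)) →
      (∀ j : ℤ, ∃ n₀ : ℕ, ∀ n, n₀ ≤ n →
        IsIso ((DerivedCategory.homologyFunctor (ModSite.Mod O_D) j).map (t n))) →
      ∀ (L : DerivedCategory (ModSite.Mod O_D)) (a : ∀ n, L ⟶ E n), CohCx.IsRlimVia E t L a →
      ∀ j : ℤ, ∃ n₀ : ℕ, ∀ n, n₀ ≤ n →
        IsIso ((DerivedCategory.homologyFunctor (ModSite.Mod O_D) j).map (a n)) := by
    intro E t _ hE hconst L a hL j
    exact Groth.Agent.S9064.result O_D A' B' hB' hA' E t hE hconst L a hL j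
  exact ⟨fun Y hY => Groth.Agent.Lib.DAdjEquivUnb66.cohIn_G_and_isIso_unit f.pull (SiteCmp.RpushD f)
      adj A A' hRlim hP₂ hP₁ hConst h2a h2c h3 Y hY,
    fun X hX => Groth.Agent.Lib.DAdjEquivUnb66.cohIn_R_and_isIso_counit f.pull (SiteCmp.RpushD f)
      adj A A' hRlim hP₂ hP₁ hConst h2c h3 X hX⟩

end Groth.Agent.S9070
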