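import Groth.Statements.S9071
import Groth.Agent.Lib.DAdjEquivUnb66
import Groth.Agent.Lib.ModGen31
import Groth.Agent.Lib.DProd31
import Groth.Agent.Lib.LocGenRlim31
import Groth.Agent.Lib.HUPull66
import Groth.Agent.Lib.PushAcyclic66
import Groth.Agent.S9064

set_option autoImplicit false
universe u
open CategoryTheory CategoryTheory.Limits Opposite
attribute [local instance] HasDerivedCategory.standard
open SiteCmp

namespace Groth.Agent.S9071

/-- Let τ' be a coarser topology than τ on a category C, O a τ-sheaf of rings and ε the comparison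
morphism from (C_τ, O) to (C_τ', O). Let B be a set of objects and A a full subcategory of
presheaves of O-modules such that (1) every object of A is a τ-sheaf, (2) A forms a weak Serre
subcategory inside Mod(O_τ), (3) each object of C admits a τ'-covering by members of B, and (4)
H^p_τ(U, F) = 0 for U ∈ B, F ∈ A, p > 0. Then the essential image of A under ε_* forms a weak Serre
subcategory inside Mod(O_τ') and ε^*, Rε_* are quasi-inverse equivalences between D_A(O_τ') and
D_A(O_τ): on objects with cohomology sheaves in the respective subcategory, ε^* and Rε_* preserve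
that condition and the unit and counit are isomorphisms. In the order of topologies used here the
finer topology τ is the larger one, J, and τ' is J' ≤ J; A is given as a property of τ-sheaves of
modules (condition (1) built in); flatness of ε, existence of the unbounded Rε_* and an adjunction
ε^* ⊣ Rε_* are hypotheses. -/
theorem result
    {C : Type u} [SmallCategory C] {J J' : GrothendieckTopology C} (h : J' ≤ J) (O : Sheaf J CommRingCat.{u})
    [PreservesFiniteLimits (SiteCmp.eps h O).pull] [SiteCmp.HasRpushD (SiteCmp.eps h O)]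
    (adj : SiteCmp.pullD (SiteCmp.eps h O) ⊣ SiteCmp.RpushD (SiteCmp.eps h O))
    (A : ObjectProperty (ModSite.Mod O)) [WSerre.IsWeakSerre A] (B : Set C)
    (h3 : ∀ U : C, ∃ (ι : Type u) (Y : ι → C) (g : ∀ i, Y i ⟶ U), Sieve.ofArrows Y g ∈ J' U ∧ ∀ i, Y i ∈ B)
    (h4 : ∀ U ∈ B, ∀ F : ModSite.Mod O, A F → ∀ p : ℕ, 0 < p → Subsingleton (ModSite.HU O F p U)) :
    WSerre.IsWeakSerre (A.map (SiteCmp.eps h O).push) ∧
    (∀ Y : DerivedCategory (ModSite.Mod (SiteCmp.epsRing h O)), WSerre.cohIn (A.map (SiteCmp.eps h O).push) Y →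
      WSerre.cohIn A ((SiteCmp.pullD (SiteCmp.eps h O)).obj Y) ∧ IsIso (adj.unit.app Y)) ∧
    (∀ X : DerivedCategory (ModSite.Mod O), WSerre.cohIn A X →
      WSerre.cohIn (A.map (SiteCmp.eps h O).push) ((SiteCmp.RpushD (SiteCmp.eps h O)).obj X) ∧
      IsIso (adj.counit.app X)) := by
  have := Groth.Agent.ModGen31.enoughInjectives O
  have := Groth.Agent.ModGen31.enoughInjectives (SiteCmp.epsRing h O)
  -- `ε_*` is fully faithful (same underlying presheaves of modules)
  let FF : (SiteCmp.eps h O).push.FullyFaithful :=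
    { preimage := fun g => ⟨g.val⟩
      map_preimage := fun _ => rfl
      preimage_map := fun _ => rfl }
  have : (SiteCmp.eps h O).push.Full := FF.full
  have : (SiteCmp.eps h O).push.Faithful := FF.faithful
  have hCov' : Groth.Agent.HomologySheafLocal31.Covers J' B := h3
  have hCov : Groth.Agent.HomologySheafLocal31.Covers J B := fun U => by
    obtain ⟨ι, Y, g, hg, hY⟩ := h3 U
    exact ⟨ι, Y, g, h _ hg, hY⟩
  -- the higher direct images of objects of `A` vanish
  have hKF : ∀ F : ModSite.Mod O, A F → IsIso (adj.unit.app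
      ((DerivedCategory.singleFunctor (ModSite.Mod (SiteCmp.epsRing h O)) 0).obj
        ((SiteCmp.eps h O).push.obj F))) := fun F hF =>
    Groth.Agent.Lib.PushAcyclic66.isIso_unit_push (SiteCmp.eps h O) (SiteCmp.RpushD (SiteCmp.eps h O)) adj
      hCov' F (fun V hV k hk => h4 V hV F hF k hk)
  have hWS : WSerre.IsWeakSerre (A.map (SiteCmp.eps h O).push) :=
    Groth.Agent.Lib.WeakSerreImage66.isWeakSerre_map (SiteCmp.eps h O).pull (SiteCmp.eps h O).push
      (SiteCmp.eps h O).adj (SiteCmp.RpushD (SiteCmp.eps h O)) adj A hKF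
  have h2a : ∀ F' : ModSite.Mod (SiteCmp.epsRing h O), A.map (SiteCmp.eps h O).push F' →
      A ((SiteCmp.eps h O).pull.obj F') :=
    Groth.Agent.Lib.WeakSerreImage66.prop_G_of_map (SiteCmp.eps h O).pull (SiteCmp.eps h O).push
      (SiteCmp.eps h O).adj A
  have h2c : ∀ F : ModSite.Mod O, A F → ∃ F' : ModSite.Mod (SiteCmp.epsRing h O),
      A.map (SiteCmp.eps h O).push F' ∧ Nonempty ((SiteCmp.eps h O).pull.obj F' ≅ F) :=
    Groth.Agent.Lib.WeakSerreImage66.exists_map_of_prop (SiteCmp.eps h O).pull (SiteCmp.eps h O).push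
      (SiteCmp.eps h O).adj A
  have h3' : ∀ F' : ModSite.Mod (SiteCmp.epsRing h O), A.map (SiteCmp.eps h O).push F' →
      IsIso (adj.unit.app (SiteCmp.inD (SiteCmp.epsRing h O) F')) :=
    Groth.Agent.Lib.WeakSerreImage66.isIso_unit_of_map (SiteCmp.eps h O).pull (SiteCmp.eps h O).push
      (SiteCmp.RpushD (SiteCmp.eps h O)) adj A hKF
  have hP₂ : ∀ X : DerivedCategory (ModSite.Mod O), HasProduct (CohCx.truncTower X) := fun X =>
    Groth.Agent.DProd31.hasProduct_of_isGE _ (fun n : ℕ => -(n : ℤ))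
      (fun n => (inferInstance :
        ((DerivedCategory.TStructure.t.truncGE (-(n : ℤ))).obj X).IsGE (-(n : ℤ))))
  have hP₁ : ∀ X : DerivedCategory (ModSite.Mod O),
      HasProduct (fun n => (SiteCmp.RpushD (SiteCmp.eps h O)).obj (CohCx.truncTower X n)) := fun X =>
    Groth.Agent.DProd31.hasProduct_of_isGE _ (fun n : ℕ => -(n : ℤ))
      (fun n => by
        have : ((DerivedCategory.TStructure.t.truncGE (-(n : ℤ))).obj X).IsGE (-(n : ℤ)) :=
          inferInstance
        exact Groth.Agent.Lib.DAdjEquiv11.isGE_rightAdjoint (SiteCmp.eps h O).pull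
          (SiteCmp.RpushD (SiteCmp.eps h O)) adj _ (-(n : ℤ)))
  have hRlim : ∀ X : DerivedCategory (ModSite.Mod O), WSerre.cohIn A X →
      ∀ [HasProduct (CohCx.truncTower X)],
      CohCx.IsRlimVia (CohCx.truncTower X) (CohCx.truncTowerMap X) X (CohCx.toTruncTower X) := by
    intro X hX _
    refine (Groth.Agent.ModGen31.gen O).isRlimVia_truncTower (Groth.Agent.ModGen31.hacyc O) X B hCov
      (fun V hV => ?_)
    refine ⟨fun _ => (0 : ℤ), fun T hT => ?_⟩
    obtain ⟨ι, Y, g, h1, h2, hY⟩ := Groth.Agent.Lib.UnitIsoLocal66.exists_refinement hCov V T hT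
    exact ⟨ι, Y, g, h1, h2, fun i m k hk => h4 (Y i) (hY i) _ (hX (m - k)) k (by
      have hk' : (0 : ℤ) < k := hk
      exact_mod_cast hk')⟩
  -- the vanishing condition on the `J'`-side, for the image of `A`
  have hA'' : ∀ V ∈ B, ∃ d : ℕ, ∀ T ∈ J' V, ∃ (ι : Type u) (Y : ι → C) (g : ∀ i, Y i ⟶ V),
      (∀ i, T.arrows (g i)) ∧ Sieve.ofArrows Y g ∈ J' V ∧
      ∀ (i : ι) (F' : ModSite.Mod (SiteCmp.epsRing h O)), A.map (SiteCmp.eps h O).push F' →
        ∀ k : ℕ, d < k → Subsingleton (ModSite.HU (SiteCmp.epsRing h O) F' k (Y i)) := by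
    intro V hV
    refine ⟨0, fun T hT => ?_⟩
    obtain ⟨ι, Y, g, h1, h2, hY⟩ := Groth.Agent.Lib.UnitIsoLocal66.exists_refinement hCov' V T hT
    refine ⟨ι, Y, g, h1, h2, fun i F' hF' k hk => ?_⟩
    have hu : IsIso (adj.unit.app ((shiftFunctor _ ((k : ℕ) : ℤ)).obj
        ((DerivedCategory.singleFunctor (ModSite.Mod (SiteCmp.epsRing h O)) 0).obj F'))) := by
      have hge : ((shiftFunctor (DerivedCategory (ModSite.Mod (SiteCmp.epsRing h O))) ((k : ℕ) : ℤ)).obj
          ((DerivedCategory.singleFunctor (ModSite.Mod (SiteCmp.epsRing h O)) 0).obj F')).IsGE (-(k : ℤ)) :=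
        DerivedCategory.TStructure.t.isGE_shift _ 0 (k : ℤ) (-(k : ℤ)) (by omega)
      exact Groth.Agent.Lib.DAdjEquiv11.isIso_unit_of_cohInPlus (SiteCmp.eps h O).pull
        (SiteCmp.RpushD (SiteCmp.eps h O)) adj (A.map (SiteCmp.eps h O).push) h3' _
        ⟨Groth.Agent.Lib.DBddEquiv11.cohIn_shift (A.map (SiteCmp.eps h O).push) _ (k : ℤ)
          (Groth.Agent.Lib.DAdjEquiv11.cohIn_single (A.map (SiteCmp.eps h O).push) F' hF' 0), -(k : ℤ), hge⟩
    exact Groth.Agent.Lib.HUPull66.subsingleton_HU_of_pull (SiteCmp.eps h O)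
      (SiteCmp.RpushD (SiteCmp.eps h O)) adj F' (Y i) k hu
      (h4 (Y i) (hY i) _ (h2a F' hF') k hk)
  have hConst : ∀ (E : ℕ → DerivedCategory (ModSite.Mod (SiteCmp.epsRing h O))) (t : ∀ n, E (n + 1) ⟶ E n)
      [HasProduct E], (∀ n, WSerre.cohInPlus (A.map (SiteCmp.eps h O).push) (E n)) →
      (∀ j : ℤ, ∃ n₀ : ℕ, ∀ n, n₀ ≤ n →
        IsIso ((DerivedCategory.homologyFunctor (ModSite.Mod (SiteCmp.epsRing h O)) j).map (t n))) →
      ∀ (L : DerivedCategory (ModSite.Mod (SiteCmp.epsRing h O))) (a : ∀ n, L ⟶ E n),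
      CohCx.IsRlimVia E t L a →
      ∀ j : ℤ, ∃ n₀ : ℕ, ∀ n, n₀ ≤ n →
        IsIso ((DerivedCategory.homologyFunctor (ModSite.Mod (SiteCmp.epsRing h O)) j).map (a n)) := by
    intro E t _ hE hconst L a hL j
    exact Groth.Agent.S9064.result (SiteCmp.epsRing h O) (A.map (SiteCmp.eps h O).push) B h3 hA'' E t
      hE hconst L a hL j
  exact ⟨hWS, fun Y hY => Groth.Agent.Lib.DAdjEquivUnb66.cohIn_G_and_isIso_unit (SiteCmp.eps h O).pull
      (SiteCmp.RpushD (SiteCmp.eps h O)) adj A (A.map (SiteCmp.eps h O).push) hRlim hP₂ hP₁ hConst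
      h2a h2c h3' Y hY,
    fun X hX => Groth.Agent.Lib.DAdjEquivUnb66.cohIn_R_and_isIso_counit (SiteCmp.eps h O).pull
      (SiteCmp.RpushD (SiteCmp.eps h O)) adj A (A.map (SiteCmp.eps h O).push) hRlim hP₂ hP₁ hConst
      h2c h3' X hX⟩

end Groth.Agent.S9071
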