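import Groth.Statements.S9078
import Groth.Agent.Lib.ModSiteFreeResTower

set_option autoImplicit false
universe u
open CategoryTheory CategoryTheory.Limits Opposite
attribute [local instance] HasDerivedCategory.standard
open ModSite

namespace Groth.Agent.S9078

/-- Let (C, O) be a ringed site and G a complex of O-modules. There is a commutative diagram of
complexes K_1 → K_2 → … over τ_{≤1}G → τ_{≤2}G → … such that (1) the vertical maps K_n → τ_{≤n}G are
termwise surjective quasi-isomorphisms, (2) every K_n is bounded above with terms direct sums of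
modules of the form j_{U!}O_U, (3) each K_n → K_{n+1} is split injective in every degree, with
cokernel in each degree a direct sum of modules j_{U!}O_U; moreover colim K_n → G is a
quasi-isomorphism. Here the system is indexed by n ≥ 0 with K_n mapping to τ_{≤ n+1}G, commutativity
of the diagram is expressed after composing with the inclusions τ_{≤ m}G → G, 'direct sum of modules
j_{U!}O_U' means isomorphic to a coproduct of such modules, and the map colim K_n → G is the one
induced by the K_n → τ_{≤ n+1}G → G. -/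
theorem result
    {C : Type u} [SmallCategory C] {J : GrothendieckTopology C} (O : Sheaf J CommRingCat.{u})
    (G : CochainComplex (ModSite.Mod O) ℤ) :
    ∃ (Kc : ℕ ⥤ CochainComplex (ModSite.Mod O) ℤ) (π : ∀ n : ℕ, Kc.obj n ⟶ G.truncLE ((n : ℤ) + 1)),
      (∀ n : ℕ, Kc.map (homOfLE (Nat.le_succ n)) ≫ π (n + 1) ≫ G.ιTruncLE (((n + 1 : ℕ) : ℤ) + 1) =
        π n ≫ G.ιTruncLE ((n : ℤ) + 1)) ∧
      (∀ n : ℕ, QuasiIso (π n) ∧ ∀ i : ℤ, Epi ((π n).f i)) ∧
      (∀ n : ℕ, ∃ b : ℤ, (Kc.obj n).IsStrictlyLE b) ∧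
      (∀ (n : ℕ) (i : ℤ), ∃ (ι : Type u) (U : ι → C),
        Nonempty ((Kc.obj n).X i ≅ ∐ fun j => ModSite.freeOn O (U j))) ∧
      (∀ (n : ℕ) (i : ℤ), ∃ r : (Kc.obj (n + 1)).X i ⟶ (Kc.obj n).X i,
        (Kc.map (homOfLE (Nat.le_succ n))).f i ≫ r = 𝟙 _ ∧
        ∃ (ι : Type u) (U : ι → C),
          Nonempty (cokernel ((Kc.map (homOfLE (Nat.le_succ n))).f i) ≅ ∐ fun j => ModSite.freeOn O (U j))) ∧
      ∃ c : colimit Kc ⟶ G, (∀ n : ℕ, colimit.ι Kc n ≫ c = π n ≫ G.ιTruncLE ((n : ℤ) + 1)) ∧ QuasiIso c := by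
  open Groth.Agent.Lib.ModSiteFreeResTower Groth.Agent.Lib.TruncLEColim66 in
  refine ⟨towerSeq G, fun n => (stage G n).π, ?_, ?_, ?_, ?_, ?_, ?_⟩
  · intro n
    have h1 : nextι G (stage G n) ≫ (stage G (n + 1)).π = (stage G n).π ≫ tr G (le_succ_cast n) :=
      nextι_π G (stage G n)
    have h2 : (towerSeq G).map (homOfLE (Nat.le_succ n)) ≫ (stage G (n + 1)).π =
        (stage G n).π ≫ tr G (le_succ_cast n) :=
      (congrArg (fun k => k ≫ (stage G (n + 1)).π) (towerSeq_map_succ G n)).trans h1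
    have h3 : ((stage G n).π ≫ tr G (le_succ_cast n)) ≫ G.ιTruncLE (((n + 1 : ℕ) : ℤ) + 1) =
        (stage G n).π ≫ G.ιTruncLE ((n : ℤ) + 1) :=
      (Category.assoc _ _ _).trans (congrArg (fun k => (stage G n).π ≫ k) (tr_ι G (le_succ_cast n)))
    exact (Category.assoc _ _ _).symm.trans
      ((congrArg (fun k => k ≫ G.ιTruncLE (((n + 1 : ℕ) : ℤ) + 1)) h2).trans h3)
  · exact fun n => ⟨(stage G n).qis, (stage G n).epi⟩
  · exact fun n => ⟨(n : ℤ) + 1, (stage G n).le⟩
  · exact fun n i => (stage G n).free i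
  · intro n i
    rw [towerSeq_map_succ]
    obtain ⟨ρ, hρ⟩ := nextι_retr G (stage G n) i
    exact ⟨ρ, hρ, nextι_coker G (stage G n) i⟩
  · exact ⟨resπ G, ι_resπ G, quasiIso_resπ G⟩

end Groth.Agent.S9078
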