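import Groth.Statements.S9080
import Groth.Agent.Lib.DAdjEquivUnb66
import Groth.Agent.Lib.ModGen31
import Groth.Agent.Lib.DProd31
import Groth.Agent.Lib.LocGenRlim31
import Groth.Agent.Lib.HUPull66
import Groth.Agent.S9064

set_option autoImplicit false
universe u
open CategoryTheory CategoryTheory.Limits Opposite
attribute [local instance] HasDerivedCategory.standard
open SiteCmp

namespace Groth.Agent.S9080

/-- Let f be a flat morphism from the ringed site (C, O_C) to the ringed site (D, O_D), with underlying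
continuous functor u : D → C, and A ⊂ Mod(O_C), A' ⊂ Mod(O_D) weak Serre subcategories such that (2)
f^* restricts to an equivalence from A' onto A, (3) the unit F' → Rf_*f^*F' is invertible for each
F' ∈ A', (4) the data C, O_C, A admit a set B of objects covering everything, every V ∈ B having an
integer d_V and a cofinal system of coverings {V_i → V} with H^p(V_i, F) = 0 for F ∈ A and p > d_V,
and (5) there is a set B' of objects of D covering everything, every V' ∈ B' having an integer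
d_{V'} and a cofinal system of coverings {V'_i → V'} with H^p(u(V'_i), F) = 0 for F ∈ A and p >
d_{V'}. Then f^* : D_{A'}(O_D) → D_A(O_C) is an equivalence with quasi-inverse Rf_*: on objects with
cohomology sheaves in A' (resp. A) the functor f^* (resp. Rf_*) lands in objects with cohomology
sheaves in A (resp. A') and the unit (resp. counit) is an isomorphism there. The adjunction f^* ⊣
Rf_* on unbounded derived categories is a hypothesis; f^* is exact, so it is its own derived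
functor. -/
theorem result
    {C : Type u} [SmallCategory C] {J : GrothendieckTopology C} {O_C : Sheaf J CommRingCat.{u}}
    {D : Type u} [SmallCategory D] {K : GrothendieckTopology D} {O_D : Sheaf K CommRingCat.{u}}
    (f : ModSite.RMor O_C O_D) [PreservesFiniteLimits f.pull] [SiteCmp.HasRpushD f]
    (adj : SiteCmp.pullD f ⊣ SiteCmp.RpushD f)
    (A : ObjectProperty (ModSite.Mod O_C)) [WSerre.IsWeakSerre A]
    (A' : ObjectProperty (ModSite.Mod O_D)) [WSerre.IsWeakSerre A']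
    (h2a : ∀ F' : ModSite.Mod O_D, A' F' → A (f.pull.obj F'))
    (h2b : ∀ F' G' : ModSite.Mod O_D, A' F' → A' G' →
      Function.Bijective (fun φ : F' ⟶ G' => f.pull.map φ))
    (h2c : ∀ F : ModSite.Mod O_C, A F → ∃ F' : ModSite.Mod O_D, A' F' ∧ Nonempty (f.pull.obj F' ≅ F))
    (h3 : ∀ F' : ModSite.Mod O_D, A' F' → IsIso (adj.unit.app (SiteCmp.inD O_D F')))
    (B : Set C) (B' : Set D)
    (hB : ∀ U : C, ∃ (ι : Type u) (Y : ι → C) (g : ∀ i, Y i ⟶ U), Sieve.ofArrows Y g ∈ J U ∧ ∀ i, Y i ∈ B)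
    (hA : ∀ V ∈ B, ∃ d : ℕ, ∀ T ∈ J V, ∃ (ι : Type u) (Y : ι → C) (g : ∀ i, Y i ⟶ V),
      (∀ i, T.arrows (g i)) ∧ Sieve.ofArrows Y g ∈ J V ∧
      ∀ (i : ι) (F : ModSite.Mod O_C), A F → ∀ k : ℕ, d < k → Subsingleton (ModSite.HU O_C F k (Y i)))
    (hB' : ∀ U : D, ∃ (ι : Type u) (Y : ι → D) (g : ∀ i, Y i ⟶ U), Sieve.ofArrows Y g ∈ K U ∧ ∀ i, Y i ∈ B')
    (hA' : ∀ V ∈ B', ∃ d : ℕ, ∀ T ∈ K V, ∃ (ι : Type u) (Y : ι → D) (g : ∀ i, Y i ⟶ V),
      (∀ i, T.arrows (g i)) ∧ Sieve.ofArrows Y g ∈ K V ∧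
      ∀ (i : ι) (F : ModSite.Mod O_C), A F → ∀ k : ℕ, d < k → Subsingleton (ModSite.HU O_C F k (f.fn.obj (Y i)))) :
    (∀ Y : DerivedCategory (ModSite.Mod O_D), WSerre.cohIn A' Y →
      WSerre.cohIn A ((SiteCmp.pullD f).obj Y) ∧ IsIso (adj.unit.app Y)) ∧
    (∀ X : DerivedCategory (ModSite.Mod O_C), WSerre.cohIn A X →
      WSerre.cohIn A' ((SiteCmp.RpushD f).obj X) ∧ IsIso (adj.counit.app X)) := by
  have := Groth.Agent.ModGen31.enoughInjectives O_C
  have := Groth.Agent.ModGen31.enoughInjectives O_D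
  have hP₂ : ∀ X : DerivedCategory (ModSite.Mod O_C), HasProduct (CohCx.truncTower X) := fun X =>
    Groth.Agent.DProd31.hasProduct_of_isGE _ (fun n : ℕ => -(n : ℤ))
      (fun n => (inferInstance :
        ((DerivedCategory.TStructure.t.truncGE (-(n : ℤ))).obj X).IsGE (-(n : ℤ))))
  have hP₁ : ∀ X : DerivedCategory (ModSite.Mod O_C),
      HasProduct (fun n => (SiteCmp.RpushD f).obj (CohCx.truncTower X n)) := fun X =>
    Groth.Agent.DProd31.hasProduct_of_isGE _ (fun n : ℕ => -(n : ℤ))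
      (fun n => by
        have : ((DerivedCategory.TStructure.t.truncGE (-(n : ℤ))).obj X).IsGE (-(n : ℤ)) :=
          inferInstance
        exact Groth.Agent.Lib.DAdjEquiv11.isGE_rightAdjoint f.pull (SiteCmp.RpushD f) adj _ (-(n : ℤ)))
  have hRlim : ∀ X : DerivedCategory (ModSite.Mod O_C), WSerre.cohIn A X →
      ∀ [HasProduct (CohCx.truncTower X)],
      CohCx.IsRlimVia (CohCx.truncTower X) (CohCx.truncTowerMap X) X (CohCx.toTruncTower X) := by
    intro X hX _
    refine (Groth.Agent.ModGen31.gen O_C).isRlimVia_truncTower (Groth.Agent.ModGen31.hacyc O_C) X B hB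
      (fun V hV => ?_)
    obtain ⟨d, hd⟩ := hA V hV
    refine ⟨fun _ => (d : ℤ), fun T hT => ?_⟩
    obtain ⟨ι, Y, g, h1, h2, h3⟩ := hd T hT
    exact ⟨ι, Y, g, h1, h2, fun i m k hk => h3 i _ (hX (m - k)) k (by
      have hk' : (d : ℤ) < k := hk
      exact_mod_cast hk')⟩
  -- the vanishing condition on the `D`-side, for `A'`
  have hA'' : ∀ V ∈ B', ∃ d : ℕ, ∀ T ∈ K V, ∃ (ι : Type u) (Y : ι → D) (g : ∀ i, Y i ⟶ V),
      (∀ i, T.arrows (g i)) ∧ Sieve.ofArrows Y g ∈ K V ∧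
      ∀ (i : ι) (F' : ModSite.Mod O_D), A' F' → ∀ k : ℕ, d < k →
        Subsingleton (ModSite.HU O_D F' k (Y i)) := by
    intro V hV
    obtain ⟨d, hd⟩ := hA' V hV
    refine ⟨d, fun T hT => ?_⟩
    obtain ⟨ι, Y, g, h1, h2, h3'⟩ := hd T hT
    refine ⟨ι, Y, g, h1, h2, fun i F' hF' k hk => ?_⟩
    have hu : IsIso (adj.unit.app ((shiftFunctor _ ((k : ℕ) : ℤ)).obj
        ((DerivedCategory.singleFunctor (ModSite.Mod O_D) 0).obj F'))) := by
      have hge : ((shiftFunctor (DerivedCategory (ModSite.Mod O_D)) ((k : ℕ) : ℤ)).obj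
          ((DerivedCategory.singleFunctor (ModSite.Mod O_D) 0).obj F')).IsGE (-(k : ℤ)) :=
        DerivedCategory.TStructure.t.isGE_shift _ 0 (k : ℤ) (-(k : ℤ)) (by omega)
      exact Groth.Agent.Lib.DAdjEquiv11.isIso_unit_of_cohInPlus f.pull (SiteCmp.RpushD f) adj A' h3 _
        ⟨Groth.Agent.Lib.DBddEquiv11.cohIn_shift A' _ (k : ℤ)
          (Groth.Agent.Lib.DAdjEquiv11.cohIn_single A' F' hF' 0), -(k : ℤ), hge⟩
    exact Groth.Agent.Lib.HUPull66.subsingleton_HU_of_pull f (SiteCmp.RpushD f) adj F' (Y i) k hu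
      (h3' i _ (h2a F' hF') k hk)
  have hConst : ∀ (E : ℕ → DerivedCategory (ModSite.Mod O_D)) (t : ∀ n, E (n + 1) ⟶ E n)
      [HasProduct E], (∀ n, WSerre.cohInPlus A' (E n)) →
      (∀ j : ℤ, ∃ n₀ : ℕ, ∀ n, n₀ ≤ n →
        IsIso ((DerivedCategory.homologyFunctor (ModSite.Mod O_D) j).map (t n))) →
      ∀ (L : DerivedCategory (ModSite.Mod O_D)) (a : ∀ n, L ⟶ E n), CohCx.IsRlimVia E t L a →
      ∀ j : ℤ, ∃ n₀ : ℕ, ∀ n, n₀ ≤ n →
        IsIso ((DerivedCategory.homologyFunctor (ModSite.Mod O_D) j).map (a n)) := by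
    intro E t _ hE hconst L a hL j
    exact Groth.Agent.S9064.result O_D A' B' hB' hA'' E t hE hconst L a hL j
  exact ⟨fun Y hY => Groth.Agent.Lib.DAdjEquivUnb66.cohIn_G_and_isIso_unit f.pull (SiteCmp.RpushD f)
      adj A A' hRlim hP₂ hP₁ hConst h2a h2c h3 Y hY,
    fun X hX => Groth.Agent.Lib.DAdjEquivUnb66.cohIn_R_and_isIso_counit f.pull (SiteCmp.RpushD f)
      adj A A' hRlim hP₂ hP₁ hConst h2c h3 X hX⟩

end Groth.Agent.S9080
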