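import Groth.Statements.S9089
-- import your own Groth.Agent.* helpers here

set_option autoImplicit false
universe u
open CategoryTheory Opposite
open ModSite

namespace Groth.Agent.S9089


section

variable {C : Type u} [SmallCategory C] (J : GrothendieckTopology C) (O : Sheaf J CommRingCat.{u})

lemma map_comp_apply {U V W : C} (g : V ⟶ U) (k : W ⟶ V) (x : O.obj.obj (op U)) :
    (O.obj.map (k ≫ g).op).hom x = (O.obj.map k.op).hom ((O.obj.map g.op).hom x) := by
  rw [op_comp, Functor.map_comp]
  rfl

lemma forward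
    (h : ∀ (U : C) (f : O.obj.obj (op U)), ∃ S ∈ J U, ∀ ⦃V : C⦄ (g : V ⟶ U), S g →
        IsUnit ((O.obj.map g.op).hom f) ∨ IsUnit ((O.obj.map g.op).hom (1 - f))) :
    ∀ (n : ℕ) (U : C) (f : Fin n → O.obj.obj (op U)), 1 ≤ n → Ideal.span (Set.range f) = ⊤ →
        ∃ S ∈ J U, ∀ ⦃V : C⦄ (g : V ⟶ U), S g → ∃ i, IsUnit ((O.obj.map g.op).hom (f i)) := by
  intro n
  induction n with
  | zero => intro U f h1; omega
  | succ n ih =>
    intro U f _ hspan
    have h1 : (1 : O.obj.obj (op U)) ∈ Ideal.span (Set.range f) := by rw [hspan]; trivial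
    obtain ⟨c, hc⟩ := (Ideal.mem_span_range_iff_exists_fun).1 h1
    rw [Fin.sum_univ_castSucc] at hc
    set u := c (Fin.last n) * f (Fin.last n) with hu
    have h1u : 1 - u = ∑ i : Fin n, c i.castSucc * f i.castSucc := by
      rw [← hc]; ring
    rcases Nat.eq_zero_or_pos n with hn | hn
    · -- `n = 0`: the single generator is a unit
      subst hn
      have hunit : IsUnit (f (Fin.last 0)) := by
        have : u = 1 := by
          have := h1u
          simp at this
          exact (sub_eq_zero.1 this).symm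
        exact IsUnit.of_mul_eq_one (c (Fin.last 0)) (by rw [mul_comm]; exact this)
      exact ⟨⊤, J.top_mem U, fun V g _ => ⟨Fin.last 0, hunit.map (O.obj.map g.op).hom⟩⟩
    · obtain ⟨S₀, hS₀, hS₀u⟩ := h U u
      have key : ∀ ⦃V : C⦄ (g : V ⟶ U), S₀ g → ∃ T ∈ J V, ∀ ⦃W : C⦄ (k : W ⟶ V), T k →
          ∃ i, IsUnit ((O.obj.map (k ≫ g).op).hom (f i)) := by
        intro V g hg
        rcases hS₀u g hg with hunit | hunit
        · refine ⟨⊤, J.top_mem V, fun W k _ => ⟨Fin.last n, ?_⟩⟩
          rw [map_comp_apply]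
          refine IsUnit.map (O.obj.map k.op).hom ?_
          have : IsUnit ((O.obj.map g.op).hom (c (Fin.last n)) *
              (O.obj.map g.op).hom (f (Fin.last n))) := by
            rw [← map_mul]; exact hunit
          exact isUnit_of_mul_isUnit_right this
        · have hspan' : Ideal.span (Set.range fun i : Fin n => (O.obj.map g.op).hom (f i.castSucc)) = ⊤ := by
            apply Ideal.eq_top_of_isUnit_mem _ _ hunit
            rw [h1u, map_sum]
            refine sum_mem (fun i _ => ?_)
            rw [map_mul]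
            exact Ideal.mul_mem_left _ _ (Ideal.subset_span ⟨i, rfl⟩)
          obtain ⟨T, hT, hTu⟩ := ih V (fun i : Fin n => (O.obj.map g.op).hom (f i.castSucc)) hn hspan'
          refine ⟨T, hT, fun W k hk => ?_⟩
          obtain ⟨i, hi⟩ := hTu k hk
          exact ⟨i.castSucc, by rw [map_comp_apply]; exact hi⟩
      choose R hRJ hRu using key
      refine ⟨Sieve.bind S₀ (fun V g hg => R g hg), J.bind_covering hS₀ (fun V g hg => hRJ g hg), ?_⟩
      rintro W l ⟨V, k, g, hg, hk, rfl⟩
      exact hRu g hg k hk

end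

/-- Part (1): ⇔ (2), for a ringed site (C, O) with C small and O a sheaf of commutative rings: the
following are equivalent. (1) For every object U and every section f of O over U there is a covering
sieve on U on each of whose arrows either f or 1 - f restricts to a unit. (2) For every object U,
every n ≥ 1 and all sections f₁, …, fₙ of O over U generating the unit ideal of O(U), there is a
covering sieve on U on each of whose arrows some fᵢ restricts to a unit. -/
theorem result {C : Type u} [SmallCategory C] (J : GrothendieckTopology C)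
    (O : Sheaf J CommRingCat.{u}) :
    (∀ (U : C) (f : O.obj.obj (op U)), ∃ S ∈ J U, ∀ ⦃V : C⦄ (g : V ⟶ U), S g →
        IsUnit ((O.obj.map g.op).hom f) ∨ IsUnit ((O.obj.map g.op).hom (1 - f))) ↔
    (∀ (U : C) (n : ℕ) (f : Fin n → O.obj.obj (op U)), 1 ≤ n → Ideal.span (Set.range f) = ⊤ →
        ∃ S ∈ J U, ∀ ⦃V : C⦄ (g : V ⟶ U), S g → ∃ i, IsUnit ((O.obj.map g.op).hom (f i))) := by
  constructor
  · intro h U n f hn hspan
    exact forward J O h n U f hn hspan
  · intro h U f
    obtain ⟨S, hS, hSu⟩ := h U 2 ![f, 1 - f] (by norm_num) (by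
      apply Ideal.eq_top_of_isUnit_mem _ _ isUnit_one
      have h1 : f ∈ Ideal.span (Set.range ![f, 1 - f]) := Ideal.subset_span ⟨0, rfl⟩
      have h2 : 1 - f ∈ Ideal.span (Set.range ![f, 1 - f]) := Ideal.subset_span ⟨1, rfl⟩
      have := Ideal.add_mem _ h1 h2
      rwa [add_sub_cancel] at this)
    refine ⟨S, hS, fun V g hg => ?_⟩
    obtain ⟨i, hi⟩ := hSu g hg
    fin_cases i
    · exact Or.inl hi
    · exact Or.inr hi

end Groth.Agent.S9089
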