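import Groth.Statements.S9090
-- import your own Groth.Agent.* helpers here

set_option autoImplicit false
universe u
open CategoryTheory Opposite
open ModSite

namespace Groth.Agent.S9090

/-- Part (1): ⇒ (2), for a ringed site (C, O) with C small and O a sheaf of commutative rings: if for
every object U and every section f of O over U there is a covering sieve on U on each of whose
arrows either f or 1 - f restricts to a unit, then at every point p of the site the stalk O_p is the
zero ring or is local. -/
theorem result {C : Type u} [SmallCategory C] {J : GrothendieckTopology C}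
    (O : Sheaf J CommRingCat.{u})
    (h : ∀ (U : C) (f : O.obj.obj (op U)), ∃ S ∈ J U, ∀ ⦃V : C⦄ (g : V ⟶ U), S g →
        IsUnit ((O.obj.map g.op).hom f) ∨ IsUnit ((O.obj.map g.op).hom (1 - f)))
    (p : GrothendieckTopology.Point.{u} J) :
    Subsingleton (ModSite.stalkRing p O) ∨ IsLocalRing (ModSite.stalkRing p O) := by
  by_cases hsub : Subsingleton (ModSite.stalkRing p O)
  · exact Or.inl hsub
  · right
    have : Nontrivial (ModSite.stalkRing p O) := not_subsingleton_iff_nontrivial.1 hsub
    apply IsLocalRing.of_isUnit_or_isUnit_one_sub_self
    intro a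
    obtain ⟨X, x, r, rfl⟩ := p.toPresheafFiber_jointly_surjective (P := O.obj) a
    obtain ⟨S, hS, hSr⟩ := h X r
    obtain ⟨Y, f, hf, y, rfl⟩ := p.jointly_surjective S hS x
    have hw : ∀ t : O.obj.obj (op X), (p.toPresheafFiber X (p.fiber.map f y) O.obj).hom t =
        (p.toPresheafFiber Y y O.obj).hom ((O.obj.map f.op).hom t) :=
      fun t => (p.toPresheafFiber_w_apply f y O.obj t).symm
    rcases hSr f hf with hu | hu
    · left
      erw [hw]
      exact hu.map (p.toPresheafFiber Y y O.obj).hom
    · right
      have h1 : (1 : ↑(p.presheafFiber.obj O.obj)) - (p.toPresheafFiber X (p.fiber.map f y) O.obj).hom r =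
          (p.toPresheafFiber X (p.fiber.map f y) O.obj).hom (1 - r) := by
        rw [map_sub, map_one]
      erw [h1, hw]
      exact hu.map (p.toPresheafFiber Y y O.obj).hom

end Groth.Agent.S9090
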