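import Groth.Statements.S9108
import Mathlib.CategoryTheory.Adjunction.Triple

set_option autoImplicit false
universe u
open CategoryTheory
open CohSite

namespace Groth.Agent.S9108

/-- The counit of `g⁻¹ ⊣ g_*` is an isomorphism: on presheaves it is the counit of the right Kan
extension adjunction along the fully faithful functor `u.op`. -/
theorem counit_iso {C D : Type u} [SmallCategory C] [SmallCategory D]
    (J : GrothendieckTopology C) (K : GrothendieckTopology D) (u : C ⥤ D)
    [u.IsCocontinuous J K] [u.IsContinuous J K] [u.Full] [u.Faithful]
    (F : Sheaf J AddCommGrpCat.{u}) :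
    IsIso ((u.sheafAdjunctionCocontinuous AddCommGrpCat.{u} J K).counit.app F) := by
  have h : IsIso ((sheafToPresheaf J AddCommGrpCat.{u}).map
      ((u.sheafAdjunctionCocontinuous AddCommGrpCat.{u} J K).counit.app F)) := by
    change IsIso ((u.sheafAdjunctionCocontinuous AddCommGrpCat.{u} J K).counit.app F).hom
    rw [Functor.sheafAdjunctionCocontinuous_counit_app_hom]
    have : u.op.HasPointwiseRightKanExtension F.obj := fun Y => by
      unfold Functor.HasPointwiseRightKanExtensionAt
      infer_instance
    rw [Functor.ranAdjunction_counit]
    refine @NatIso.isIso_of_isIso_app _ _ _ _ _ _ _ ?_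
    intro X
    exact (Functor.isPointwiseRightKanExtensionRanCounit u.op F.obj (u.op.obj X)).isIso_hom_app
  exact isIso_of_reflects_iso _ (sheafToPresheaf J AddCommGrpCat.{u})

/-- Let u : C ⥤ D be a functor between small sites which is cocontinuous, continuous (restriction along
u preserves sheaves, and u sends covering families to covering families) and fully faithful; let g
be the morphism of topoi attached to u, so that g⁻¹ is restriction along u, g_* its right adjoint
and g_! its left adjoint on abelian sheaves. Then for every abelian sheaf F on C the canonical maps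
F → g⁻¹g_!F (unit) and g⁻¹g_*F → F (counit) are isomorphisms. -/
theorem result {C D : Type u} [SmallCategory C] [SmallCategory D]
    (J : GrothendieckTopology C) (K : GrothendieckTopology D) (u : C ⥤ D)
    [u.IsCocontinuous J K] [u.IsContinuous J K] (hu : CoverPreserving J K u) [u.Full] [u.Faithful]
    (F : Sheaf J AddCommGrpCat.{u}) :
    IsIso ((u.sheafAdjunctionContinuous AddCommGrpCat.{u} J K).unit.app F) ∧
      IsIso ((u.sheafAdjunctionCocontinuous AddCommGrpCat.{u} J K).counit.app F) := by
  have hc : IsIso (u.sheafAdjunctionCocontinuous AddCommGrpCat.{u} J K).counit := by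
    have : ∀ G, IsIso ((u.sheafAdjunctionCocontinuous AddCommGrpCat.{u} J K).counit.app G) :=
      fun G => counit_iso J K u G
    exact NatIso.isIso_of_isIso_app _
  let t : Adjunction.Triple (u.sheafPullback AddCommGrpCat.{u} J K)
      (u.sheafPushforwardContinuous AddCommGrpCat.{u} J K)
      (u.sheafPushforwardCocontinuous AddCommGrpCat.{u} J K) :=
    ⟨u.sheafAdjunctionContinuous AddCommGrpCat.{u} J K,
      u.sheafAdjunctionCocontinuous AddCommGrpCat.{u} J K⟩
  have hu' : IsIso (u.sheafAdjunctionContinuous AddCommGrpCat.{u} J K).unit :=
    t.isIso_unit_iff_isIso_counit.2 hc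
  exact ⟨inferInstance, counit_iso J K u F⟩

end Groth.Agent.S9108
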