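import Groth.Statements.S9109
import Mathlib.Algebra.Category.Grp.AB
import Mathlib.Algebra.Homology.ShortComplex.ExactFunctor
import Mathlib.CategoryTheory.Sites.Abelian

set_option autoImplicit false
universe u
open CategoryTheory CategoryTheory.Limits
open CohSite

namespace Groth.Agent.S9109

open CategoryTheory.Limits in
theorem pi_map_epi {ι : Type u} {M N : AddCommGrpCat.{u}} (f : M ⟶ N) [Epi f] :
    Epi (Limits.Pi.map (fun _ : ι => f)) := by
  have : ∀ c, Epi ((Discrete.natTrans (F := Discrete.functor fun _ : ι => M)
      (G := Discrete.functor fun _ : ι => N) fun _ => f).app c) := fun c => by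
    dsimp; infer_instance
  have : Epi (Discrete.natTrans (F := Discrete.functor fun _ : ι => M)
      (G := Discrete.functor fun _ : ι => N) fun _ => f) := NatTrans.epi_of_epi_app _
  exact (lim (J := Discrete ι) (C := AddCommGrpCat.{u})).map_epi
    (Discrete.natTrans (F := Discrete.functor fun _ : ι => M)
      (G := Discrete.functor fun _ : ι => N) fun _ => f)

open CategoryTheory.Limits in
theorem pfc_of_pfl_of_epi {C D : Type*} [Category C] [Category D] [Abelian C] [Abelian D]
    (F : C ⥤ D) [F.Additive] [PreservesFiniteLimits F] [F.PreservesEpimorphisms] :
    PreservesFiniteColimits F := by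
  rw [Functor.preservesFiniteColimits_iff_forall_exact_map_and_epi]
  intro S hS
  have := hS.epi_g
  exact ⟨((Functor.preservesFiniteLimits_iff_forall_exact_map_and_mono F).mp inferInstance S hS).1,
    inferInstance⟩


/-- Part (1): on a small site (C, J) with a point p: the skyscraper functor p_* from abelian groups to
abelian sheaves on C (right adjoint to the stalk functor at p; its value on A is the sheaf U ↦ ∏_{x
∈ p⁻¹U} A) is exact. As a right adjoint it preserves limits; the statement here is that it also
preserves finite colimits. -/
theorem result {C : Type u} [SmallCategory C] {J : GrothendieckTopology C}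
    (p : GrothendieckTopology.Point.{u} J) :
    PreservesFiniteColimits (p.skyscraperSheafFunctor (A := AddCommGrpCat.{u})) := by
  have : PreservesFiniteLimits (p.skyscraperSheafFunctor (A := AddCommGrpCat.{u})) := by
    have := (p.skyscraperSheafAdjunction (A := AddCommGrpCat.{u})).rightAdjoint_preservesLimits
    infer_instance
  have : (p.skyscraperSheafFunctor (A := AddCommGrpCat.{u})).Additive :=
    Functor.additive_of_preserves_binary_products _
  have : (p.skyscraperSheafFunctor (A := AddCommGrpCat.{u})).PreservesEpimorphisms := by
    constructor
    intro M N f hf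
    have : ∀ U, Epi (((p.skyscraperSheafFunctor (A := AddCommGrpCat.{u})).map f).hom.app U) := by
      intro U
      exact pi_map_epi f
    have : Epi ((p.skyscraperSheafFunctor (A := AddCommGrpCat.{u})).map f).hom :=
      NatTrans.epi_of_epi_app _
    infer_instance
  exact pfc_of_pfl_of_epi _

end Groth.Agent.S9109
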