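import Groth.Statements.S9112
import Groth.Agent.Lib.ModStalk
import Mathlib.CategoryTheory.Sites.Point.Skyscraper
import Mathlib.Algebra.Homology.ShortComplex.Ab

set_option autoImplicit false
universe u
open CategoryTheory
open ModSite

namespace Groth.Agent.S9112

/-- Part (1): on a small ringed site (C, O) with O commutative, for a point p of the site: the stalk
functor F ↦ F_p from O-modules to O_p-modules is exact. Stated on a short exact sequence 0 → F₁ → F₂
→ F₃ → 0 of O-modules: the induced O_p-linear map F₁,p → F₂,p is injective, F₂,p → F₃,p is
surjective, and the range of the first is the kernel of the second. -/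
theorem result {C : Type u} [SmallCategory C] {J : GrothendieckTopology C}
    (O : Sheaf J CommRingCat.{u}) (S : ShortComplex (ModSite.Mod O)) (hS : S.ShortExact)
    (p : GrothendieckTopology.Point.{u} J) :
    Function.Injective (ModSite.stalkMap p S.f).hom ∧ Function.Surjective (ModSite.stalkMap p S.g).hom ∧
      LinearMap.range (ModSite.stalkMap p S.f).hom = LinearMap.ker (ModSite.stalkMap p S.g).hom := by
  let F := SheafOfModules.toSheaf (ModSite.ringSh O) ⋙ p.sheafFiber (A := AddCommGrpCat.{u})
  have hfl : Limits.PreservesFiniteLimits F := by dsimp only [F]; infer_instance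
  have hfc : Limits.PreservesFiniteColimits F := by dsimp only [F]; infer_instance
  have : F.Additive := Functor.additive_of_preserves_binary_products F
  have hF : (S.map F).ShortExact := hS.map_of_exact F
  have h1 : Function.Injective (F.map S.f) := (AddCommGrpCat.mono_iff_injective _).mp hF.mono_f
  have h2 : Function.Surjective (F.map S.g) := (AddCommGrpCat.epi_iff_surjective _).mp hF.epi_g
  have h3 : Function.Exact (F.map S.f) (F.map S.g) :=
    (ShortComplex.ab_exact_iff_function_exact (S.map F)).mp hF.exact
  refine ⟨h1, h2, ?_⟩
  ext x
  rw [LinearMap.mem_ker, LinearMap.mem_range]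
  exact (h3 x).symm

end Groth.Agent.S9112
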