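import Groth.Statements.S9121
import Mathlib.Algebra.Category.Grp.AB
import Mathlib.Algebra.Homology.ShortComplex.ExactFunctor
import Mathlib.CategoryTheory.Sites.Abelian
import Mathlib.CategoryTheory.Sites.EpiMono
import Mathlib.CategoryTheory.Sites.LocallySurjective

set_option autoImplicit false
universe u
open CategoryTheory CategoryTheory.Limits
open CohSite

namespace Groth.Agent.S9121

open CategoryTheory.Limits in
theorem pfc_of_pfl_of_epi {C D : Type*} [Category C] [Category D] [Abelian C] [Abelian D]
    (F : C ⥤ D) [F.Additive] [PreservesFiniteLimits F] [F.PreservesEpimorphisms] :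
    PreservesFiniteColimits F := by
  rw [Functor.preservesFiniteColimits_iff_forall_exact_map_and_epi]
  intro S hS
  have := hS.epi_g
  exact ⟨((Functor.preservesFiniteLimits_iff_forall_exact_map_and_mono F).mp inferInstance S hS).1,
    inferInstance⟩


/-- Part (1): for the morphism of topoi f : Sh(C) → Sh(D) attached to a continuous functor u : D ⥤ C
between small sites whose induced pullback of sheaves of sets is exact (f_* is restriction along u):
if f_* transforms epimorphisms of sheaves of sets into epimorphisms, then f_* on abelian sheaves is
exact; being a right adjoint it preserves finite limits, and the statement is that it also preserves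
finite colimits. -/
theorem result {C D : Type u} [SmallCategory C] [SmallCategory D]
    (J : GrothendieckTopology C) (K : GrothendieckTopology D) (u : D ⥤ C) [u.IsContinuous K J]
    [PreservesFiniteLimits (u.sheafPullback (Type u) K J)]
    [(u.sheafPushforwardContinuous (Type u) K J).PreservesEpimorphisms] :
    PreservesFiniteColimits (u.sheafPushforwardContinuous AddCommGrpCat.{u} K J) := by
  have : PreservesFiniteLimits (u.sheafPushforwardContinuous AddCommGrpCat.{u} K J) := by
    have := (u.sheafAdjunctionContinuous AddCommGrpCat.{u} K J).rightAdjoint_preservesLimits
    infer_instance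
  have : (u.sheafPushforwardContinuous AddCommGrpCat.{u} K J).Additive :=
    Functor.additive_of_preserves_binary_products _
  have : (u.sheafPushforwardContinuous AddCommGrpCat.{u} K J).PreservesEpimorphisms := by
    constructor
    intro F G φ hφ
    have h1 : Sheaf.IsLocallySurjective φ := (Sheaf.isLocallySurjective_iff_epi' (φ := φ)).mpr hφ
    have h2 : Epi ((sheafCompose J (forget AddCommGrpCat.{u})).map φ) := inferInstance
    have h3 : Epi ((u.sheafPushforwardContinuous (Type u) K J).map
        ((sheafCompose J (forget AddCommGrpCat.{u})).map φ)) := inferInstance
    have h4 : Sheaf.IsLocallySurjective ((u.sheafPushforwardContinuous (Type u) K J).map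
        ((sheafCompose J (forget AddCommGrpCat.{u})).map φ)) :=
      (Sheaf.isLocallySurjective_iff_epi _).mpr h3
    have h5 : Sheaf.IsLocallySurjective
        ((u.sheafPushforwardContinuous AddCommGrpCat.{u} K J).map φ) :=
      (Presheaf.isLocallySurjective_iff_whisker_forget K _).mpr h4
    infer_instance
  exact pfc_of_pfl_of_epi _

end Groth.Agent.S9121
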