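import Groth.Statements.S9127
import Groth.Agent.Lib.Catenary

set_option autoImplicit false
universe u
open CAlg

namespace Groth.Agent.S9127

open Groth.Agent.Lib.OrdCat Groth.Agent.Lib.Catenary

universe v

theorem mem_range_of_head_le {α : Type u} {β : Type v} [PartialOrder α] [PartialOrder β]
    (e : α ↪o β) (hup : ∀ (a : α) (c : β), e a ≤ c → c ∈ Set.range e) (s : LTSeries β)
    (hhead : s.head ∈ Set.range e) (i : Fin (s.length + 1)) : s i ∈ Set.range e := by
  obtain ⟨a, ha⟩ := hhead
  exact hup a (s i) (ha ▸ s.monotone (Fin.zero_le i))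

/-- The catenary condition is local with respect to order embeddings onto upper sets. -/
theorem isCat_of_local_upper {β : Type v} [PartialOrder β]
    (h : ∀ p : β, ∃ (α : Type u) (_ : PartialOrder α) (e : α ↪o β),
      (∀ (a : α) (c : β), e a ≤ c → c ∈ Set.range e) ∧ p ∈ Set.range e ∧ IsCat α) :
    IsCat β := by
  refine ⟨fun p q hpq => ?_, fun s t hhead hlast hs ht => ?_⟩
  · obtain ⟨α, _, e, hup, ⟨p', rfl⟩, hcat⟩ := h p
    obtain ⟨q', rfl⟩ := hup p' q hpq
    obtain ⟨n, hn⟩ := hcat.1 p' q' (e.le_iff_le.1 hpq)
    refine ⟨n, fun s hsp hsq => ?_⟩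
    have hmem : ∀ i, s i ∈ Set.range e :=
      mem_range_of_head_le e hup s (hsp ▸ ⟨p', rfl⟩)
    have := hn (liftSeries e s hmem)
      (e.injective (by rw [map_liftSeries_head, hsp]))
      (e.injective (by rw [map_liftSeries_last, hsq]))
    simpa [liftSeries_length] using this
  · obtain ⟨α, _, e, hup, hp, hcat⟩ := h s.head
    have hmems : ∀ i, s i ∈ Set.range e := mem_range_of_head_le e hup s hp
    have hmemt : ∀ i, t i ∈ Set.range e := mem_range_of_head_le e hup t (hhead ▸ hp)
    have := hcat.2 (liftSeries e s hmems) (liftSeries e t hmemt)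
      (e.injective (by rw [map_liftSeries_head, map_liftSeries_head, hhead]))
      (e.injective (by rw [map_liftSeries_last, map_liftSeries_last, hlast]))
      (fun i => covBy_of_map e (by
        rw [map_liftSeries_apply, map_liftSeries_apply]; exact hs i))
      (fun i => covBy_of_map e (by
        rw [map_liftSeries_apply, map_liftSeries_apply]; exact ht i))
    simpa [liftSeries_length] using this


/-- A Noetherian ring is catenary if and only if its quotient by every minimal prime is catenary. -/
theorem result (R : Type u) [CommRing R] [IsNoetherianRing R] :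
    CAlg.IsCatenary R ↔ ∀ p ∈ minimalPrimes R, CAlg.IsCatenary (R ⧸ p) := by
  constructor
  · intro h p _
    exact isCatenary_of_surjective (Ideal.Quotient.mk p) Ideal.Quotient.mk_surjective h
  · intro h
    rw [isCatenary_iff_isCat]
    apply isCat_of_local_upper
    intro p
    obtain ⟨p₀, hp₀, hle⟩ := Ideal.exists_minimalPrimes_le (I := (⊥ : Ideal R))
      (J := p.asIdeal) bot_le
    have hsurj : Function.Surjective (Ideal.Quotient.mk p₀) := Ideal.Quotient.mk_surjective
    refine ⟨PrimeSpectrum (R ⧸ p₀), inferInstance, surjEmb (Ideal.Quotient.mk p₀) hsurj,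
      surjEmb_upper _ hsurj, ?_, h p₀ hp₀⟩
    have hr : Set.range (surjEmb (Ideal.Quotient.mk p₀) hsurj) =
        PrimeSpectrum.zeroLocus (RingHom.ker (Ideal.Quotient.mk p₀)) :=
      range_comap_of_surjective _ (Ideal.Quotient.mk p₀) hsurj
    rw [hr, Ideal.mk_ker, PrimeSpectrum.mem_zeroLocus]
    exact hle

end Groth.Agent.S9127
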