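import Mathlib
import Groth.Agent.Lib.CatenaryDim
import Groth.Statements.S9128

set_option autoImplicit false
universe u
open CAlg

namespace Groth.Agent.S9128

section Helpers

variable {A : Type u} [CommRing A]

theorem dim_quot_eq_coheight (p : PrimeSpectrum A) :
    ringKrullDim (A ⧸ p.asIdeal) = ((Order.coheight p : ℕ∞) : WithBot ℕ∞) := by
  rw [ringKrullDim_quotient, Order.coheight_eq_krullDim_Ici]
  have : PrimeSpectrum.zeroLocus (p.asIdeal : Set A) = Set.Ici p := by
    ext q
    simp only [PrimeSpectrum.mem_zeroLocus, SetLike.coe_subset_coe, Set.mem_Ici]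
    exact Iff.rfl
  rw [this]

/-- along a chain whose steps drop coheight by exactly one. -/
theorem coheight_head_eq {α : Type*} [PartialOrder α] (s : LTSeries α)
    (h : ∀ i : Fin s.length, Order.coheight (s i.castSucc) = Order.coheight (s i.succ) + 1) :
    Order.coheight s.head = Order.coheight s.last + s.length := by
  have key : ∀ i : Fin (s.length + 1), Order.coheight (s 0) = Order.coheight (s i) + (i : ℕ) := by
    intro i
    induction i using Fin.induction with
    | zero => simp
    | succ i ih =>
      rw [ih, h i]
      simp only [Fin.val_castSucc, Fin.val_succ]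
      push_cast
      ring
  have := key (Fin.last _)
  simpa [RelSeries.head, RelSeries.last] using this

end Helpers

/-- A Noetherian local ring A is catenary if and only if the assignment sending a prime p to the Krull
dimension of A/p is a dimension function on Spec A, i.e. it decreases strictly along strict
inclusions of primes and drops by exactly one along inclusions with no prime strictly in between. -/
theorem result (A : Type u) [CommRing A] [IsNoetherianRing A]
    [IsLocalRing A] :
    CAlg.IsCatenary A ↔
      ∀ p q : PrimeSpectrum A, p < q →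
        ringKrullDim (A ⧸ q.asIdeal) < ringKrullDim (A ⧸ p.asIdeal) ∧
          (p ⋖ q → ringKrullDim (A ⧸ p.asIdeal) = ringKrullDim (A ⧸ q.asIdeal) + 1) := by
  constructor
  · intro hA p q hpq
    rw [dim_quot_eq_coheight, dim_quot_eq_coheight]
    refine ⟨?_, fun hcov => ?_⟩
    · rw [WithBot.coe_lt_coe]
      exact Order.coheight_strictAnti hpq (Groth.Agent.Lib.CatenaryDim.coheight_lt_top q)
    · rw [Groth.Agent.Lib.CatenaryDim.coheight_eq_add_one_of_covBy_of_isCatenary hA hcov]
      rfl
  · intro h
    have hstep : ∀ p q : PrimeSpectrum A, p ⋖ q → Order.coheight p = Order.coheight q + 1 := by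
      intro p q hcov
      have h1 := (h p q hcov.lt).2 hcov
      rw [dim_quot_eq_coheight, dim_quot_eq_coheight] at h1
      exact_mod_cast h1
    constructor
    · intro p q _
      have hfin : ringKrullDim A < ⊤ := ringKrullDim_lt_top
      have hbot : (⊥ : WithBot ℕ∞) < ringKrullDim A := by
        rw [bot_lt_iff_ne_bot]
        exact ringKrullDim_ne_bot
      obtain ⟨d, hd⟩ : ∃ d : ℕ, ringKrullDim A = d := by
        have h1 : ringKrullDim A ≠ ⊥ := ringKrullDim_ne_bot
        have h2 : ringKrullDim A ≠ ⊤ := hfin.ne
        obtain ⟨e, he⟩ := WithBot.ne_bot_iff_exists.mp h1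
        have h3 : e ≠ ⊤ := by
          rintro rfl; exact h2 he.symm
        obtain ⟨d, hd⟩ := ENat.ne_top_iff_exists.mp h3
        exact ⟨d, by rw [← he, ← hd]; rfl⟩
      refine ⟨d, fun s _ _ => ?_⟩
      have h1 : (s.length : WithBot ℕ∞) ≤ ringKrullDim A := Order.LTSeries.length_le_krullDim s
      rw [hd] at h1
      exact_mod_cast h1
    · intro s t hhead hlast hs ht
      have e1 := coheight_head_eq s (fun i => hstep _ _ (hs i))
      have e2 := coheight_head_eq t (fun i => hstep _ _ (ht i))
      rw [hhead, hlast, e2] at e1
      have hfin : Order.coheight t.last ≠ ⊤ :=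
        (Groth.Agent.Lib.CatenaryDim.coheight_lt_top t.last).ne
      have := (ENat.add_right_injective_of_ne_top hfin) e1
      exact_mod_cast this.symm

end Groth.Agent.S9128
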