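import Groth.Statements.S9129
import Groth.Agent.Lib.SkFlat33

set_option autoImplicit false
universe u
open CAlg

namespace Groth.Agent.S9129

/-- Suppose R → S is a flat local homomorphism between Noetherian local rings, with R Cohen–Macaulay.
Assume either that S is finite over R or that the Krull dimension of S is at most that of R. Then
the two rings have equal dimension and S is itself Cohen–Macaulay. -/
theorem result (R S : Type u) [CommRing R] [CommRing S]
    [LocCoh.IsCohenMacaulayLocalRing R] [IsNoetherianRing S] [IsLocalRing S] [Algebra R S]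
    [IsLocalHom (algebraMap R S)] [Module.Flat R S]
    (h : Module.Finite R S ∨ ringKrullDim S ≤ ringKrullDim R) :
    LocCoh.IsCohenMacaulayLocalRing S ∧ ringKrullDim R = ringKrullDim S := by
  have hle : ringKrullDim S ≤ ringKrullDim R := by
    rcases h with h | h
    · have : Algebra.IsIntegral R S := inferInstance
      refine Order.krullDim_le_of_strictMono (PrimeSpectrum.comap (algebraMap R S)) ?_
      intro p q hpq
      exact Ideal.IsIntegral.comap_lt_comap (R := R) hpq
    · exact h
  have hadd := Groth.Agent.Lib.SkFlat33.ringKrullDim_eq_add (A := R) (B := S)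
  have hnt := Groth.Agent.Lib.SkFlat33.nontrivial_fibre (A := R) (B := S)
  have h0 : Ring.KrullDimLE 0
      (S ⧸ (IsLocalRing.maximalIdeal R).map (algebraMap R S)) := by
    rw [Ring.krullDimLE_iff]
    rw [hadd] at hle
    obtain ⟨n, hn⟩ : ∃ n : ℕ, ringKrullDim R = n := by
      have h1 := ringKrullDim_ne_bot (R := R)
      have h2 := ringKrullDim_ne_top (R := R)
      cases hR : ringKrullDim R using WithBot.recBotCoe with
      | bot => exact absurd hR h1
      | coe a =>
        cases a using ENat.recTopCoe with
        | top => exact absurd hR h2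
        | coe n => exact ⟨n, rfl⟩
    rw [hn] at hle
    cases hF : ringKrullDim (S ⧸ (IsLocalRing.maximalIdeal R).map (algebraMap R S))
      using WithBot.recBotCoe with
    | bot => exact bot_le
    | coe a =>
      rw [hF] at hle
      have : ((n : ℕ∞) + a : WithBot ℕ∞) ≤ ((n : ℕ∞) : WithBot ℕ∞) := by exact_mod_cast hle
      rw [← WithBot.coe_add, WithBot.coe_le_coe] at this
      have ha : a ≤ 0 := by
        have : (n : ℕ∞) + a ≤ (n : ℕ∞) + 0 := by simpa using this
        exact (ENat.add_le_add_iff_left (ENat.natCast_ne_top n)).mp this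
      exact_mod_cast ha
  have hdim := Groth.Agent.Lib.SkFlat33.ringKrullDim_eq_of_krullDimLE_zero (A := R) (B := S) h0
  have hdepth := Groth.Agent.Lib.SkFlat33.depth_eq_of_krullDimLE_zero (A := R) (B := S) h0
  refine ⟨⟨?_⟩, hdim.symm⟩
  rw [Module.supportDim_self_eq_ringKrullDim, hdim, hdepth,
    ← Module.supportDim_self_eq_ringKrullDim]
  exact LocCoh.IsCohenMacaulayLocalRing.supportDim_eq_depth

end Groth.Agent.S9129
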