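import Groth.Statements.S9130
import Mathlib
import Groth.Agent.Lib.KrullAkizuki2

set_option autoImplicit false
universe u
open CAlg

namespace Groth.Agent.S9130
section Core

variable {R : Type*} [CommRing R] [IsDomain R] [IsNoetherianRing R] [Ring.KrullDimLE 1 R]
  (K L : Type*) [Field K] [Field L] [Algebra R K] [IsFractionRing R K] [Algebra K L]
  [FiniteDimensional K L] [Algebra R L] [IsScalarTower R K L]
  {𝔸 : Type*} [CommRing 𝔸] [IsDomain 𝔸] [Algebra R 𝔸] [Algebra 𝔸 L] [IsScalarTower R 𝔸 L]

include K L in
/-- every nonzero prime of `𝔸` contains a nonzero element of `R` -/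
theorem exists_mem_of_ne_bot (hA : Function.Injective (algebraMap 𝔸 L)) (P : Ideal 𝔸) (hP : P ≠ ⊥) :
    ∃ x : R, x ≠ 0 ∧ algebraMap R 𝔸 x ∈ P := by
  obtain ⟨y, hyP, hy0⟩ := Submodule.exists_mem_ne_zero_of_ne_bot hP
  have halgL : IsAlgebraic R (algebraMap 𝔸 L y) := by
    have h1 : IsAlgebraic K (algebraMap 𝔸 L y) := Algebra.IsAlgebraic.isAlgebraic _
    exact (IsFractionRing.isAlgebraic_iff R K L).mpr h1
  have halg : IsAlgebraic R y := by
    obtain ⟨q, hq0, hq⟩ := halgL
    refine ⟨q, hq0, hA ?_⟩
    have h2 : Polynomial.aeval (algebraMap 𝔸 L y) q = algebraMap 𝔸 L (Polynomial.aeval y q) :=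
      Polynomial.aeval_algebraMap_apply L y q
    rw [map_zero, ← h2, hq]
  obtain ⟨r, hr0, hdvd⟩ := halg.exists_nonzero_dvd (mem_nonZeroDivisors_of_ne_zero hy0)
  exact ⟨r, hr0, P.mem_of_dvd hdvd hyP⟩

variable (R) in
include R K L in
theorem krullDimLE_one (hA : Function.Injective (algebraMap 𝔸 L)) : Ring.KrullDimLE 1 𝔸 := by
  rw [Ring.krullDimLE_one_iff_of_noZeroDivisors]
  intro P hP hPp
  obtain ⟨x, hx0, hxP⟩ := exists_mem_of_ne_bot (R := R) K L hA P hP
  exact Groth.Agent.Lib.KrullAkizuki.isMaximal_of_mem K L hA x hx0 P hxP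

end Core
section FD

variable (A B K L : Type*) [CommRing A] [IsDomain A] [CommRing B] [IsDomain B] [Algebra A B]
  [Algebra.FiniteType A B] [Algebra.IsAlgebraic A B] [Field K] [Field L]
  [Algebra A K] [IsFractionRing A K] [Algebra B L] [IsFractionRing B L] [Algebra K L] [Algebra A L]
  [IsScalarTower A K L] [IsScalarTower A B L]

include A B in
theorem finiteDimensional_frac : FiniteDimensional K L := by
  obtain ⟨s, hs⟩ := (Algebra.FiniteType.out : (⊤ : Subalgebra A B).FG)
  let T : Set L := (algebraMap B L) '' (s : Set B)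
  have hTfin : T.Finite := s.finite_toSet.image _
  have hint : ∀ x ∈ T, IsIntegral K x := by
    rintro _ ⟨b, -, rfl⟩
    have h1 : IsAlgebraic A b := Algebra.IsAlgebraic.isAlgebraic b
    have h2 : IsAlgebraic A (algebraMap B L b) := h1.algebraMap
    have h3 : IsAlgebraic K (algebraMap B L b) := (IsFractionRing.isAlgebraic_iff A K L).mp h2
    exact h3.isIntegral
  haveI : Finite T := hTfin.to_subtype
  have hfd : FiniteDimensional K (IntermediateField.adjoin K T) :=
    IntermediateField.finiteDimensional_adjoin hint
  have hB : ∀ b : B, algebraMap B L b ∈ IntermediateField.adjoin K T := by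
    intro b
    have hb : b ∈ Algebra.adjoin A (s : Set B) := by rw [hs]; trivial
    induction hb using Algebra.adjoin_induction with
    | mem x hx => exact IntermediateField.subset_adjoin K T ⟨x, hx, rfl⟩
    | algebraMap a =>
      rw [← IsScalarTower.algebraMap_apply A B L, IsScalarTower.algebraMap_apply A K L]
      exact (IntermediateField.adjoin K T).algebraMap_mem _
    | add x y _ _ hx hy => rw [map_add]; exact add_mem hx hy
    | mul x y _ _ hx hy => rw [map_mul]; exact mul_mem hx hy
  have htop : IntermediateField.adjoin K T = ⊤ := by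
    rw [eq_top_iff]
    intro z _
    obtain ⟨b, b', hb', rfl⟩ := IsFractionRing.div_surjective (A := B) z
    exact div_mem (hB b) (hB b')
  rw [htop] at hfd
  exact Module.Finite.equiv (IntermediateField.topEquiv (F := K) (E := L)).toLinearEquiv

end FD

section Abstract

variable (A B : Type*) [CommRing A] [IsDomain A] [IsNoetherianRing A] [CommRing B] [IsDomain B]
  [Algebra A B] [FaithfulSMul A B] [Algebra.FiniteType A B] [Algebra.IsAlgebraic A B]
  (p : Ideal A) [p.IsPrime]
  (Ap : Type*) [CommRing Ap] [Algebra A Ap] [IsLocalization.AtPrime Ap p]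
  (Bp : Type*) [CommRing Bp] [Algebra B Bp]
  [IsLocalization (Algebra.algebraMapSubmonoid B p.primeCompl) Bp] [Algebra Ap Bp] [Algebra A Bp]
  [IsScalarTower A Ap Bp] [IsScalarTower A B Bp]
  (K L : Type*) [Field K] [Field L] [Algebra A K] [IsFractionRing A K] [Algebra B L]
  [IsFractionRing B L] [Algebra K L] [Algebra A L] [IsScalarTower A K L] [IsScalarTower A B L]
  [Algebra Ap K] [IsScalarTower A Ap K] [Algebra Bp L] [IsScalarTower B Bp L] [Algebra Ap L]
  [IsScalarTower Ap K L] [IsScalarTower Ap Bp L]

include Ap Bp K L in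
theorem main_abstract (hp : p.height = 1) :
    (p.primesOver B).Finite ∧ ∀ q ∈ p.primesOver B, q.height = 1 := by
  have hinjAB : Function.Injective (algebraMap A B) := FaithfulSMul.algebraMap_injective A B
  have hMA : p.primeCompl ≤ nonZeroDivisors A := p.primeCompl_le_nonZeroDivisors
  have hMB : Algebra.algebraMapSubmonoid B p.primeCompl ≤ nonZeroDivisors B := by
    rintro _ ⟨a, ha, rfl⟩
    refine mem_nonZeroDivisors_of_ne_zero ?_
    intro h0
    rw [← map_zero (algebraMap A B)] at h0
    exact ha (by rw [hinjAB h0]; exact zero_mem _)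
  haveI : IsDomain Ap := IsLocalization.isDomain_of_le_nonZeroDivisors Ap hMA
  haveI : IsNoetherianRing Ap := IsLocalization.isNoetherianRing p.primeCompl Ap inferInstance
  haveI : Ring.KrullDimLE 1 Ap := by
    rw [Ring.krullDimLE_iff, IsLocalization.AtPrime.ringKrullDim_eq_height p Ap, hp]
    rfl
  haveI : IsFractionRing Ap K :=
    IsFractionRing.isFractionRing_of_isDomain_of_isLocalization p.primeCompl Ap K
  haveI : FiniteDimensional K L := finiteDimensional_frac A B K L
  haveI : IsDomain Bp := IsLocalization.isDomain_of_le_nonZeroDivisors Bp hMB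
  have hA : Function.Injective (algebraMap Bp L) := by
    rw [injective_iff_map_eq_zero]
    intro z hz
    obtain ⟨⟨b, s⟩, hbs⟩ := IsLocalization.mk'_surjective (Algebra.algebraMapSubmonoid B p.primeCompl) z
    change IsLocalization.mk' Bp b s = z at hbs
    subst hbs
    have h1 : algebraMap Bp L (IsLocalization.mk' Bp b s) * algebraMap Bp L (algebraMap B Bp s) =
        algebraMap B L b := by
      rw [← map_mul, IsLocalization.mk'_spec, ← IsScalarTower.algebraMap_apply]
    rw [hz, zero_mul] at h1
    have hb : b = 0 := IsFractionRing.injective B L (by rw [← h1, map_zero])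
    rw [hb, IsLocalization.mk'_zero]
  have hpbot : p ≠ ⊥ := by
    rintro rfl
    rw [Ideal.height_bot] at hp
    exact zero_ne_one hp
  obtain ⟨x, hxp, hx0⟩ := Submodule.exists_mem_ne_zero_of_ne_bot hpbot
  have hx' : algebraMap A Ap x ≠ 0 := by
    intro h0
    rw [← map_zero (algebraMap A Ap)] at h0
    exact hx0 (IsLocalization.injective Ap hMA h0)
  have hfin := Groth.Agent.Lib.KrullAkizuki.finite_primes_of_mem K L hA (algebraMap A Ap x) hx'
  have hdim : Ring.KrullDimLE 1 Bp := krullDimLE_one Ap K L hA
  have hdisj : ∀ q ∈ p.primesOver B,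
      Disjoint (Algebra.algebraMapSubmonoid B p.primeCompl : Set B) (q : Set B) := by
    rintro q ⟨_, hqo⟩
    rw [Set.disjoint_left]
    rintro _ ⟨a, ha, rfl⟩ hq
    apply ha
    rw [hqo.over]
    exact hq
  have hmem : ∀ q ∈ p.primesOver B, algebraMap Ap Bp (algebraMap A Ap x) ∈
      q.map (algebraMap B Bp) := by
    rintro q ⟨_, hqo⟩
    rw [← IsScalarTower.algebraMap_apply A Ap Bp, IsScalarTower.algebraMap_apply A B Bp]
    apply Ideal.mem_map_of_mem
    have : x ∈ q.under A := by rw [← hqo.over]; exact hxp
    exact this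
  constructor
  · refine Set.Finite.of_injOn (f := fun q : Ideal B => q.map (algebraMap B Bp)) ?_ ?_ hfin
    · intro q hq
      haveI := hq.1
      exact ⟨IsLocalization.isPrime_of_isPrime_disjoint _ Bp q hq.1 (hdisj q hq), hmem q hq⟩
    · intro q hq q' hq' h
      haveI := hq.1
      haveI := hq'.1
      have e1 := IsLocalization.under_map_of_isPrime_disjoint _ Bp hq.1 (hdisj q hq)
      have e2 := IsLocalization.under_map_of_isPrime_disjoint _ Bp hq'.1 (hdisj q' hq')
      simp only at h
      rw [← e1, h, e2]
  · intro q hq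
    haveI := hq.1
    have hn : (q.map (algebraMap B Bp)).IsPrime :=
      IsLocalization.isPrime_of_isPrime_disjoint _ Bp q hq.1 (hdisj q hq)
    rw [← IsLocalization.height_map_of_disjoint (S := Bp) _ q (hdisj q hq)]
    apply le_antisymm
    · have h1 := Ideal.height_le_ringKrullDim_of_isPrime (I := q.map (algebraMap B Bp))
      have h2 : ringKrullDim Bp ≤ 1 := (Ring.krullDimLE_iff).mp hdim
      exact_mod_cast h1.trans h2
    · rw [Order.one_le_iff_ne_zero, Ne, Ideal.height_eq_zero_iff]
      intro hmin
      rw [IsDomain.minimalPrimes_eq_singleton_bot, Set.mem_singleton_iff] at hmin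
      have := hmem q hq
      rw [hmin, Ideal.mem_bot] at this
      have h1 : algebraMap Ap L (algebraMap A Ap x) = 0 := by
        rw [IsScalarTower.algebraMap_apply Ap Bp L, this, map_zero]
      rw [IsScalarTower.algebraMap_apply Ap K L] at h1
      have h2 := (algebraMap K L).injective (h1.trans (map_zero _).symm)
      exact hx' (IsFractionRing.injective Ap K (h2.trans (map_zero _).symm))

end Abstract


attribute [local instance] FractionRing.liftAlgebra


/-- Let A ⊆ B be domains with B of finite type over A and A Noetherian, and assume every element of B is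
algebraic over A. For a height-one prime p of A, only finitely many primes of B lie over p and each
of them has height one. (The published statement assumes that Frac(B) is finite over Frac(A); this
row assumes B algebraic over A, which is equivalent for a finite type extension of domains.) -/
theorem result (A B : Type u) [CommRing A] [IsDomain A]
    [IsNoetherianRing A] [CommRing B] [IsDomain B] [Algebra A B] [FaithfulSMul A B]
    [Algebra.FiniteType A B] [Algebra.IsAlgebraic A B] (p : Ideal A) [p.IsPrime]
    (hp : p.height = 1) :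
    (p.primesOver B).Finite ∧ ∀ q ∈ p.primesOver B, q.height = 1 := by
  have hinjAB : Function.Injective (algebraMap A B) := FaithfulSMul.algebraMap_injective A B
  have hMB : Algebra.algebraMapSubmonoid B p.primeCompl ≤ nonZeroDivisors B := by
    rintro _ ⟨a, ha, rfl⟩
    refine mem_nonZeroDivisors_of_ne_zero ?_
    intro h0
    rw [← map_zero (algebraMap A B)] at h0
    exact ha (by rw [hinjAB h0]; exact zero_mem _)
  let Ap := Localization.AtPrime p
  let Bp := Localization (Algebra.algebraMapSubmonoid B p.primeCompl)
  let K := FractionRing A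
  let L := FractionRing B
  letI : Algebra Bp L := IsLocalization.localizationAlgebraOfSubmonoidLe Bp L
    (Algebra.algebraMapSubmonoid B p.primeCompl) (nonZeroDivisors B) hMB
  haveI : IsScalarTower B Bp L := IsLocalization.localization_isScalarTower_of_submonoid_le Bp L
    (Algebra.algebraMapSubmonoid B p.primeCompl) (nonZeroDivisors B) hMB
  letI : Algebra Ap L := ((algebraMap K L).comp (algebraMap Ap K)).toAlgebra
  haveI : IsScalarTower Ap K L := IsScalarTower.of_algebraMap_eq fun _ => rfl
  haveI : IsScalarTower Ap Bp L := by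
    apply IsScalarTower.of_algebraMap_eq'
    apply IsLocalization.ringHom_ext p.primeCompl
    ext a
    simp only [RingHom.comp_apply]
    change algebraMap K L (algebraMap Ap K (algebraMap A Ap a)) =
      algebraMap Bp L (algebraMap Ap Bp (algebraMap A Ap a))
    rw [← IsScalarTower.algebraMap_apply A Ap K, ← IsScalarTower.algebraMap_apply A K L,
      ← IsScalarTower.algebraMap_apply A Ap Bp, IsScalarTower.algebraMap_apply A B Bp,
      ← IsScalarTower.algebraMap_apply B Bp L, ← IsScalarTower.algebraMap_apply A B L]
  exact main_abstract A B p Ap Bp K L hp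

end Groth.Agent.S9130
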