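import Groth.Statements.S9133
import Groth.Agent.Lib.KrullAkizuki2
import Mathlib.RingTheory.KrullDimension.Field

set_option autoImplicit false
universe u
open CAlg

namespace Groth.Agent.S9133

/-- Let R → S be a homomorphism of domains compatible with field maps K → L of their fraction fields (so
R → S is injective), where R is Noetherian local of dimension one and L is finite over K. Then each
prime n of S whose contraction to R is the maximal ideal of R is a maximal ideal of S, only finitely
many such n exist, and each quotient S/n is a finite R-module (its residue field is a finite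
extension of that of R). -/
theorem result (R S K L : Type u)
    [CommRing R] [IsDomain R] [IsNoetherianRing R] [IsLocalRing R] (hdim : ringKrullDim R = 1)
    [CommRing S] [IsDomain S] [Algebra R S] [Field K] [Field L] [Algebra R K] [IsFractionRing R K]
    [Algebra S L] [IsFractionRing S L] [Algebra K L] [Algebra R L] [IsScalarTower R K L]
    [IsScalarTower R S L] [FiniteDimensional K L] :
    (∀ n ∈ (IsLocalRing.maximalIdeal R).primesOver S, n.IsMaximal) ∧
      ((IsLocalRing.maximalIdeal R).primesOver S).Finite ∧
      ∀ n ∈ (IsLocalRing.maximalIdeal R).primesOver S, Module.Finite R (S ⧸ n) := by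
  have hK1 : Ring.KrullDimLE 1 R := by
    rw [Ring.krullDimLE_iff, hdim]
    rfl
  have hnf : ¬ IsField R := by
    intro h
    have := ringKrullDim_eq_zero_of_isField h
    rw [hdim] at this
    exact one_ne_zero this
  have hm0 : IsLocalRing.maximalIdeal R ≠ ⊥ := fun h => hnf (IsLocalRing.isField_iff_maximalIdeal_eq.mpr h)
  obtain ⟨x, hxm, hx0⟩ := Submodule.exists_mem_ne_zero_of_ne_bot hm0
  have hA : Function.Injective (algebraMap S L) := IsFractionRing.injective S L
  have hmem : ∀ n ∈ (IsLocalRing.maximalIdeal R).primesOver S, algebraMap R S x ∈ n := by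
    rintro n ⟨_, hlo⟩
    have : x ∈ n.under R := by rw [← hlo.over]; exact hxm
    exact this
  refine ⟨?_, ?_, ?_⟩
  · intro n hn
    have := hn.1
    exact Groth.Agent.Lib.KrullAkizuki.isMaximal_of_mem K L hA x hx0 n (hmem n hn)
  · refine (Groth.Agent.Lib.KrullAkizuki.finite_primes_of_mem K L hA x hx0).subset ?_
    intro n hn
    exact ⟨hn.1, hmem n hn⟩
  · intro n hn
    exact Groth.Agent.Lib.KrullAkizuki.finite_quotient_of_mem K L hA x hx0 n (hmem n hn)

end Groth.Agent.S9133

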