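import Groth.Statements.S9135
import Mathlib

set_option autoImplicit false
universe u
open CAlg

namespace Groth.Agent.S9135
open Polynomial TensorProduct

lemma isIntegral_of_isNilpotent {A B : Type*} [CommRing A] [CommRing B] [Algebra A B] (z : B)
    (hz : IsNilpotent z) : IsIntegral A z := by
  obtain ⟨n, hn⟩ := hz
  exact ⟨X ^ n, monic_X_pow n, by simp [eval₂_pow, hn]⟩

/-- integrality modulo a nil ideal. -/
lemma isIntegral_of_mk {A B : Type*} [CommRing A] [CommRing B] [Algebra A B] (I : Ideal B)
    (hI : I ≤ nilradical B) (y : B) (hy : IsIntegral A (Ideal.Quotient.mk I y)) :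
    IsIntegral A y := by
  rcases subsingleton_or_nontrivial B with hB | hB
  · rw [Subsingleton.elim y 0]; exact isIntegral_zero
  have : Nontrivial A := (algebraMap A B).domain_nontrivial
  obtain ⟨f, hf, hfy⟩ := hy
  -- replace f by f * X to ensure positive degree
  have hmon : (f * X).Monic := hf.mul monic_X
  have hdeg : (f * X).natDegree ≠ 0 := by
    rw [hf.natDegree_mul monic_X]
    simp
  refine IsIntegral.of_aeval_monic hmon hdeg ?_
  apply isIntegral_of_isNilpotent
  have : aeval y (f * X) ∈ I := by
    rw [← Ideal.Quotient.eq_zero_iff_mem]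
    rw [← Ideal.Quotient.mkₐ_eq_mk A, ← aeval_algHom_apply]
    rw [Ideal.Quotient.mkₐ_eq_mk, map_mul, aeval_def, hfy, zero_mul]
  exact hI this

/-- fibre finite. -/
lemma fiber_finite (R S : Type u) [CommRing R] [CommRing S]
    [Algebra R S] [Algebra.FiniteType R S] (p : Ideal R) [p.IsPrime]
    (hfin : (p.primesOver S).Finite) : Module.Finite p.ResidueField (p.Fiber S) := by
  rw [Module.finite_iff_isArtinianRing, isArtinianRing_iff_isNoetherianRing_krullDimLE_zero]
  have : IsJacobsonRing (p.Fiber S) := isJacobsonRing_of_finiteType (A := p.ResidueField)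
  have : Finite (PrimeSpectrum (p.Fiber S)) := by
    have := hfin.to_subtype
    exact (PrimeSpectrum.primesOverOrderIsoFiber R S p).toEquiv.finite_iff.mp this
  exact ⟨Algebra.FiniteType.isNoetherianRing p.ResidueField _,
    (PrimeSpectrum.discreteTopology_iff_finite_and_krullDimLE_zero.mp inferInstance).right⟩

attribute [local instance] Algebra.TensorProduct.rightAlgebra in
lemma exists_smul_integral (R S : Type u) [CommRing R] [CommRing S]
    [Algebra R S] [Algebra.FiniteType R S] (p : Ideal R) (hp : p ∈ minimalPrimes R)
    (hfin : (p.primesOver S).Finite) (s : S) : ∃ g : R, g ∉ p ∧ IsIntegral R (g • s) := by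
  haveI : p.IsPrime := hp.1.1
  have hF := fiber_finite R S p hfin
  let Rp := Localization p.primeCompl
  let pRp := IsLocalRing.maximalIdeal Rp
  let Sp := Localization (Algebra.algebraMapSubmonoid S p.primeCompl)
  let pSp := pRp.map (algebraMap Rp Sp)
  -- a. x₀ integral over κ(p), hence over Rp
  have h0 : IsIntegral p.ResidueField ((1 : p.ResidueField) ⊗ₜ[R] s : p.Fiber S) :=
    Algebra.IsIntegral.isIntegral _
  have h1 : IsIntegral Rp ((1 : p.ResidueField) ⊗ₜ[R] s : p.Fiber S) :=
    isIntegral_trans _ h0
  obtain ⟨⟨m, hm⟩, hmint⟩ := IsIntegral.exists_multiple_integral_of_isLocalization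
    (R := R) p.primeCompl (Rₘ := Rp) _ h1
  -- transport to Sp/pSp
  let e := Ideal.Fiber.algEquivQuotient (S := S) p
  have h2 : IsIntegral R (Ideal.Quotient.mk pSp (algebraMap S Sp (m • s))) := by
    have := hmint.map (e.toAlgHom.restrictScalars R)
    convert this using 1
    have h5 : ((⟨m, hm⟩ : p.primeCompl) • ((1 : p.ResidueField) ⊗ₜ[R] s : p.Fiber S)) =
        algebraMap S (p.Fiber S) (m • s) := by
      rw [Algebra.TensorProduct.right_algebraMap_apply, Submonoid.mk_smul, TensorProduct.tmul_smul]
    rw [h5]
    change _ = e (algebraMap S (p.Fiber S) (m • s))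
    rw [e.commutes]
    rfl
  -- nil
  have hnil : pSp ≤ nilradical Sp := by
    have hK : Ring.KrullDimLE 0 Rp := Ring.KrullDimLE.of_isLocalization p hp Rp
    rw [Ideal.map_le_iff_le_comap]
    intro r hr
    have hr' : r ∈ nilradical Rp := by
      rw [Ring.KrullDimLE.nilradical_eq_maximalIdeal]; exact hr
    rw [Ideal.mem_comap, mem_nilradical]
    exact (mem_nilradical.mp hr').map _
  have h3 : IsIntegral R (algebraMap S Sp (m • s)) := isIntegral_of_mk pSp hnil _ h2
  obtain ⟨m₃, hm₃, h4⟩ := IsLocalization.exists_isIntegral_smul_of_isIntegral_map (Sₘ := Sp)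
    p.primeCompl h3
  refine ⟨m₃ * m, ?_, ?_⟩
  · exact (p.primeCompl.mul_mem hm₃ hm)
  · rwa [mul_smul]



/-- Let R → S be of finite type and p a minimal prime of R over which only finitely many primes of S
lie. Then for some g ∈ R outside p the localized map R_g → S_g is finite. -/
theorem result (R S : Type u) [CommRing R] [CommRing S]
    [Algebra R S] [Algebra.FiniteType R S] (p : Ideal R) (hp : p ∈ minimalPrimes R)
    (hfin : (p.primesOver S).Finite) :
    ∃ g : R, g ∉ p ∧ (Localization.awayMap (algebraMap R S) g).Finite := by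
  classical
  have hpp : p.IsPrime := hp.1.1
  obtain ⟨T, hT⟩ := (Algebra.FiniteType.out : (⊤ : Subalgebra R S).FG)
  choose gt hgt hint using fun t : S => exists_smul_integral R S p hp hfin t
  refine ⟨∏ t ∈ T, gt t, ?_, ?_⟩
  · intro h
    obtain ⟨t, _, ht⟩ := (Ideal.IsPrime.prod_mem_iff).mp h
    exact hgt t ht
  · set g := ∏ t ∈ T, gt t with hg
    apply RingHom.Finite.of_isIntegral_of_finiteType
    · let Rg := Localization.Away g
      let Sg := Localization.Away (algebraMap R S g)
      letI : Algebra Rg Sg := (Localization.awayMap (algebraMap R S) g).toAlgebra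
      haveI : IsScalarTower R Rg Sg := .of_algebraMap_eq'
        (IsLocalization.lift_comp _).symm
      -- every image of S is integral
      have key : ∀ x : S, IsIntegral Rg (algebraMap S Sg x) := by
        let U : Subalgebra R S :=
          ((integralClosure Rg Sg).restrictScalars R).comap (IsScalarTower.toAlgHom R S Sg)
        have hU : Algebra.adjoin R (T : Set S) ≤ U := by
          rw [Algebra.adjoin_le_iff]
          intro t ht
          change IsIntegral Rg (algebraMap S Sg t)
          have h1 : IsIntegral Rg (algebraMap S Sg (gt t • t)) :=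
            ((hint t).map (IsScalarTower.toAlgHom R S Sg)).tower_top
          have hu : IsUnit (algebraMap R Rg (gt t)) := by
            have hgu : IsUnit (algebraMap R Rg g) := IsLocalization.Away.algebraMap_isUnit g
            have hdvd : gt t ∣ g := Finset.dvd_prod_of_mem gt ht
            exact isUnit_of_dvd_unit (map_dvd (algebraMap R Rg) hdvd) hgu
          obtain ⟨u, hu⟩ := hu
          have h2 : algebraMap S Sg t = algebraMap Rg Sg (↑u⁻¹ : Rg) * algebraMap S Sg (gt t • t) := by
            rw [Algebra.smul_def, map_mul, ← IsScalarTower.algebraMap_apply R S Sg,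
              IsScalarTower.algebraMap_apply R Rg Sg, ← hu, ← mul_assoc, ← map_mul]
            simp
          rw [h2]
          exact isIntegral_algebraMap.mul h1
        intro x
        have : x ∈ U := hU (hT ▸ Algebra.mem_top)
        exact this
      intro y
      obtain ⟨x, ⟨_, n, rfl⟩, rfl⟩ := IsLocalization.exists_mk'_eq (.powers (algebraMap R S g)) y
      change IsIntegral Rg _
      have hgu : IsUnit (algebraMap R Rg g) := IsLocalization.Away.algebraMap_isUnit g
      obtain ⟨u, hu⟩ := hgu
      have h3 : IsLocalization.mk' Sg x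
          (⟨(algebraMap R S g) ^ n, ⟨n, rfl⟩⟩ : Submonoid.powers (algebraMap R S g)) =
          algebraMap Rg Sg (↑(u⁻¹ ^ n) : Rg) * algebraMap S Sg x := by
        rw [IsLocalization.mk'_eq_iff_eq_mul]
        simp only [map_pow]
        rw [← IsScalarTower.algebraMap_apply R S Sg, IsScalarTower.algebraMap_apply R Rg Sg, ← hu]
        rw [mul_comm (algebraMap Rg Sg _), mul_assoc, ← map_pow, ← map_mul]
        rw [Units.val_pow_eq_pow_val, ← mul_pow, Units.inv_mul, one_pow, map_one, mul_one]
      rw [h3]
      exact isIntegral_algebraMap.mul (key x)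
    · exact RingHom.localization_away_map_finiteType R S _ _ (algebraMap R S) g
        ((RingHom.finiteType_algebraMap).mpr inferInstance)

end Groth.Agent.S9135
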