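import Groth.Statements.S9136
import Groth.Agent.Lib.DegOrd1
import Groth.Agent.Lib.DegOrd2
import Groth.Agent.Lib.DegOrd3

set_option autoImplicit false
universe u
open CAlg

namespace Groth.Agent.S9136

set_option maxHeartbeats 800000
set_option linter.style.haveILetI false
open Groth.Agent.Lib.DegOrd Groth.Agent.Lib.LenLoc Groth.Agent.Lib.DetLength

/-- Let A ⊆ B be a finite type extension of domains, A Noetherian local of dimension one, with
compatible fraction fields K ⊆ L and L finite over K. Then B has finitely many maximal ideals, and
for a nonzero x in the maximal ideal of A the sum over the maximal ideals m of B of (length of B/m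
over A, i.e. the residue degree) times (length of B_m / x B_m over B_m) is at most the degree of L
over K times the length of A/xA; equality holds exactly when B is a finite A-module. -/
theorem result (A B K L : Type u)
    [CommRing A] [IsDomain A] [IsNoetherianRing A] [IsLocalRing A] (hdim : ringKrullDim A = 1)
    [CommRing B] [IsDomain B] [Algebra A B] [FaithfulSMul A B] [Algebra.FiniteType A B]
    [Field K] [Field L] [Algebra A K] [IsFractionRing A K] [Algebra B L] [IsFractionRing B L]
    [Algebra K L] [Algebra A L] [IsScalarTower A K L] [IsScalarTower A B L] [FiniteDimensional K L]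
    (x : A) (hx : x ∈ IsLocalRing.maximalIdeal A) (hx0 : x ≠ 0) :
    Finite (MaximalSpectrum B) ∧
      (∑ᶠ m : MaximalSpectrum B,
          Module.length A (B ⧸ m.asIdeal) *
            Module.length (Localization.AtPrime m.asIdeal)
              (Localization.AtPrime m.asIdeal ⧸
                Ideal.span ({algebraMap A (Localization.AtPrime m.asIdeal) x} : Set _)) ≤
        (Module.finrank K L : ℕ∞) * Module.length A (A ⧸ Ideal.span ({x} : Set A))) ∧
      ((∑ᶠ m : MaximalSpectrum B,
          Module.length A (B ⧸ m.asIdeal) *
            Module.length (Localization.AtPrime m.asIdeal)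
              (Localization.AtPrime m.asIdeal ⧸
                Ideal.span ({algebraMap A (Localization.AtPrime m.asIdeal) x} : Set _)) =
        (Module.finrank K L : ℕ∞) * Module.length A (A ⧸ Ideal.span ({x} : Set A))) ↔ Module.Finite A B) := by
  classical
  haveI : Ring.KrullDimLE 1 A := Ring.krullDimLE_iff.mpr hdim.le
  haveI : IsNoetherianRing B := Algebra.FiniteType.isNoetherianRing A B
  obtain ⟨e, he, hM⟩ := exists_basis_in A B K L
  set y : B := algebraMap A B x with hy
  have hy0 : y ≠ 0 := by
    rw [hy, Ne, map_eq_zero_iff _ (FaithfulSMul.algebraMap_injective A B)]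
    exact hx0
  have hxM : Function.Injective (LinearMap.lsmul A B x) := by
    intro b b' hbb
    have : y * b = y * b' := by
      have h2 : x • b = x • b' := hbb
      rwa [Algebra.smul_def, Algebra.smul_def] at h2
    exact mul_left_cancel₀ hy0 this
  set I : Ideal B := Ideal.span {y} with hI
  -- identify the two quotients
  have hsm : sm x (⊤ : Submodule A B) = (I : Submodule B B).restrictScalars A := by
    ext b
    rw [mem_sm, Submodule.restrictScalars_mem, hI, Ideal.mem_span_singleton']
    constructor
    · rintro ⟨w, -, rfl⟩
      exact ⟨w, by rw [Algebra.smul_def, mul_comm]⟩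
    · rintro ⟨w, rfl⟩
      exact ⟨w, trivial, by rw [Algebra.smul_def, mul_comm]⟩
  have hlenT : Module.length A (B ⧸ I) = Module.length A (B ⧸ sm x (⊤ : Submodule A B)) := by
    rw [hsm]
    exact (Submodule.Quotient.restrictScalarsEquiv A (I : Submodule B B)).length_eq.symm
  have hle := length_quot_sm_le e he hM x hx0 hxM
  rw [← hlenT] at hle
  have hc : Module.length A (A ⧸ Ideal.span {x}) ≠ ⊤ :=
    Module.length_ne_top_iff.mpr
      (isFiniteLength_quotient_span_singleton A (mem_nonZeroDivisors_of_ne_zero hx0))
  have hfinA : IsFiniteLength A (B ⧸ I) := by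
    rw [← Module.length_ne_top_iff]
    exact ne_top_of_le_ne_top (WithTop.mul_ne_top (ENat.natCast_ne_top _) hc) hle
  have hNA := isFiniteLength_iff_isNoetherian_isArtinian.mp hfinA
  have hfinB : IsFiniteLength B (B ⧸ I) :=
    isFiniteLength_iff_isNoetherian_isArtinian.mpr
      ⟨isNoetherian_of_tower A hNA.1, isArtinian_of_tower A hNA.2⟩
  haveI : IsArtinianRing (B ⧸ Ideal.span {algebraMap A B x}) :=
    isArtinian_of_tower B (isFiniteLength_iff_isNoetherian_isArtinian.mp hfinB).2
  have halg : ∀ b : B, IsAlgebraic A b := isAlgebraic_of_finiteDimensional K L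
  haveI hfinMS : Finite (MaximalSpectrum B) := finite_maximalSpectrum halg hx
  -- the sum
  have hsum : (∑ᶠ m : MaximalSpectrum B,
          Module.length A (B ⧸ m.asIdeal) *
            Module.length (Localization.AtPrime m.asIdeal)
              (Localization.AtPrime m.asIdeal ⧸
                Ideal.span ({algebraMap A (Localization.AtPrime m.asIdeal) x} : Set _))) =
      Module.length A (B ⧸ I) := by
    rw [sum_ell_mul A (B ⧸ I) hfinB]
    refine finsum_congr fun m => ?_
    congr 1
    haveI := m.isMaximal.isPrime
    have h1 := ell_coker m.asIdeal (Module.Basis.singleton Unit B) (y • LinearMap.id)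
      (by rw [det_smul_id]; exact mem_nonZeroDivisors_of_ne_zero hy0)
    rw [det_smul_id] at h1
    rw [ell_eq_of_linearEquiv (Submodule.quotEquivOfEq _ _ (range_smul_id y)) m.asIdeal] at h1
    rw [h1, Ring.ord, hy, ← IsScalarTower.algebraMap_apply]
  refine ⟨hfinMS, ?_, ?_⟩
  · rw [hsum]
    exact hle
  · rw [hsum, hlenT]
    constructor
    · intro heq
      exact finite_of_length_quot_sm_eq e he hM x hx0 hx hxM heq
    · intro hfin
      exact length_quot_sm_eq_of_finite e he hM x hxM

end Groth.Agent.S9136
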