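import Groth.Statements.S9137
import Mathlib

set_option autoImplicit false
universe u
open CAlg

namespace Groth.Agent.S9137

open IsLocalRing in
/-- The closed fibre `S/m_R S` is a finite `R`-module. -/
theorem finite_fibre (R S : Type u) [CommRing R] [CommRing S]
    [IsLocalRing R] [IsLocalRing S] [Algebra R S] [IsLocalHom (algebraMap R S)]
    [Algebra.EssFiniteType R S]
    (hres : Module.Finite (IsLocalRing.ResidueField R) (IsLocalRing.ResidueField S))
    (hdim : ringKrullDim (S ⧸ (IsLocalRing.maximalIdeal R).map (algebraMap R S)) = 0) :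
    Module.Finite R (S ⧸ (IsLocalRing.maximalIdeal R).map (algebraMap R S)) := by
  set I := (maximalIdeal R).map (algebraMap R S) with hI
  have hIm : I ≤ maximalIdeal S := by
    rw [hI, Ideal.map_le_iff_le_comap]
    intro x hx
    exact map_nonunit (algebraMap R S) x hx
  have hIne : I ≠ ⊤ := fun h => (maximalIdeal.isMaximal S).ne_top (top_le_iff.mp (h ▸ hIm))
  have : Nontrivial (S ⧸ I) := Ideal.Quotient.nontrivial_iff.mpr hIne
  have : IsLocalRing (S ⧸ I) :=
    IsLocalRing.of_surjective' (Ideal.Quotient.mk I) Ideal.Quotient.mk_surjective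
  -- Noetherian
  let : Field (R ⧸ maximalIdeal R) := Ideal.Quotient.field (maximalIdeal R)
  have : Algebra.EssFiniteType R (S ⧸ I) := Algebra.EssFiniteType.comp R S (S ⧸ I)
  have : Algebra.EssFiniteType (R ⧸ maximalIdeal R) (S ⧸ I) :=
    Algebra.EssFiniteType.of_comp R (R ⧸ maximalIdeal R) (S ⧸ I)
  have : IsNoetherianRing (S ⧸ I) :=
    Algebra.EssFiniteType.isNoetherianRing (R ⧸ maximalIdeal R) (S ⧸ I)
  have : Ring.KrullDimLE 0 (S ⧸ I) := by
    rw [Ring.krullDimLE_iff]
    exact hdim.le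
  have : IsArtinianRing (S ⧸ I) :=
    isArtinianRing_iff_isNoetherianRing_krullDimLE_zero.mpr ⟨inferInstance, inferInstance⟩
  -- residue field
  have : Module.Finite R (ResidueField S) := Module.Finite.trans (ResidueField R) (ResidueField S)
  have hle : maximalIdeal S ≤ (Ring.jacobson (S ⧸ I)).comap (Ideal.Quotient.mkₐ R I) := by
    rw [ringJacobson_eq_maximalIdeal]
    intro x hx
    rw [Ideal.mem_comap]
    intro hu
    have : IsLocalHom (Ideal.Quotient.mk I) :=
      IsLocalHom.of_surjective _ Ideal.Quotient.mk_surjective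
    exact hx (isUnit_of_map_unit (Ideal.Quotient.mk I) x hu)
  have : Module.Finite R ((S ⧸ I) ⧸ Ring.jacobson (S ⧸ I)) := by
    let φ : (S ⧸ maximalIdeal S) →ₐ[R] ((S ⧸ I) ⧸ Ring.jacobson (S ⧸ I)) :=
      Ideal.quotientMapₐ (Ring.jacobson (S ⧸ I)) (Ideal.Quotient.mkₐ R I) hle
    have hφ : Function.Surjective φ :=
      Ideal.quotientMap_surjective (H := hle) (Ideal.Quotient.mk_surjective)
    have h0 : Module.Finite R (S ⧸ maximalIdeal S) := ‹Module.Finite R (ResidueField S)›
    exact Module.Finite.of_surjective φ.toLinearMap hφ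
  exact IsSemiprimaryRing.finite_of_isArtinian R (S ⧸ I) (S ⧸ I)


/-- Let R → S be a local ring homomorphism between local rings, essentially of finite type, such that
the residue field of S is finite over that of R and S/m_R S has dimension zero. Then S is, as an
R-algebra, the localization of a finite R-algebra at a prime. -/
theorem result (R S : Type u) [CommRing R] [CommRing S]
    [IsLocalRing R] [IsLocalRing S] [Algebra R S] [IsLocalHom (algebraMap R S)]
    [Algebra.EssFiniteType R S]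
    (hres : Module.Finite (IsLocalRing.ResidueField R) (IsLocalRing.ResidueField S))
    (hdim : ringKrullDim (S ⧸ (IsLocalRing.maximalIdeal R).map (algebraMap R S)) = 0) :
    ∃ (S' : Type u) (_ : CommRing S') (_ : Algebra R S') (_ : Algebra S' S) (_ : IsScalarTower R S' S)
      (q : Ideal S') (_ : q.IsPrime), Module.Finite R S' ∧ IsLocalization.AtPrime S q := by
  classical
  have hfin := finite_fibre R S hres hdim
  obtain ⟨T₀, hT₀def⟩ : ∃ T₀ : Subalgebra R S, T₀ = Algebra.EssFiniteType.subalgebra R S :=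
    ⟨_, rfl⟩
  have hft : Algebra.FiniteType R T₀ := by rw [hT₀def]; infer_instance
  obtain ⟨q, hqdef⟩ : ∃ q : Ideal T₀, q = (IsLocalRing.maximalIdeal S).comap (algebraMap T₀ S) :=
    ⟨_, rfl⟩
  have hqprime : q.IsPrime := by rw [hqdef]; infer_instance
  have hmemq : ∀ x : T₀, x ∈ q ↔ ¬ IsUnit (x : S) := by
    intro x
    rw [hqdef, Ideal.mem_comap, IsLocalRing.mem_maximalIdeal]
    rfl
  have hloc : IsLocalization.AtPrime S q := by
    have h1 : IsLocalization (Algebra.EssFiniteType.submonoid R S) S :=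
      Algebra.EssFiniteType.isLocalization R S
    subst hT₀def
    have hM : Algebra.EssFiniteType.submonoid R S = q.primeCompl := by
      ext x
      rw [Ideal.mem_primeCompl_iff, hmemq, not_not]
      rfl
    rw [hM] at h1
    exact h1
  have hqu : q.under R = IsLocalRing.maximalIdeal R := by
    rw [hqdef, Ideal.under, Ideal.comap_comap, ← IsScalarTower.algebraMap_eq]
    exact ((IsLocalRing.local_hom_TFAE (algebraMap R S)).out 0 4).mp ‹_›
  have hwq : Algebra.WeaklyQuasiFiniteAt R q := by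
    rw [Algebra.weaklyQuasiFiniteAt_iff]
    let e : Localization.AtPrime q ≃ₐ[R] S :=
      (IsLocalization.algEquiv q.primeCompl (Localization.AtPrime q) S).restrictScalars R
    have hmap : (IsLocalRing.maximalIdeal R).map (algebraMap R S) =
        ((q.under R).map (algebraMap R (Localization.AtPrime q))).map
          (e : Localization.AtPrime q →+* S) := by
      rw [hqu, Ideal.map_map]
      congr 1
      ext x
      simp
    let e' := Ideal.quotientEquivAlg _ _ e hmap
    have : Algebra.QuasiFinite R (S ⧸ (IsLocalRing.maximalIdeal R).map (algebraMap R S)) :=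
      inferInstance
    exact (Algebra.QuasiFinite.iff_of_algEquiv e').mpr this
  obtain ⟨S₁, hfg, r, hrq, hbij⟩ :=
    Algebra.QuasiFiniteAt.exists_fg_and_exists_notMem_and_awayMap_bijective (R := R) q
  have hkey : ∀ z : T₀, ∃ (b : S₁) (m : ℕ), (b : T₀) = (r : T₀) ^ m * z := by
    have := Localization.awayMap_surjective_iff.mp hbij.2
    intro z
    obtain ⟨b, m, hbm⟩ := this z
    exact ⟨b, m, hbm⟩
  -- the finite subalgebra of `S`
  obtain ⟨S₂, hS₂def⟩ : ∃ S₂ : Subalgebra R S, S₂ = S₁.map T₀.val := ⟨_, rfl⟩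
  have hmemS₂ : ∀ y : S₁, ((y : T₀) : S) ∈ S₂ := by
    intro y
    rw [hS₂def]
    exact ⟨y.1, y.2, rfl⟩
  have hfinS₂ : Module.Finite R S₂ := by
    have h1 : S₂.toSubmodule = S₁.toSubmodule.map T₀.val.toLinearMap := by
      rw [hS₂def]; exact Subalgebra.map_toSubmodule
    have h2 : (S₁.toSubmodule.map T₀.val.toLinearMap).FG := hfg.map _
    rw [← h1] at h2
    exact ⟨(Submodule.fg_top _).mpr h2⟩
  obtain ⟨q₂, hq₂def⟩ : ∃ q₂ : Ideal S₂,
      q₂ = (IsLocalRing.maximalIdeal S).comap (algebraMap S₂ S) := ⟨_, rfl⟩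
  have hq₂prime : q₂.IsPrime := by rw [hq₂def]; infer_instance
  have hmemq₂ : ∀ x : S₂, x ∈ q₂ ↔ ¬ IsUnit (x : S) := by
    intro x
    rw [hq₂def, Ideal.mem_comap, IsLocalRing.mem_maximalIdeal]
    rfl
  refine ⟨S₂, inferInstance, inferInstance, inferInstance, inferInstance, q₂, hq₂prime,
    hfinS₂, ?_⟩
  have hrunit : IsUnit (((r : S₁) : T₀) : S) := by
    have := (hmemq (r : T₀)).not.mp hrq
    rwa [not_not] at this
  rw [IsLocalization.AtPrime, isLocalization_iff]
  refine ⟨?_, ?_, ?_⟩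
  · rintro ⟨y, hy⟩
    have := (hmemq₂ y).not.mp hy
    rwa [not_not] at this
  · intro s
    obtain ⟨⟨y₀, u₀⟩, hyu⟩ := IsLocalization.surj q.primeCompl s
    simp only at hyu
    obtain ⟨b₁, m₁, hb₁⟩ := hkey y₀
    obtain ⟨b₂, m₂, hb₂⟩ := hkey (u₀ : T₀)
    have hu₀ : IsUnit (((u₀ : T₀)) : S) := by
      have := (hmemq (u₀ : T₀)).not.mp u₀.2
      rwa [not_not] at this
    have hY : (((b₁ * r ^ m₂ : S₁) : T₀) : S) ∈ S₂ := hmemS₂ _
    have hU : (((b₂ * r ^ m₁ : S₁) : T₀) : S) ∈ S₂ := hmemS₂ _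
    have hUval : (((b₂ * r ^ m₁ : S₁) : T₀) : S) =
        (((r : S₁) : T₀) : S) ^ m₂ * ((u₀ : T₀) : S) * (((r : S₁) : T₀) : S) ^ m₁ := by
      have := congrArg (fun t : T₀ => (t : S)) hb₂
      simp only [Subalgebra.coe_mul, Subalgebra.coe_pow] at this ⊢
      rw [this]
    have hYval : (((b₁ * r ^ m₂ : S₁) : T₀) : S) =
        (((r : S₁) : T₀) : S) ^ m₁ * ((y₀ : T₀) : S) * (((r : S₁) : T₀) : S) ^ m₂ := by
      have := congrArg (fun t : T₀ => (t : S)) hb₁
      simp only [Subalgebra.coe_mul, Subalgebra.coe_pow] at this ⊢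
      rw [this]
    have hUunit : IsUnit (((b₂ * r ^ m₁ : S₁) : T₀) : S) := by
      rw [hUval]
      exact ((hrunit.pow _).mul hu₀).mul (hrunit.pow _)
    refine ⟨⟨⟨_, hY⟩, ⟨⟨_, hU⟩, ?_⟩⟩, ?_⟩
    · rw [Ideal.mem_primeCompl_iff, hmemq₂, not_not]
      exact hUunit
    · change s * (((b₂ * r ^ m₁ : S₁) : T₀) : S) = (((b₁ * r ^ m₂ : S₁) : T₀) : S)
      rw [hUval, hYval]
      have hyu' : s * ((u₀ : T₀) : S) = ((y₀ : T₀) : S) := hyu
      rw [← hyu']
      ring
  · intro x y hxy
    refine ⟨1, ?_⟩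
    have : x = y := Subtype.ext hxy
    rw [this]

end Groth.Agent.S9137
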