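import Groth.Statements.S9139
import Groth.Agent.Lib.NilNakayama

set_option autoImplicit false
universe u
open CAlg

namespace Groth.Agent.S9139

/-- Let I be a locally nilpotent ideal of a ring R (every element of I is nilpotent) and S → S' a map of
R-algebras with S' of finite type over R. If S → S'/IS' is surjective then so is S → S'. -/
theorem result (R S S' : Type u) [CommRing R] [CommRing S]
    [CommRing S'] [Algebra R S] [Algebra R S'] [Algebra.FiniteType R S'] (I : Ideal R)
    (hI : ∀ x ∈ I, IsNilpotent x) (f : S →ₐ[R] S')
    (hf : Function.Surjective ((Ideal.Quotient.mk (I.map (algebraMap R S'))).comp f.toRingHom)) :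
    Function.Surjective f := by
  refine Groth.Agent.Lib.NilNakayama.surjective_of_surjective_mod_nil I hI f fun y ↦ ?_
  obtain ⟨s, hs⟩ := hf (Ideal.Quotient.mk _ y)
  refine ⟨s, ?_⟩
  rw [← Ideal.Quotient.eq]
  exact hs.symm

end Groth.Agent.S9139
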