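import Groth.Statements.S9140
import Groth.Agent.Lib.NilNakayama
import Mathlib.RingTheory.Flat.Equalizer
import Mathlib.RingTheory.Nakayama
import Mathlib.RingTheory.Nilpotent.Basic
import Mathlib.RingTheory.FinitePresentation
import Mathlib.LinearAlgebra.TensorProduct.Quotient

set_option autoImplicit false
universe u
open CAlg

namespace Groth.Agent.S9140

open TensorProduct

/-- If `S'` is `R`-flat and `f : S → S'` a surjective `R`-linear map, then
`ker f ∩ I S ≤ I (ker f)`. -/
theorem mem_smul_ker_of_flat {R S S' : Type u} [CommRing R] [AddCommGroup S] [AddCommGroup S']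
    [Module R S] [Module R S'] [Module.Flat R S'] (I : Ideal R) (f : S →ₗ[R] S')
    (hf : Function.Surjective f) (k : S) (hk : k ∈ LinearMap.ker f)
    (hkI : k ∈ I • (⊤ : Submodule R S)) :
    k ∈ I • LinearMap.ker f := by
  have hinj := LinearMap.lTensor_injective_of_exact_of_flat f hf (LinearMap.ker f).subtype
    (LinearMap.ker f).subtype_injective (LinearMap.exact_subtype_ker_map f) (R ⧸ I)
  let k' : LinearMap.ker f := ⟨k, hk⟩
  have h0 : ((1 : R ⧸ I) ⊗ₜ[R] k' : (R ⧸ I) ⊗[R] LinearMap.ker f) = 0 := by
    apply hinj
    rw [map_zero, LinearMap.lTensor_tmul]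
    apply (TensorProduct.quotTensorEquivQuotSMul S I).injective
    rw [map_zero]
    show TensorProduct.quotTensorEquivQuotSMul S I ((Ideal.Quotient.mk I 1) ⊗ₜ[R] k) = 0
    rw [TensorProduct.quotTensorEquivQuotSMul_mk_tmul, one_smul]
    exact (Submodule.Quotient.mk_eq_zero _).mpr hkI
  have h1 := congrArg (TensorProduct.quotTensorEquivQuotSMul (LinearMap.ker f) I) h0
  rw [map_zero] at h1
  change TensorProduct.quotTensorEquivQuotSMul _ I ((Ideal.Quotient.mk I 1) ⊗ₜ[R] k') = 0 at h1
  rw [TensorProduct.quotTensorEquivQuotSMul_mk_tmul, one_smul,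
    Submodule.Quotient.mk_eq_zero] at h1
  -- h1 : k' ∈ I • ⊤
  have : (I • (⊤ : Submodule R (LinearMap.ker f))).map (LinearMap.ker f).subtype
      = I • LinearMap.ker f := by
    rw [Submodule.map_smul'', Submodule.map_top, Submodule.range_subtype]
  rw [← this]
  exact ⟨k', h1, rfl⟩

/-- Let I be a locally nilpotent ideal of a ring R and S → S' a map of R-algebras with S of finite type
over R and S' of finite presentation and flat over R. If the induced map S/IS → S'/IS' is bijective
(stated as: S → S'/IS' is surjective with kernel IS), then S → S' is bijective. -/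
theorem result (R S S' : Type u)
    [CommRing R] [CommRing S] [CommRing S'] [Algebra R S] [Algebra R S'] [Algebra.FiniteType R S]
    [Algebra.FinitePresentation R S'] [Module.Flat R S'] (I : Ideal R) (hI : ∀ x ∈ I, IsNilpotent x)
    (f : S →ₐ[R] S')
    (hsurj : Function.Surjective ((Ideal.Quotient.mk (I.map (algebraMap R S'))).comp f.toRingHom))
    (hker : ∀ s : S, f s ∈ I.map (algebraMap R S') → s ∈ I.map (algebraMap R S)) :
    Function.Bijective f := by
  have hfs : Function.Surjective f := by
    refine Groth.Agent.Lib.NilNakayama.surjective_of_surjective_mod_nil I hI f fun y ↦ ?_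
    obtain ⟨s, hs⟩ := hsurj (Ideal.Quotient.mk _ y)
    refine ⟨s, ?_⟩
    rw [← Ideal.Quotient.eq]
    exact hs.symm
  refine ⟨?_, hfs⟩
  -- the kernel is finitely generated
  have hKfg : (RingHom.ker f.toRingHom).FG := by
    algebraize [f.toRingHom]
    have : IsScalarTower R S S' := IsScalarTower.of_algebraMap_eq' (by
      ext r
      rw [RingHom.algebraMap_toAlgebra, RingHom.comp_apply]
      exact (f.commutes r).symm)
    have : Algebra.FinitePresentation S S' :=
      Algebra.FinitePresentation.of_restrict_scalars_finitePresentation R S S'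
    have := Algebra.FinitePresentation.ker_fG_of_surjective (Algebra.ofId S S') hfs
    exact this
  -- the kernel satisfies `K ≤ (I S) K`
  have hle : RingHom.ker f.toRingHom ≤
      (I.map (algebraMap R S)) • (RingHom.ker f.toRingHom) := by
    intro k hk
    have hk0 : f k = 0 := hk
    have hkI : k ∈ I.map (algebraMap R S) := hker k (by rw [hk0]; exact zero_mem _)
    have h := mem_smul_ker_of_flat I f.toLinearMap hfs k hk0 (by
      rw [Ideal.smul_top_eq_map]; exact hkI)
    -- `I • K ≤ (I S) • K`
    refine Submodule.smul_induction_on h (fun a ha x hx ↦ ?_) fun x y hx hy ↦ add_mem hx hy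
    have hax : a • x = algebraMap R S a • x := by rw [Algebra.smul_def, smul_eq_mul]
    rw [hax]
    exact Submodule.smul_mem_smul (Ideal.mem_map_of_mem (algebraMap R S) ha)
      (show x ∈ RingHom.ker f.toRingHom from hx)
  have hjac : I.map (algebraMap R S) ≤ Ideal.jacobson ⊥ := by
    rw [Ideal.map_le_iff_le_comap]
    intro a ha
    rw [Ideal.mem_comap, Ideal.mem_jacobson_bot]
    intro y
    have hnil : IsNilpotent (algebraMap R S a) := (hI a ha).map _
    exact IsNilpotent.isUnit_add_one ((Commute.all _ y).isNilpotent_mul_right hnil)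
  have hbot : RingHom.ker f.toRingHom = ⊥ :=
    Submodule.eq_bot_of_le_smul_of_le_jacobson_bot _ _ hKfg hle hjac
  exact (RingHom.injective_iff_ker_eq_bot f.toRingHom).mpr hbot

end Groth.Agent.S9140
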