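import Groth.Statements.S9146
import Groth.Agent.Lib.GlobalCI
import Mathlib.RingTheory.RingHom.Flat
import Mathlib.RingTheory.RingHom.FinitePresentation
import Mathlib.RingTheory.Localization.BaseChange

set_option autoImplicit false
universe u
open Synt

namespace Groth.Agent.S9146

open TensorProduct

/-- Being syntomic is local on the target ring: if finitely many elements of S generating the unit ideal
have syntomic localizations R → S_g, then R → S is syntomic. -/
theorem result (R S : Type u) [CommRing R] [CommRing S] [Algebra R S]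
    (s : Finset S) (hs : Ideal.span (s : Set S) = ⊤)
    (h : ∀ g ∈ s, Synt.IsSyntomic R (Localization.Away g)) : Synt.IsSyntomic R S := by
  have hflat : Module.Flat R S := by
    rw [← RingHom.flat_algebraMap_iff]
    refine RingHom.Flat.ofLocalizationSpanTarget (algebraMap R S) (s : Set S) hs fun r ↦ ?_
    rw [← IsScalarTower.algebraMap_eq]
    exact RingHom.flat_algebraMap_iff.mpr (h r.1 r.2).1
  have hfp : Algebra.FinitePresentation R S := by
    rw [← RingHom.finitePresentation_algebraMap]
    refine RingHom.finitePresentation_ofLocalizationSpanTarget (algebraMap R S) (s : Set S) hs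
      fun r ↦ ?_
    rw [← IsScalarTower.algebraMap_eq]
    exact RingHom.finitePresentation_algebraMap.mpr (h r.1 r.2).2.1
  refine ⟨hflat, hfp, fun p ↦ ?_⟩
  have hft : Algebra.FiniteType R S := inferInstance
  have : Algebra.FiniteType p.asIdeal.ResidueField (p.asIdeal.Fiber S) := inferInstance
  refine Groth.Agent.Lib.GlobalCI.isLCIOver_of_cover fun q ↦ ?_
  -- some `1 ⊗ g`, `g ∈ s`, lies outside `q`
  have hex : ∃ g ∈ s, ((1 : p.asIdeal.ResidueField) ⊗ₜ[R] g : p.asIdeal.Fiber S) ∉ q.asIdeal := by
    by_contra hcon
    replace hcon : ∀ g ∈ s, ((1 : p.asIdeal.ResidueField) ⊗ₜ[R] g : p.asIdeal.Fiber S) ∈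
        q.asIdeal := by
      intro g hg
      by_contra hn
      exact hcon ⟨g, hg, hn⟩
    have hle : (Ideal.span (s : Set S)).map
        (Algebra.TensorProduct.includeRight (R := R) (A := p.asIdeal.ResidueField)
          (B := S)).toRingHom ≤ q.asIdeal := by
      rw [Ideal.map_span, Ideal.span_le]
      rintro _ ⟨g, hg, rfl⟩
      exact hcon g hg
    rw [hs, Ideal.map_top] at hle
    exact q.isPrime.ne_top (top_le_iff.mp hle)
  obtain ⟨g, hg, hgq⟩ := hex
  refine ⟨_, hgq, ?_⟩
  have hLCI := (h g hg).2.2 p
  exact Groth.Agent.Lib.GlobalCI.isLCIOver_of_algEquiv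
    (IsLocalization.Away.tensorProductEquivTMulRight R p.asIdeal.ResidueField g
      (Localization.Away g)) hLCI

end Groth.Agent.S9146
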