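import Groth.Statements.S9149
import Groth.Agent.Lib.GlobalCI
import Mathlib.RingTheory.AdjoinRoot
import Mathlib.RingTheory.Flat.FaithfullyFlat.Basic
import Mathlib.RingTheory.Spectrum.Prime.Noetherian
import Mathlib.RingTheory.KrullDimension.Zero
import Mathlib.RingTheory.Artinian.Algebra

set_option autoImplicit false
universe u
open Synt

namespace Groth.Agent.S9149

open Polynomial TensorProduct

/-- An algebra with a presentation having as many relations as generators which is moreover finite,
free and faithfully flat as a module. -/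
structure Good (A A' : Type u) [CommRing A] [CommRing A'] [Algebra A A'] : Prop where
  pres : ∃ m : ℕ, Nonempty (Algebra.Presentation A A' (Fin m) (Fin m))
  finite : Module.Finite A A'
  free : Module.Free A A'
  ff : Module.FaithfullyFlat A A'

theorem Good.refl (A : Type u) [CommRing A] : Good A A :=
  ⟨⟨0, ⟨(Algebra.Presentation.id.{0, 0} A).reindex (Equiv.equivOfIsEmpty _ _)
    (Equiv.equivOfIsEmpty _ _)⟩⟩, inferInstance, inferInstance, inferInstance⟩

theorem Good.trans {A B C : Type u} [CommRing A] [CommRing B] [CommRing C] [Algebra A B]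
    [Algebra B C] [Algebra A C] [IsScalarTower A B C] (h1 : Good A B) (h2 : Good B C) :
    Good A C := by
  obtain ⟨⟨m, ⟨P⟩⟩, f1, fr1, ff1⟩ := h1
  obtain ⟨⟨m', ⟨Q⟩⟩, f2, fr2, ff2⟩ := h2
  exact ⟨⟨m' + m, ⟨(Q.comp P).reindex finSumFinEquiv.symm finSumFinEquiv.symm⟩⟩,
    Module.Finite.trans B C, Module.Free.trans (S := B), Module.FaithfullyFlat.trans A B C⟩

theorem nontrivial_adjoinRoot {A : Type u} [CommRing A] [Nontrivial A] (P : A[X]) (hP : P.Monic)
    (hdeg : P.natDegree ≠ 0) : Nontrivial (AdjoinRoot P) := by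
  have hi : 0 < (AdjoinRoot.powerBasis' hP).dim := by
    rw [AdjoinRoot.powerBasis'_dim]; omega
  exact ⟨(AdjoinRoot.powerBasis' hP).basis ⟨0, hi⟩, 0,
    (AdjoinRoot.powerBasis' hP).basis.ne_zero _⟩

theorem good_adjoinRoot {A : Type u} [CommRing A] (P : A[X]) (hP : P.Monic)
    (hdeg : P.natDegree ≠ 0) : Good A (AdjoinRoot P) := by
  have hfree : Module.Free A (AdjoinRoot P) := hP.free_adjoinRoot
  have hfin : Module.Finite A (AdjoinRoot P) := hP.finite_adjoinRoot
  refine ⟨⟨1, ?_⟩, hfin, hfree, ?_⟩
  · let e : MvPolynomial (Fin 1) A ≃ₐ[A] A[X] := MvPolynomial.uniqueAlgEquiv A (Fin 1)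
    let φ : MvPolynomial (Fin 1) A →ₐ[A] AdjoinRoot P :=
      (Ideal.Quotient.mkₐ A (Ideal.span {P})).comp e.toAlgHom
    have hφ : Function.Surjective φ :=
      (Ideal.Quotient.mkₐ_surjective A _).comp e.surjective
    refine ⟨{ toGenerators := Algebra.Generators.ofAlgHom φ hφ
              relation := fun _ ↦ e.symm P
              span_range_relation_eq_ker := ?_ }⟩
    rw [Algebra.Generators.ker_ofAlgHom, Set.range_const]
    ext x
    rw [Ideal.mem_span_singleton, RingHom.mem_ker]
    change e.symm P ∣ x ↔ Ideal.Quotient.mk (Ideal.span {P}) (e x) = 0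
    rw [Ideal.Quotient.eq_zero_iff_mem, Ideal.mem_span_singleton]
    conv_rhs => rw [← e.apply_symm_apply P]
    exact (map_dvd_iff e).symm
  · rcases subsingleton_or_nontrivial A with h | h
    · exact ⟨fun m hm ↦ absurd (Subsingleton.elim m ⊤) hm.ne_top⟩
    · have : Nontrivial (AdjoinRoot P) := nontrivial_adjoinRoot P hP hdeg
      infer_instance

/-- A good algebra is syntomic. -/
theorem Good.isSyntomic {A A' : Type u} [CommRing A] [CommRing A'] [Algebra A A']
    (h : Good A A') : Synt.IsSyntomic A A' := by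
  obtain ⟨⟨m, ⟨P⟩⟩, hfin, hfree, hff⟩ := h
  have hfp : Algebra.FinitePresentation A A' := P.finitePresentation_of_isFinite
  refine ⟨inferInstance, hfp, fun p ↦ ?_⟩
  have : Algebra.FiniteType p.asIdeal.ResidueField (p.asIdeal.Fiber A') := inferInstance
  apply Groth.Agent.Lib.GlobalCI.isLCIOver_of_isGlobalCI
  refine Groth.Agent.Lib.GlobalCI.isGlobalCI_of_presentation (P.baseChange p.asIdeal.ResidueField)
    le_rfl ?_
  rcases subsingleton_or_nontrivial (p.asIdeal.Fiber A') with h | h
  · exact Or.inl h
  · right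
    have : Module.Finite p.asIdeal.ResidueField (p.asIdeal.Fiber A') := inferInstance
    have : IsArtinianRing (p.asIdeal.Fiber A') :=
      IsArtinianRing.of_finite p.asIdeal.ResidueField _
    have h0 : Ring.KrullDimLE 0 (p.asIdeal.Fiber A') := inferInstance
    rw [Nat.sub_self, Nat.cast_zero]
    exact ringKrullDimZero_iff_ringKrullDim_eq_zero.mp h0

/-- The key inductive statement. -/
theorem exists_good_splitting (d : ℕ) : ∀ (A : Type u) [CommRing A] (P : A[X]), P.Monic →
    P.natDegree = d →
    ∃ (A' : Type u) (_ : CommRing A') (_ : Algebra A A'), Good A A' ∧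
      ∃ s : Multiset A', P.map (algebraMap A A') = (s.map fun b => X - C b).prod := by
  induction d with
  | zero =>
    intro A _ P hP hd
    refine ⟨A, inferInstance, inferInstance, Good.refl A, 0, ?_⟩
    rw [Polynomial.eq_one_of_monic_natDegree_zero hP hd]
    simp
  | succ d ih =>
    intro A _ P hP hd
    rcases subsingleton_or_nontrivial A with hA | hA
    · exact ⟨A, inferInstance, inferInstance, Good.refl A, 0, Subsingleton.elim _ _⟩
    have hnt : Nontrivial (AdjoinRoot P) := nontrivial_adjoinRoot P hP (by omega)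
    -- adjoin a root
    have h1 : Good A (AdjoinRoot P) := good_adjoinRoot P hP (by omega)
    let a : AdjoinRoot P := AdjoinRoot.root P
    let Q : (AdjoinRoot P)[X] := P.map (algebraMap A (AdjoinRoot P))
    have hQ : Q.Monic := hP.map _
    have hroot : Q.IsRoot a := by
      rw [IsRoot, eval_map, AdjoinRoot.algebraMap_eq]
      exact AdjoinRoot.eval₂_root P
    let P₁ : (AdjoinRoot P)[X] := Q /ₘ (X - C a)
    have hmul : (X - C a) * P₁ = Q := mul_divByMonic_eq_iff_isRoot.mpr hroot
    have hP₁ : P₁.Monic := (monic_X_sub_C a).of_mul_monic_left (hmul ▸ hQ)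
    have hd₁ : P₁.natDegree = d := by
      have hQd : Q.natDegree = P.natDegree := hP.natDegree_map _
      rw [natDegree_divByMonic _ (monic_X_sub_C a), natDegree_X_sub_C, hQd]
      omega
    obtain ⟨A', _, _, h2, s, hs⟩ := ih (AdjoinRoot P) P₁ hP₁ hd₁
    let _ : Algebra A A' := ((algebraMap (AdjoinRoot P) A').comp (algebraMap A (AdjoinRoot P))).toAlgebra
    have : IsScalarTower A (AdjoinRoot P) A' := IsScalarTower.of_algebraMap_eq' rfl
    refine ⟨A', inferInstance, inferInstance, h1.trans h2, algebraMap _ A' a ::ₘ s, ?_⟩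
    rw [IsScalarTower.algebraMap_eq A (AdjoinRoot P) A', ← Polynomial.map_map]
    change Q.map _ = _
    rw [← hmul, Polynomial.map_mul, hs, Multiset.map_cons, Multiset.prod_cons]
    simp

open Polynomial in
/-- A monic polynomial over a ring A splits into linear factors over some A-algebra A' that is syntomic,
finite free and faithfully flat over A. -/
theorem result (A : Type u) [CommRing A] (P : A[X]) (hP : P.Monic) :
    ∃ (A' : Type u) (_ : CommRing A') (_ : Algebra A A'),
      Synt.IsSyntomic A A' ∧ Module.Finite A A' ∧ Module.Free A A' ∧ Module.FaithfullyFlat A A' ∧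
        ∃ s : Multiset A', P.map (algebraMap A A') = (s.map fun b => X - C b).prod := by
  obtain ⟨A', i1, i2, hgood, hs⟩ := exists_good_splitting P.natDegree A P hP rfl
  exact ⟨A', i1, i2, hgood.isSyntomic, hgood.finite, hgood.free, hgood.ff, hs⟩

end Groth.Agent.S9149
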