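import Groth.Statements.S9151
import Groth.Agent.Lib.SyntLCI2
import Groth.Agent.Lib.ConormalKoszul32
import Groth.Agent.Lib.LCIComp
import Groth.Agent.S9269
import Mathlib.RingTheory.Extension.Cotangent.LocalizationAway

set_option autoImplicit false
universe u
open Synt

namespace Groth.Agent.S9151

/-- Let S = R[x_1, …, x_n]/I with I finitely generated and let g ∈ S be such that S_g is syntomic over
R. Then the localization (I/I²)_g of the conormal module is a finite projective S_g-module. -/
theorem result (R : Type u) [CommRing R] (n : ℕ)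
    (I : Ideal (MvPolynomial (Fin n) R)) (hI : I.FG) (g : MvPolynomial (Fin n) R ⧸ I)
    (hg : Synt.IsSyntomic R (Localization.Away g)) :
    Module.Finite (Localization.Away g) (LocalizedModule (Submonoid.powers g) I.Cotangent) ∧
      Module.Projective (Localization.Away g) (LocalizedModule (Submonoid.powers g) I.Cotangent) := by
  classical
  -- the presentation of `S = R[x]/I`
  have hsurj : Function.Surjective (MvPolynomial.aeval (R := R)
      (fun i : Fin n => Ideal.Quotient.mk I (MvPolynomial.X i))) := by
    intro s
    obtain ⟨p, rfl⟩ := Ideal.Quotient.mk_surjective s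
    refine ⟨p, ?_⟩
    have h1 : (MvPolynomial.aeval (R := R) (fun i : Fin n => Ideal.Quotient.mk I (MvPolynomial.X i))) =
        Ideal.Quotient.mkₐ R I := by
      apply MvPolynomial.algHom_ext
      intro i
      simp
    rw [h1]
    rfl
  let G : Algebra.Generators R (MvPolynomial (Fin n) R ⧸ I) (Fin n) :=
    Algebra.Generators.ofSurjective (fun i : Fin n => Ideal.Quotient.mk I (MvPolynomial.X i)) hsurj
  have hGalg : ∀ p : G.Ring, algebraMap G.Ring (MvPolynomial (Fin n) R ⧸ I) p = Ideal.Quotient.mk I p := by
    intro p
    rw [Algebra.Generators.algebraMap_apply]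
    have h1 : (MvPolynomial.aeval (R := R) G.val) = Ideal.Quotient.mkₐ R I := by
      apply MvPolynomial.algHom_ext
      intro i
      simp [G]
    rw [h1]
    rfl
  have hGker : G.toExtension.ker = I := by
    ext p
    change algebraMap G.Ring (MvPolynomial (Fin n) R ⧸ I) p = 0 ↔ p ∈ I
    rw [hGalg, Ideal.Quotient.eq_zero_iff_mem]
    exact Iff.rfl
  -- the composed presentation of the localization
  let Gc := (Algebra.Generators.localizationAway (Localization.Away g) g).comp G
  have hLCI : LCI.IsLCI R (Localization.Away g) := Groth.Agent.Lib.SyntLCI.isLCI_of_isSyntomic hg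
  have hK : LCI.IsKoszulRegularIdeal Gc.toExtension.ker := by
    obtain ⟨-, m, β, hβ, hKβ⟩ := hLCI
    let e := Fintype.equivFin (Unit ⊕ Fin n)
    let α' : MvPolynomial (Fin (Fintype.card (Unit ⊕ Fin n))) R →ₐ[R] Localization.Away g :=
      (MvPolynomial.aeval Gc.val).comp (MvPolynomial.rename e.symm)
    have hcomp : ∀ x : MvPolynomial (Unit ⊕ Fin n) R,
        α' (MvPolynomial.rename e x) = MvPolynomial.aeval Gc.val x := by
      intro x
      show MvPolynomial.aeval Gc.val (MvPolynomial.rename e.symm (MvPolynomial.rename e x)) = _
      rw [MvPolynomial.rename_rename]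
      simp
    have hα' : Function.Surjective α' := by
      intro t
      obtain ⟨x, hx⟩ := Gc.algebraMap_surjective t
      refine ⟨MvPolynomial.rename e x, ?_⟩
      rw [hcomp, ← hx, Algebra.Generators.algebraMap_apply]
    have hKα' := Groth.Agent.S9269.result R (Localization.Away g) m _ β hβ α' hα' hKβ
    have hker : Gc.toExtension.ker = (RingHom.ker α'.toRingHom).comap
        ((MvPolynomial.renameEquiv R e).toRingEquiv : MvPolynomial (Unit ⊕ Fin n) R →+* _) := by
      ext x
      change algebraMap Gc.Ring (Localization.Away g) x = 0 ↔ α' (MvPolynomial.rename e x) = 0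
      rw [hcomp, Algebra.Generators.algebraMap_apply]
    rw [hker]
    exact Groth.Agent.Lib.LCIComp.isKoszulRegularIdeal_comap_ringEquiv _ _ hKα'
  obtain ⟨hfin, hproj⟩ := Groth.Agent.Lib.ConormalKoszul32.finite_projective_cotangent
    Gc.toExtension hK
  -- the splitting of the conormal module of the composed presentation
  obtain ⟨x, hx⟩ := Algebra.Generators.Cotangent.surjective_map_ofComp
    (Algebra.Generators.localizationAway (Localization.Away g) g) G
    (Algebra.Generators.cMulXSubOneCotangent (Localization.Away g) g)
  let E := Algebra.Generators.cotangentCompLocalizationAwayEquiv g G hx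
  have hfin1 : Module.Finite (Localization.Away g)
      (TensorProduct (MvPolynomial (Fin n) R ⧸ I) (Localization.Away g) G.toExtension.Cotangent) :=
    Module.Finite.of_surjective
      ((LinearMap.fst _ _ _).comp E.toLinearMap) (by
        intro y
        refine ⟨E.symm (y, 0), ?_⟩
        simp)
  have hproj1 : Module.Projective (Localization.Away g)
      (TensorProduct (MvPolynomial (Fin n) R ⧸ I) (Localization.Away g) G.toExtension.Cotangent) :=
    Module.Projective.of_split
      (E.symm.toLinearMap.comp (LinearMap.inl _ _ _))
      ((LinearMap.fst _ _ _).comp E.toLinearMap) (by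
        ext y
        simp)
  -- identification with the localized conormal module
  let eP : G.toExtension.Cotangent ≃ₗ[G.Ring] I.Cotangent :=
    G.toExtension.cotangentEquivCotangentKer ≪≫ₗ Ideal.Cotangent.equivOfEq _ _ hGker
  let eS : G.toExtension.Cotangent ≃ₗ[MvPolynomial (Fin n) R ⧸ I] I.Cotangent :=
    { eP with
      map_smul' := fun s x => by
        obtain ⟨p, rfl⟩ := G.algebraMap_surjective s
        have h1 : (algebraMap G.Ring (MvPolynomial (Fin n) R ⧸ I) p) • x = (p : G.Ring) • x :=
          algebraMap_smul _ p x
        have h2 : ∀ y : I.Cotangent,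
            (algebraMap G.Ring (MvPolynomial (Fin n) R ⧸ I) p) • y = (p : G.Ring) • y := fun y => by
          rw [hGalg]
          exact @algebraMap_smul (MvPolynomial (Fin n) R) _ (MvPolynomial (Fin n) R ⧸ I) _
            (Ideal.Quotient.algebra _) I.Cotangent _ _ _ _ p y
        show eP ((algebraMap G.Ring (MvPolynomial (Fin n) R ⧸ I) p) • x) =
          (algebraMap G.Ring (MvPolynomial (Fin n) R ⧸ I) p) • eP x
        rw [h1, h2]
        exact eP.map_smul p x }
  let f₂ : G.toExtension.Cotangent →ₗ[MvPolynomial (Fin n) R ⧸ I]
      LocalizedModule (Submonoid.powers g) I.Cotangent :=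
    (LocalizedModule.mkLinearMap (Submonoid.powers g) I.Cotangent).comp eS.toLinearMap
  have hloc : IsLocalizedModule (Submonoid.powers g) f₂ :=
    IsLocalizedModule.of_linearEquiv_right (Submonoid.powers g)
      (LocalizedModule.mkLinearMap (Submonoid.powers g) I.Cotangent) eS
  have hbc : IsBaseChange (Localization.Away g) f₂ :=
    IsLocalizedModule.isBaseChange (Submonoid.powers g) (Localization.Away g) f₂
  exact ⟨Module.Finite.equiv hbc.equiv, Module.Projective.of_equiv hbc.equiv⟩

end Groth.Agent.S9151
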