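import Groth.Statements.S9152
import Groth.Agent.Lib.H8CMOpen

set_option autoImplicit false
universe u
open CAlg

namespace Groth.Agent.S9152

/-- The Cohen–Macaulay locus of a finite type algebra over a field is open. -/
theorem result (k S : Type u) [Field k] [CommRing S] [Algebra k S]
    [Algebra.FiniteType k S] :
    IsOpen {q : PrimeSpectrum S | LocCoh.IsCohenMacaulayLocalRing (Localization.AtPrime q.asIdeal)} := by
  classical
  obtain ⟨n, φ, hφ⟩ := Algebra.FiniteType.iff_quotient_mvPolynomial''.mp
    (inferInstance : Algebra.FiniteType k S)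
  haveI : IsRegularRing (MvPolynomial (Fin n) k) := inferInstance
  let e : (MvPolynomial (Fin n) k ⧸ RingHom.ker φ.toRingHom) ≃+* S :=
    RingHom.quotientKerEquivOfSurjective hφ
  have hopen := Groth.Agent.Lib.H8CMOpen.isOpen_CMLocus_quotient (RingHom.ker φ.toRingHom)
  have hcont := PrimeSpectrum.continuous_comap
    (e : (MvPolynomial (Fin n) k ⧸ RingHom.ker φ.toRingHom) →+* S)
  have hpre := hopen.preimage hcont
  have key : ∀ (q : Ideal S) [q.IsPrime]
      (Q : Ideal (MvPolynomial (Fin n) k ⧸ RingHom.ker φ.toRingHom)) [Q.IsPrime],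
      Q = Ideal.comap e q →
      (LocCoh.IsCohenMacaulayLocalRing (Localization.AtPrime Q) ↔
        LocCoh.IsCohenMacaulayLocalRing (Localization.AtPrime q)) := by
    intro q _ Q _ hQ
    subst hQ
    let e' : Localization.AtPrime (q.comap e) ≃+* Localization.AtPrime q :=
      IsLocalization.ringEquivOfRingEquiv
        (Localization.AtPrime (q.comap e)) (Localization.AtPrime q) e
        (e.map_primeCompl_comap_eq q)
    constructor
    · intro h
      exact Groth.Agent.Lib.CMRingEquiv96.isCohenMacaulayLocalRing_of_ringEquiv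
        (R := Localization.AtPrime (q.comap e)) (R' := Localization.AtPrime q) e'
    · intro h
      exact Groth.Agent.Lib.CMRingEquiv96.isCohenMacaulayLocalRing_of_ringEquiv
        (R' := Localization.AtPrime (q.comap e)) (R := Localization.AtPrime q) e'.symm
  convert hpre using 1
  ext q
  rw [Set.mem_preimage]
  exact (key q.asIdeal (PrimeSpectrum.comap
    (e : (MvPolynomial (Fin n) k ⧸ RingHom.ker φ.toRingHom) →+* S) q).asIdeal rfl).symm

end Groth.Agent.S9152
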