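import Groth.Statements.S9154
import Groth.Agent.Lib.H8LCICM2

set_option autoImplicit false
universe u
open CAlg

namespace Groth.Agent.S9154

/-- Let S be a Cohen–Macaulay finite type algebra over a field k, equidimensional of dimension d, and
f_1, …, f_i elements (i ≤ d) generating a proper ideal whose zero locus has dimension at most d − i.
Then that dimension equals d − i and the f_j form a regular sequence in S_q for every prime q
containing them. (The published statement also allows the f_j to generate the unit ideal, where the
zero locus is empty and the equality fails, e.g. f_1 = 1 in k[x]; this row assumes the ideal is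
proper.) -/
theorem result (k S : Type u) [Field k] [CommRing S] [Algebra k S]
    [Algebra.FiniteType k S] [LocCoh.IsCohenMacaulayRing S] (d : ℕ)
    (heq : ∀ p ∈ minimalPrimes S, ringKrullDim (S ⧸ p) = d) (f : List S) (hi : f.length ≤ d)
    (hne : Ideal.ofList f ≠ ⊤)
    (hle : ringKrullDim (S ⧸ Ideal.ofList f) ≤ ((d - f.length : ℕ) : WithBot ℕ∞)) :
    ringKrullDim (S ⧸ Ideal.ofList f) = ((d - f.length : ℕ) : WithBot ℕ∞) ∧
      ∀ (q : Ideal S) [q.IsPrime], Ideal.ofList f ≤ q →
        RingTheory.Sequence.IsRegular (Localization.AtPrime q)
          (f.map (algebraMap S (Localization.AtPrime q))) := by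
  have hB : ∀ (Q : Ideal S) [Q.IsPrime], (Q.height : WithBot ℕ∞) + ringKrullDim (S ⧸ Q) = d :=
    fun Q _ => Groth.Agent.Lib.H8LCICM.height_add_ringKrullDim_quotient_of_equidim k S d heq Q
  have hdim : ringKrullDim (S ⧸ Ideal.ofList f) + f.length ≤ d := by
    calc ringKrullDim (S ⧸ Ideal.ofList f) + f.length
        ≤ ((d - f.length : ℕ) : WithBot ℕ∞) + f.length := by gcongr
      _ = d := by
        have : (d - f.length) + f.length = d := by omega
        exact_mod_cast this
  refine ⟨le_antisymm hle ?_, fun q _ hq =>
    Groth.Agent.Lib.H8LCICM.isRegular_localization d hB f hdim q hq⟩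
  have : IsNoetherianRing S := Algebra.FiniteType.isNoetherianRing k S
  classical
  obtain ⟨Q, hQ⟩ := Ideal.nonempty_minimalPrimes hne
  have : Q.IsPrime := hQ.1.1
  have hht : Q.height ≤ f.length := by
    have hspan : Ideal.ofList f = Ideal.span (f.toFinset : Set S) := by
      unfold Ideal.ofList
      congr 1
      ext x
      simp
    rw [hspan] at hQ
    exact (Ideal.height_le_card_of_mem_minimalPrimes_span_finset hQ).trans
      (by exact_mod_cast List.toFinset_card_le f)
  have h1 := hB Q
  have h2 : ringKrullDim (S ⧸ Q) ≤ ringKrullDim (S ⧸ Ideal.ofList f) :=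
    ringKrullDim_le_of_surjective (Ideal.Quotient.factor hQ.1.2)
      (Ideal.Quotient.factor_surjective hQ.1.2)
  refine le_trans ?_ h2
  generalize ringKrullDim (S ⧸ Q) = b at h1
  generalize Q.height = h at h1 hht
  induction b using WithBot.recBotCoe with
  | bot => simp at h1
  | coe b =>
    have h1' : h + b = (d : ℕ∞) := by exact_mod_cast h1
    suffices ((d - f.length : ℕ) : ℕ∞) ≤ b by
      have h' : (((d - f.length : ℕ) : ℕ∞) : WithBot ℕ∞) ≤ (b : WithBot ℕ∞) :=
        WithBot.coe_le_coe.mpr this
      exact h'
    induction h using ENat.recTopCoe with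
    | top => simp at h1'
    | coe h =>
      induction b using ENat.recTopCoe with
      | top => simp
      | coe b =>
        have g1 : h + b = d := by exact_mod_cast h1'
        have g2 : h ≤ f.length := by exact_mod_cast hht
        have : d - f.length ≤ b := by omega
        exact_mod_cast this

end Groth.Agent.S9154
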