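import Groth.Statements.S9155
import Groth.Agent.Lib.DiffOpExt50

set_option autoImplicit false
universe u
open Diff16

namespace Groth.Agent.S9155

section helpers

open TensorProduct Groth.Agent.Lib.DiffOpComm

variable {R S' : Type u} [CommRing R] [CommRing S'] [Algebra R S']

/-- precomposition of a differential operator with a linear map. -/
theorem isDiffOpLE_comp_linear_right {M' P' N' : Type u} [AddCommGroup M'] [Module S' M']
    [Module R M'] [IsScalarTower R S' M'] [AddCommGroup P'] [Module S' P'] [Module R P']
    [IsScalarTower R S' P'] [AddCommGroup N'] [Module S' N'] [Module R N'] [IsScalarTower R S' N']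
    (β : M' →ₗ[S'] P') (k : ℕ) (E : P' →ₗ[R] N') (hE : Diff16.IsDiffOpLE R S' P' N' k E) :
    Diff16.IsDiffOpLE R S' M' N' k (E ∘ₗ β.restrictScalars R) := by
  induction k generalizing E with
  | zero =>
    rw [isDiffOpLE_zero_iff] at *
    intro b m
    simp only [LinearMap.coe_comp, LinearMap.coe_restrictScalars, Function.comp_apply]
    rw [map_smul, hE]
  | succ k ih =>
    rw [isDiffOpLE_succ_iff] at *
    intro b
    have : Diff16.commutator R S' M' N' (E ∘ₗ β.restrictScalars R) b =
        Diff16.commutator R S' P' N' E b ∘ₗ β.restrictScalars R := by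
      ext m
      simp [commutator_apply]
    rw [this]
    exact ih _ (hE b)

end helpers

/-- A differential operator of order at most k between modules over B (relative to A → B) has exactly
one extension to the localized modules over S⁻¹B that is again a differential operator of order at
most k (relative to A → S⁻¹B), compatible with the localization maps. -/
theorem result (A B : Type u) [CommRing A] [CommRing B] [Algebra A B]
    (S : Submonoid B) (M N : Type u) [AddCommGroup M] [Module B M] [Module A M] [IsScalarTower A B M]
    [AddCommGroup N] [Module B N] [Module A N] [IsScalarTower A B N] (k : ℕ) (D : M →ₗ[A] N)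
    (hD : Diff16.IsDiffOpLE A B M N k D) :
    ∃! E : LocalizedModule S M →ₗ[A] LocalizedModule S N,
      Diff16.IsDiffOpLE A (Localization S) (LocalizedModule S M) (LocalizedModule S N) k E ∧
        E ∘ₗ (LocalizedModule.mkLinearMap S M).restrictScalars A =
          (LocalizedModule.mkLinearMap S N).restrictScalars A ∘ₗ D := by
  classical
  let ι : B →ₐ[A] Localization S := IsScalarTower.toAlgHom A B (Localization S)
  let j : N →ₗ[A] LocalizedModule S N := (LocalizedModule.mkLinearMap S N).restrictScalars A
  have hj : ∀ (b : B) (n : N), j (b • n) = ι b • j n := by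
    intro b n
    change LocalizedModule.mkLinearMap S N (b • n) =
      algebraMap B (Localization S) b • LocalizedModule.mkLinearMap S N n
    rw [map_smul, algebraMap_smul]
  have hjM : ∀ (b : B) (m : M), LocalizedModule.mkLinearMap S M (b • m) =
      algebraMap B (Localization S) b • LocalizedModule.mkLinearMap S M m := by
    intro b m
    rw [map_smul, algebraMap_smul]
  have hspan : Submodule.span (Localization S) (Set.range (LocalizedModule.mkLinearMap S M)) = ⊤ := by
    rw [eq_top_iff]
    rintro x -
    induction x using LocalizedModule.induction_on with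
    | h m s =>
      have : LocalizedModule.mk m s =
          (Localization.mk 1 s) • LocalizedModule.mkLinearMap S M m := by
        rw [LocalizedModule.mkLinearMap_apply, LocalizedModule.mk_smul_mk, one_smul, mul_one]
      rw [this]
      exact Submodule.smul_mem _ _ (Submodule.subset_span ⟨m, rfl⟩)
  have hE := Groth.Agent.Lib.DiffOpExt50.pow_le_ann A ι j hj k D hD
  obtain ⟨D', hD'1, hD'2⟩ :=
    Groth.Agent.Lib.DiffOpExt50.exists_extension A B (Localization S) k (j ∘ₗ D) hE
  have hbc : IsBaseChange (Localization S) (LocalizedModule.mkLinearMap S M) :=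
    IsLocalizedModule.isBaseChange S (Localization S) _
  let e := hbc.equiv
  have he : ∀ m : M, e.symm (LocalizedModule.mkLinearMap S M m) = (1 : Localization S) ⊗ₜ[B] m := by
    intro m
    rw [LinearEquiv.symm_apply_eq, IsBaseChange.equiv_tmul, one_smul]
  refine ⟨D' ∘ₗ (e.symm.toLinearMap).restrictScalars A,
    ⟨isDiffOpLE_comp_linear_right _ k D' hD'1, ?_⟩, ?_⟩
  · ext m
    simp only [LinearMap.coe_comp, LinearMap.coe_restrictScalars, Function.comp_apply,
      LinearEquiv.coe_coe]
    rw [he, hD'2]
    rfl
  · rintro E'' ⟨h1, h2⟩
    have hsub := Groth.Agent.Lib.DiffOpExt50.isDiffOpLE_sub h1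
      (isDiffOpLE_comp_linear_right (e.symm.toLinearMap) k D' hD'1)
    have hz := Groth.Agent.Lib.DiffOpExt50.eq_zero_of_vanish A B (Localization S)
      (fun m : M => LocalizedModule.mkLinearMap S M m) hjM hspan k _ hsub (by
        intro m
        have e1 := LinearMap.congr_fun h2 m
        simp only [LinearMap.coe_comp, LinearMap.coe_restrictScalars, Function.comp_apply,
          LinearMap.sub_apply, LinearEquiv.coe_coe] at e1 ⊢
        rw [e1, he, hD'2]
        simp [j])
    exact sub_eq_zero.mp hz

end Groth.Agent.S9155
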