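import Groth.Statements.S9156
import Groth.Agent.Lib.IdemDecomp89
import Groth.Agent.Lib.H8LCICM2
-- import your own Groth.Agent.* helpers here

set_option autoImplicit false
set_option linter.style.haveILetI false
universe u
open CAlg

namespace Groth.Agent.S9156

open LocCoh

section aux

variable (k S : Type u) [Field k] [CommRing S] [Algebra k S] [Algebra.FiniteType k S]
  [LocCoh.IsCohenMacaulayRing S]

include k in
/-- In a CM finite type algebra over a field, a maximal ideal containing a minimal prime `p` has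
height `dim S/p`. -/
theorem height_eq_of_minimalPrime_le (p : Ideal S) (hp : p ∈ minimalPrimes S) (m : Ideal S)
    [hm : m.IsMaximal] (hpm : p ≤ m) : (m.height : WithBot ℕ∞) = ringKrullDim (S ⧸ p) := by
  haveI : p.IsPrime := hp.1.1
  haveI : m.IsPrime := hm.isPrime
  haveI hq : (m.map (Ideal.Quotient.mk p)).IsPrime := Ideal.isPrime_map_quotientMk_of_isPrime hpm
  have hQ : (m.map (Ideal.Quotient.mk p)).comap (Ideal.Quotient.mk p) = m := by
    rw [Ideal.comap_map_of_surjective _ Ideal.Quotient.mk_surjective, ← RingHom.ker_eq_comap_bot,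
      Ideal.mk_ker, sup_eq_left]
    exact hpm
  have h1 := Groth.Agent.Lib.H8LCICM.height_comap_quotient_of_minimalPrime p hp
    (m.map (Ideal.Quotient.mk p))
  rw [hQ] at h1
  have h2 := Groth.Agent.Lib.FTDim.height_add_ringKrullDim_quotient k (S ⧸ p)
    (m.map (Ideal.Quotient.mk p))
  rw [Groth.Agent.Lib.EquidimCat33.ringKrullDim_quotQuot hpm, ← h1] at h2
  have h0 : ringKrullDim (S ⧸ m) = 0 := by
    letI := Ideal.Quotient.field m
    exact ringKrullDim_eq_zero_of_field _
  rwa [h0, add_zero] at h2

/-- the dimension function: the height of a chosen maximal ideal above `q`. -/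
noncomputable def delta (q : PrimeSpectrum S) : ℕ :=
  (Classical.choose (Ideal.exists_le_maximal q.asIdeal q.isPrime.ne_top)).height.toNat

include k in
theorem delta_eq (q : PrimeSpectrum S) (p : Ideal S) (hp : p ∈ minimalPrimes S)
    (hpq : p ≤ q.asIdeal) : ((delta S q : ℕ) : WithBot ℕ∞) = ringKrullDim (S ⧸ p) := by
  haveI : IsNoetherianRing S := Algebra.FiniteType.isNoetherianRing k S
  obtain ⟨hm, hqm⟩ := Classical.choose_spec (Ideal.exists_le_maximal q.asIdeal q.isPrime.ne_top)
  haveI := hm
  have h := height_eq_of_minimalPrime_le k S p hp _ (hpq.trans hqm)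
  rw [← h]
  unfold delta
  haveI : (Classical.choose (Ideal.exists_le_maximal q.asIdeal q.isPrime.ne_top)).IsPrime :=
    hm.isPrime
  have hne : (Classical.choose (Ideal.exists_le_maximal q.asIdeal q.isPrime.ne_top)).height ≠ ⊤ :=
    Ideal.height_ne_top_of_isPrime
  rw [← ENat.natCast_toNat hne]
  rfl

include k in
theorem isLocallyConstant_delta : IsLocallyConstant (delta S) := by
  haveI : IsNoetherianRing S := Algebra.FiniteType.isNoetherianRing k S
  rw [IsLocallyConstant.iff_exists_open]
  intro q
  refine ⟨(⋃ p ∈ {p | p ∈ minimalPrimes S ∧ ¬ p ≤ q.asIdeal}, PrimeSpectrum.zeroLocus (p : Set S))ᶜ,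
    ?_, ?_, ?_⟩
  · rw [isOpen_compl_iff]
    apply Set.Finite.isClosed_biUnion
    · exact (minimalPrimes.finite_of_isNoetherianRing S).subset fun p hp => hp.1
    · intro p _
      exact PrimeSpectrum.isClosed_zeroLocus _
  · simp only [Set.mem_compl_iff, Set.mem_iUnion, not_exists]
    rintro p ⟨_, hpq⟩ hq
    exact hpq ((PrimeSpectrum.mem_zeroLocus _ _).mp hq)
  · intro y hy
    simp only [Set.mem_compl_iff, Set.mem_iUnion, not_exists] at hy
    obtain ⟨p, hp, hpy⟩ := Ideal.exists_minimalPrimes_le (bot_le : ⊥ ≤ y.asIdeal)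
    have hpq : p ≤ q.asIdeal := by
      by_contra hcon
      exact hy p ⟨hp, hcon⟩ ((PrimeSpectrum.mem_zeroLocus _ _).mpr hpy)
    have h1 := delta_eq k S y p hp hpy
    have h2 := delta_eq k S q p hp hpq
    have : ((delta S y : ℕ) : WithBot ℕ∞) = ((delta S q : ℕ) : WithBot ℕ∞) := h1.trans h2.symm
    exact_mod_cast this

include k in
theorem delta_eq_height (m : PrimeSpectrum S) (hm : m.asIdeal.IsMaximal) :
    m.asIdeal.height = (delta S m : ℕ) := by
  obtain ⟨p, hp, hpm⟩ := Ideal.exists_minimalPrimes_le (bot_le : ⊥ ≤ m.asIdeal)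
  have h1 := delta_eq k S m p hp hpm
  have h2 := height_eq_of_minimalPrime_le k S p hp m.asIdeal hpm
  have : (m.asIdeal.height : WithBot ℕ∞) = ((delta S m : ℕ) : WithBot ℕ∞) := h2.trans h1.symm
  exact_mod_cast this

end aux

/-- A Cohen–Macaulay finite type algebra S over a field k decomposes as a finite product of k-algebras
S_0 × ⋯ × S_N in which every maximal ideal of the factor S_d has height d (so Spec S is a finite
disjoint union of equidimensional open and closed pieces). -/
theorem result (k S : Type u) [Field k] [CommRing S]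
    [Algebra k S] [Algebra.FiniteType k S] [LocCoh.IsCohenMacaulayRing S] :
    ∃ (N : ℕ) (T : Fin (N + 1) → Type u) (_ : ∀ d, CommRing (T d)) (_ : ∀ d, Algebra k (T d)),
      Nonempty (S ≃ₐ[k] ((d : Fin (N + 1)) → T d)) ∧
        ∀ (d : Fin (N + 1)) (m : Ideal (T d)), m.IsMaximal → m.height = (d : ℕ) := by
  obtain ⟨N, e, he, hbasic⟩ :=
    Groth.Agent.Lib.IdemDecomp89.exists_idempotents (delta S) (isLocallyConstant_delta k S)
  refine ⟨N, fun d => S ⧸ Ideal.span {1 - e d}, fun d => inferInstance, fun d => inferInstance,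
    ⟨Groth.Agent.Lib.IdemDecomp89.piAlgEquiv k he⟩, ?_⟩
  intro d M hM
  haveI := hM
  haveI : IsLocalization.Away (e d) (S ⧸ Ideal.span {1 - e d}) :=
    Groth.Agent.Lib.IdemDecomp89.isLocalization_away_quotient (he.idem d)
  have h1 : (M.under S).height = M.height :=
    IsLocalization.height_under (Submonoid.powers (e d)) M
  have hmax : (M.comap (Ideal.Quotient.mk (Ideal.span {1 - e d}))).IsMaximal :=
    Ideal.comap_isMaximal_of_surjective _ Ideal.Quotient.mk_surjective
  have hmax' : (M.under S).IsMaximal := hmax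
  have h2 := delta_eq_height k S ⟨M.under S, hmax'.isPrime⟩ hmax'
  have hmem : (⟨M.under S, hmax'.isPrime⟩ : PrimeSpectrum S) ∈
      ((PrimeSpectrum.basicOpen (e d) : TopologicalSpace.Opens _) : Set (PrimeSpectrum S)) := by
    rw [SetLike.mem_coe, PrimeSpectrum.mem_basicOpen]
    intro hed
    have h1e : (1 - e d) ∈ M.under S := by
      change algebraMap S (S ⧸ Ideal.span {1 - e d}) (1 - e d) ∈ M
      have : algebraMap S (S ⧸ Ideal.span {1 - e d}) (1 - e d) = 0 :=
        Ideal.Quotient.eq_zero_iff_mem.mpr (Ideal.subset_span rfl)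
      rw [this]
      exact M.zero_mem
    apply hmax'.ne_top
    rw [Ideal.eq_top_iff_one]
    have := (M.under S).add_mem hed h1e
    simpa using this
  rw [hbasic d] at hmem
  have hd : delta S ⟨M.under S, hmax'.isPrime⟩ = d := hmem
  rw [← h1, h2, hd]

end Groth.Agent.S9156
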