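import Groth.Statements.S9158
import Groth.Agent.Lib.H77GenFreeRedFinal

set_option autoImplicit false
universe u
open CAlg
open Groth.Agent.Lib.H77GenFreeRed

namespace Groth.Agent.S9158

/-- Generic freeness over a reduced ring: let R → S be of finite type with R reduced and M a finite
S-module. There is a dense open subset U of Spec R such that each point of U lies in a basic open
D(f) ⊆ U with M_f and S_f free over R_f, S_f of finite presentation over R_f, and M_f of finite
presentation over S_f. -/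
theorem result (R S : Type u) [CommRing R] [IsReduced R] [CommRing S]
    [Algebra R S] [Algebra.FiniteType R S] (M : Type u) [AddCommGroup M] [Module S M] [Module R M]
    [IsScalarTower R S M] [Module.Finite S M] :
    ∃ U : Set (PrimeSpectrum R), IsOpen U ∧ Dense U ∧ ∀ u ∈ U, ∃ f : R, f ∉ u.asIdeal ∧
      (PrimeSpectrum.basicOpen f : Set (PrimeSpectrum R)) ⊆ U ∧
      Module.Free (Localization.Away f) (LocalizedModule (Submonoid.powers f) M) ∧
      Module.Free (Localization.Away f) (LocalizedModule (Submonoid.powers f) S) ∧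
      (Localization.awayMap (algebraMap R S) f).FinitePresentation ∧
      Module.FinitePresentation (Localization.Away (algebraMap R S f))
        (LocalizedModule (Submonoid.powers (algebraMap R S f)) M) := by
  classical
  refine ⟨⋃ f ∈ {f : R | GoodAlg R S f ∧ GoodMod R S M f},
    (PrimeSpectrum.basicOpen f : Set (PrimeSpectrum R)), ?_, ?_, ?_⟩
  · exact isOpen_biUnion (fun f _ => (PrimeSpectrum.basicOpen f).isOpen)
  · rw [dense_iff_inter_open]
    intro V hV ⟨x, hxV⟩
    obtain ⟨W, ⟨g, rfl⟩, hxg, hgV⟩ :=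
      PrimeSpectrum.isTopologicalBasis_basic_opens.exists_subset_of_mem_open hxV hV
    have hg : g ≠ 0 := by
      rintro rfl
      exact hxg (zero_mem _)
    obtain ⟨h₁, hh₁, hA⟩ := exists_goodAlg (R := R) S hg
    obtain ⟨h₂, hh₂, hM⟩ := exists_goodMod (R := R) S M hh₁
    have hne : (PrimeSpectrum.basicOpen (g * h₁ * h₂)) ≠ ⊥ := by
      rw [Ne, PrimeSpectrum.basicOpen_eq_bot_iff]
      exact not_isNilpotent_of_ne_zero hh₂
    obtain ⟨y, hy⟩ : ((PrimeSpectrum.basicOpen (g * h₁ * h₂) :
        TopologicalSpace.Opens (PrimeSpectrum R)) : Set (PrimeSpectrum R)).Nonempty := by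
      rw [Set.nonempty_iff_ne_empty]
      intro h0
      exact hne (TopologicalSpace.Opens.ext h0)
    refine ⟨y, hgV ?_, ?_⟩
    · have : PrimeSpectrum.basicOpen (g * h₁ * h₂) ≤ PrimeSpectrum.basicOpen g := by
        rw [mul_assoc, PrimeSpectrum.basicOpen_mul]
        exact inf_le_left
      exact this hy
    · exact Set.mem_biUnion (show (g * h₁ * h₂) ∈ {f : R | GoodAlg R S f ∧ GoodMod R S M f} from
        ⟨hA.mul_right h₂, hM⟩) hy
  · intro u hu
    obtain ⟨f, ⟨hA, hM⟩, huf⟩ := Set.mem_iUnion₂.mp hu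
    obtain ⟨⟨sS, hsS⟩, n, π, G, hp⟩ := hA
    obtain ⟨⟨sM, hsM⟩, a, ρ, hρ, hL⟩ := hM
    refine ⟨f, huf, Set.subset_biUnion_of_mem (u := fun f : R =>
      (PrimeSpectrum.basicOpen f : Set (PrimeSpectrum R))) ⟨⟨⟨sS, hsS⟩, n, π, G, hp⟩,
        ⟨⟨sM, hsM⟩, a, ρ, hρ, hL⟩⟩, hsM.free_localizedModule, hsS.free_localizedModule, ?_, ?_⟩
    · exact (flat_finitePresentation_awayMap hsS hp (Localization.Away f)
        (Localization.Away (algebraMap R S f))).2
    · exact finitePresentation_localizedModule_of_locFG ρ hρ hL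

end Groth.Agent.S9158
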