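import Groth.Statements.S9159
import Mathlib
import Groth.Agent.Lib.CMQF33f
import Groth.Agent.Lib.H30DimFieldRing
import Groth.Agent.S2082
import Groth.Agent.Lib.GenericFibrePoint2
import Groth.Agent.Lib.H56FibDimSmooth
import Groth.Agent.Lib.FTDim

set_option autoImplicit false
universe u
open CAlg

namespace Groth.Agent.S9159

set_option linter.style.haveILetI false

open IsLocalRing

section
variable (k S : Type u) [Field k] [CommRing S] [Algebra k S] [Algebra.FiniteType k S]

/-- finiteness of the transcendence degree of a residue field -/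
theorem exists_nat_trdeg_residueField (q : Ideal S) [q.IsPrime] :
    ∃ r : ℕ, Algebra.trdeg k q.ResidueField = r := by
  haveI : Algebra.FiniteType k (S ⧸ q) :=
    Algebra.FiniteType.of_surjective (Ideal.Quotient.mkₐ k q) Ideal.Quotient.mk_surjective
  haveI : FaithfulSMul k (S ⧸ q) :=
    (faithfulSMul_iff_algebraMap_injective _ _).mpr (algebraMap k (S ⧸ q)).injective
  obtain ⟨n, hn⟩ := Groth.Agent.Lib.GenericFibrePoint.exists_nat_trdeg_eq (R := k) (B := S ⧸ q)
  refine ⟨n, ?_⟩
  rw [← hn]
  haveI : Algebra.IsAlgebraic (S ⧸ q) q.ResidueField :=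
    IsLocalization.isAlgebraic q.ResidueField (nonZeroDivisors (S ⧸ q))
  haveI : FaithfulSMul (S ⧸ q) q.ResidueField :=
    (faithfulSMul_iff_algebraMap_injective _ _).mpr
      (IsFractionRing.injective (S ⧸ q) q.ResidueField)
  haveI : FaithfulSMul k q.ResidueField :=
    (faithfulSMul_iff_algebraMap_injective _ _).mpr (algebraMap k q.ResidueField).injective
  exact Groth.Agent.Lib.TrdegTransfer.trdeg_eq_of_isAlgebraic_square (A := k) (B := S ⧸ q) (K := k)
    (L := q.ResidueField)

end

section
variable (k : Type u) {P S : Type u} [Field k] [CommRing P] [CommRing S] [Algebra k P] [Algebra k S]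
  [Algebra P S] [IsScalarTower k P S] [Algebra.QuasiFinite P S]

/-- residue fields of a quasi-finite algebra have the same transcendence degree -/
theorem trdeg_residueField_eq_of_quasiFinite (q : Ideal S) [q.IsPrime] :
    Algebra.trdeg k q.ResidueField = Algebra.trdeg k (q.under P).ResidueField := by
  set p' := q.under P with hp'
  haveI : q.LiesOver p' := ⟨rfl⟩
  letI := Localization.AtPrime.algebraOfLiesOver p' q
  haveI : Module.Finite p'.ResidueField q.ResidueField := inferInstance
  haveI : Algebra.IsAlgebraic p'.ResidueField q.ResidueField := Algebra.IsAlgebraic.of_finite _ _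
  haveI : FaithfulSMul k q.ResidueField :=
    (faithfulSMul_iff_algebraMap_injective _ _).mpr (algebraMap k q.ResidueField).injective
  haveI : FaithfulSMul k p'.ResidueField :=
    (faithfulSMul_iff_algebraMap_injective _ _).mpr (algebraMap k p'.ResidueField).injective
  haveI : FaithfulSMul p'.ResidueField q.ResidueField :=
    (faithfulSMul_iff_algebraMap_injective _ _).mpr (algebraMap p'.ResidueField q.ResidueField).injective
  haveI : IsScalarTower k p'.ResidueField q.ResidueField := inferInstance
  exact Groth.Agent.Lib.TrdegTransfer.trdeg_eq_of_isAlgebraic_square (A := k) (B := p'.ResidueField)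
    (K := k) (L := q.ResidueField)

end



open Groth.Agent.Lib Groth.Agent.Lib.CMQF33 in
/-- Fix a field k, a k-algebra S of finite type, and a quasi-finite map of k-algebras k[y_1, …, y_d] →
S. A prime q of S has S_q flat over k[y_1, …, y_d] exactly when S_q is Cohen–Macaulay and Spec S has
local dimension d at q. -/
theorem result (k S : Type u) [Field k] [CommRing S]
    [Algebra k S] [Algebra.FiniteType k S] (d : ℕ) [Algebra (MvPolynomial (Fin d) k) S]
    [IsScalarTower k (MvPolynomial (Fin d) k) S] [Algebra.QuasiFinite (MvPolynomial (Fin d) k) S]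
    (q : Ideal S) [q.IsPrime] :
    Module.Flat (MvPolynomial (Fin d) k) (Localization.AtPrime q) ↔
      (LocCoh.IsCohenMacaulayLocalRing (Localization.AtPrime q) ∧
        FlatMor.localDim (PrimeSpectrum S) ⟨q, inferInstance⟩ = (d : WithBot ℕ∞)) := by
  set P := MvPolynomial (Fin d) k with hP
  set p' : Ideal P := q.under P with hp'
  haveI hNS : IsNoetherianRing S := Algebra.FiniteType.isNoetherianRing k S
  haveI hNSq : IsNoetherianRing (Localization.AtPrime q) :=
    IsLocalization.isNoetherianRing q.primeCompl _ hNS
  haveI hNP : IsNoetherianRing P := inferInstance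
  haveI hNPp : IsNoetherianRing (Localization.AtPrime p') :=
    IsLocalization.isNoetherianRing p'.primeCompl _ hNP
  let φ := Localization.localRingHom p' q (algebraMap P S) rfl
  haveI hφloc : IsLocalHom φ := Localization.isLocalHom_localRingHom _ _ _ rfl
  have hiff : φ.Flat ↔ Module.Flat P (Localization.AtPrime q) := by
    algebraize [Localization.localRingHom p' q (algebraMap P S) rfl]
    have : IsScalarTower P (Localization.AtPrime p') (Localization.AtPrime q) :=
      .of_algebraMap_eq fun x ↦ (Localization.localRingHom_to_map _ _ _ rfl x).symm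
    rw [RingHom.Flat, Module.flat_iff_of_isLocalization
      (S := (Localization.AtPrime p')) (p := p'.primeCompl)]
  have hmap : Ideal.map φ (maximalIdeal (Localization.AtPrime p')) =
      p'.map (algebraMap P (Localization.AtPrime q)) := map_localRingHom_maximalIdeal p' q rfl
  obtain ⟨hlocF, hdimF⟩ := krullDimLE_zero_of_quasiFiniteAt (P := P) q
  have hfib0 : ringKrullDim (Localization.AtPrime q ⧸
      Ideal.map φ (maximalIdeal (Localization.AtPrime p'))) = 0 := by
    rw [hmap]
    apply le_antisymm
    · have := Ring.krullDimLE_iff.mp hdimF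
      simpa using this
    · exact ringKrullDim_nonneg_of_nontrivial
  have hfibCM : LocCoh.IsCohenMacaulayLocalRing (Localization.AtPrime q ⧸
      Ideal.map φ (maximalIdeal (Localization.AtPrime p'))) := by
    rw [hmap]
    exact isCM_quotient_of_quasiFiniteAt q
  haveI hreg : IsRegularLocalRing (Localization.AtPrime p') :=
    IsRegularRing.isRegularLocalRing_localization p'
  have hCMP : LocCoh.IsCohenMacaulayLocalRing (Localization.AtPrime p') :=
    H8CM.isCMLocalRing_of_isRegularLocalRing
  obtain ⟨r, hr⟩ := exists_nat_trdeg_residueField k S q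
  have hr' : Algebra.trdeg k p'.ResidueField = r := by
    rw [← hr, trdeg_residueField_eq_of_quasiFinite k (P := P) q]
  have hL1 := H30DimFieldRing.localDim_primeSpectrum (k := k) q r hr
  have hL2 := H30DimFieldRing.localDim_primeSpectrum (k := k) p' r hr'
  have hL3 : FlatMor.localDim (PrimeSpectrum P) ⟨p', inferInstance⟩ = (d : WithBot ℕ∞) := by
    rw [H56LocDim.localDim_primeSpectrum_of_isDomain k P]
    exact FTDim.ringKrullDim_mvPolynomial k d
  constructor
  · intro hflat
    have hφ := hiff.2 hflat
    refine ⟨(CMFlat33.isCohenMacaulayLocalRing_iff φ hφ).2 ⟨hCMP, hfibCM⟩, ?_⟩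
    rw [hL1, CMFlat33.ringKrullDim_eq_add' φ hφ, hfib0, add_zero, ← hL2, hL3]
  · rintro ⟨hCM, hdim⟩
    rw [← hiff]
    letI := φ.toAlgebra
    haveI : IsLocalHom (algebraMap (Localization.AtPrime p') (Localization.AtPrime q)) := hφloc
    change Module.Flat (Localization.AtPrime p') (Localization.AtPrime q)
    apply Groth.Agent.S2082.result
    change ringKrullDim (Localization.AtPrime q) = ringKrullDim (Localization.AtPrime p') +
      ringKrullDim (Localization.AtPrime q ⧸
        Ideal.map φ (maximalIdeal (Localization.AtPrime p')))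
    rw [hfib0, add_zero]
    obtain ⟨a, ha⟩ := CMFlat33.exists_nat_ringKrullDim (R := Localization.AtPrime q)
    obtain ⟨b, hb⟩ := CMFlat33.exists_nat_ringKrullDim (R := Localization.AtPrime p')
    rw [hL1, ha] at hdim
    rw [hL2, hb] at hL3
    rw [ha, hb]
    have h1 : a + r = d := by exact_mod_cast hdim
    have h2 : b + r = d := by exact_mod_cast hL3
    have : a = b := by omega
    rw [this]


end Groth.Agent.S9159
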