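import Groth.Statements.S9160
import Mathlib.RingTheory.KrullDimension.NonZeroDivisors
import Mathlib.RingTheory.HopkinsLevitzki
import Mathlib.RingTheory.Ideal.Quotient.Noetherian

set_option autoImplicit false
universe u
open CAlg

namespace Groth.Agent.S9160

/-- The quotient by a regular element in a Noetherian ring of dimension one has finite length. -/
theorem length_quotient_ne_top (R : Type u) [CommRing R] [IsNoetherianRing R]
    (hdim : ringKrullDim R = 1) (a : R) (ha : IsRegular a) :
    Module.length R (R ⧸ Ideal.span ({a} : Set R)) ≠ ⊤ := by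
  have h1 := ringKrullDim_quotient_succ_le_of_nonZeroDivisor
    (ha.mem_nonZeroDivisors : a ∈ nonZeroDivisors R) (R := R)
  rw [hdim] at h1
  have h0 : ringKrullDim (R ⧸ Ideal.span ({a} : Set R)) ≤ 0 := by
    generalize ringKrullDim (R ⧸ Ideal.span ({a} : Set R)) = d at h1
    cases d with
    | bot => exact bot_le
    | coe d =>
      have : (d : WithBot ℕ∞) + 1 ≤ 1 := h1
      have h2 : d + 1 ≤ 1 := by exact_mod_cast this
      have : d = 0 := by
        cases d with
        | top => simp at h2
        | coe n => norm_cast at h2 ⊢; omega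
      simp [this]
  have : Ring.KrullDimLE 0 (R ⧸ Ideal.span ({a} : Set R)) := Ring.krullDimLE_iff.mpr h0
  have : IsArtinianRing (R ⧸ Ideal.span ({a} : Set R)) :=
    IsNoetherianRing.isArtinianRing_of_krullDimLE_zero
  have : IsArtinian R (R ⧸ Ideal.span ({a} : Set R)) :=
    isArtinian_of_surjective_algebraMap (R := R ⧸ Ideal.span ({a} : Set R))
      Ideal.Quotient.mk_surjective
  exact Module.length_ne_top

/-- In a semi-local Noetherian ring of dimension one, for nonzerodivisors a and b the length of R/(ab)
is the sum of the lengths of R/(a) and R/(b), and these lengths are finite. -/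
theorem result (R : Type u) [CommRing R] [IsNoetherianRing R]
    (hsemi : Finite (MaximalSpectrum R)) (hdim : ringKrullDim R = 1) (a b : R) (ha : IsRegular a)
    (hb : IsRegular b) :
    Module.length R (R ⧸ Ideal.span ({a * b} : Set R)) =
        Module.length R (R ⧸ Ideal.span ({a} : Set R)) + Module.length R (R ⧸ Ideal.span ({b} : Set R)) ∧
      Module.length R (R ⧸ Ideal.span ({a} : Set R)) ≠ ⊤ ∧
      Module.length R (R ⧸ Ideal.span ({b} : Set R)) ≠ ⊤ := by
  refine ⟨?_, length_quotient_ne_top R hdim a ha, length_quotient_ne_top R hdim b hb⟩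
  -- the exact sequence `0 → R/(a) → R/(ab) → R/(b) → 0`
  let f : (R ⧸ Ideal.span ({a} : Set R)) →ₗ[R] (R ⧸ Ideal.span ({a * b} : Set R)) :=
    Submodule.mapQ (Ideal.span ({a} : Set R)) (Ideal.span ({a * b} : Set R))
      (LinearMap.mulRight R b) (by
        intro x hx
        obtain ⟨c, rfl⟩ := Ideal.mem_span_singleton'.mp hx
        exact Ideal.mem_span_singleton'.mpr ⟨c, by simp [mul_assoc]⟩)
  let g : (R ⧸ Ideal.span ({a * b} : Set R)) →ₗ[R] (R ⧸ Ideal.span ({b} : Set R)) :=
    Submodule.mapQ (Ideal.span ({a * b} : Set R)) (Ideal.span ({b} : Set R))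
      LinearMap.id (by
        intro x hx
        obtain ⟨c, rfl⟩ := Ideal.mem_span_singleton'.mp hx
        exact Ideal.mem_span_singleton'.mpr ⟨c * a, by simp [mul_assoc]⟩)
  have hf : Function.Injective f := by
    rw [← LinearMap.ker_eq_bot, LinearMap.ker_eq_bot']
    intro x hx
    obtain ⟨x, rfl⟩ := Submodule.Quotient.mk_surjective _ x
    have hx' : x * b ∈ Ideal.span ({a * b} : Set R) := by
      have hx2 : (Submodule.Quotient.mk (x * b) : R ⧸ Ideal.span ({a * b} : Set R)) = 0 := hx
      rwa [Submodule.Quotient.mk_eq_zero] at hx2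
    obtain ⟨c, hc⟩ := Ideal.mem_span_singleton'.mp hx'
    have : c * a = x := hb.right (by simpa [mul_assoc] using hc)
    rw [Submodule.Quotient.mk_eq_zero]
    exact Ideal.mem_span_singleton'.mpr ⟨c, this⟩
  have hg : Function.Surjective g := by
    intro y
    obtain ⟨y, rfl⟩ := Submodule.Quotient.mk_surjective _ y
    exact ⟨Submodule.Quotient.mk y, rfl⟩
  have H : Function.Exact f g := by
    intro y
    obtain ⟨y, rfl⟩ := Submodule.Quotient.mk_surjective _ y
    constructor
    · intro hy
      have hy' : y ∈ Ideal.span ({b} : Set R) := by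
        have hy2 : (Submodule.Quotient.mk y : R ⧸ Ideal.span ({b} : Set R)) = 0 := hy
        rwa [Submodule.Quotient.mk_eq_zero] at hy2
      obtain ⟨c, rfl⟩ := Ideal.mem_span_singleton'.mp hy'
      exact ⟨Submodule.Quotient.mk c, rfl⟩
    · rintro ⟨x, hx⟩
      obtain ⟨x, rfl⟩ := Submodule.Quotient.mk_surjective _ x
      rw [← hx]
      simp only [f, g, Submodule.mapQ_apply, LinearMap.mulRight_apply, LinearMap.id_apply]
      rw [Submodule.Quotient.mk_eq_zero]
      exact Ideal.mem_span_singleton'.mpr ⟨x, rfl⟩
  exact Module.length_eq_add_of_exact f g hf hg H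

end Groth.Agent.S9160
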