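import Groth.Statements.S9161
import Mathlib.Tactic.Abel

set_option autoImplicit false
universe u
open CAlg

namespace Groth.Agent.S9161

/-- If two two-term complexes of R-modules A₁ → A₀ and B₁ → B₀ are homotopy equivalent (maps of
complexes both ways whose composites are homotopic to the identity maps), then A₁ ⊕ B₀ and B₁ ⊕ A₀
are isomorphic R-modules. -/
theorem result (R : Type u) [CommRing R]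
    (A₁ A₀ B₁ B₀ : Type u) [AddCommGroup A₁] [Module R A₁] [AddCommGroup A₀] [Module R A₀]
    [AddCommGroup B₁] [Module R B₁] [AddCommGroup B₀] [Module R B₀]
    (dA : A₁ →ₗ[R] A₀) (dB : B₁ →ₗ[R] B₀) (φ₁ : A₁ →ₗ[R] B₁) (φ₀ : A₀ →ₗ[R] B₀)
    (ψ₁ : B₁ →ₗ[R] A₁) (ψ₀ : B₀ →ₗ[R] A₀) (hφ : dB ∘ₗ φ₁ = φ₀ ∘ₗ dA) (hψ : dA ∘ₗ ψ₁ = ψ₀ ∘ₗ dB)
    (h : A₀ →ₗ[R] A₁) (hh₁ : LinearMap.id - ψ₁ ∘ₗ φ₁ = h ∘ₗ dA) (hh₀ : LinearMap.id - ψ₀ ∘ₗ φ₀ = dA ∘ₗ h)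
    (h' : B₀ →ₗ[R] B₁) (hh'₁ : LinearMap.id - φ₁ ∘ₗ ψ₁ = h' ∘ₗ dB)
    (hh'₀ : LinearMap.id - φ₀ ∘ₗ ψ₀ = dB ∘ₗ h') :
    Nonempty ((A₁ × B₀) ≃ₗ[R] (B₁ × A₀)) := by
  have eφ : ∀ a, dB (φ₁ a) = φ₀ (dA a) := fun a ↦ LinearMap.congr_fun hφ a
  have eψ : ∀ b, dA (ψ₁ b) = ψ₀ (dB b) := fun b ↦ LinearMap.congr_fun hψ b
  have e₁ : ∀ a, h (dA a) = a - ψ₁ (φ₁ a) := fun a ↦ (LinearMap.congr_fun hh₁ a).symm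
  have e₀ : ∀ a, dA (h a) = a - ψ₀ (φ₀ a) := fun a ↦ (LinearMap.congr_fun hh₀ a).symm
  have e'₁ : ∀ b, h' (dB b) = b - φ₁ (ψ₁ b) := fun b ↦ (LinearMap.congr_fun hh'₁ b).symm
  have e'₀ : ∀ b, dB (h' b) = b - φ₀ (ψ₀ b) := fun b ↦ (LinearMap.congr_fun hh'₀ b).symm
  let Φ : (A₁ × B₀) →ₗ[R] (B₁ × A₀) :=
    (h' ∘ₗ LinearMap.snd R A₁ B₀ - φ₁ ∘ₗ LinearMap.fst R A₁ B₀).prod
      (dA ∘ₗ LinearMap.fst R A₁ B₀ + ψ₀ ∘ₗ LinearMap.snd R A₁ B₀)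
  have hΦ : ∀ a b, Φ (a, b) = (h' b - φ₁ a, dA a + ψ₀ b) := fun a b ↦ rfl
  refine ⟨LinearEquiv.ofBijective Φ ⟨?_, ?_⟩⟩
  · rw [← LinearMap.ker_eq_bot, LinearMap.ker_eq_bot']
    rintro ⟨a, b⟩ hab
    rw [hΦ, Prod.mk_eq_zero] at hab
    obtain ⟨h1, h2⟩ := hab
    have hb : b = 0 := by
      have := congrArg dB h1
      have h2' := congrArg φ₀ h2
      simp only [map_sub, map_add, map_zero, e'₀, eφ] at this h2'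
      have : b = (b - φ₀ (ψ₀ b) - φ₀ (dA a)) + (φ₀ (dA a) + φ₀ (ψ₀ b)) := by abel
      rw [this, ‹b - φ₀ (ψ₀ b) - φ₀ (dA a) = 0›, h2', add_zero]
    subst hb
    simp only [map_zero, zero_sub, neg_eq_zero, add_zero] at h1 h2
    have ha : a = ψ₁ (φ₁ a) + h (dA a) := by rw [e₁]; abel
    rw [ha, h1, h2, map_zero, map_zero, add_zero]
    rfl
  · rintro ⟨b₁, a₀⟩
    let b₁' := b₁ - (h' (φ₀ a₀) - φ₁ (h a₀))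
    refine ⟨(h a₀ - ψ₁ b₁', φ₀ a₀ + dB b₁'), ?_⟩
    rw [hΦ]
    simp only [map_sub, map_add, e₀, eψ, e'₁, Prod.mk.injEq]
    constructor
    · simp only [b₁', map_sub]; abel
    · abel

end Groth.Agent.S9161
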