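import Groth.Statements.S9162
import Groth.Agent.S9161
import Mathlib.RingTheory.Extension.Cotangent.Basic
import Mathlib.RingTheory.Kaehler.Polynomial
import Mathlib.LinearAlgebra.TensorProduct.Basis

set_option autoImplicit false
universe u
open CAlg

namespace Groth.Agent.S9162

open Algebra Algebra.Extension in
/-- A hom between the extensions given by two polynomial presentations. -/
noncomputable def homOfSurjective {R S : Type u} [CommRing R] [CommRing S] [Algebra R S]
    {n m : ℕ} (α : MvPolynomial (Fin n) R →ₐ[R] S) (hα : Function.Surjective α)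
    (β : MvPolynomial (Fin m) R →ₐ[R] S) (hβ : Function.Surjective β) :
    (Extension.ofSurjective α hα).Hom (Extension.ofSurjective β hβ) where
  toRingHom := (MvPolynomial.aeval fun i ↦ (hβ (α (MvPolynomial.X i))).choose :
    MvPolynomial (Fin n) R →ₐ[R] MvPolynomial (Fin m) R).toRingHom
  toRingHom_algebraMap x := by
    change (MvPolynomial.aeval _) (algebraMap R (MvPolynomial (Fin n) R) x) = _
    simp
    rfl
  algebraMap_toRingHom x := by
    change β ((MvPolynomial.aeval fun i ↦ (hβ (α (MvPolynomial.X i))).choose :
      MvPolynomial (Fin n) R →ₐ[R] MvPolynomial (Fin m) R) x) = α x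
    have : β.comp (MvPolynomial.aeval fun i ↦ (hβ (α (MvPolynomial.X i))).choose :
      MvPolynomial (Fin n) R →ₐ[R] MvPolynomial (Fin m) R) = α := by
      apply MvPolynomial.algHom_ext
      intro i
      simp only [AlgHom.comp_apply, MvPolynomial.aeval_X]
      exact (hβ (α (MvPolynomial.X i))).choose_spec
    exact congr($this x)

/-- Let S be an R-algebra and α : R[x_1, …, x_n] → S, β : R[y_1, …, y_m] → S surjective R-algebra maps
(presentations by polynomial rings in finitely many variables; the kernels I and J need not be
finitely generated). Then I/I² ⊕ S^m and J/J² ⊕ S^n are isomorphic S-modules. -/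
theorem result (R S : Type u) [CommRing R] [CommRing S]
    [Algebra R S] (n m : ℕ) (α : MvPolynomial (Fin n) R →ₐ[R] S) (hα : Function.Surjective α)
    (β : MvPolynomial (Fin m) R →ₐ[R] S) (hβ : Function.Surjective β) :
    Nonempty (((Algebra.Extension.ofSurjective α hα).Cotangent × (Fin m → S)) ≃ₗ[S]
      ((Algebra.Extension.ofSurjective β hβ).Cotangent × (Fin n → S))) := by
  open Algebra Algebra.Extension in
  let P := Extension.ofSurjective α hα
  let P' := Extension.ofSurjective β hβ
  let f : P.Hom P' := homOfSurjective α hα β hβ
  let g : P'.Hom P := homOfSurjective β hβ α hα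
  have key := Groth.Agent.S9161.result S P.Cotangent P.CotangentSpace P'.Cotangent P'.CotangentSpace
    P.cotangentComplex P'.cotangentComplex (Cotangent.map f) (CotangentSpace.map f)
    (Cotangent.map g) (CotangentSpace.map g)
    (by ext x; exact (CotangentSpace.map_cotangentComplex f x).symm)
    (by ext x; exact (CotangentSpace.map_cotangentComplex g x).symm)
    ((Hom.id P).sub (g.comp f))
    (by
      rw [← Cotangent.map_sub_map, Cotangent.map_id, Cotangent.map_comp]
      rfl)
    (by
      have := CotangentSpace.map_sub_map (Hom.id P) (g.comp f)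
      rw [CotangentSpace.map_id, CotangentSpace.map_comp] at this
      exact this)
    ((Hom.id P').sub (f.comp g))
    (by
      rw [← Cotangent.map_sub_map, Cotangent.map_id, Cotangent.map_comp]
      rfl)
    (by
      have := CotangentSpace.map_sub_map (Hom.id P') (f.comp g)
      rw [CotangentSpace.map_id, CotangentSpace.map_comp] at this
      exact this)
  obtain ⟨e⟩ := key
  let b0 : Module.Basis (Fin n) P.Ring Ω[P.Ring⁄R] :=
    KaehlerDifferential.mvPolynomialBasis R (Fin n)
  let b0' : Module.Basis (Fin m) P'.Ring Ω[P'.Ring⁄R] :=
    KaehlerDifferential.mvPolynomialBasis R (Fin m)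
  let bP : Module.Basis (Fin n) S P.CotangentSpace := b0.baseChange S
  let bP' : Module.Basis (Fin m) S P'.CotangentSpace := b0'.baseChange S
  exact ⟨(LinearEquiv.prodCongr (LinearEquiv.refl S _) bP'.equivFun.symm).trans
    (e.trans (LinearEquiv.prodCongr (LinearEquiv.refl S _) bP.equivFun))⟩

end Groth.Agent.S9162
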