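import Groth.Statements.S9164
import Mathlib
import Groth.Agent.S14501
-- import your own Groth.Agent.* helpers here

set_option autoImplicit false
universe u
open CAlg

namespace Groth.Agent.S9164

open Groth.Agent.S14501

section
variable (R K V : Type u) [CommRing R] [Field K] [Algebra R K]
    [IsFractionRing R K] [AddCommGroup V] [Module K V] [Module R V] [IsScalarTower R K V]

/-- if every element of `M` has a nonzero multiple in `N` and `M` spans, so does `N` -/
lemma span_eq_top_of_forall (M N : Submodule R V) (hM : Submodule.span K (M : Set V) = ⊤)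
    (h : ∀ m ∈ M, ∃ a : R, a ≠ 0 ∧ a • m ∈ N) : Submodule.span K (N : Set V) = ⊤ := by
  rw [eq_top_iff, ← hM, Submodule.span_le]
  intro m hm
  obtain ⟨a, ha, ham⟩ := h m hm
  have ha' : algebraMap R K a ≠ 0 := by
    intro h0
    exact ha ((IsFractionRing.injective R K) (h0.trans (map_zero _).symm))
  have : m = (algebraMap R K a)⁻¹ • (a • m) := by
    rw [← algebraMap_smul K a m, smul_smul, inv_mul_cancel₀ ha', one_smul]
  rw [this]
  exact Submodule.smul_mem _ _ (Submodule.subset_span ham)

end

section
variable (R : Type u) [CommRing R] [IsNoetherianRing R]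

/-- in a domain of Krull dimension one, every element of a finite length module is torsion -/
lemma exists_smul_eq_zero_of_length (hdim : ringKrullDim R = 1) (Q : Type u) [AddCommGroup Q]
    [Module R Q] (hQ : Module.length R Q ≠ ⊤) (q : Q) : ∃ a : R, a ≠ 0 ∧ a • q = 0 := by
  by_contra hcon
  push Not at hcon
  have hinj : Function.Injective (LinearMap.toSpanSingleton R Q q) := by
    rw [← LinearMap.ker_eq_bot, LinearMap.ker_eq_bot']
    intro a ha
    by_contra h0
    exact hcon a h0 ha
  have hfl : IsFiniteLength R Q := Module.length_ne_top_iff.1 hQ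
  have hR : IsFiniteLength R R := hfl.of_injective hinj
  have hart : IsArtinianRing R := (isArtinianRing_iff_isFiniteLength R).2 hR
  have hk : Ring.KrullDimLE 0 R := isArtinianRing_iff_krullDimLE_zero.1 hart
  have : ringKrullDim R ≤ 0 := by
    rw [Ring.KrullDimLE, Order.krullDimLE_iff] at hk
    exact_mod_cast hk
  rw [hdim] at this
  exact absurd this (by decide)

end

/-- Let R be a one-dimensional Noetherian local domain with fraction field K and V a finite-dimensional
K-vector space; a lattice is a finitely generated R-submodule of V spanning V over K. (1) For a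
lattice M and an R-submodule M' ⊇ M: M' is a lattice iff M'/M has finite length over R iff M' is
finitely generated. (2) For a lattice M and M' ⊆ M: M' is a lattice iff M/M' has finite length. (3)
The intersection of two lattices is a lattice. (The published statement also asserts that the sum M
+ M' of two lattices is a lattice and two identities between lengths of quotients of nested
lattices; this row states (1), (2) and the intersection half of (3).) -/
theorem result (R K V : Type u) [CommRing R] [IsDomain R]
    [IsNoetherianRing R] [IsLocalRing R] (hdim : ringKrullDim R = 1) [Field K] [Algebra R K]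
    [IsFractionRing R K] [AddCommGroup V] [Module K V] [Module R V] [IsScalarTower R K V]
    [FiniteDimensional K V] (M : Submodule R V) [Submodule.IsLattice K M] :
    (∀ M' : Submodule R V, M ≤ M' →
        (Submodule.IsLattice K M' ↔ Module.length R (M' ⧸ Submodule.comap M'.subtype M) ≠ ⊤) ∧
          (Submodule.IsLattice K M' ↔ M'.FG)) ∧
      (∀ M' : Submodule R V, M' ≤ M →
        (Submodule.IsLattice K M' ↔ Module.length R (M ⧸ Submodule.comap M.subtype M') ≠ ⊤)) ∧
      ∀ M' : Submodule R V, Submodule.IsLattice K M' → Submodule.IsLattice K (M ⊓ M') := by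
  classical
  have hMsp : Submodule.span K (M : Set V) = ⊤ := Submodule.IsLattice.span_eq_top
  have hMfg : M.FG := Submodule.IsLattice.fg
  have hMnoeth : IsNoetherian R M := by
    have : Module.Finite R M := Module.Finite.iff_fg.2 hMfg
    infer_instance
  refine ⟨fun M' hle => ⟨⟨?_, ?_⟩, ⟨?_, ?_⟩⟩, fun M' hle => ⟨?_, ?_⟩, ?_⟩
  · -- lattice ⇒ finite length of M'/M
    intro hM'
    obtain ⟨a, ha, h⟩ := exists_smul_le R K V M' M hM'.fg hMsp
    have : Module.Finite R M' := Module.Finite.iff_fg.2 hM'.fg
    refine finiteLength_of_smul_eq_zero R hdim _ a ha ?_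
    intro q
    obtain ⟨m, rfl⟩ := Submodule.mkQ_surjective _ q
    rw [← map_smul, Submodule.mkQ_apply, Submodule.Quotient.mk_eq_zero]
    exact h _ m.2
  · -- finite length ⇒ lattice
    intro hlen
    have hfl : IsFiniteLength R (M' ⧸ Submodule.comap M'.subtype M) :=
      Module.length_ne_top_iff.1 hlen
    have hnoeth := (isFiniteLength_iff_isNoetherian_isArtinian.1 hfl).1
    have hfinQ : Module.Finite R (M' ⧸ Submodule.comap M'.subtype M) := inferInstance
    have hfinS : Module.Finite R (Submodule.comap M'.subtype M) := by
      have e : (Submodule.comap M'.subtype M) ≃ₗ[R] M :=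
        Submodule.comapSubtypeEquivOfLe hle
      exact Module.Finite.equiv e.symm
    have hfinM' : Module.Finite R M' :=
      Module.Finite.of_submodule_quotient (Submodule.comap M'.subtype M)
    exact Submodule.IsLattice.of_le_of_isLattice_of_fg K hle (Module.Finite.iff_fg.1 hfinM')
  · intro hM'; exact hM'.fg
  · intro hfg; exact Submodule.IsLattice.of_le_of_isLattice_of_fg K hle hfg
  · -- M' ≤ M lattice ⇒ finite length of M/M'
    intro hM'
    obtain ⟨a, ha, h⟩ := exists_smul_le R K V M M' hMfg hM'.span_eq_top
    have : Module.Finite R M := Module.Finite.iff_fg.2 hMfg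
    refine finiteLength_of_smul_eq_zero R hdim _ a ha ?_
    intro q
    obtain ⟨m, rfl⟩ := Submodule.mkQ_surjective _ q
    rw [← map_smul, Submodule.mkQ_apply, Submodule.Quotient.mk_eq_zero]
    exact h _ m.2
  · intro hlen
    refine ⟨?_, ?_⟩
    · have : IsNoetherian R M' := isNoetherian_of_le hle
      exact (Module.Finite.iff_fg).1 inferInstance
    · apply span_eq_top_of_forall R K V M M' hMsp
      intro m hm
      obtain ⟨a, ha, h0⟩ := exists_smul_eq_zero_of_length R hdim _ hlen
        (Submodule.Quotient.mk (⟨m, hm⟩ : M))
      refine ⟨a, ha, ?_⟩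
      rw [← Submodule.Quotient.mk_smul, Submodule.Quotient.mk_eq_zero] at h0
      exact h0
  · intro M' hM'
    refine ⟨?_, ?_⟩
    · have : IsNoetherian R ↥(M ⊓ M') := isNoetherian_of_le inf_le_left
      exact (Module.Finite.iff_fg).1 inferInstance
    · obtain ⟨a, ha, h⟩ := exists_smul_le R K V M M' hMfg hM'.span_eq_top
      apply span_eq_top_of_forall R K V M (M ⊓ M') hMsp
      intro m hm
      exact ⟨a, ha, M.smul_mem a hm, h m hm⟩

end Groth.Agent.S9164
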