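import Groth.Statements.S9165
import Groth.Agent.Lib.CMDimDecomp33a
import Groth.Agent.Lib.CMDimDecomp33b
import Groth.Agent.Lib.CMDimDecomp33c
import Groth.Agent.Lib.CMDimDecomp33d
import Groth.Agent.Lib.H56LocDimRing2

set_option autoImplicit false
universe u
open CAlg

namespace Groth.Agent.S9165

/-- A flat, finitely presented ring map R → S whose fibre rings κ(p) ⊗ S are Cohen–Macaulay decomposes S
as a finite product of R-algebras S_d (d = 0, …, N), each again flat, finitely presented with
Cohen–Macaulay fibres, and with every irreducible component of every fibre of S_d of dimension d. -/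
theorem result (R S : Type u) [CommRing R]
    [CommRing S] [Algebra R S] [Module.Flat R S] [Algebra.FinitePresentation R S]
    (hCM : ∀ p : PrimeSpectrum R, LocCoh.IsCohenMacaulayRing (p.asIdeal.Fiber S)) :
    ∃ (N : ℕ) (T : Fin (N + 1) → Type u) (_ : ∀ d, CommRing (T d)) (_ : ∀ d, Algebra R (T d)),
      Nonempty (S ≃ₐ[R] ((d : Fin (N + 1)) → T d)) ∧
        ∀ d : Fin (N + 1), Module.Flat R (T d) ∧ Algebra.FinitePresentation R (T d) ∧
          (∀ p : PrimeSpectrum R, LocCoh.IsCohenMacaulayRing (p.asIdeal.Fiber (T d))) ∧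
          ∀ (p : PrimeSpectrum R), ∀ P ∈ minimalPrimes (p.asIdeal.Fiber (T d)),
            ringKrullDim (p.asIdeal.Fiber (T d) ⧸ P) = ((d : ℕ) : WithBot ℕ∞) := by
  classical
  obtain ⟨δ, hδlc, hδ⟩ := Groth.Agent.Lib.CMDimDecomp33.exists_locallyConstant_fibLocDim R S hCM
  obtain ⟨N, e, he, heδ⟩ :=
    Groth.Agent.Lib.CMDimDecomp33.exists_idempotents_of_isLocallyConstant δ hδlc
  refine ⟨N, fun d => S ⧸ Ideal.span {1 - e d}, fun d => inferInstance, fun d => inferInstance,
    ⟨?_⟩, ?_⟩
  · let φ : S →ₐ[R] ((d : Fin (N + 1)) → S ⧸ Ideal.span {1 - e d}) :=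
      AlgHom.pi (fun d => Ideal.Quotient.mkₐ R (Ideal.span {1 - e d}))
    exact AlgEquiv.ofBijective φ he.bijective_pi
  · intro d
    have hid : IsIdempotentElem (e d) := he.idem d
    refine ⟨Groth.Agent.Lib.CMDimDecomp33.flat_quotient_idempotent R hid,
      Groth.Agent.Lib.CMDimDecomp33.finitePresentation_quotient_idempotent R (e d),
      fun p => ?_, fun p P hP => ?_⟩
    · have := hCM p
      exact Groth.Agent.Lib.CMDimDecomp33.isCohenMacaulayRing_fiber_quotient_idempotent R hid
        p.asIdeal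
    · have hPprime : P.IsPrime := hP.1.1
      have hfp : Algebra.FinitePresentation R (S ⧸ Ideal.span {1 - e d}) :=
        Groth.Agent.Lib.CMDimDecomp33.finitePresentation_quotient_idempotent R (e d)
      have h1 := Groth.Agent.Lib.CMDimDecomp33.localDim_eq_ringKrullDim_quotient_of_mem_minimalPrimes
        p.asIdeal.ResidueField (p.asIdeal.Fiber (S ⧸ Ideal.span {1 - e d})) ⟨P, hPprime⟩ hP
      have h2 := Groth.Agent.Lib.H56LocDim.fibLocDim_eq_localDim_fiber p
        (⟨P, hPprime⟩ : PrimeSpectrum (p.asIdeal.Fiber (S ⧸ Ideal.span {1 - e d})))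
      rw [Groth.Agent.Lib.CMDimDecomp33.fibLocDim_quotient_idempotent R hid, hδ] at h2
      change _ = ringKrullDim (p.asIdeal.Fiber (S ⧸ Ideal.span {1 - e d}) ⧸ P) at h1
      rw [← h1, ← h2]
      congr 2
      rw [← heδ d]
      intro hmem
      set q' : PrimeSpectrum (S ⧸ Ideal.span {1 - e d}) := PrimeSpectrum.comap
        (Algebra.TensorProduct.includeRight.toRingHom :
          (S ⧸ Ideal.span {1 - e d}) →+* p.asIdeal.Fiber (S ⧸ Ideal.span {1 - e d}))
        ⟨P, hPprime⟩ with hq'
      have hmem' : Ideal.Quotient.mk (Ideal.span {1 - e d}) (e d) ∈ q'.asIdeal := hmem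
      have hone : Ideal.Quotient.mk (Ideal.span {1 - e d}) (e d) = 1 := by
        have h0 : Ideal.Quotient.mk (Ideal.span {1 - e d}) (1 - e d) = 0 :=
          Ideal.Quotient.eq_zero_iff_mem.mpr (Ideal.subset_span rfl)
        rw [map_sub, map_one, sub_eq_zero] at h0
        exact h0.symm
      rw [hone] at hmem'
      exact q'.2.ne_top ((Ideal.eq_top_iff_one _).mpr hmem')

end Groth.Agent.S9165
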