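import Groth.Statements.S9166
import Groth.Agent.Lib.FlatPure
import Mathlib.RingTheory.Localization.Module
import Mathlib.RingTheory.Nakayama

set_option autoImplicit false
universe u
open CAlg

namespace Groth.Agent.S9166

open Groth.Agent.Lib.FlatPure

/-- Let I be an ideal of a ring R, S → S' a surjective homomorphism of R-algebras with S of finite type
and S' of finite presentation over R, and q a prime of S containing IS. Assume S'_q is flat over R
and that S_q/IS_q → S'_q/IS'_q is an isomorphism, which for a surjection says: every element of the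
kernel of S → S' maps into I·S_q. Then for some g ∉ q the localized map S_g → S'_g is bijective. -/
theorem result (R S S' : Type u) [CommRing R] [CommRing S]
    [CommRing S'] [Algebra R S] [Algebra R S'] [Algebra.FiniteType R S] [Algebra.FinitePresentation R S']
    (I : Ideal R) (f : S →ₐ[R] S') (hf : Function.Surjective f) (q : Ideal S) [q.IsPrime]
    (hq : I.map (algebraMap R S) ≤ q)
    (hker : ∀ j : S, f j = 0 →
      algebraMap S (Localization.AtPrime q) j ∈ I.map (algebraMap R (Localization.AtPrime q)))
    (hflat : letI : Module S S' := f.toRingHom.toModule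
      Module.Flat R (LocalizedModule q.primeCompl S')) :
    ∃ g : S, g ∉ q ∧ Function.Bijective (Localization.awayMap f.toRingHom g) := by
  classical
  let _ : Module S S' := f.toRingHom.toModule
  have hsmul : ∀ (s : S) (x : S'), s • x = f s * x := fun s x => rfl
  let fS : S →ₗ[S] S' :=
    { toFun := f
      map_add' := map_add f
      map_smul' := fun s x => map_mul f s x }
  let π : Localization.AtPrime q →ₗ[Localization.AtPrime q] LocalizedModule q.primeCompl S' :=
    LocalizedModule.map q.primeCompl fS
  have hπmk : ∀ (x : S) (s : q.primeCompl),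
      π (LocalizedModule.mk x s) = LocalizedModule.mk (f x) s :=
    fun x s => LocalizedModule.map_mk q.primeCompl fS x s
  have hπsurj : Function.Surjective π := LocalizedModule.map_surjective q.primeCompl fS hf
  obtain ⟨T, hT⟩ := ker_fg_of_finiteType f hf
  have hIA : I.map (algebraMap R (Localization.AtPrime q)) ≤
      IsLocalRing.maximalIdeal (Localization.AtPrime q) := by
    rw [IsScalarTower.algebraMap_eq R S (Localization.AtPrime q), ← Ideal.map_map,
      ← Localization.AtPrime.map_eq_maximalIdeal]
    exact Ideal.map_mono hq
  let JA : Ideal (Localization.AtPrime q) :=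
    Ideal.span ((algebraMap S (Localization.AtPrime q)) '' (T : Set S))
  have hmemJA : ∀ j : S, f j = 0 → algebraMap S (Localization.AtPrime q) j ∈ JA := by
    intro j hj
    have h1 : j ∈ Ideal.span (T : Set S) := by
      rw [hT]
      exact hj
    have h2 := Ideal.mem_map_of_mem (algebraMap S (Localization.AtPrime q)) h1
    rwa [Ideal.map_span] at h2
  -- Claim 1: the kernel of `π` is contained in `JA`
  have c1 : ∀ a : Localization.AtPrime q, π a = 0 → a ∈ JA := by
    intro a ha
    obtain ⟨x, s, rfl⟩ := IsLocalization.exists_mk'_eq q.primeCompl a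
    have h0 : IsLocalization.mk' (Localization.AtPrime q) x s = LocalizedModule.mk x s :=
      (Localization.mk_eq_mk'_apply x s).symm
    rw [h0, hπmk, ← LocalizedModule.zero_mk s, LocalizedModule.mk_eq] at ha
    obtain ⟨u, hu⟩ := ha
    have h1 : f ((u : S) * (s : S) * x) = 0 := by
      rw [smul_zero, smul_zero, Submonoid.smul_def, Submonoid.smul_def, hsmul, hsmul,
        ← map_mul, ← map_mul, ← mul_assoc] at hu
      exact hu
    have h2 := hmemJA _ h1
    rw [map_mul] at h2
    have hunit : IsUnit (algebraMap S (Localization.AtPrime q) ((u : S) * (s : S))) :=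
      IsLocalization.map_units (Localization.AtPrime q) (u * s)
    have h3 : algebraMap S (Localization.AtPrime q) x ∈ JA :=
      (Ideal.unit_mul_mem_iff_mem JA hunit).mp h2
    rw [IsLocalization.mk'_eq_mul_mk'_one]
    exact Ideal.mul_mem_right _ _ h3
  -- Claim 2: generators lie in `IA * JA`
  have c2 : ∀ j : S, f j = 0 → algebraMap S (Localization.AtPrime q) j ∈
      I.map (algebraMap R (Localization.AtPrime q)) * JA := by
    intro j hj
    have hπ0 : (π.restrictScalars R) (algebraMap S (Localization.AtPrime q) j) = 0 := by
      have h0 : algebraMap S (Localization.AtPrime q) j =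
          LocalizedModule.mk j (1 : q.primeCompl) := (Localization.mk_one_eq_algebraMap j).symm
      rw [LinearMap.restrictScalars_apply, h0, hπmk, hj, LocalizedModule.zero_mk]
    have hI : algebraMap S (Localization.AtPrime q) j ∈
        I • (⊤ : Submodule R (Localization.AtPrime q)) := by
      rw [Ideal.smul_top_eq_map]
      exact hker j hj
    have h1 := mem_smul_ker_of_flat I (π.restrictScalars R) hπsurj _ hπ0 hI
    refine Submodule.smul_induction_on h1 ?_ ?_
    · intro c hc k hk
      rw [Algebra.smul_def]
      exact Ideal.mul_mem_mul (Ideal.mem_map_of_mem _ hc) (c1 k hk)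
    · intro x y hx hy
      exact Ideal.add_mem _ hx hy
  have c3 : JA ≤ I.map (algebraMap R (Localization.AtPrime q)) • JA := by
    rw [Ideal.smul_eq_mul]
    apply Ideal.span_le.mpr
    rintro _ ⟨t, ht, rfl⟩
    apply c2
    have : t ∈ Ideal.span (T : Set S) := Ideal.subset_span ht
    rw [hT] at this
    exact this
  have hJA : JA = ⊥ := by
    apply Submodule.eq_bot_of_le_smul_of_le_jacobson_bot _ JA
      (Submodule.fg_span ((T.finite_toSet).image _)) c3
    rw [IsLocalRing.jacobson_eq_maximalIdeal ⊥ bot_ne_top]
    exact hIA
  -- spread out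
  have c4 : ∀ t ∈ T, ∃ m : q.primeCompl, (m : S) * t = 0 := by
    intro t ht
    have h1 : algebraMap S (Localization.AtPrime q) t ∈ JA :=
      Ideal.subset_span ⟨t, ht, rfl⟩
    rw [hJA, Ideal.mem_bot] at h1
    exact (IsLocalization.map_eq_zero_iff q.primeCompl (Localization.AtPrime q) t).mp h1
  choose! m hm using c4
  refine ⟨∏ t ∈ T, (m t : S), ?_, ?_⟩
  · have : (∏ t ∈ T, (m t : S)) ∈ q.primeCompl :=
      Submonoid.prod_mem _ fun t _ => (m t).2
    exact this
  · have hkill : ∀ j : S, f j = 0 → (∏ t ∈ T, (m t : S)) * j = 0 := by
      intro j hj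
      have h1 : j ∈ Ideal.span (T : Set S) := by
        rw [hT]
        exact hj
      refine Submodule.span_induction ?_ ?_ ?_ ?_ h1
      · intro t ht
        rw [← Finset.mul_prod_erase T _ ht, mul_comm (m t : S), mul_assoc, hm t ht, mul_zero]
      · exact mul_zero _
      · intro x y _ _ hx hy
        rw [mul_add, hx, hy, add_zero]
      · intro a x _ hx
        rw [smul_eq_mul, mul_left_comm, hx, mul_zero]
    constructor
    · rw [Localization.awayMap_injective_iff]
      intro a ha
      exact ⟨1, by rw [pow_one]; exact hkill a ha⟩
    · rw [Localization.awayMap_surjective_iff]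
      intro a
      obtain ⟨b, rfl⟩ := hf a
      exact ⟨b, 0, by simp⟩

end Groth.Agent.S9166
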