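import Groth.Statements.S9168
import Mathlib

set_option autoImplicit false
universe u
open CAlg

namespace Groth.Agent.S9168


universe v

/-- The localization of a subring `T` of a (local) ring `S` at the elements that are units in `S`,
realised as a subring of `S`. -/
def locSub {S : Type u} [CommRing S] (T : Subring S) : Subring S where
  carrier := {x | ∃ t ∈ T, IsUnit t ∧ x * t ∈ T}
  mul_mem' := by
    rintro x y ⟨t, ht, hu, hx⟩ ⟨t', ht', hu', hy⟩
    refine ⟨t * t', T.mul_mem ht ht', hu.mul hu', ?_⟩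
    have : x * y * (t * t') = (x * t) * (y * t') := by ring
    rw [this]
    exact T.mul_mem hx hy
  one_mem' := ⟨1, T.one_mem, isUnit_one, by simpa using T.one_mem⟩
  add_mem' := by
    rintro x y ⟨t, ht, hu, hx⟩ ⟨t', ht', hu', hy⟩
    refine ⟨t * t', T.mul_mem ht ht', hu.mul hu', ?_⟩
    have : (x + y) * (t * t') = (x * t) * t' + (y * t') * t := by ring
    rw [this]
    exact T.add_mem (T.mul_mem hx ht') (T.mul_mem hy ht)
  zero_mem' := ⟨1, T.one_mem, isUnit_one, by simpa using T.zero_mem⟩
  neg_mem' := by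
    rintro x ⟨t, ht, hu, hx⟩
    refine ⟨t, ht, hu, ?_⟩
    rw [neg_mul]
    exact T.neg_mem hx

theorem le_locSub {S : Type u} [CommRing S] (T : Subring S) : T ≤ locSub T := by
  intro x hx
  exact ⟨1, T.one_mem, isUnit_one, by simpa using hx⟩

theorem isUnit_locSub {S : Type u} [CommRing S] (T : Subring S) (x : locSub T)
    (hx : IsUnit (x : S)) : IsUnit x := by
  obtain ⟨t, ht, hu, hxt⟩ := x.2
  obtain ⟨y, hy⟩ := hx.exists_right_inv
  -- y = x⁻¹; y * (x * t) = t
  have hyT : y ∈ locSub T := by
    refine ⟨(x : S) * t, hxt, hx.mul hu, ?_⟩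
    have : y * ((x : S) * t) = ((x : S) * y) * t := by ring
    rw [this, hy, one_mul]
    exact ht
  refine IsUnit.of_mul_eq_one (⟨y, hyT⟩ : locSub T) ?_
  exact Subtype.ext hy

theorem isLocalHom_subtype {S : Type u} [CommRing S] (T : Subring S) :
    IsLocalHom (locSub T).subtype :=
  ⟨fun x hx => isUnit_locSub T x hx⟩

theorem isLocalRing_locSub {S : Type u} [CommRing S] [IsLocalRing S] (T : Subring S) :
    IsLocalRing (locSub T) := by
  refine IsLocalRing.of_isUnit_or_isUnit_one_sub_self fun a => ?_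
  rcases IsLocalRing.isUnit_or_isUnit_one_sub_self (a : S) with h | h
  · exact Or.inl (isUnit_locSub T a h)
  · exact Or.inr (isUnit_locSub T (1 - a) h)

theorem essFiniteType_locSub {S : Type u} [CommRing S] (T : Subring S)
    {B : Type v} [CommRing B] (ρ : B →+* locSub T) (σ : Finset S)
    (hT : T = Subring.closure (Set.range ((locSub T).subtype.comp ρ) ∪ (σ : Set S))) :
    ρ.EssFiniteType := by
  classical
  let _ := ρ.toAlgebra
  change Algebra.EssFiniteType B (locSub T)
  have hσ : ∀ x ∈ σ, x ∈ locSub T := by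
    intro x hx
    apply le_locSub T
    rw [hT]
    exact Subring.subset_closure (Or.inr hx)
  let σ' : Finset (locSub T) := σ.attach.image fun x => ⟨x.1, hσ x.1 x.2⟩
  rw [Algebra.essFiniteType_iff]
  refine ⟨σ', ?_⟩
  have key : T ≤ Subring.map (locSub T).subtype (Algebra.adjoin B (σ' : Set (locSub T))).toSubring := by
    conv_lhs => rw [hT]
    rw [Subring.closure_le]
    rintro x (⟨b, rfl⟩ | hx)
    · refine ⟨ρ b, ?_, rfl⟩
      exact (Algebra.adjoin B (σ' : Set (locSub T))).algebraMap_mem b
    · refine ⟨⟨x, hσ x hx⟩, ?_, rfl⟩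
      apply Algebra.subset_adjoin
      simp only [σ', Finset.coe_image, Set.mem_image, Finset.mem_coe, Finset.mem_attach, true_and]
      exact ⟨⟨x, hx⟩, rfl⟩
  have key' : ∀ x (hx : x ∈ T), (⟨x, le_locSub T hx⟩ : locSub T) ∈
      Algebra.adjoin B (σ' : Set (locSub T)) := by
    intro x hx
    obtain ⟨y, hy, hyx⟩ := key hx
    have : y = ⟨x, le_locSub T hx⟩ := Subtype.ext hyx
    rw [← this]
    exact hy
  intro s
  obtain ⟨t, ht, hu, hst⟩ := s.2
  refine ⟨⟨t, le_locSub T ht⟩, key' t ht, isUnit_locSub T _ hu, ?_⟩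
  have : s * ⟨t, le_locSub T ht⟩ = ⟨(s : S) * t, le_locSub T hst⟩ := Subtype.ext rfl
  rw [this]
  exact key' _ hst

theorem result' (R S : Type u) [CommRing R] [CommRing S] [IsLocalRing R]
    [IsLocalRing S] [Algebra R S] [IsLocalHom (algebraMap R S)] (E : Finset R) (F : Finset S) :
    ∃ (R₀ : Subring R) (S₀ : Subring S) (h : ∀ x ∈ R₀, algebraMap R S x ∈ S₀),
      (E : Set R) ⊆ R₀ ∧ (F : Set S) ⊆ S₀ ∧ ∃ (_ : IsLocalRing R₀) (_ : IsLocalRing S₀),
        IsLocalHom R₀.subtype ∧ IsLocalHom S₀.subtype ∧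
          IsLocalHom ((algebraMap R S).restrict R₀ S₀ h) ∧
          (algebraMap ℤ R₀).EssFiniteType ∧ ((algebraMap R S).restrict R₀ S₀ h).EssFiniteType := by
  classical
  let TR : Subring R := Subring.closure (E : Set R)
  let R₀ : Subring R := locSub TR
  let TS : Subring S := Subring.closure ((algebraMap R S) '' (R₀ : Set R) ∪ (F : Set S))
  let S₀ : Subring S := locSub TS
  have h : ∀ x ∈ R₀, algebraMap R S x ∈ S₀ := by
    intro x hx
    apply le_locSub TS
    exact Subring.subset_closure (Or.inl ⟨x, hx, rfl⟩)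
  refine ⟨R₀, S₀, h, ?_, ?_, isLocalRing_locSub TR, isLocalRing_locSub TS,
    isLocalHom_subtype TR, isLocalHom_subtype TS, ?_, ?_, ?_⟩
  · intro x hx
    exact le_locSub TR (Subring.subset_closure hx)
  · intro x hx
    exact le_locSub TS (Subring.subset_closure (Or.inr hx))
  · refine ⟨fun x hx => ?_⟩
    apply isUnit_locSub TR
    have h1 : IsUnit ((S₀.subtype) (((algebraMap R S).restrict R₀ S₀ h) x)) := hx.map S₀.subtype
    have h2 : IsUnit (algebraMap R S (x : R)) := h1
    exact isUnit_of_map_unit (algebraMap R S) _ h2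
  · apply essFiniteType_locSub TR (algebraMap ℤ R₀) E
    apply le_antisymm
    · exact Subring.closure_mono Set.subset_union_right
    · rw [Subring.closure_le]
      rintro x (⟨n, rfl⟩ | hx)
      · simp only [eq_intCast]
        exact intCast_mem _ n
      · exact Subring.subset_closure hx
  · apply essFiniteType_locSub TS ((algebraMap R S).restrict R₀ S₀ h) F
    change Subring.closure _ = Subring.closure _
    congr 2
    ext y
    constructor
    · rintro ⟨x, hx, rfl⟩
      exact ⟨⟨x, hx⟩, rfl⟩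
    · rintro ⟨x, rfl⟩
      exact ⟨x.1, x.2, rfl⟩


/-- For a local homomorphism of local rings R → S and finite subsets E ⊆ R, F ⊆ S there are local
subrings R₀ ⊆ R and S₀ ⊆ S containing E and F, with R → S mapping R₀ into S₀, such that the
inclusions and the induced map R₀ → S₀ are local homomorphisms, R₀ is essentially of finite type
over ℤ and S₀ is essentially of finite type over R₀. (So R → S is the directed colimit of such R₀ →
S₀.) -/
theorem result (R S : Type u) [CommRing R] [CommRing S] [IsLocalRing R]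
    [IsLocalRing S] [Algebra R S] [IsLocalHom (algebraMap R S)] (E : Finset R) (F : Finset S) :
    ∃ (R₀ : Subring R) (S₀ : Subring S) (h : ∀ x ∈ R₀, algebraMap R S x ∈ S₀),
      (E : Set R) ⊆ R₀ ∧ (F : Set S) ⊆ S₀ ∧ ∃ (_ : IsLocalRing R₀) (_ : IsLocalRing S₀),
        IsLocalHom R₀.subtype ∧ IsLocalHom S₀.subtype ∧
          IsLocalHom ((algebraMap R S).restrict R₀ S₀ h) ∧
          (algebraMap ℤ R₀).EssFiniteType ∧ ((algebraMap R S).restrict R₀ S₀ h).EssFiniteType := by
  exact result' R S E F

end Groth.Agent.S9168
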