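import Groth.Statements.S9171
import Groth.Agent.Lib.CIOver1
import Groth.Agent.Lib.H8LCICM

set_option autoImplicit false
set_option linter.style.haveILetI false
universe u
open Synt

namespace Groth.Agent.S9171


section
variable (k : Type u) [Field k] (n : ℕ)
    (I : Ideal (MvPolynomial (Fin n) k)) (q : Ideal (MvPolynomial (Fin n) k ⧸ I)) [q.IsPrime]

local notation "Q" => Ideal.comap (Ideal.Quotient.mk I) q
local notation "T" => Localization.AtPrime (Ideal.comap (Ideal.Quotient.mk I) q)

open Groth.Agent.Lib.KoszulIdeal Groth.Agent.Lib.SyntLCI Groth.Agent.Lib.KRDescC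
  Groth.Agent.Lib.CIOver LocCoh IsLocalRing RingTheory.Sequence in
/-- the core: in `T = k[x]_{q'}`, generators of `I T`: regular iff the number is `c`. -/
theorem core (c : ℕ)
    (hc : (c : ℕ∞) + q.height = (q.comap (Ideal.Quotient.mk I)).height)
    (rs : List (Localization.AtPrime (q.comap (Ideal.Quotient.mk I))))
    (hrs : Ideal.ofList rs =
      I.map (algebraMap _ (Localization.AtPrime (q.comap (Ideal.Quotient.mk I))))) :
    (IsWeaklyRegular (Localization.AtPrime (q.comap (Ideal.Quotient.mk I))) rs ↔ rs.length = c) ∧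
    (∀ rs' : List (Localization.AtPrime (q.comap (Ideal.Quotient.mk I))),
      Ideal.ofList rs' = Ideal.ofList rs → rs.length = c → c ≤ rs'.length) ∧
    (IsWeaklyRegular (Localization.AtPrime (q.comap (Ideal.Quotient.mk I))) rs →
      IsRegular (Localization.AtPrime (q.comap (Ideal.Quotient.mk I))) rs) := by
  haveI : IsCohenMacaulayLocalRing T :=
    IsCohenMacaulayRing.isCohenMacaulayLocalRing_localization Q
  haveI : IsNoetherianRing T := IsLocalization.isNoetherianRing (Q).primeCompl T inferInstance
  have hIm : I.map (algebraMap _ T) ≤ maximalIdeal T := by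
    have h2 : I.map (algebraMap _ T) ≤ (Q).map (algebraMap _ T) := Ideal.map_mono (le_comap_mk k I q)
    rwa [Localization.AtPrime.map_eq_maximalIdeal] at h2
  have hmem : ∀ l : List T, Ideal.ofList l = Ideal.ofList rs → ∀ x ∈ l, x ∈ maximalIdeal T := by
    intro l hl x hx
    have h1 : x ∈ Ideal.ofList l := Ideal.subset_span hx
    rw [hl, hrs] at h1
    exact hIm h1
  have e1 : ringKrullDim T = (Q).height := IsLocalization.AtPrime.ringKrullDim_eq_height Q _
  have e2 : ∀ l : List T, Ideal.ofList l = Ideal.ofList rs →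
      ringKrullDim (T ⧸ Ideal.ofList l) = q.height := by
    intro l hl
    rw [← IsLocalization.AtPrime.ringKrullDim_eq_height q (Localization.AtPrime q), hl, hrs]
    exact (ringKrullDim_eq_of_ringEquiv (locQuotAlgEquiv k I q).toRingEquiv).symm
  have hfinQ : (Q).height ≠ ⊤ := Ideal.height_ne_top (Ideal.IsPrime.ne_top inferInstance)
  have hfinq : q.height ≠ ⊤ := Ideal.height_ne_top (Ideal.IsPrime.ne_top inferInstance)
  obtain ⟨a, ha⟩ := ENat.ne_top_iff_exists.mp hfinq
  obtain ⟨b, hb⟩ := ENat.ne_top_iff_exists.mp hfinQ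
  rw [← ha, ← hb] at hc
  have hc' : c + a = b := by exact_mod_cast hc
  refine ⟨?_, ?_, ?_⟩
  · rw [Groth.Agent.Lib.H8CM.isWeaklyRegular_self_iff rs (hmem rs rfl), e1, e2 rs rfl, ← ha, ← hb]
    constructor
    · intro h
      have h' : a + rs.length = b := by exact_mod_cast h
      omega
    · intro h
      have h' : a + rs.length = b := by omega
      exact_mod_cast h'
  · intro rs' hrs' hlen
    have hK := Groth.Agent.Lib.H8LCICM.ringKrullDim_le_quotient_ofList_add rs' (hmem rs' hrs')
    rw [e1, e2 rs' hrs', ← ha, ← hb] at hK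
    have hK' : b ≤ a + rs'.length := by exact_mod_cast hK
    omega
  · intro hw
    refine ⟨hw, ?_⟩
    intro htop
    have h4 : (Ideal.ofList rs • (⊤ : Submodule T T)) ≤ maximalIdeal T := by
      rw [Ideal.smul_top_eq_map]
      simpa [hrs] using hIm
    rw [← htop] at h4
    exact (maximalIdeal.isMaximal T).ne_top (top_le_iff.mp h4)

open Groth.Agent.Lib.KoszulIdeal Groth.Agent.Lib.SyntLCI Groth.Agent.Lib.KRDescC
  Groth.Agent.Lib.CIOver LocCoh IsLocalRing RingTheory.Sequence in
/-- (1) ⇔ (5) -/
theorem one_iff_five :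
    (∃ g : MvPolynomial (Fin n) k ⧸ I, g ∉ q ∧ Synt.IsGlobalCI k (Localization.Away g)) ↔
        ∃ rs : List T, IsRegular T rs ∧ Ideal.ofList rs = I.map (algebraMap _ T) := by
  haveI : IsNoetherianRing T := IsLocalization.isNoetherianRing (Q).primeCompl T inferInstance
  constructor
  · rintro ⟨g, hg, hG⟩
    obtain ⟨G, hGQ, hgen⟩ := genAt_of_isLCIOver_away k I q hg (isLCIOver_of_isGlobalCI k hG)
    haveI : Module.Flat (MvPolynomial (Fin n) k) T := IsLocalization.flat T (Q).primeCompl
    have hug : IsUnit (algebraMap (MvPolynomial (Fin n) k) T G) :=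
      (IsLocalization.AtPrime.isUnit_to_map_iff T Q G).mpr hGQ
    obtain ⟨s, hs⟩ := hgen.exists_genLen
    obtain ⟨l, -, hl, hIl⟩ := hs.transfer T hug
    have hmem : ∀ x ∈ l, x ∈ maximalIdeal T := by
      intro x hx
      have h1 : x ∈ Ideal.ofList l := Ideal.subset_span hx
      rw [← hIl] at h1
      have h2 : I.map (algebraMap _ T) ≤ (Q).map (algebraMap _ T) :=
        Ideal.map_mono (le_comap_mk k I q)
      rw [Localization.AtPrime.map_eq_maximalIdeal] at h2
      exact h2 h1
    have hw := isWeaklyRegular_of_isKoszulRegularSeq l hl hmem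
    refine ⟨l, ?_, hIl.symm⟩
    refine ⟨hw, ?_⟩
    intro htop
    have h3 : Ideal.ofList l ≤ maximalIdeal T := Ideal.span_le.mpr hmem
    have h4 : (Ideal.ofList l • (⊤ : Submodule T T)) ≤ maximalIdeal T := by
      rw [Ideal.smul_top_eq_map]
      simpa using h3
    rw [← htop] at h4
    exact (maximalIdeal.isMaximal T).ne_top (top_le_iff.mp h4)
  · rintro ⟨rs, hreg, hrs⟩
    have hkr := (Groth.Agent.S15821.result T rs hreg.toIsWeaklyRegular).1
    obtain ⟨G, hG, hgen⟩ := exists_genAt_of_atPrime k I Q rs hkr hrs.symm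
    exact exists_isGlobalCI_away_of_genAt k I q hG hgen

open RingTheory.Sequence in
/-- (2) ⇔ (5) -/
theorem two_iff_five (c : ℕ)
    (hc : (c : ℕ∞) + q.height = (q.comap (Ideal.Quotient.mk I)).height) :
    (∃ s : Finset T, s.card = c ∧ Ideal.span (s : Set _) = I.map (algebraMap _ T)) ↔
        ∃ rs : List T, IsRegular T rs ∧ Ideal.ofList rs = I.map (algebraMap _ T) := by
  classical
  have hofList : ∀ s : Finset T, Ideal.ofList s.toList = Ideal.span (s : Set T) := by
    intro s
    unfold Ideal.ofList
    congr 1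
    ext x
    simp
  constructor
  · rintro ⟨s, hs, hspan⟩
    have hrs : Ideal.ofList s.toList = I.map (algebraMap _ T) := by rw [hofList, hspan]
    obtain ⟨h1, -, h3⟩ := core k n I q c hc s.toList hrs
    exact ⟨s.toList, h3 (h1.mpr (by rw [Finset.length_toList, hs])), hrs⟩
  · rintro ⟨rs, hreg, hrs⟩
    obtain ⟨h1, h2, -⟩ := core k n I q c hc rs hrs
    have hlen := h1.mp hreg.toIsWeaklyRegular
    have hspan : Ideal.span ((rs.toFinset : Finset T) : Set T) = Ideal.ofList rs := by
      unfold Ideal.ofList
      congr 1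
      ext x
      simp
    refine ⟨rs.toFinset, le_antisymm ?_ ?_, by rw [hspan, hrs]⟩
    · rw [← hlen]
      exact List.toFinset_card_le rs
    · have := h2 rs.toFinset.toList (by rw [hofList, hspan]) hlen
      rwa [Finset.length_toList] at this

end

/-- Let S = k[x_1, …, x_n]/I over a field k, q a prime of S, q' the corresponding prime of the
polynomial ring and c the integer with c + ht(q) = ht(q'). Equivalent: (1) S_g is a global complete
intersection over k for some g ∉ q; (2) the extension of I to the local ring k[x]_{q'} is generated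
by c elements; (5) that extension is generated by a regular sequence. Stated as (1) ↔ (2) and (1) ↔
(5). -/
theorem result (k : Type u) [Field k] (n : ℕ)
    (I : Ideal (MvPolynomial (Fin n) k)) (q : Ideal (MvPolynomial (Fin n) k ⧸ I)) [q.IsPrime] (c : ℕ)
    (hc : (c : ℕ∞) + q.height = (q.comap (Ideal.Quotient.mk I)).height) :
    ((∃ g : MvPolynomial (Fin n) k ⧸ I, g ∉ q ∧ Synt.IsGlobalCI k (Localization.Away g)) ↔
        ∃ s : Finset (Localization.AtPrime (q.comap (Ideal.Quotient.mk I))), s.card = c ∧
          Ideal.span (s : Set _) =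
            I.map (algebraMap _ (Localization.AtPrime (q.comap (Ideal.Quotient.mk I))))) ∧
      ((∃ g : MvPolynomial (Fin n) k ⧸ I, g ∉ q ∧ Synt.IsGlobalCI k (Localization.Away g)) ↔
        ∃ rs : List (Localization.AtPrime (q.comap (Ideal.Quotient.mk I))),
          RingTheory.Sequence.IsRegular (Localization.AtPrime (q.comap (Ideal.Quotient.mk I))) rs ∧
          Ideal.ofList rs =
            I.map (algebraMap _ (Localization.AtPrime (q.comap (Ideal.Quotient.mk I))))) := by
  refine ⟨?_, one_iff_five k n I q⟩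
  rw [one_iff_five k n I q]
  exact (two_iff_five k n I q c hc).symm

end Groth.Agent.S9171
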