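import Groth.Statements.S9176
import Mathlib
import Groth.Agent.Lib.H79FibLocDimBC

set_option autoImplicit false
universe u
open CAlg

namespace Groth.Agent.S9176
open Groth.Agent.Lib.H56LocDim Groth.Agent.Lib.H79FibLocDimBC

theorem set_eq (R S : Type u) [CommRing R] [CommRing S] [Algebra R S] (n : ℕ) :
    {q : PrimeSpectrum S | ∀ Q : PrimeSpectrum ((q.asIdeal.under R).Fiber S),
        Q.asIdeal.comap (Algebra.TensorProduct.includeRight.toRingHom) = q.asIdeal →
          FlatMor.localDim (PrimeSpectrum ((q.asIdeal.under R).Fiber S)) Q ≤ (n : WithBot ℕ∞)} =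
    {q : PrimeSpectrum S |
        fibLocDim (PrimeSpectrum.comap (algebraMap R S)) q ≤ (n : WithBot ℕ∞)} := by
  ext q
  simp only [Set.mem_ofPred_eq]
  obtain ⟨p, hp⟩ : ∃ p, p = PrimeSpectrum.comap (algebraMap R S) q := ⟨_, rfl⟩
  constructor
  · intro h
    let Q := PrimeSpectrum.preimageEquivFiber R S (PrimeSpectrum.comap (algebraMap R S) q) ⟨q, rfl⟩
    have hQ : PrimeSpectrum.comap (Algebra.TensorProduct.includeRight.toRingHom :
        S →+* (PrimeSpectrum.comap (algebraMap R S) q).asIdeal.Fiber S) Q = q :=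
      congrArg Subtype.val ((PrimeSpectrum.preimageEquivFiber R S
        (PrimeSpectrum.comap (algebraMap R S) q)).symm_apply_apply ⟨q, rfl⟩)
    have h1 := fibLocDim_eq_localDim_fiber (PrimeSpectrum.comap (algebraMap R S) q) Q
    rw [hQ] at h1
    rw [h1]
    exact h Q (congrArg PrimeSpectrum.asIdeal hQ)
  · intro h Q hQ
    have hQ' : PrimeSpectrum.comap (Algebra.TensorProduct.includeRight.toRingHom :
        S →+* (PrimeSpectrum.comap (algebraMap R S) q).asIdeal.Fiber S) Q = q :=
      PrimeSpectrum.ext hQ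
    have h1 := fibLocDim_eq_localDim_fiber (PrimeSpectrum.comap (algebraMap R S) q) Q
    rw [hQ'] at h1
    exact h1 ▸ h


/-- For a ring map R → S of finite presentation and n ≥ 0, the set of primes q of S whose fibre
Spec(κ(p) ⊗ S), p = q ∩ R, has local dimension at most n at the point over q is open and
quasi-compact in Spec S. -/
theorem result (R S : Type u) [CommRing R]
    [CommRing S] [Algebra R S] [Algebra.FinitePresentation R S] (n : ℕ) :
    IsOpen {q : PrimeSpectrum S | ∀ Q : PrimeSpectrum ((q.asIdeal.under R).Fiber S),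
        Q.asIdeal.comap (Algebra.TensorProduct.includeRight.toRingHom) = q.asIdeal →
          FlatMor.localDim (PrimeSpectrum ((q.asIdeal.under R).Fiber S)) Q ≤ (n : WithBot ℕ∞)} ∧
      IsCompact {q : PrimeSpectrum S | ∀ Q : PrimeSpectrum ((q.asIdeal.under R).Fiber S),
        Q.asIdeal.comap (Algebra.TensorProduct.includeRight.toRingHom) = q.asIdeal →
          FlatMor.localDim (PrimeSpectrum ((q.asIdeal.under R).Fiber S)) Q ≤ (n : WithBot ℕ∞)} := by
  rw [set_eq]
  exact ⟨(isCompact_isOpen_fibLocDim_le R S n).2, (isCompact_isOpen_fibLocDim_le R S n).1⟩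

end Groth.Agent.S9176
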