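import Groth.Statements.S9177
import Mathlib

set_option autoImplicit false
set_option linter.unusedSectionVars false
set_option linter.unusedVariables false
universe u
open CAlg

namespace Groth.Agent.S9177

open TensorProduct

section KL
variable {ι : Type u} [Preorder ι] [Nonempty ι] [IsDirectedOrder ι] [DecidableEq ι]
    (G : ι → Type u) [∀ i, CommRing (G i)]
    (f : ∀ i j, i ≤ j → G i →+* G j) [DirectedSystem G (fun i j h => f i j h)]
    (A : Type u) [CommRing A] [∀ i, Algebra A (G i)]
    (hf : ∀ i j (h : i ≤ j), (f i j h).comp (algebraMap A (G i)) = algebraMap A (G j))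

/-- transition maps as linear maps -/
noncomputable def fl (i j : ι) (h : i ≤ j) : G i →ₗ[A] G j :=
  { (f i j h : G i →+ G j) with
    map_smul' := fun a x => by
      have := RingHom.congr_fun (hf i j h) a
      simp only [RingHom.comp_apply] at this
      simp [Algebra.smul_def, this] }

@[simp] lemma fl_apply (i j : ι) (h : i ≤ j) (x : G i) : fl G f A hf i j h x = f i j h x := rfl

instance : DirectedSystem G (fun i j h => fl G f A hf i j h) where
  map_self i x := DirectedSystem.map_self (f := fun i j h => f i j h) x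
  map_map k j i hij hjk x := DirectedSystem.map_map (f := fun i j h => f i j h) hij hjk x

variable [Algebra A (Ring.DirectLimit G (fun i j h => f i j h))]
  (hR : ∀ i a, Ring.DirectLimit.of G (fun i j h => f i j h) i (algebraMap A (G i) a) =
    algebraMap A (Ring.DirectLimit G (fun i j h => f i j h)) a)

/-- the structure maps as linear maps -/
noncomputable def ofl (i : ι) : G i →ₗ[A] Ring.DirectLimit G (fun i j h => f i j h) :=
  { (Ring.DirectLimit.of G (fun i j h => f i j h) i : G i →+ _) with
    map_smul' := fun a x => by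
      simp [Algebra.smul_def, hR] }

@[simp] lemma ofl_apply (i : ι) (x : G i) :
    ofl G f A hR i x = Ring.DirectLimit.of G (fun i j h => f i j h) i x := rfl

lemma ofl_fl (i j : ι) (hij : i ≤ j) (x : G i) :
    ofl G f A hR j (fl G f A hf i j hij x) = ofl G f A hR i x :=
  Ring.DirectLimit.of_f hij x

/-- comparison map -/
noncomputable def Phi : Module.DirectLimit G (fun i j h => fl G f A hf i j h) →ₗ[A]
    Ring.DirectLimit G (fun i j h => f i j h) :=
  Module.DirectLimit.lift A ι G (fun i j h => fl G f A hf i j h) (fun i => ofl G f A hR i)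
    (fun i j hij x => ofl_fl G f A hf hR i j hij x)

lemma Phi_of (i : ι) (x : G i) :
    Phi G f A hf hR (Module.DirectLimit.of A ι G (fun i j h => fl G f A hf i j h) i x) =
      Ring.DirectLimit.of G (fun i j h => f i j h) i x := by
  rw [Phi, Module.DirectLimit.lift_of]; rfl

lemma Phi_bijective : Function.Bijective (Phi G f A hf hR) := by
  constructor
  · rw [injective_iff_map_eq_zero]
    intro z hz
    obtain ⟨i, x, rfl⟩ := Module.DirectLimit.exists_of z
    rw [Phi_of] at hz
    obtain ⟨j, hij, hj⟩ := Ring.DirectLimit.of.zero_exact hz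
    rw [← Module.DirectLimit.of_f (hij := hij), fl_apply, hj, map_zero]
  · intro r
    obtain ⟨i, x, rfl⟩ := Ring.DirectLimit.exists_of r
    exact ⟨_, Phi_of G f A hf hR i x⟩

/-- the comparison iso -/
noncomputable def PhiE : Module.DirectLimit G (fun i j h => fl G f A hf i j h) ≃ₗ[A]
    Ring.DirectLimit G (fun i j h => f i j h) :=
  LinearEquiv.ofBijective (Phi G f A hf hR) (Phi_bijective G f A hf hR)

lemma ofl_eq (i : ι) : ofl G f A hR i = (PhiE G f A hf hR).toLinearMap ∘ₗ
    Module.DirectLimit.of A ι G (fun i j h => fl G f A hf i j h) i := by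
  ext x
  simp [PhiE, Phi_of]

variable (M : Type u) [AddCommGroup M] [Module A M]

lemma KL1 (i : ι) (x : G i ⊗[A] M) (hx : (ofl G f A hR i).rTensor M x = 0) :
    ∃ j, ∃ hij : i ≤ j, (fl G f A hf i j hij).rTensor M x = 0 := by
  rw [ofl_eq G f A hf hR, LinearMap.rTensor_comp, LinearMap.comp_apply] at hx
  have h1 : (Module.DirectLimit.of A ι G (fun i j h => fl G f A hf i j h) i).rTensor M x = 0 := by
    have hinj : Function.Injective ((PhiE G f A hf hR).toLinearMap.rTensor M) :=
      ((PhiE G f A hf hR).rTensor M).injective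
    exact hinj (by rw [hx, map_zero])
  have h2 := congrArg (TensorProduct.directLimitLeft (fun i j h => fl G f A hf i j h) M) h1
  rw [TensorProduct.directLimitLeft_rTensor_of, map_zero] at h2
  exact Module.DirectLimit.of.zero_exact h2

include hf in
lemma KL2 (y : Ring.DirectLimit G (fun i j h => f i j h) ⊗[A] M) :
    ∃ i, ∃ x : G i ⊗[A] M, (ofl G f A hR i).rTensor M x = y := by
  induction y using TensorProduct.induction_on with
  | zero => exact ⟨Classical.arbitrary ι, 0, map_zero _⟩
  | tmul r m =>
    obtain ⟨i, x, rfl⟩ := Ring.DirectLimit.exists_of r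
    exact ⟨i, x ⊗ₜ m, by simp⟩
  | add y y' ih ih' =>
    obtain ⟨i, x, rfl⟩ := ih
    obtain ⟨i', x', rfl⟩ := ih'
    obtain ⟨k, hik, hi'k⟩ := exists_ge_ge i i'
    refine ⟨k, (fl G f A hf i k hik).rTensor M x + (fl G f A hf i' k hi'k).rTensor M x', ?_⟩
    rw [map_add, ← LinearMap.comp_apply, ← LinearMap.comp_apply, ← LinearMap.rTensor_comp,
      ← LinearMap.rTensor_comp]
    congr 3
    · ext z; simp
    · ext z; simp

end KL

section Nat
variable {A : Type u} [CommRing A] {B C : Type u} [CommRing B] [CommRing C] [Algebra A B]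
  [Algebra A C]

lemma nat_map {G G' : Type u} [CommRing G] [CommRing G'] [Algebra A G] [Algebra A G']
    (φ : G →ₗ[A] G') (u : B →ₐ[A] C) (x : G ⊗[A] B) :
    φ.rTensor C (Algebra.TensorProduct.map (AlgHom.id A G) u x) =
      Algebra.TensorProduct.map (AlgHom.id A G') u (φ.rTensor B x) := by
  induction x using TensorProduct.induction_on with
  | zero => simp
  | tmul g b => simp
  | add x y hx hy => simp [hx, hy]

end Nat

open TensorProduct in
/-- Let R = colim R_i be a directed colimit of A-algebras (compatible transition maps), B and C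
A-algebras. (1) If B is of finite type over A, two A-algebra maps B → C whose base changes to R
coincide already have equal base changes to some R_i. (2) If C is of finite type over A and u : B →
C has surjective base change to R, then its base change to some R_i is surjective. (The A-algebra
structure on R is through any stage R_l; it does not depend on l.) -/
theorem result {ι : Type u} [Preorder ι]
    [Nonempty ι] [IsDirectedOrder ι] (G : ι → Type u) [∀ i, CommRing (G i)]
    (f : ∀ i j, i ≤ j → G i →+* G j) [DirectedSystem G (fun i j h => f i j h)]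
    (A : Type u) [CommRing A] [∀ i, Algebra A (G i)]
    (hf : ∀ i j (h : i ≤ j), (f i j h).comp (algebraMap A (G i)) = algebraMap A (G j)) (l : ι)
    (B C : Type u) [CommRing B] [CommRing C] [Algebra A B] [Algebra A C] :
    letI : Algebra A (Ring.DirectLimit G (fun i j h => f i j h)) :=
      ((Ring.DirectLimit.of G (fun i j h => f i j h) l).comp (algebraMap A (G l))).toAlgebra
    (Algebra.FiniteType A B → ∀ u u' : B →ₐ[A] C,
        Algebra.TensorProduct.map (AlgHom.id A (Ring.DirectLimit G (fun i j h => f i j h))) u =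
            Algebra.TensorProduct.map (AlgHom.id A (Ring.DirectLimit G (fun i j h => f i j h))) u' →
          ∃ i : ι, Algebra.TensorProduct.map (AlgHom.id A (G i)) u =
            Algebra.TensorProduct.map (AlgHom.id A (G i)) u') ∧
      (Algebra.FiniteType A C → ∀ u : B →ₐ[A] C,
        Function.Surjective
            (Algebra.TensorProduct.map (AlgHom.id A (Ring.DirectLimit G (fun i j h => f i j h))) u) →
          ∃ i : ι, Function.Surjective (Algebra.TensorProduct.map (AlgHom.id A (G i)) u)) := by
  classical
  let algR : Algebra A (Ring.DirectLimit G (fun i j h => f i j h)) :=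
    ((Ring.DirectLimit.of G (fun i j h => f i j h) l).comp (algebraMap A (G l))).toAlgebra
  have hR : ∀ i a, Ring.DirectLimit.of G (fun i j h => f i j h) i (algebraMap A (G i) a) =
      algebraMap A (Ring.DirectLimit G (fun i j h => f i j h)) a := by
    intro i a
    obtain ⟨k, hik, hlk⟩ := exists_ge_ge i l
    have h1 : algebraMap A (Ring.DirectLimit G (fun i j h => f i j h)) a =
        Ring.DirectLimit.of G (fun i j h => f i j h) l (algebraMap A (G l) a) := rfl
    rw [h1, ← Ring.DirectLimit.of_f hik, ← Ring.DirectLimit.of_f hlk]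
    have e1 := RingHom.congr_fun (hf i k hik) a
    have e2 := RingHom.congr_fun (hf l k hlk) a
    simp only [RingHom.comp_apply] at e1 e2
    rw [e1, e2]
  refine ⟨fun hB u u' huu' => ?_, fun hC u hsurj => ?_⟩
  · obtain ⟨S, hS⟩ := hB.out
    have key : ∀ b : B, ∃ j : ι, (1 : G j) ⊗ₜ[A] u b = (1 : G j) ⊗ₜ[A] u' b := by
      intro b
      have h0 : (ofl G f A hR l).rTensor C ((1 : G l) ⊗ₜ[A] u b - (1 : G l) ⊗ₜ[A] u' b) = 0 := by
        have := AlgHom.congr_fun huu'
          ((1 : Ring.DirectLimit G (fun i j h => f i j h)) ⊗ₜ[A] b)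
        simp only [Algebra.TensorProduct.map_tmul, AlgHom.id_apply] at this
        simp [this]
      obtain ⟨j, hlj, hj⟩ := KL1 G f A hf hR C l _ h0
      refine ⟨j, ?_⟩
      simpa [sub_eq_zero] using hj
    choose jb hjb using key
    obtain ⟨i, hi⟩ := Finset.exists_le (S.image jb)
    refine ⟨i, ?_⟩
    have hSi : ∀ b ∈ S, (1 : G i) ⊗ₜ[A] u b = (1 : G i) ⊗ₜ[A] u' b := by
      intro b hb
      have hle : jb b ≤ i := hi _ (Finset.mem_image_of_mem _ hb)
      have := congrArg ((fl G f A hf (jb b) i hle).rTensor C) (hjb b)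
      simpa using this
    apply Algebra.TensorProduct.ext
    · ext g; simp
    · apply AlgHom.ext_of_adjoin_eq_top hS
      intro b hb
      simp [hSi b hb]
  · obtain ⟨S, hS⟩ := hC.out
    have key : ∀ c : C, ∃ j : ι, ∃ x : G j ⊗[A] B,
        Algebra.TensorProduct.map (AlgHom.id A (G j)) u x = (1 : G j) ⊗ₜ[A] c := by
      intro c
      obtain ⟨y, hy⟩ := hsurj ((1 : Ring.DirectLimit G (fun i j h => f i j h)) ⊗ₜ[A] c)
      obtain ⟨i, x, rfl⟩ := KL2 G f A hf hR B y
      have h0 : (ofl G f A hR i).rTensor C
          (Algebra.TensorProduct.map (AlgHom.id A (G i)) u x - (1 : G i) ⊗ₜ[A] c) = 0 := by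
        rw [map_sub, nat_map, hy]; simp
      obtain ⟨j, hij, hj⟩ := KL1 G f A hf hR C i _ h0
      refine ⟨j, (fl G f A hf i j hij).rTensor B x, ?_⟩
      rw [map_sub, sub_eq_zero] at hj
      rw [← nat_map, hj]; simp
    choose jc xc hxc using key
    obtain ⟨i, hi⟩ := Finset.exists_le (S.image jc)
    refine ⟨i, ?_⟩
    have hSi : ∀ c ∈ S, (1 : G i) ⊗ₜ[A] c ∈
        (Algebra.TensorProduct.map (AlgHom.id A (G i)) u).range := by
      intro c hc
      have hle : jc c ≤ i := hi _ (Finset.mem_image_of_mem _ hc)
      refine ⟨(fl G f A hf (jc c) i hle).rTensor B (xc c), ?_⟩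
      have := nat_map (fl G f A hf (jc c) i hle) u (xc c)
      rw [hxc] at this
      change (Algebra.TensorProduct.map (AlgHom.id A (G i)) u) _ = _
      rw [← this]; simp
    have hall : ∀ c : C, (1 : G i) ⊗ₜ[A] c ∈
        (Algebra.TensorProduct.map (AlgHom.id A (G i)) u).range := by
      intro c
      have hc : c ∈ Algebra.adjoin A (S : Set C) := by rw [hS]; trivial
      have hle : Algebra.adjoin A (S : Set C) ≤
          ((Algebra.TensorProduct.map (AlgHom.id A (G i)) u).range).comap
            Algebra.TensorProduct.includeRight :=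
        Algebra.adjoin_le (fun c hc => hSi c hc)
      exact hle hc
    intro z
    induction z using TensorProduct.induction_on with
    | zero => exact ⟨0, map_zero _⟩
    | tmul g c =>
      obtain ⟨w, hw⟩ := hall c
      have hw' : (Algebra.TensorProduct.map (AlgHom.id A (G i)) u) w = 1 ⊗ₜ[A] c := hw
      refine ⟨(g ⊗ₜ 1) * w, ?_⟩
      rw [map_mul, hw']; simp
    | add z z' hz hz' =>
      obtain ⟨w, rfl⟩ := hz
      obtain ⟨w', rfl⟩ := hz'
      exact ⟨w + w', map_add _ _ _⟩

end Groth.Agent.S9177
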