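import Groth.Statements.S9178
-- import your own Groth.Agent.* helpers here

set_option autoImplicit false
universe u
open CAlg

namespace Groth.Agent.S9178

open TensorProduct

/-- A `B`-linear map out of `C` determined by an element killed by `ker (B → C)`. -/
theorem exists_linearMap_of_surjective {B C : Type u} [CommRing B] [CommRing C] [Algebra B C]
    (hπ : Function.Surjective (algebraMap B C)) {X : Type u} [AddCommGroup X] [Module B X] (x : X)
    (hx : ∀ j ∈ RingHom.ker (algebraMap B C), j • x = 0) :
    ∃ l : C →ₗ[B] X, l 1 = x := by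
  refine ⟨(Submodule.liftQ _ (LinearMap.toSpanSingleton B X x) ?_) ∘ₗ
    ((Algebra.linearMap B C).quotKerEquivOfSurjective hπ).symm.toLinearMap, ?_⟩
  · intro j hj
    rw [LinearMap.mem_ker, Algebra.linearMap_apply] at hj
    rw [LinearMap.mem_ker, LinearMap.toSpanSingleton_apply]
    exact hx j hj
  · have h1 : ((Algebra.linearMap B C).quotKerEquivOfSurjective hπ).symm 1 =
        Submodule.Quotient.mk 1 := by
      rw [LinearEquiv.symm_apply_eq, LinearMap.quotKerEquivOfSurjective_apply_mk,
        Algebra.linearMap_apply, map_one]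
    rw [LinearMap.comp_apply, LinearEquiv.coe_coe, h1, Submodule.liftQ_apply,
      LinearMap.toSpanSingleton_apply, one_smul]

/-- Extending a `B`-linear map `N → M` to `C ⊗[B] N` when `M` is killed by `ker (B → C)`. -/
theorem exists_lift_tensor {B C : Type u} [CommRing B] [CommRing C] [Algebra B C]
    (hπ : Function.Surjective (algebraMap B C)) {N M : Type u} [AddCommGroup N] [Module B N]
    [AddCommGroup M] [Module B M] (l : N →ₗ[B] M)
    (hM : ∀ j ∈ RingHom.ker (algebraMap B C), ∀ m : M, j • m = 0) :
    ∃ Ψ : C ⊗[B] N →ₗ[B] M, ∀ n, Ψ (1 ⊗ₜ n) = l n := by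
  obtain ⟨l₀, hl₀⟩ := exists_linearMap_of_surjective hπ (X := N →ₗ[B] M) l (by
    intro j hj
    ext n
    simp [hM j hj])
  refine ⟨TensorProduct.lift l₀, fun n => ?_⟩
  rw [TensorProduct.lift.tmul, hl₀]

section

variable (A B C : Type u) [CommRing A] [CommRing B]
    [CommRing C] [Algebra A B] [Algebra B C] [Algebra A C] [IsScalarTower A B C]
    (hAC : Function.Surjective (algebraMap A C))
    (h : RingHom.ker (algebraMap A C) ≤ (RingHom.ker (algebraMap B C)).comap (Algebra.ofId A B))

omit hAC h in
theorem sub_mem_ker (b : B) (a : A) (hab : algebraMap B C b = algebraMap A C a) :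
    b - algebraMap A B a ∈ RingHom.ker (algebraMap B C) := by
  rw [RingHom.mem_ker, map_sub, ← IsScalarTower.algebraMap_apply, hab, sub_self]

/-- The image of `I/I²` in `J/J²`, as a `B`-submodule. -/
def imageSub : Submodule B (RingHom.ker (algebraMap B C)).Cotangent where
  carrier := Set.range (Ideal.mapCotangent (RingHom.ker (algebraMap A C))
    (RingHom.ker (algebraMap B C)) (Algebra.ofId A B) h)
  add_mem' := by
    rintro _ _ ⟨x, rfl⟩ ⟨y, rfl⟩
    exact ⟨x + y, map_add _ _ _⟩
  zero_mem' := ⟨0, map_zero _⟩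
  smul_mem' := by
    rintro b _ ⟨x, rfl⟩
    obtain ⟨a, ha⟩ := hAC (algebraMap B C b)
    refine ⟨a • x, ?_⟩
    rw [map_smul]
    have h0 := Ideal.Cotangent.smul_eq_zero_of_mem (sub_mem_ker A B C b a ha.symm)
      (Ideal.mapCotangent (RingHom.ker (algebraMap A C))
        (RingHom.ker (algebraMap B C)) (Algebra.ofId A B) h x)
    rw [sub_smul, sub_eq_zero, algebraMap_smul] at h0
    exact h0.symm


/-- The cokernel of `I/I² → J/J²`. -/
abbrev Coker : Type u := (RingHom.ker (algebraMap B C)).Cotangent ⧸ imageSub A B C hAC h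

omit hAC h in
/-- Elements of `J` kill `J/J²`. -/
theorem smul_eq_smul_of_eq (b : B) (a : A) (hab : algebraMap B C b = algebraMap A C a)
    (m : (RingHom.ker (algebraMap B C)).Cotangent) : b • m = a • m := by
  have h0 := Ideal.Cotangent.smul_eq_zero_of_mem (sub_mem_ker A B C b a hab) m
  rwa [sub_smul, sub_eq_zero, algebraMap_smul] at h0

/-- The class of `b - φ a` in the cokernel. -/
noncomputable def cls (b : B) (a : A) (hab : algebraMap B C b = algebraMap A C a) :
    Coker A B C hAC h :=
  (imageSub A B C hAC h).mkQ (Ideal.toCotangent _ ⟨b - algebraMap A B a, sub_mem_ker A B C b a hab⟩)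

theorem cls_eq (b : B) (a a' : A) (hab : algebraMap B C b = algebraMap A C a)
    (hab' : algebraMap B C b = algebraMap A C a') :
    cls A B C hAC h b a hab = cls A B C hAC h b a' hab' := by
  unfold cls
  rw [← sub_eq_zero, ← map_sub, ← map_sub, Submodule.mkQ_apply, Submodule.Quotient.mk_eq_zero]
  have hI : a' - a ∈ RingHom.ker (algebraMap A C) := by
    rw [RingHom.mem_ker, map_sub, ← hab, ← hab', sub_self]
  refine ⟨Ideal.toCotangent _ ⟨a' - a, hI⟩, ?_⟩
  rw [Ideal.mapCotangent_toCotangent]
  congr 1
  ext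
  simp [Algebra.ofId_apply]

/-- The function underlying the derivation `B → coker`. -/
noncomputable def δ (b : B) : Coker A B C hAC h :=
  cls A B C hAC h b (Function.surjInv hAC (algebraMap B C b)) (Function.surjInv_eq hAC _).symm

theorem δ_eq (b : B) (a : A) (hab : algebraMap B C b = algebraMap A C a) :
    δ A B C hAC h b = cls A B C hAC h b a hab :=
  cls_eq A B C hAC h b _ _ _ _


theorem δ_add (b b' : B) : δ A B C hAC h (b + b') = δ A B C hAC h b + δ A B C hAC h b' := by
  obtain ⟨a, ha⟩ := hAC (algebraMap B C b)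
  obtain ⟨a', ha'⟩ := hAC (algebraMap B C b')
  rw [δ_eq A B C hAC h b a ha.symm, δ_eq A B C hAC h b' a' ha'.symm,
    δ_eq A B C hAC h (b + b') (a + a') (by simp [ha, ha'])]
  unfold cls
  rw [← LinearMap.map_add (imageSub A B C hAC h).mkQ,
    ← LinearMap.map_add (Ideal.toCotangent (RingHom.ker (algebraMap B C)))]
  congr 2
  ext
  simp only [map_add, Submodule.coe_add]
  ring

theorem δ_smul (r : A) (b : B) : δ A B C hAC h (r • b) = r • δ A B C hAC h b := by
  obtain ⟨a, ha⟩ := hAC (algebraMap B C b)
  rw [δ_eq A B C hAC h b a ha.symm, δ_eq A B C hAC h (r • b) (r * a) (by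
    rw [Algebra.smul_def, map_mul, ← IsScalarTower.algebraMap_apply, ← ha, map_mul])]
  unfold cls
  rw [← LinearMap.map_smul_of_tower (imageSub A B C hAC h).mkQ,
    ← LinearMap.map_smul_of_tower (Ideal.toCotangent (RingHom.ker (algebraMap B C)))]
  congr 2
  ext
  simp [Algebra.smul_def, mul_sub]

theorem δ_mul (b b' : B) :
    δ A B C hAC h (b * b') = b • δ A B C hAC h b' + b' • δ A B C hAC h b := by
  obtain ⟨a, ha⟩ := hAC (algebraMap B C b)
  obtain ⟨a', ha'⟩ := hAC (algebraMap B C b')
  rw [δ_eq A B C hAC h b a ha.symm, δ_eq A B C hAC h b' a' ha'.symm,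
    δ_eq A B C hAC h (b * b') (a * a') (by simp [ha, ha'])]
  unfold cls
  rw [← LinearMap.map_smul (imageSub A B C hAC h).mkQ,
    ← LinearMap.map_smul (imageSub A B C hAC h).mkQ,
    smul_eq_smul_of_eq A B C b' a' ha'.symm,
    ← LinearMap.map_add (imageSub A B C hAC h).mkQ,
    ← LinearMap.map_smul (Ideal.toCotangent (RingHom.ker (algebraMap B C))),
    ← LinearMap.map_smul_of_tower (Ideal.toCotangent (RingHom.ker (algebraMap B C))),
    ← LinearMap.map_add (Ideal.toCotangent (RingHom.ker (algebraMap B C)))]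
  congr 2
  ext
  simp only [map_mul, Submodule.coe_add, Submodule.coe_smul_of_tower, smul_eq_mul,
    Algebra.smul_def]
  ring

/-- The derivation `B → coker`. -/
noncomputable def der : Derivation A B (Coker A B C hAC h) :=
  Derivation.mk' ⟨⟨δ A B C hAC h, δ_add A B C hAC h⟩, δ_smul A B C hAC h⟩ (δ_mul A B C hAC h)

end

/-- For ring maps A → B → C with A → C surjective, writing I = ker(A → C) and J = ker(B → C), the
sequence I/I² → J/J² → C ⊗_B Ω_{B/A} → 0 is exact. Stated: the image of I/I² in J/J² is exactly the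
kernel of J/J² → C ⊗_B Ω_{B/A} (surjectivity of the latter map is the standard conormal sequence for
the surjection B → C). -/
theorem result (A B C : Type u) [CommRing A] [CommRing B]
    [CommRing C] [Algebra A B] [Algebra B C] [Algebra A C] [IsScalarTower A B C]
    (hAC : Function.Surjective (algebraMap A C))
    (h : RingHom.ker (algebraMap A C) ≤ (RingHom.ker (algebraMap B C)).comap (Algebra.ofId A B)) :
    Function.Exact
      (Ideal.mapCotangent (RingHom.ker (algebraMap A C)) (RingHom.ker (algebraMap B C)) (Algebra.ofId A B) h)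
      (KaehlerDifferential.kerCotangentToTensor A B C) := by
  have hπ : Function.Surjective (algebraMap B C) := by
    intro c
    obtain ⟨a, rfl⟩ := hAC c
    exact ⟨algebraMap A B a, (IsScalarTower.algebraMap_apply A B C a).symm⟩
  intro y
  constructor
  · intro hy
    obtain ⟨Ψ, hΨ⟩ := exists_lift_tensor hπ (der A B C hAC h).liftKaehlerDifferential (by
      intro j hj m
      obtain ⟨m, rfl⟩ := Submodule.mkQ_surjective _ m
      rw [← LinearMap.map_smul, Ideal.Cotangent.smul_eq_zero_of_mem hj, map_zero])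
    obtain ⟨j, rfl⟩ := Ideal.toCotangent_surjective _ y
    have h1 := congrArg Ψ hy
    rw [KaehlerDifferential.kerCotangentToTensor_toCotangent, hΨ,
      Derivation.liftKaehlerDifferential_comp_D, map_zero] at h1
    have h2 : der A B C hAC h j.1 = cls A B C hAC h j.1 0 (by rw [map_zero]; exact RingHom.mem_ker.mp j.2) :=
      δ_eq A B C hAC h j.1 0 _
    rw [h2] at h1
    unfold cls at h1
    rw [Submodule.mkQ_apply, Submodule.Quotient.mk_eq_zero] at h1
    obtain ⟨x, hx⟩ := h1
    refine ⟨x, hx.trans ?_⟩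
    congr 1
    ext
    simp
  · rintro ⟨x, rfl⟩
    obtain ⟨i, rfl⟩ := Ideal.toCotangent_surjective _ x
    rw [Ideal.mapCotangent_toCotangent, KaehlerDifferential.kerCotangentToTensor_toCotangent]
    simp [Algebra.ofId_apply]

end Groth.Agent.S9178
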