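import Groth.Statements.S9180
import Groth.Agent.Lib.FlatFibLocDim
import Groth.Agent.Lib.H30DimFieldRing
import Groth.Agent.Lib.H56LocDim
import Groth.Agent.S2142

set_option autoImplicit false
universe u
open CAlg

namespace Groth.Agent.S9180

/-- cancellation of a natural number in `WithBot ℕ∞`. -/
theorem withBot_add_nat_cancel {a b : WithBot ℕ∞} (n : ℕ)
    (hab : a + (n : WithBot ℕ∞) = b + (n : WithBot ℕ∞)) : a = b := by
  have hn : ((n : ℕ∞) : WithBot ℕ∞) = (n : WithBot ℕ∞) := rfl
  rw [← hn] at hab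
  cases a with
  | bot =>
    cases b with
    | bot => rfl
    | coe b => exact absurd hab.symm (by rw [← WithBot.coe_add]; exact WithBot.coe_ne_bot)
  | coe a =>
    cases b with
    | bot => exact absurd hab (by rw [← WithBot.coe_add]; exact WithBot.coe_ne_bot)
    | coe b =>
      rw [← WithBot.coe_add, ← WithBot.coe_add, WithBot.coe_inj] at hab
      rw [WithBot.coe_inj]
      exact (ENat.add_left_injective_of_ne_top (ENat.natCast_ne_top n)) hab

open TensorProduct in
/-- Let S be of finite type over a field k, K an extension field of k, S_K = S ⊗_k K, q a prime of S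
whose residue field has transcendence degree r over k, and q_K a prime of S_K lying over q whose
residue field has transcendence degree r_K over K. Then the local ring at q_K of the fibre of S →
S_K over q has dimension dim (S_K)_{q_K} − dim S_q = r − r_K (stated additively), and there is a
prime of S_K over q for which this dimension is zero. -/
theorem result (k S K : Type u) [Field k] [CommRing S] [Algebra k S]
    [Algebra.FiniteType k S] [Field K] [Algebra k K] (q : Ideal S) [q.IsPrime] (r : ℕ)
    (hr : Algebra.trdeg k q.ResidueField = r) (qK : Ideal (S ⊗[k] K)) [qK.IsPrime] [qK.LiesOver q]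
    (rK : ℕ)
    (hrK : letI : Algebra K (S ⊗[k] K) := Algebra.TensorProduct.rightAlgebra
      Algebra.trdeg K qK.ResidueField = rK) :
    ringKrullDim (EGA4.FibLocRing S (S ⊗[k] K) qK) + ringKrullDim (Localization.AtPrime q) =
        ringKrullDim (Localization.AtPrime qK) ∧
      ringKrullDim (EGA4.FibLocRing S (S ⊗[k] K) qK) + (rK : WithBot ℕ∞) = (r : WithBot ℕ∞) ∧
      ∃ (q' : Ideal (S ⊗[k] K)) (_ : q'.IsPrime), q'.LiesOver q ∧
        ringKrullDim (EGA4.FibLocRing S (S ⊗[k] K) q') = 0 := by
  letI algK : Algebra K (S ⊗[k] K) := Algebra.TensorProduct.rightAlgebra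
  haveI : IsNoetherianRing S := Algebra.FiniteType.isNoetherianRing k S
  -- `S ⊗ K` is of finite type over `K`
  haveI hft : Algebra.FiniteType K (S ⊗[k] K) := by
    rw [← RingHom.finiteType_algebraMap]
    have h1 : (algebraMap K (K ⊗[k] S)).FiniteType :=
      RingHom.finiteType_algebraMap.mpr inferInstance
    have h2 : ((Algebra.TensorProduct.comm k K S : K ⊗[k] S ≃ₐ[k] S ⊗[k] K) :
        K ⊗[k] S →+* S ⊗[k] K).FiniteType :=
      RingHom.FiniteType.of_surjective _ (Algebra.TensorProduct.comm k K S).surjective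
    have h3 := h2.comp h1
    convert h3 using 1
    ext a
    simp [Algebra.TensorProduct.algebraMap_apply, RingHom.algebraMap_toAlgebra]
  haveI : IsNoetherianRing (S ⊗[k] K) := Algebra.FiniteType.isNoetherianRing K (S ⊗[k] K)
  have hq : qK.under S = q := (Ideal.LiesOver.over (p := q) (P := qK)).symm
  -- (A) the flat dimension formula
  have hA : ringKrullDim (EGA4.FibLocRing S (S ⊗[k] K) qK) +
      ringKrullDim (Localization.AtPrime q) = ringKrullDim (Localization.AtPrime qK) := by
    have h1 := Groth.Agent.Lib.FlatFibLocDim.ringKrullDim_fibLocRing_add (S := S)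
      (T := S ⊗[k] K) qK
    have h2 : ∀ (p : Ideal S) [p.IsPrime], qK.under S = p →
        ringKrullDim (Localization.AtPrime (qK.under S)) =
          ringKrullDim (Localization.AtPrime p) := by
      intro p _ hp
      subst hp
      rfl
    rw [h2 q hq] at h1
    exact h1
  -- (C) a prime over `q` with zero-dimensional fibre local ring
  have hC : ∃ (q' : Ideal (S ⊗[k] K)) (_ : q'.IsPrime), q'.LiesOver q ∧
      ringKrullDim (EGA4.FibLocRing S (S ⊗[k] K) q') = 0 := by
    apply Groth.Agent.Lib.FlatFibLocDim.exists_prime_fibLocRing_dim_zero q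
    intro htop
    have h1 : q.map (algebraMap S (S ⊗[k] K)) ≤ qK := by
      rw [Ideal.map_le_iff_le_comap, ← hq]
    rw [htop] at h1
    exact (Ideal.IsPrime.ne_top inferInstance) (top_le_iff.mp h1)
  refine ⟨hA, ?_, hC⟩
  -- (B) local dimensions
  have hLD1 := Groth.Agent.Lib.H30DimFieldRing.localDim_primeSpectrum q r hr
  have hLD2 := Groth.Agent.Lib.H30DimFieldRing.localDim_primeSpectrum (k := K) (S := S ⊗[k] K)
    qK rK hrK
  -- invariance of the local dimension under the field extension
  let c : K ⊗[k] S ≃ₐ[k] S ⊗[k] K := Algebra.TensorProduct.comm k K S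
  haveI hqK' : (qK.comap (c : K ⊗[k] S →+* S ⊗[k] K)).IsPrime := Ideal.IsPrime.comap _
  have hcomap : (qK.comap (c : K ⊗[k] S →+* S ⊗[k] K)).comap
      (Algebra.TensorProduct.includeRight.toRingHom : S →+* K ⊗[k] S) = q := by
    rw [← hq]
    ext s
    simp only [Ideal.mem_comap, Ideal.under_def]
    have : (c : K ⊗[k] S →+* S ⊗[k] K)
        ((Algebra.TensorProduct.includeRight.toRingHom : S →+* K ⊗[k] S) s) =
        algebraMap S (S ⊗[k] K) s := by
      simp [c, Algebra.TensorProduct.algebraMap_apply]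
    rw [this]
  have hLD3 := Groth.Agent.S2142.result q (qK.comap (c : K ⊗[k] S →+* S ⊗[k] K)) hcomap
  have hLD4 := Groth.Agent.Lib.H56LocDim.localDim_eq_of_homeomorph
    (PrimeSpectrum.homeomorphOfRingEquiv (c.symm : S ⊗[k] K ≃+* K ⊗[k] S))
    (⟨qK, inferInstance⟩ : PrimeSpectrum (S ⊗[k] K))
  have hpt : (PrimeSpectrum.homeomorphOfRingEquiv (c.symm : S ⊗[k] K ≃+* K ⊗[k] S))
      (⟨qK, inferInstance⟩ : PrimeSpectrum (S ⊗[k] K)) =
      ⟨qK.comap (c : K ⊗[k] S →+* S ⊗[k] K), hqK'⟩ := by
    apply PrimeSpectrum.ext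
    rfl
  rw [hpt, hLD3, hLD1] at hLD4
  rw [hLD2] at hLD4
  -- arithmetic
  obtain ⟨a, ha⟩ : ∃ a : ℕ, ringKrullDim (Localization.AtPrime q) = (a : WithBot ℕ∞) := by
    rw [IsLocalization.AtPrime.ringKrullDim_eq_height q (Localization.AtPrime q)]
    obtain ⟨a, ha⟩ := ENat.ne_top_iff_exists.mp (Ideal.height_ne_top_of_isPrime (I := q))
    exact ⟨a, by rw [← ha]; rfl⟩
  rw [← hA, ha] at hLD4
  apply withBot_add_nat_cancel a
  rw [add_comm (r : WithBot ℕ∞) (a : WithBot ℕ∞), ← hLD4]
  abel

end Groth.Agent.S9180
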