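import Groth.Statements.S9181
import Mathlib
import Groth.Agent.Lib.H56NNRefine2

set_option autoImplicit false
universe u
open CAlg

namespace Groth.Agent.S9181

/-- Let R → S be of finite type, q a prime of S over p, Q the prime of κ(p) ⊗ S over q, with the fibre
of local dimension n at Q and κ(q) of transcendence degree r over κ(p). Then for some f ∉ p and g ∉
q there is an R-algebra map φ : R_f[x_1, …, x_n] → S_g, of finite type and quasi-finite, such that
the inverse image of q S_g under φ is the ideal generated by p and the variables x_{r+1}, …, x_n. -/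
theorem result (R S : Type u) [CommRing R] [CommRing S]
    [Algebra R S] [Algebra.FiniteType R S] (p : Ideal R) [p.IsPrime] (q : Ideal S) [q.IsPrime] [q.LiesOver p]
    [Algebra (Localization.AtPrime p) (Localization.AtPrime q)]
    [Localization.AtPrime.IsLiesOverAlgebra p q] (Q : PrimeSpectrum (p.Fiber S))
    (hQ : Q.asIdeal.comap (Algebra.TensorProduct.includeRight.toRingHom) = q) (n r : ℕ)
    (hdim : FlatMor.localDim (PrimeSpectrum (p.Fiber S)) Q = (n : WithBot ℕ∞))
    (hr : Algebra.trdeg p.ResidueField q.ResidueField = r) :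
    ∃ (f : R) (g : S), f ∉ p ∧ g ∉ q ∧
      ∃ φ : MvPolynomial (Fin n) (Localization.Away f) →ₐ[R] Localization.Away g,
        φ.toRingHom.FiniteType ∧ φ.toRingHom.QuasiFinite ∧
        (q.map (algebraMap S (Localization.Away g))).comap φ =
          p.map (algebraMap R (MvPolynomial (Fin n) (Localization.Away f))) ⊔
            Ideal.span (Set.range fun i : {i : Fin n // r ≤ (i : ℕ)} =>
              (MvPolynomial.X (i : Fin n) : MvPolynomial (Fin n) (Localization.Away f))) := by
  obtain ⟨g, hg, φ, hft, hqf, hcomap⟩ :=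
    Groth.Agent.Lib.H56NNRefine.exists_quasiFinite_comap_eq p q Q hQ n r hdim hr
  refine ⟨1, g, fun h1 => Ideal.IsPrime.ne_top inferInstance ((Ideal.eq_top_iff_one p).mpr h1),
    hg, ?_⟩
  let e : R ≃ₐ[R] Localization.Away (1 : R) := IsLocalization.atOne R (Localization.Away (1 : R))
  let E : MvPolynomial (Fin n) R ≃ₐ[R] MvPolynomial (Fin n) (Localization.Away (1 : R)) :=
    MvPolynomial.mapAlgEquiv (Fin n) e
  let φ' : MvPolynomial (Fin n) (Localization.Away (1 : R)) →ₐ[R] Localization.Away g :=
    φ.comp E.symm.toAlgHom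
  have hφ' : φ'.toRingHom = φ.toRingHom.comp E.symm.toRingEquiv.toRingHom := rfl
  refine ⟨φ', ?_, ?_, ?_⟩
  · rw [hφ']
    exact RingHom.FiniteType.comp hft (RingHom.FiniteType.of_surjective _ E.symm.surjective)
  · rw [hφ']
    exact RingHom.QuasiFinite.comp hqf
      (RingHom.QuasiFinite.of_finite (RingHom.Finite.of_surjective _ E.symm.surjective))
  · have h1 : (q.map (algebraMap S (Localization.Away g))).comap φ' =
        Ideal.map (E.toRingEquiv : MvPolynomial (Fin n) R →+* _)
          ((q.map (algebraMap S (Localization.Away g))).comap φ) := by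
      rw [Ideal.map_comap_of_equiv]
      ext x
      exact Iff.rfl
    rw [h1, hcomap, Ideal.map_sup, Ideal.map_map, Ideal.map_span]
    congr 1
    · congr 1
      refine RingHom.ext fun x => ?_
      change E (MvPolynomial.C x) = _
      rw [← MvPolynomial.algebraMap_eq, AlgEquiv.commutes]
    · congr 1
      ext G
      constructor
      · rintro ⟨_, ⟨i, rfl⟩, rfl⟩
        refine ⟨i, ?_⟩
        change _ = E (MvPolynomial.X i.1)
        rw [MvPolynomial.mapAlgEquiv_apply, MvPolynomial.map_X]
      · rintro ⟨i, rfl⟩
        refine ⟨_, ⟨i, rfl⟩, ?_⟩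
        change E (MvPolynomial.X i.1) = _
        rw [MvPolynomial.mapAlgEquiv_apply, MvPolynomial.map_X]

end Groth.Agent.S9181
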