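import Groth.Statements.S9185
import Mathlib.LinearAlgebra.Quotient.Basic
import Mathlib.LinearAlgebra.TensorProduct.Tower
-- import your own Groth.Agent.* helpers here

set_option autoImplicit false
universe u
open Diff16

namespace Groth.Agent.S9185

open scoped TensorProduct

section
variable {A B : Type u} [CommRing A] [CommRing B] [Algebra A B]
variable {M N : Type u} [AddCommGroup M] [Module A M] [Module B M] [IsScalarTower A B M]
  [AddCommGroup N] [Module A N] [Module B N] [IsScalarTower A B N]

/-- Iterated commutator of `D` with a list of scalars. -/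
noncomputable def icomm : (M →ₗ[A] N) → List B → (M →ₗ[A] N)
  | D, [] => D
  | D, b :: bs => icomm (Diff16.commutator A B M N D b) bs

theorem isDiffOpLE_iff (k : ℕ) (D : M →ₗ[A] N) :
    Diff16.IsDiffOpLE A B M N k D ↔ ∀ bs : List B, bs.length = k + 1 → icomm D bs = 0 := by
  induction k generalizing D with
  | zero =>
    constructor
    · intro h bs hbs
      match bs, hbs with
      | [b], _ =>
        ext m
        simp [icomm, commutator, h b m]
    · intro h b m
      have h1 := h [b] rfl
      have h2 := congrArg (fun f => f m) h1
      simpa [icomm, commutator, sub_eq_zero] using h2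
  | succ k ih =>
    constructor
    · intro h bs hbs
      match bs, hbs with
      | b :: bs, hbs =>
        exact (ih _).1 (h b) bs (by simpa using hbs)
    · intro h b
      exact (ih _).2 (fun bs hbs => h (b :: bs) (by simp [hbs]))

variable {N' : Type u} [AddCommGroup N'] [Module A N'] [Module B N'] [IsScalarTower A B N']

theorem commutator_comp (α : N →ₗ[B] N') (D : M →ₗ[A] N) (b : B) :
    Diff16.commutator A B M N' (α.restrictScalars A ∘ₗ D) b =
      α.restrictScalars A ∘ₗ Diff16.commutator A B M N D b := by
  ext m
  simp [commutator]

theorem icomm_comp (α : N →ₗ[B] N') (D : M →ₗ[A] N) (bs : List B) :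
    icomm (α.restrictScalars A ∘ₗ D) bs = α.restrictScalars A ∘ₗ icomm D bs := by
  induction bs generalizing D with
  | nil => rfl
  | cons b bs ih => simp only [icomm, commutator_comp, ih]

end

/-- For a ring map R → S, an S-module M and k ≥ 0 there is an S-module P together with a differential
operator D : M → P of order at most k (relative to R → S) such that every differential operator of
order at most k from M to an S-module N is α ∘ D for a unique S-linear map α : P → N; that is,
differential operators of order ≤ k out of M are represented by P. (Target modules N are taken in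
the same universe.) -/
theorem result (R S : Type u) [CommRing R] [CommRing S] [Algebra R S] (M : Type u)
    [AddCommGroup M] [Module S M] [Module R M] [IsScalarTower R S M] (k : ℕ) :
    ∃ (P : Type u) (_ : AddCommGroup P) (_ : Module S P) (_ : Module R P) (_ : IsScalarTower R S P)
      (D : M →ₗ[R] P), Diff16.IsDiffOpLE R S M P k D ∧
        ∀ (N : Type u) [AddCommGroup N] [Module S N] [Module R N] [IsScalarTower R S N] (D' : M →ₗ[R] N),
          Diff16.IsDiffOpLE R S M N k D' → ∃! α : P →ₗ[S] N, α.restrictScalars R ∘ₗ D = D' := by
  classical
  let T := S ⊗[R] M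
  let d₀ : M →ₗ[R] T := (TensorProduct.mk R S M) 1
  let K : Submodule S T :=
    Submodule.span S {t | ∃ bs : List S, bs.length = k + 1 ∧ ∃ m : M, t = icomm (A := R) (B := S) d₀ bs m}
  refine ⟨T ⧸ K, inferInstance, inferInstance, Submodule.Quotient.module' K, inferInstance,
    (K.mkQ).restrictScalars R ∘ₗ d₀, ?_, ?_⟩
  · rw [isDiffOpLE_iff]
    intro bs hbs
    rw [icomm_comp]
    ext m
    simp only [LinearMap.coe_comp, LinearMap.coe_restrictScalars, Function.comp_apply,
      Submodule.mkQ_apply, LinearMap.zero_apply, Submodule.Quotient.mk_eq_zero]
    exact Submodule.subset_span ⟨bs, hbs, m, rfl⟩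
  · intro N _ _ _ _ D' hD'
    have : SMulCommClass R S N := IsScalarTower.to_smulCommClass
    let β : T →ₗ[S] N :=
      TensorProduct.AlgebraTensorModule.lift (LinearMap.toSpanSingleton S (M →ₗ[R] N) D')
    have hβ : β.restrictScalars R ∘ₗ d₀ = D' := by
      ext m
      change (TensorProduct.AlgebraTensorModule.lift (LinearMap.toSpanSingleton S (M →ₗ[R] N) D'))
        ((1 : S) ⊗ₜ[R] m) = D' m
      rw [TensorProduct.AlgebraTensorModule.lift_tmul]
      simp
    have hK : K ≤ LinearMap.ker β := by
      refine Submodule.span_le.2 ?_
      rintro t ⟨bs, hbs, m, rfl⟩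
      have h0 := (isDiffOpLE_iff k D').1 hD' bs hbs
      rw [← hβ, icomm_comp] at h0
      have h1 := congrArg (fun f => f m) h0
      simpa using h1
    refine ⟨K.liftQ β hK, ?_, ?_⟩
    · ext m
      have := congrArg (fun f => f m) hβ
      simpa using this
    · intro α' hα'
      apply Submodule.linearMap_qext
      rw [Submodule.liftQ_mkQ]
      apply TensorProduct.AlgebraTensorModule.curry_injective
      ext m
      have h1 := congrArg (fun f => f m) hα'
      have h2 := congrArg (fun f => f m) hβ
      simp only [LinearMap.coe_comp, LinearMap.coe_restrictScalars, Function.comp_apply] at h1 h2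
      change α' (K.mkQ (d₀ m)) = β (d₀ m)
      rw [h1]
      exact h2.symm

end Groth.Agent.S9185
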