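import Groth.Statements.S9201
import Groth.Agent.S0594
import Mathlib.AlgebraicGeometry.Morphisms.Immersion

set_option autoImplicit false
universe u
open CategoryTheory AlgebraicGeometry
open Lim

namespace Groth.Agent.S9201

/-- Let S be a quasi-separated scheme and X = lim X_i a cofiltered limit of S-schemes X_i (a diagram
with a compatible family of structure maps to S) whose transition morphisms are closed immersions,
every X_i quasi-compact, quasi-separated and locally of finite type over S; the structure map X → S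
is the composite X → X_{i₀} → S for any index i₀. If X → S is an immersion, then X_i → S is an
immersion for all i beyond some index i₁. -/
theorem result {I : Type u} [SmallCategory I] [IsCofiltered I] (S : Scheme.{u}) [QuasiSeparatedSpace S]
    (D : I ⥤ Scheme.{u}) (t : D ⟶ (Functor.const I).obj S) (c : Limits.Cone D) (hc : Limits.IsLimit c)
    [∀ (i j : I) (a : i ⟶ j), IsClosedImmersion (D.map a)]
    [∀ i, CompactSpace (D.obj i)] [∀ i, QuasiSeparatedSpace (D.obj i)]
    [∀ i, LocallyOfFiniteType (t.app i)] (i₀ : I)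
    [IsImmersion (c.π.app i₀ ≫ t.app i₀)] :
    ∃ i₁ : I, ∀ (i : I) (_ : i ⟶ i₁), IsImmersion (t.app i) := by
  classical
  haveI : ∀ {i j : I} (f : i ⟶ j), IsClosedImmersion (D.map f) := fun f => inferInstance
  haveI : ∀ {i j : I} (f : i ⟶ j), IsAffineHom (D.map f) := fun f => inferInstance
  have hnat : ∀ {i j : I} (f : i ⟶ j), D.map f ≫ t.app j = t.app i := fun f => by
    have := t.naturality f
    simpa using this
  let τ : ∀ i, D.obj i ⟶ S := fun i => t.app i
  have hτ : ∀ {i j : I} (f : i ⟶ j), D.map f ≫ τ j = τ i := fun f => hnat f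
  have hπ : ∀ i, c.π.app i ≫ τ i = c.π.app i₀ ≫ τ i₀ := fun i => by
    have e1 : c.π.app i ≫ τ i = c.π.app (IsCofiltered.min i i₀) ≫ τ _ := by
      rw [← c.w (IsCofiltered.minToLeft i i₀), Category.assoc, hτ]
    have e2 : c.π.app i₀ ≫ τ i₀ = c.π.app (IsCofiltered.min i i₀) ≫ τ _ := by
      rw [← c.w (IsCofiltered.minToRight i i₀), Category.assoc, hτ]
    rw [e1, e2]
  obtain ⟨s, hs⟩ : ∃ s : c.pt ⟶ S, s = c.π.app i₀ ≫ τ i₀ := ⟨_, rfl⟩
  haveI : IsImmersion s := by
    rw [hs]
    exact (inferInstance : IsImmersion (c.π.app i₀ ≫ t.app i₀))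
  haveI : CompactSpace c.pt := Scheme.compactSpace_of_isLimit D c hc
  -- a quasi-compact open `U'` between the range of `s` and its coborder
  have hcov : ∀ x : c.pt, ∃ V : S.Opens, IsAffineOpen V ∧ s.base x ∈ V ∧ V ≤ s.coborderRange := by
    intro x
    have hx : s.base x ∈ (s.coborderRange : Set S) := by
      have : s.base x = s.coborderRange.ι.base (s.liftCoborder.base x) := by
        rw [← Scheme.Hom.comp_apply, s.liftCoborder_ι]
      rw [this]
      exact (s.liftCoborder.base x).2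
    obtain ⟨_, ⟨V, hV : IsAffineOpen V, rfl⟩, hxV, hVU⟩ :=
      S.isBasis_affineOpens.exists_subset_of_mem_open hx s.coborderRange.2
    exact ⟨V, hV, hxV, hVU⟩
  choose V hV hxV hVU using hcov
  obtain ⟨T, hT⟩ := CompactSpace.elim_nhds_subcover (fun x => ((s ⁻¹ᵁ V x : c.pt.Opens) :
    Set c.pt)) (fun x => (s ⁻¹ᵁ V x).2.mem_nhds (hxV x))
  let U' : S.Opens := ⨆ x : T, V x.1
  have hU'le : U' ≤ s.coborderRange := iSup_le fun x => hVU x.1
  have hU'top : s ⁻¹ᵁ U' = ⊤ := by
    rw [eq_top_iff]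
    intro y _
    have hy : y ∈ ⋃ x ∈ T, ((s ⁻¹ᵁ V x : c.pt.Opens) : Set c.pt) := by
      rw [hT]
      trivial
    simp only [Set.mem_iUnion] at hy
    obtain ⟨x, hxT, hyx⟩ := hy
    exact TopologicalSpace.Opens.mem_iSup.mpr ⟨⟨x, hxT⟩, hyx⟩
  have hU'cpt : IsCompact (U' : Set S) := by
    have : (U' : Set S) = ⋃ x : T, (V x.1 : Set S) := by
      simp [U']
    rw [this]
    exact isCompact_iUnion fun x => (hV x.1).isCompact
  haveI : CompactSpace U'.toScheme := isCompact_iff_compactSpace.mp hU'cpt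
  haveI : QuasiSeparatedSpace U'.toScheme :=
    (isQuasiSeparated_iff_quasiSeparatedSpace _ U'.2).mp (.of_quasiSeparatedSpace _)
  -- eventually `t_i` factors through `U'`
  have htop₀ : c.π.app i₀ ⁻¹ᵁ (τ i₀ ⁻¹ᵁ U') = ⊤ := by
    rw [← Scheme.Hom.comp_preimage, ← hs, hU'top]
  obtain ⟨j, fj, hj⟩ := exists_map_eq_top D c hc (τ i₀ ⁻¹ᵁ U') htop₀
  have htop : ∀ k : Over j, τ k.left ⁻¹ᵁ U' = ⊤ := by
    intro k
    have : τ k.left ⁻¹ᵁ U' = D.map k.hom ⁻¹ᵁ (D.map fj ⁻¹ᵁ (τ i₀ ⁻¹ᵁ U')) := by
      rw [← Scheme.Hom.comp_preimage, ← Scheme.Hom.comp_preimage, Category.assoc, hτ, hτ]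
    rw [this, hj]
    rfl
  have hrange : ∀ k : Over j, Set.range (τ k.left).base ⊆ Set.range U'.ι.base := by
    rintro k _ ⟨y, rfl⟩
    have : y ∈ τ k.left ⁻¹ᵁ U' := by rw [htop k]; trivial
    rw [Scheme.Opens.range_ι]
    exact this
  let D' : Over j ⥤ Scheme.{u} := Over.forget j ⋙ D
  let t' : D' ⟶ (Functor.const (Over j)).obj U'.toScheme :=
    { app := fun k => IsOpenImmersion.lift U'.ι (τ k.left) (hrange k)
      naturality := fun k l m => by
        rw [← cancel_mono U'.ι]
        simp only [Functor.const_obj_obj, Functor.const_obj_map, Category.comp_id,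
          Category.assoc, IsOpenImmersion.lift_fac]
        exact hτ m.left }
  have ht' : ∀ k : Over j, t'.app k ≫ U'.ι = τ k.left := fun k => IsOpenImmersion.lift_fac _ _ _
  let c' : Limits.Cone D' := c.whisker (Over.forget j)
  have hc' : Limits.IsLimit c' := (Functor.Initial.isLimitWhiskerEquiv (Over.forget j) c).symm hc
  haveI : ∀ (k l : Over j) (m : k ⟶ l), IsClosedImmersion (D'.map m) := fun k l m =>
    (inferInstance : IsClosedImmersion (D.map m.left))
  haveI : ∀ k : Over j, CompactSpace (D'.obj k) := fun k =>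
    (inferInstance : CompactSpace (D.obj k.left))
  haveI : ∀ k : Over j, QuasiSeparatedSpace (D'.obj k) := fun k =>
    (inferInstance : QuasiSeparatedSpace (D.obj k.left))
  haveI : ∀ k : Over j, LocallyOfFiniteType (t'.app k) := fun k => by
    haveI : LocallyOfFiniteType (t'.app k ≫ U'.ι) := by
      rw [ht' k]
      exact (inferInstance : LocallyOfFiniteType (t.app k.left))
    exact locallyOfFiniteType_of_comp (t'.app k) U'.ι
  let k₀ : Over j := Over.mk (𝟙 j)
  have hfac : (c'.π.app k₀ ≫ t'.app k₀) ≫ S.homOfLE hU'le = s.liftCoborder := by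
    rw [← cancel_mono s.coborderRange.ι, Category.assoc, Category.assoc, Scheme.homOfLE_ι, ht' k₀,
      s.liftCoborder_ι, hs]
    exact hπ j
  haveI : IsClosedImmersion ((c'.π.app k₀ ≫ t'.app k₀) ≫ S.homOfLE hU'le) := by
    rw [hfac]
    infer_instance
  haveI : IsClosedImmersion (c'.π.app k₀ ≫ t'.app k₀) :=
    IsClosedImmersion.of_comp _ (S.homOfLE hU'le)
  obtain ⟨k, hk⟩ := Groth.Agent.S0594.result U'.toScheme D' t' c' hc' k₀
  obtain ⟨tk, htk, hcl⟩ : ∃ tk : D.obj k.left ⟶ U'.toScheme, tk ≫ U'.ι = τ k.left ∧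
      IsClosedImmersion tk := ⟨t'.app k, ht' k, hk⟩
  refine ⟨k.left, fun l m => ?_⟩
  have : t.app l = D.map m ≫ tk ≫ U'.ι := by
    rw [htk]
    exact (hτ m).symm
  rw [this]
  infer_instance

end Groth.Agent.S9201
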