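import Groth.Statements.S9204
import Groth.Agent.Lib.ThickQuasiAffine

set_option autoImplicit false
universe u
open CategoryTheory AlgebraicGeometry
open Lim

namespace Groth.Agent.S9204

/-- Suppose the closed immersion i : Z → X of schemes is a homeomorphism on the level of topological
spaces. Then Z is quasi-affine exactly when X is. No Noetherian hypothesis is imposed. -/
theorem result {Z X : Scheme.{u}} (i : Z ⟶ X) [IsClosedImmersion i]
    (hi : IsHomeomorph i.base) : X.IsQuasiAffine ↔ Z.IsQuasiAffine := by
  exact ⟨fun _ => Scheme.IsQuasiAffine.of_isAffineHom i,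
    fun _ => Groth.Agent.Lib.ThickAffine.isQuasiAffine_of_thickening i hi⟩

end Groth.Agent.S9204
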