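import Groth.Statements.S9207
import Groth.Agent.Lib.LimPullback

set_option autoImplicit false
universe u
open CategoryTheory CategoryTheory.Limits AlgebraicGeometry
open Lim

namespace Groth.Agent.S9207

/-- Let S = lim S_i be a cofiltered limit of quasi-compact quasi-separated schemes with affine
transition morphisms, let i be an index and T → S_i a morphism of schemes with T quasi-compact. If
the fibre product T ×_{S_i} S is empty, then T ×_{S_i} S_{i'} is empty for some index i' over i (and
then for every index over i'). -/
theorem result {I : Type u} [SmallCategory I] [IsCofiltered I]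
    (D : I ⥤ Scheme.{u}) (c : Limits.Cone D) (hc : Limits.IsLimit c)
    [∀ (i j : I) (f : i ⟶ j), IsAffineHom (D.map f)] [∀ i, CompactSpace (D.obj i)]
    [∀ i, QuasiSeparatedSpace (D.obj i)] (i : I) {T : Scheme.{u}} (a : T ⟶ D.obj i) [CompactSpace T]
    (h : IsEmpty ↥(pullback a (c.π.app i))) :
    ∃ (i' : I) (φ : i' ⟶ i), IsEmpty ↥(pullback a (D.map φ)) := by
  by_contra hcon
  have hne : ∀ j : Over i, Nonempty ↥((Groth.Agent.Lib.LimPullback.pbDiagram D i a).obj j) := by
    intro j
    by_contra hj
    exact hcon ⟨j.left, j.hom, not_nonempty_iff.mp hj⟩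
  have hfst : ∀ j : Over i, IsAffineHom (pullback.fst a (D.map j.hom)) := fun j =>
    MorphismProperty.pullback_fst (P := @IsAffineHom) a (D.map j.hom) inferInstance
  have haff : ∀ {j k : Over i} (f : j ⟶ k),
      IsAffineHom ((Groth.Agent.Lib.LimPullback.pbDiagram D i a).map f) := by
    intro j k f
    have h1 : IsAffineHom (Groth.Agent.Lib.LimPullback.pbMap D i a f
        ≫ pullback.fst a (D.map k.hom)) := by
      rw [Groth.Agent.Lib.LimPullback.pbMap_fst]
      exact hfst j
    exact IsAffineHom.of_comp (Groth.Agent.Lib.LimPullback.pbMap D i a f)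
      (pullback.fst a (D.map k.hom))
  have hcpt : ∀ j : Over i,
      CompactSpace ↥((Groth.Agent.Lib.LimPullback.pbDiagram D i a).obj j) := by
    intro j
    change CompactSpace ↥(pullback a (D.map j.hom))
    infer_instance
  have hlim := Groth.Agent.Lib.LimPullback.isLimitPbCone (D := D) (c := c) (i := i) (a := a) hc
  have : Nonempty ↥(Groth.Agent.Lib.LimPullback.pbCone D c i a).pt :=
    Scheme.nonempty_of_isLimit (Groth.Agent.Lib.LimPullback.pbDiagram D i a) _ hlim
  exact (not_isEmpty_iff.mpr this) h

end Groth.Agent.S9207
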