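import Groth.Statements.S9208
-- import your own Groth.Agent.* helpers here
import Groth.Agent.Lib.FPLimitH52

set_option autoImplicit false
universe u
open CategoryTheory AlgebraicGeometry
open Lim

namespace Groth.Agent.S9208

/-- Let f : X → S be a morphism of schemes. Suppose that for every inverse system (T_j) of affine
schemes over S indexed by a nonempty directed preordered set, with limit T, the canonical map
colim_j Mor_S(T_j, X) → Mor_S(T, X) is surjective: every S-morphism T → X is the composite of the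
projection T → T_j with an S-morphism T_j → X for some j. Then f is locally of finite presentation
(surjectivity alone suffices; bijectivity is not required). -/
theorem result {X S : Scheme.{u}} (f : X ⟶ S)
    (h : ∀ (J : Type u) [Preorder J] [IsDirected J (· ≤ ·)] [Nonempty J] (D : Jᵒᵖ ⥤ Scheme.{u})
      (t : D ⟶ (Functor.const Jᵒᵖ).obj S) (c : Limits.Cone D) (_ : Limits.IsLimit c),
      (∀ j, IsAffine (D.obj j)) → ∀ (j₀ : Jᵒᵖ) (g : c.pt ⟶ X), g ≫ f = c.π.app j₀ ≫ t.app j₀ →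
        ∃ (j : Jᵒᵖ) (gj : D.obj j ⟶ X), gj ≫ f = t.app j ∧ c.π.app j ≫ gj = g) :
    LocallyOfFinitePresentation f := by
  classical
  have h' : Groth.Agent.Lib.FPLimitH52.LimSurj f := h
  rw [HasRingHomProperty.iff_appLE (P := @LocallyOfFinitePresentation)]
  intro U V e
  let φ : Γ(S, U.1) ⟶ Γ(X, V.1) := f.appLE U.1 V.1 e
  let _ : Algebra Γ(S, U.1) Γ(X, V.1) := φ.hom.toAlgebra
  let Q : ∀ (C : Type u) [CommRing C], (Γ(S, U.1) →+* C) → Prop := fun _ _ _ => True
  have hQ : Groth.Agent.Lib.UHFPSysH52.Cofinal (A := Γ(S, U.1)) (B := Γ(X, V.1)) Q :=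
    fun S₀ I₀ hfg hle =>
      ⟨⟨S₀, I₀, hfg, hle, trivial⟩, Finset.Subset.refl _, fun x hx => by
        rw [Ideal.mem_comap, Groth.Agent.Lib.UHFPSysH52.ren_refl]; exact hx⟩
  obtain ⟨hfilt, ⟨hcolim⟩⟩ := Groth.Agent.Lib.UHFPSysH52.exists_isColimit hQ
  have hdir := Groth.Agent.Lib.UHFPSysH52.isDirected_of_cofinal hQ
  have hne := Groth.Agent.Lib.UHFPSysH52.nonempty_of_cofinal hQ
  have hoi : IsOpenImmersion V.2.fromSpec := inferInstance
  obtain ⟨k, ρ, h1, h2⟩ := @Groth.Agent.Lib.FPLimitH52.exists_retract X S f h' U.1 U.2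
    (Groth.Agent.Lib.UHFPSysH52.Idx Γ(S, U.1) Γ(X, V.1) Q) _ hdir hne
    (Groth.Agent.Lib.UHFPSysH52.diagram (A := Γ(S, U.1)) (B := Γ(X, V.1)) (Q := Q))
    (Groth.Agent.Lib.UHFPSysH52.cocone (A := Γ(S, U.1)) (B := Γ(X, V.1)) (Q := Q)) hcolim
    V.2.fromSpec hoi (IsAffineOpen.SpecMap_appLE_fromSpec f U.2 V.2 e).symm
  refine Groth.Agent.Lib.FPRetractH52.finitePresentation_of_retract φ.hom
    (algebraMap Γ(S, U.1) (Groth.Agent.Lib.UHFPSysH52.Cring k))
    (Groth.Agent.Lib.UHFPSysH52.toB k).toRingHom ρ.hom ?_ ?_ ?_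
    (Groth.Agent.Lib.UHFPSysH52.finitePresentation k)
  · ext a
    exact (Groth.Agent.Lib.UHFPSysH52.toB k).commutes a
  · exact congrArg CommRingCat.Hom.hom h1
  · exact congrArg CommRingCat.Hom.hom h2

end Groth.Agent.S9208
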