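import Groth.Statements.S9209
import Groth.Agent.Lib.ValDense3

set_option autoImplicit false
universe u
open CategoryTheory CategoryTheory.Limits AlgebraicGeometry
open Lim

namespace Groth.Agent.S9209

/-- Let S be a locally Noetherian scheme, f : X → S a separated morphism of finite type and h : U → X a
morphism of finite type whose image is dense in X. Suppose that for every discrete valuation ring A
with fraction field K and every commutative square formed by a morphism Spec K → U → X and a
morphism Spec A → S, there is a morphism Spec A → X making the resulting diagram commute. Then f is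
proper. -/
theorem result {X S U : Scheme.{u}} [IsLocallyNoetherian S] (f : X ⟶ S)
    [IsSeparated f] [LocallyOfFiniteType f] [QuasiCompact f] (h : U ⟶ X) [LocallyOfFiniteType h] [QuasiCompact h]
    (hd : DenseRange h.base)
    (H : ∀ (A : Type u) [CommRing A] [IsDomain A] [IsDiscreteValuationRing A]
      (u : Spec (CommRingCat.of (FractionRing A)) ⟶ U) (y : Spec (CommRingCat.of A) ⟶ S),
      u ≫ h ≫ f = Spec.map (CommRingCat.ofHom (algebraMap A (FractionRing A))) ≫ y →
        ∃ l : Spec (CommRingCat.of A) ⟶ X, l ≫ f = y ∧ Spec.map (CommRingCat.ofHom (algebraMap A (FractionRing A))) ≫ l = u ≫ h) :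
    IsProper f := by
  have hREU : Groth.Agent.Lib.ValDense.ResidueExistsUnique h f := by
    intro z R φ hφ
    let sq : ValuativeCommSq f :=
      { R := R, K := U.residueField z, i₁ := U.fromSpecResidueField z ≫ h, i₂ := φ,
        commSq := ⟨by rw [Category.assoc]; exact hφ.symm⟩ }
    have hsub : Subsingleton sq.commSq.LiftStruct := IsSeparated.valuativeCriterion f sq
    have hφ' : Spec.map (CommRingCat.ofHom R.subtype) ≫ φ =
        (U.fromSpecResidueField z ≫ h) ≫ f := by rw [Category.assoc]; exact hφ
    have Hdvr : ∀ A : ValuationSubring (U.residueField z), IsDiscreteValuationRing A →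
        ∀ y : Spec (.of A) ⟶ S,
        Spec.map (CommRingCat.ofHom A.subtype) ≫ y = (U.fromSpecResidueField z ≫ h) ≫ f →
        ∃ l : Spec (.of A) ⟶ X, Spec.map (CommRingCat.ofHom A.subtype) ≫ l =
          U.fromSpecResidueField z ≫ h ∧ l ≫ f = y := by
      intro A hA y hy
      let e : FractionRing A ≃ₐ[A] U.residueField z := FractionRing.algEquiv A (U.residueField z)
      let e₁ : CommRingCat.of (U.residueField z) ⟶ CommRingCat.of (FractionRing A) :=
        CommRingCat.ofHom (e.symm : U.residueField z →+* FractionRing A)
      let e₂ : CommRingCat.of (FractionRing A) ⟶ CommRingCat.of (U.residueField z) :=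
        CommRingCat.ofHom (e : FractionRing A →+* U.residueField z)
      have he₁ : CommRingCat.ofHom A.subtype ≫ e₁ =
          CommRingCat.ofHom (algebraMap A (FractionRing A)) := by
        ext a
        exact e.symm.commutes a
      have he₂ : CommRingCat.ofHom (algebraMap A (FractionRing A)) ≫ e₂ =
          CommRingCat.ofHom A.subtype := by
        ext a
        exact e.commutes a
      have he₁₂ : e₁ ≫ e₂ = 𝟙 _ := by
        ext a
        exact e.apply_symm_apply a
      obtain ⟨l, hl₁, hl₂⟩ := H A (Spec.map e₁ ≫ U.fromSpecResidueField z) y (by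
        rw [Category.assoc, ← Category.assoc (U.fromSpecResidueField z), ← hy,
          ← Spec.map_comp_assoc, he₁])
      refine ⟨l, ?_, hl₁⟩
      rw [← he₂, Spec.map_comp_assoc, hl₂, Category.assoc, ← Spec.map_comp_assoc, he₁₂,
        Spec.map_id, Category.id_comp]
    obtain ⟨m, hm₁, hm₂⟩ := Groth.Agent.Lib.ValDense.exists_lift_of_forall_dvr f
      (U.fromSpecResidueField z ≫ h)
      (Groth.Agent.Lib.ValDense.essFiniteType_stalkClosedPointTo_fromSpecResidueField_comp h z)
      Hdvr R φ hφ'
    refine ⟨m, ⟨hm₁, hm₂⟩, ?_⟩
    rintro m' ⟨h1, h2⟩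
    let L : sq.commSq.LiftStruct := ⟨m, hm₁, hm₂⟩
    let L' : sq.commSq.LiftStruct := ⟨m', h1, h2⟩
    exact congrArg (·.l) (Subsingleton.elim L' L)
  have hU := Groth.Agent.Lib.ValDense.uniqueLiftsThrough_of_residueExistsUnique h f hREU
  have hUC : UniversallyClosed f :=
    Groth.Agent.Lib.ValDense.universallyClosed_of_uniqueLiftsThrough f h hd hU
  exact { }

end Groth.Agent.S9209
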