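import Groth.Statements.S9210
import Groth.Agent.S4450
import Groth.Agent.Lib.DenseSpecializes

set_option autoImplicit false
universe u
open CategoryTheory CategoryTheory.Limits AlgebraicGeometry
open Lim

namespace Groth.Agent.S9210

/-- Let S be a locally Noetherian scheme, f : X → S a morphism locally of finite type and h : U → X a
morphism of finite type whose image is dense in X. Suppose that for every discrete valuation ring A
with fraction field K and every commutative square formed by a morphism Spec K → U → X and a
morphism Spec A → S, there is at most one morphism Spec A → X making the resulting diagram commute.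
Then f is separated. -/
theorem result {X S U : Scheme.{u}} [IsLocallyNoetherian S] (f : X ⟶ S)
    [LocallyOfFiniteType f] (h : U ⟶ X) [LocallyOfFiniteType h] [QuasiCompact h] (hd : DenseRange h.base)
    (H : ∀ (A : Type u) [CommRing A] [IsDomain A] [IsDiscreteValuationRing A]
      (u : Spec (CommRingCat.of (FractionRing A)) ⟶ U) (y : Spec (CommRingCat.of A) ⟶ S),
      u ≫ h ≫ f = Spec.map (CommRingCat.ofHom (algebraMap A (FractionRing A))) ≫ y →
        ∀ l₁ l₂ : Spec (CommRingCat.of A) ⟶ X, l₁ ≫ f = y → Spec.map (CommRingCat.ofHom (algebraMap A (FractionRing A))) ≫ l₁ = u ≫ h →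
          l₂ ≫ f = y → Spec.map (CommRingCat.ofHom (algebraMap A (FractionRing A))) ≫ l₂ = u ≫ h → l₁ = l₂) :
    IsSeparated f := by
  have hXn : IsLocallyNoetherian X := LocallyOfFiniteType.isLocallyNoetherian f
  refine ⟨?_⟩
  let Δ := pullback.diagonal f
  have hΔlft : LocallyOfFiniteType Δ := by
    have : LocallyOfFiniteType (Δ ≫ pullback.fst f f) := by
      rw [pullback.diagonal_fst]; infer_instance
    exact locallyOfFiniteType_of_comp Δ (pullback.fst f f)
  have hΔqc : QuasiCompact Δ := inferInstance
  apply IsClosedImmersion.of_isPreimmersion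
  apply IsClosedMap.isClosed_range
  rw [isClosedMap_iff_specializingMap]
  intro x z₁ hsp
  -- a point of `U` whose image specializes to `x`
  obtain ⟨u, hu⟩ := Groth.Agent.Lib.DenseSpecializes.exists_specializes_of_denseRange h hd x
  have hsp' : (h ≫ Δ).base u ⤳ z₁ := (hu.map Δ.continuous).trans hsp
  by_cases hne : z₁ = (h ≫ Δ).base u
  · refine ⟨x, specializes_rfl, ?_⟩
    have h1 : Δ.base x ⤳ Δ.base (h.base u) := hne ▸ hsp
    rw [hne]
    exact (h1.antisymm (hu.map Δ.continuous)).eq
  obtain ⟨A, g, hA, hclp, hcomm⟩ := Groth.Agent.S4450.result (h ≫ Δ) u z₁ hsp' hne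
  let l₁ : Spec (CommRingCat.of A) ⟶ X := g ≫ pullback.fst f f
  let l₂ : Spec (CommRingCat.of A) ⟶ X := g ≫ pullback.snd f f
  have hl : l₁ ≫ f = l₂ ≫ f := by
    simp only [l₁, l₂, Category.assoc, pullback.condition]
  have h₁ : Spec.map (CommRingCat.ofHom A.subtype) ≫ l₁ = U.fromSpecResidueField u ≫ h := by
    simp only [l₁, ← Category.assoc, hcomm]
    simp only [Category.assoc, Δ, pullback.diagonal_fst, Category.comp_id]
  have h₂ : Spec.map (CommRingCat.ofHom A.subtype) ≫ l₂ = U.fromSpecResidueField u ≫ h := by
    simp only [l₂, ← Category.assoc, hcomm]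
    simp only [Category.assoc, Δ, pullback.diagonal_snd, Category.comp_id]
  -- transport to the abstract fraction field
  let e : FractionRing A ≃ₐ[A] U.residueField u := FractionRing.algEquiv A (U.residueField u)
  have hsub : CommRingCat.ofHom (algebraMap A (FractionRing A)) =
      CommRingCat.ofHom A.subtype ≫
        CommRingCat.ofHom (e.symm : U.residueField u →+* FractionRing A) := by
    ext a
    show algebraMap A (FractionRing A) a = e.symm (a : U.residueField u)
    exact (e.symm.commutes a).symm
  let uK : Spec (CommRingCat.of (FractionRing A)) ⟶ U :=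
    Spec.map (CommRingCat.ofHom (e.symm : U.residueField u →+* FractionRing A)) ≫
      U.fromSpecResidueField u
  have hK₁ : Spec.map (CommRingCat.ofHom (algebraMap A (FractionRing A))) ≫ l₁ = uK ≫ h := by
    rw [hsub, Spec.map_comp, Category.assoc, h₁, Category.assoc]
  have hK₂ : Spec.map (CommRingCat.ofHom (algebraMap A (FractionRing A))) ≫ l₂ = uK ≫ h := by
    rw [hsub, Spec.map_comp, Category.assoc, h₂, Category.assoc]
  have hl12 : l₁ = l₂ := by
    refine H A uK (l₁ ≫ f) ?_ l₁ l₂ rfl hK₁ hl.symm hK₂
    rw [← Category.assoc, ← hK₁, Category.assoc]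
  have hfac : g = l₁ ≫ Δ := by
    apply pullback.hom_ext
    · simp only [Category.assoc, Δ, pullback.diagonal_fst, Category.comp_id, l₁]
    · simp only [Category.assoc, Δ, pullback.diagonal_snd, Category.comp_id]
      exact hl12.symm
  have hz : Δ.base (l₁.base (IsLocalRing.closedPoint A)) = z₁ := by
    rw [← hclp, hfac]; rfl
  refine ⟨l₁.base (IsLocalRing.closedPoint A), ?_, hz⟩
  rw [← hz] at hsp
  exact (Δ.isEmbedding.isInducing.specializes_iff).mp hsp

end Groth.Agent.S9210
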