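import Groth.Statements.S9211
import Groth.Agent.S4450
import Mathlib.AlgebraicGeometry.ValuativeCriterion

set_option autoImplicit false
universe u
open CategoryTheory CategoryTheory.Limits AlgebraicGeometry
open Lim

namespace Groth.Agent.S9211

/-- Let S be a locally Noetherian scheme and f : X → S a morphism locally of finite type. Then f is
separated if and only if the following uniqueness holds: for every generic point η of an irreducible
component of X, every discrete valuation ring A contained in the residue field κ(η) with fraction
field κ(η) (a valuation subring of κ(η) which is a discrete valuation ring), and every pair of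
morphisms Spec A → X with the same composite to S and both restricting on Spec κ(η) to the canonical
morphism Spec κ(η) → X, the two morphisms coincide. -/
theorem result {X S : Scheme.{u}} [IsLocallyNoetherian S] (f : X ⟶ S)
    [LocallyOfFiniteType f] :
    IsSeparated f ↔ ∀ (η : X), closure {η} ∈ irreducibleComponents (X : Type u) →
      ∀ (A : ValuationSubring (X.residueField η)), IsDiscreteValuationRing A →
        ∀ l₁ l₂ : Spec (CommRingCat.of A) ⟶ X, l₁ ≫ f = l₂ ≫ f →
          Spec.map (CommRingCat.ofHom A.subtype) ≫ l₁ = X.fromSpecResidueField η →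
          Spec.map (CommRingCat.ofHom A.subtype) ≫ l₂ = X.fromSpecResidueField η → l₁ = l₂ := by
  constructor
  · intro hsep η _ A hA l₁ l₂ hf h₁ h₂
    have hU := IsSeparated.valuativeCriterion f
    let Sq : ValuativeCommSq f :=
      { R := A
        K := X.residueField η
        i₁ := X.fromSpecResidueField η
        i₂ := l₁ ≫ f
        commSq := ⟨by rw [← reassoc_of% h₁]; rfl⟩ }
    have hsub : Subsingleton Sq.commSq.LiftStruct := hU Sq
    let L₁ : Sq.commSq.LiftStruct := ⟨l₁, h₁, rfl⟩
    let L₂ : Sq.commSq.LiftStruct := ⟨l₂, h₂, hf.symm⟩
    exact congrArg CommSq.LiftStruct.l (Subsingleton.elim L₁ L₂)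
  · intro H
    have hXn : IsLocallyNoetherian X := LocallyOfFiniteType.isLocallyNoetherian f
    refine ⟨?_⟩
    let Δ := pullback.diagonal f
    have hΔlft : LocallyOfFiniteType Δ := by
      have : LocallyOfFiniteType (Δ ≫ pullback.fst f f) := by
        rw [pullback.diagonal_fst]; infer_instance
      exact locallyOfFiniteType_of_comp Δ (pullback.fst f f)
    have hΔqc : QuasiCompact Δ := inferInstance
    apply IsClosedImmersion.of_isPreimmersion
    apply IsClosedMap.isClosed_range
    rw [isClosedMap_iff_specializingMap]
    intro x z₁ hsp
    -- a generic point of an irreducible component through `x`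
    have hirr : IsIrreducible (irreducibleComponent x) := isIrreducible_irreducibleComponent
    have hcl : IsClosed (irreducibleComponent x) := isClosed_irreducibleComponent
    obtain ⟨η, hη⟩ := QuasiSober.sober hirr hcl
    have hηcl : closure {η} = irreducibleComponent x := hη.def
    have hηx : η ⤳ x := by
      rw [specializes_iff_mem_closure, hηcl]; exact mem_irreducibleComponent
    have hηcomp : closure {η} ∈ irreducibleComponents (X : Type u) := by
      rw [hηcl]; exact irreducibleComponent_mem_irreducibleComponents x
    have hsp' : Δ.base η ⤳ z₁ := (hηx.map Δ.continuous).trans hsp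
    by_cases hne : z₁ = Δ.base η
    · refine ⟨x, specializes_rfl, ?_⟩
      have h1 : Δ.base x ⤳ Δ.base η := hne ▸ hsp
      rw [hne]
      exact (h1.antisymm (hηx.map Δ.continuous)).eq
    obtain ⟨A, h, hA, hclp, hcomm⟩ := Groth.Agent.S4450.result Δ η z₁ hsp' hne
    let l₁ : Spec (CommRingCat.of A) ⟶ X := h ≫ pullback.fst f f
    let l₂ : Spec (CommRingCat.of A) ⟶ X := h ≫ pullback.snd f f
    have hl : l₁ ≫ f = l₂ ≫ f := by
      simp only [l₁, l₂, Category.assoc, pullback.condition]
    have h₁ : Spec.map (CommRingCat.ofHom A.subtype) ≫ l₁ = X.fromSpecResidueField η := by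
      simp only [l₁, ← Category.assoc, hcomm]
      simp only [Category.assoc, Δ, pullback.diagonal_fst, Category.comp_id]
    have h₂ : Spec.map (CommRingCat.ofHom A.subtype) ≫ l₂ = X.fromSpecResidueField η := by
      simp only [l₂, ← Category.assoc, hcomm]
      simp only [Category.assoc, Δ, pullback.diagonal_snd, Category.comp_id]
    have hl12 : l₁ = l₂ := H η hηcomp A hA l₁ l₂ hl h₁ h₂
    have hfac : h = l₁ ≫ Δ := by
      apply pullback.hom_ext
      · simp only [Category.assoc, Δ, pullback.diagonal_fst, Category.comp_id, l₁]
      · simp only [Category.assoc, Δ, pullback.diagonal_snd, Category.comp_id]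
        exact hl12.symm
    have hz : Δ.base (l₁.base (IsLocalRing.closedPoint A)) = z₁ := by
      rw [← hclp, hfac]; rfl
    refine ⟨l₁.base (IsLocalRing.closedPoint A), ?_, hz⟩
    rw [← hz] at hsp
    exact (Δ.isEmbedding.isInducing.specializes_iff).mp hsp

end Groth.Agent.S9211
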