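import Groth.Statements.S9212
import Groth.Agent.Lib.ValPoint

set_option autoImplicit false
universe u
open CategoryTheory CategoryTheory.Limits AlgebraicGeometry
open Lim

namespace Groth.Agent.S9212

/-- Let S be a locally Noetherian scheme and f : X → S a morphism of finite type. Then f is proper if
and only if: for every generic point η of an irreducible component of X, every discrete valuation
ring A contained in the residue field κ(η) with fraction field κ(η) (a valuation subring of κ(η)
which is a discrete valuation ring), and every morphism Spec A → S whose restriction to Spec κ(η) is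
the canonical morphism Spec κ(η) → X followed by f, there is exactly one morphism Spec A → X over S
restricting to the canonical morphism on Spec κ(η). -/
theorem result {X S : Scheme.{u}} [IsLocallyNoetherian S] (f : X ⟶ S)
    [LocallyOfFiniteType f] [QuasiCompact f] :
    IsProper f ↔ ∀ (η : X), closure {η} ∈ irreducibleComponents (X : Type u) →
      ∀ (A : ValuationSubring (X.residueField η)), IsDiscreteValuationRing A →
        ∀ y : Spec (CommRingCat.of A) ⟶ S,
          Spec.map (CommRingCat.ofHom A.subtype) ≫ y = X.fromSpecResidueField η ≫ f →
          ∃! l : Spec (CommRingCat.of A) ⟶ X,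
            l ≫ f = y ∧ Spec.map (CommRingCat.ofHom A.subtype) ≫ l = X.fromSpecResidueField η := by
  constructor
  · intro hprop η _ A _ y hy
    let sq : ValuativeCommSq f :=
      { R := A, K := X.residueField η, i₁ := X.fromSpecResidueField η, i₂ := y,
        commSq := ⟨hy.symm⟩ }
    have hsub : Subsingleton sq.commSq.LiftStruct := IsSeparated.valuativeCriterion f sq
    have hex : ValuativeCriterion.Existence f :=
      ((UniversallyClosed.eq_valuativeCriterion ▸ (inferInstance : UniversallyClosed f)) :
        (ValuativeCriterion.Existence ⊓ @QuasiCompact) f).1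
    obtain ⟨⟨L⟩⟩ := hex sq
    refine ⟨L.l, ⟨L.fac_right, L.fac_left⟩, ?_⟩
    rintro l' ⟨h1, h2⟩
    let L' : sq.commSq.LiftStruct := ⟨l', h2, h1⟩
    exact congrArg (·.l) (Subsingleton.elim L' L)
  · intro H
    have hXn : IsLocallyNoetherian X := LocallyOfFiniteType.isLocallyNoetherian f
    let D : Set X := {η | closure {η} ∈ irreducibleComponents (X : Type u)}
    have hD : ∀ x : X, ∃ ξ ∈ D, ξ ⤳ x := fun x ↦
      Groth.Agent.Lib.ValPoint.exists_generic_specializes X x
    -- separatedness
    have hsep : IsSeparated f := by
      refine Groth.Agent.Lib.ValPoint.isSeparated_of_subsingletonLiftsAt f D hD ?_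
      intro η hη
      refine Groth.Agent.Lib.ValPoint.subsingletonLiftsAt_of_forall_dvr f
        (κ := X.residueField η) (X.fromSpecResidueField η)
        (Groth.Agent.Lib.ValDense.essFiniteType_stalkClosedPointTo_fromSpecResidueField η) ?_
      intro A hA l₁ l₂ h1 h2 h12
      have hy' : Spec.map (CommRingCat.ofHom A.subtype) ≫ (l₁ ≫ f) =
          X.fromSpecResidueField η ≫ f := by
        rw [← Category.assoc, h1]
      exact (H η hη A hA (l₁ ≫ f) hy').unique ⟨rfl, h1⟩ ⟨h12.symm, h2⟩
    -- universal closedness
    have hUC : UniversallyClosed f := by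
      refine Groth.Agent.Lib.ValPoint.universallyClosed_of_liftsAt f D hD ?_
      intro η hη
      refine Groth.Agent.Lib.ValPoint.liftsAt_of_forall_dvr f
        (κ := X.residueField η) (X.fromSpecResidueField η)
        (Groth.Agent.Lib.ValDense.essFiniteType_stalkClosedPointTo_fromSpecResidueField η) ?_
      intro A hA y hy
      obtain ⟨l, ⟨hl₁, hl₂⟩, -⟩ := H η hη A hA y hy
      exact ⟨l, hl₂, hl₁⟩
    exact { }

end Groth.Agent.S9212
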