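import Groth.Statements.S9218
import Groth.Agent.Lib.LimPullback

set_option autoImplicit false
universe u
open CategoryTheory CategoryTheory.Limits AlgebraicGeometry
open Lim

namespace Groth.Agent.S9218

/-- Let S = lim S_i be a cofiltered limit of schemes with affine transition morphisms (the S_i are not
assumed quasi-compact or quasi-separated), i an index, and X_i → S_i, Y_i → S_i morphisms locally of
finite presentation with X_i, Y_i quasi-compact and quasi-separated; let X, Y be their base changes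
to S (pullback squares). Then every S-morphism f : X → Y comes from some stage: for some index j
over i there is an S_j-morphism f_j : X_i ×_{S_i} S_j → Y_i ×_{S_i} S_j whose base change to S is f,
in the sense that the canonical morphisms X → X_i ×_{S_i} S_j and Y → Y_i ×_{S_i} S_j intertwine f
and f_j. This is the fullness part of the equivalence between the colimit of the categories of
quasi-compact quasi-separated schemes locally of finite presentation over the S_i and the
corresponding category over S. -/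
theorem result {I : Type u} [SmallCategory I] [IsCofiltered I]
    (D : I ⥤ Scheme.{u}) (c : Limits.Cone D) (hc : Limits.IsLimit c)
    [∀ (i j : I) (f : i ⟶ j), IsAffineHom (D.map f)] (i : I)
    {Xi Yi : Scheme.{u}} (xi : Xi ⟶ D.obj i) (yi : Yi ⟶ D.obj i)
    [CompactSpace Xi] [QuasiSeparatedSpace Xi] [LocallyOfFinitePresentation xi]
    [CompactSpace Yi] [QuasiSeparatedSpace Yi] [LocallyOfFinitePresentation yi]
    {X Y : Scheme.{u}} (qX : X ⟶ Xi) (pX : X ⟶ c.pt) (hX : IsPullback qX pX xi (c.π.app i))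
    (qY : Y ⟶ Yi) (pY : Y ⟶ c.pt) (hY : IsPullback qY pY yi (c.π.app i))
    (f : X ⟶ Y) (hf : f ≫ pY = pX) :
    ∃ (j : I) (φ : j ⟶ i) (fj : pullback xi (D.map φ) ⟶ pullback yi (D.map φ))
      (sX : X ⟶ pullback xi (D.map φ)) (sY : Y ⟶ pullback yi (D.map φ)),
      fj ≫ pullback.snd yi (D.map φ) = pullback.snd xi (D.map φ) ∧
      sX ≫ pullback.fst xi (D.map φ) = qX ∧ sX ≫ pullback.snd xi (D.map φ) = pX ≫ c.π.app j ∧
      sY ≫ pullback.fst yi (D.map φ) = qY ∧ sY ≫ pullback.snd yi (D.map φ) = pY ≫ c.π.app j ∧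
      sX ≫ fj = f ≫ sY := by
  have hfst : ∀ j : Over i, IsAffineHom (pullback.fst xi (D.map j.hom)) := fun j =>
    MorphismProperty.pullback_fst (P := @IsAffineHom) xi (D.map j.hom) inferInstance
  have haff : ∀ {j k : Over i} (f : j ⟶ k),
      IsAffineHom ((Groth.Agent.Lib.LimPullback.pbDiagram D i xi).map f) := by
    intro j k f
    have h1 : IsAffineHom (Groth.Agent.Lib.LimPullback.pbMap D i xi f
        ≫ pullback.fst xi (D.map k.hom)) := by
      rw [Groth.Agent.Lib.LimPullback.pbMap_fst]
      exact hfst j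
    exact IsAffineHom.of_comp (Groth.Agent.Lib.LimPullback.pbMap D i xi f)
      (pullback.fst xi (D.map k.hom))
  have hcpt : ∀ j : Over i,
      CompactSpace ↥((Groth.Agent.Lib.LimPullback.pbDiagram D i xi).obj j) := by
    intro j
    change CompactSpace ↥(pullback xi (D.map j.hom))
    infer_instance
  have hqs : ∀ j : Over i,
      QuasiSeparatedSpace ↥((Groth.Agent.Lib.LimPullback.pbDiagram D i xi).obj j) := by
    intro j
    change QuasiSeparatedSpace ↥(pullback xi (D.map j.hom))
    have := hfst j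
    exact quasiSeparatedSpace_of_quasiSeparated (pullback.fst xi (D.map j.hom))
  have hlim := Groth.Agent.Lib.LimPullback.isLimitPbCone (D := D) (c := c) (i := i) (a := xi) hc
  let t : Groth.Agent.Lib.LimPullback.pbDiagram D i xi ⟶ (Functor.const (Over i)).obj (D.obj i) :=
    { app := fun j => pullback.fst xi (D.map j.hom) ≫ xi
      naturality := fun j k f => by
        change Groth.Agent.Lib.LimPullback.pbMap D i xi f ≫ pullback.fst xi (D.map k.hom) ≫ xi
          = (pullback.fst xi (D.map j.hom) ≫ xi) ≫ 𝟙 _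
        rw [Groth.Agent.Lib.LimPullback.pbMap_fst_assoc, Category.comp_id] }
  have hq : pullback.fst xi (c.π.app i) = hX.isoPullback.inv ≫ qX := by
    rw [Iso.eq_inv_comp, IsPullback.isoPullback_hom_fst]
  have hp : pullback.snd xi (c.π.app i) = hX.isoPullback.inv ≫ pX := by
    rw [Iso.eq_inv_comp, IsPullback.isoPullback_hom_snd]
  obtain ⟨k, g', hg1, hg2⟩ := Scheme.exists_π_app_comp_eq_of_locallyOfFinitePresentation
    (Groth.Agent.Lib.LimPullback.pbDiagram D i xi) t yi
    (Groth.Agent.Lib.LimPullback.pbCone D c i xi) hlim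
    (hX.isoPullback.inv ≫ f ≫ qY)
    (by
      ext j
      change Groth.Agent.Lib.LimPullback.pbProj D c i xi j ≫ pullback.fst xi (D.map j.hom) ≫ xi
        = (hX.isoPullback.inv ≫ f ≫ qY) ≫ yi
      rw [Groth.Agent.Lib.LimPullback.pbProj_fst_assoc, hq, Category.assoc, Category.assoc,
        Category.assoc, hY.w, ← Category.assoc f, hf, hX.w])
  obtain ⟨g, rfl⟩ : ∃ g : pullback xi (D.map k.hom) ⟶ Yi, g = g' := ⟨g', rfl⟩
  replace hg1 : Groth.Agent.Lib.LimPullback.pbProj D c i xi k ≫ g
      = hX.isoPullback.inv ≫ f ≫ qY := hg1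
  replace hg2 : g ≫ yi = pullback.fst xi (D.map k.hom) ≫ xi := hg2
  have hcw : c.π.app k.left ≫ D.map k.hom = c.π.app i := c.w k.hom
  obtain ⟨fj, hfj1, hfj2⟩ : ∃ fj : pullback xi (D.map k.hom) ⟶ pullback yi (D.map k.hom),
      fj ≫ pullback.fst yi (D.map k.hom) = g ∧
      fj ≫ pullback.snd yi (D.map k.hom) = pullback.snd xi (D.map k.hom) :=
    ⟨pullback.lift g (pullback.snd xi (D.map k.hom)) (by rw [hg2, pullback.condition]),
      pullback.lift_fst _ _ _, pullback.lift_snd _ _ _⟩
  obtain ⟨sX, hsX1, hsX2⟩ : ∃ sX : X ⟶ pullback xi (D.map k.hom),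
      sX ≫ pullback.fst xi (D.map k.hom) = qX ∧
      sX ≫ pullback.snd xi (D.map k.hom) = pX ≫ c.π.app k.left :=
    ⟨pullback.lift qX (pX ≫ c.π.app k.left) (by rw [Category.assoc, hcw, hX.w]),
      pullback.lift_fst _ _ _, pullback.lift_snd _ _ _⟩
  obtain ⟨sY, hsY1, hsY2⟩ : ∃ sY : Y ⟶ pullback yi (D.map k.hom),
      sY ≫ pullback.fst yi (D.map k.hom) = qY ∧
      sY ≫ pullback.snd yi (D.map k.hom) = pY ≫ c.π.app k.left :=
    ⟨pullback.lift qY (pY ≫ c.π.app k.left) (by rw [Category.assoc, hcw, hY.w]),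
      pullback.lift_fst _ _ _, pullback.lift_snd _ _ _⟩
  refine ⟨k.left, k.hom, fj, sX, sY, hfj2, hsX1, hsX2, hsY1, hsY2, ?_⟩
  have hsX : sX = hX.isoPullback.hom ≫ Groth.Agent.Lib.LimPullback.pbProj D c i xi k := by
    apply pullback.hom_ext
    · rw [hsX1, Category.assoc, Groth.Agent.Lib.LimPullback.pbProj_fst,
        IsPullback.isoPullback_hom_fst]
    · rw [hsX2, Category.assoc, Groth.Agent.Lib.LimPullback.pbProj_snd,
        IsPullback.isoPullback_hom_snd_assoc]
  apply pullback.hom_ext
  · rw [Category.assoc, hfj1, Category.assoc, hsY1, hsX, Category.assoc, hg1,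
      Iso.hom_inv_id_assoc]
  · rw [Category.assoc, hfj2, hsX2, Category.assoc, hsY2, ← Category.assoc, hf]

end Groth.Agent.S9218
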