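import Groth.Statements.S9219
import Groth.Agent.Lib.LimPullback

set_option autoImplicit false
universe u
open CategoryTheory CategoryTheory.Limits AlgebraicGeometry
open Lim

namespace Groth.Agent.S9219

/-- Let S = lim S_i be a cofiltered limit of schemes with affine transition morphisms (the S_i are not
assumed quasi-compact or quasi-separated), i an index, and X_i → S_i, Y_i → S_i morphisms locally of
finite presentation with X_i, Y_i quasi-compact and quasi-separated; let X be the base change of X_i
to S (a pullback square). If two S_i-morphisms f_i, g_i : X_i → Y_i have the same base change to S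
(equivalently, the same composite with X → X_i), then for some index j over i their base changes to
S_j agree, i.e. they have the same composite with X_i ×_{S_i} S_j → X_i. This is the faithfulness
part of the equivalence between the colimit of the categories of quasi-compact quasi-separated
schemes locally of finite presentation over the S_i and the corresponding category over S. -/
theorem result {I : Type u} [SmallCategory I] [IsCofiltered I]
    (D : I ⥤ Scheme.{u}) (c : Limits.Cone D) (hc : Limits.IsLimit c)
    [∀ (i j : I) (f : i ⟶ j), IsAffineHom (D.map f)] (i : I)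
    {Xi Yi : Scheme.{u}} (xi : Xi ⟶ D.obj i) (yi : Yi ⟶ D.obj i)
    [CompactSpace Xi] [QuasiSeparatedSpace Xi] [LocallyOfFinitePresentation xi]
    [CompactSpace Yi] [QuasiSeparatedSpace Yi] [LocallyOfFinitePresentation yi]
    {X : Scheme.{u}} (qX : X ⟶ Xi) (pX : X ⟶ c.pt) (hX : IsPullback qX pX xi (c.π.app i))
    (fi gi : Xi ⟶ Yi) (hfi : fi ≫ yi = xi) (hgi : gi ≫ yi = xi) (h : qX ≫ fi = qX ≫ gi) :
    ∃ (j : I) (φ : j ⟶ i), pullback.fst xi (D.map φ) ≫ fi = pullback.fst xi (D.map φ) ≫ gi := by
  have hfst : ∀ j : Over i, IsAffineHom (pullback.fst xi (D.map j.hom)) := fun j =>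
    MorphismProperty.pullback_fst (P := @IsAffineHom) xi (D.map j.hom) inferInstance
  have haff : ∀ {j k : Over i} (f : j ⟶ k),
      IsAffineHom ((Groth.Agent.Lib.LimPullback.pbDiagram D i xi).map f) := by
    intro j k f
    have h1 : IsAffineHom (Groth.Agent.Lib.LimPullback.pbMap D i xi f
        ≫ pullback.fst xi (D.map k.hom)) := by
      rw [Groth.Agent.Lib.LimPullback.pbMap_fst]
      exact hfst j
    exact IsAffineHom.of_comp (Groth.Agent.Lib.LimPullback.pbMap D i xi f)
      (pullback.fst xi (D.map k.hom))
  have hcpt : ∀ j : Over i,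
      CompactSpace ↥((Groth.Agent.Lib.LimPullback.pbDiagram D i xi).obj j) := by
    intro j
    change CompactSpace ↥(pullback xi (D.map j.hom))
    infer_instance
  have hlim := Groth.Agent.Lib.LimPullback.isLimitPbCone (D := D) (c := c) (i := i) (a := xi) hc
  let t : Groth.Agent.Lib.LimPullback.pbDiagram D i xi ⟶ (Functor.const (Over i)).obj (D.obj i) :=
    { app := fun j => pullback.fst xi (D.map j.hom) ≫ xi
      naturality := fun j k f => by
        change Groth.Agent.Lib.LimPullback.pbMap D i xi f ≫ pullback.fst xi (D.map k.hom) ≫ xi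
          = (pullback.fst xi (D.map j.hom) ≫ xi) ≫ 𝟙 _
        rw [Groth.Agent.Lib.LimPullback.pbMap_fst_assoc, Category.comp_id] }
  have hlft : LocallyOfFiniteType yi := inferInstance
  have hq : pullback.fst xi (c.π.app i) = hX.isoPullback.inv ≫ qX := by
    rw [Iso.eq_inv_comp, IsPullback.isoPullback_hom_fst]
  obtain ⟨k, hik, hk⟩ := Scheme.exists_hom_comp_eq_comp_of_locallyOfFiniteType
    (Groth.Agent.Lib.LimPullback.pbDiagram D i xi) t yi
    (Groth.Agent.Lib.LimPullback.pbCone D c i xi) hlim
    (i := Over.mk (𝟙 i))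
    (pullback.fst xi (D.map (Over.mk (𝟙 i)).hom) ≫ fi)
    (pullback.fst xi (D.map (Over.mk (𝟙 i)).hom) ≫ gi)
    (by change _ ≫ xi = _; rw [Category.assoc, hfi])
    (by change _ ≫ xi = _; rw [Category.assoc, hgi])
    (by
      change Groth.Agent.Lib.LimPullback.pbProj D c i xi (Over.mk (𝟙 i)) ≫ _ ≫ fi
        = Groth.Agent.Lib.LimPullback.pbProj D c i xi (Over.mk (𝟙 i)) ≫ _ ≫ gi
      rw [Groth.Agent.Lib.LimPullback.pbProj_fst_assoc,
        Groth.Agent.Lib.LimPullback.pbProj_fst_assoc, hq, Category.assoc, Category.assoc, h])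
  refine ⟨k.left, k.hom, ?_⟩
  change Groth.Agent.Lib.LimPullback.pbMap D i xi hik ≫ _ ≫ fi
    = Groth.Agent.Lib.LimPullback.pbMap D i xi hik ≫ _ ≫ gi at hk
  rw [Groth.Agent.Lib.LimPullback.pbMap_fst_assoc,
    Groth.Agent.Lib.LimPullback.pbMap_fst_assoc] at hk
  exact hk

end Groth.Agent.S9219
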