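import Groth.Statements.S9221
import Groth.Agent.Lib.LimProperSupport68
import Groth.Agent.Lib.SupportPullback
import Groth.Agent.Lib.ModStalk

set_option autoImplicit false
universe u
open CategoryTheory AlgebraicGeometry
open Lim

namespace Groth.Agent.S9221

/-- Let S = lim S_i be a cofiltered limit of schemes with affine transition morphisms, S_{i₀} a
quasi-compact quasi-separated stage, f₀ : X₀ → Y₀ a morphism of quasi-compact quasi-separated
schemes over S_{i₀}, and f : X → Y its base change along S → S_{i₀} (base changes expressed by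
pullback squares). Let F₀ be a quasi-coherent O_{X₀}-module of finite type, with pullbacks F to X
and F_i to X_i, and assume f₀ is locally of finite type. If the support of F (a closed subset of X,
taken with its reduced structure; equivalently the scheme-theoretic support of F) is proper over Y,
then for some index i over i₀, with f_i : X_i → Y_i the base change of f₀ along S_i → S_{i₀}, the
support of F_i is proper over Y_i. -/
theorem result {I : Type u} [SmallCategory I] [IsCofiltered I]
    (D : I ⥤ Scheme.{u}) (c : Limits.Cone D) (hc : Limits.IsLimit c)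
    [∀ (i j : I) (f : i ⟶ j), IsAffineHom (D.map f)] (i₀ : I) [CompactSpace (D.obj i₀)]
    [QuasiSeparatedSpace (D.obj i₀)] {X₀ Y₀ : Scheme.{u}} (f₀ : X₀ ⟶ Y₀) (g₀ : Y₀ ⟶ D.obj i₀)
    [CompactSpace X₀] [QuasiSeparatedSpace X₀] [CompactSpace Y₀] [QuasiSeparatedSpace Y₀]
    [LocallyOfFiniteType f₀] (F₀ : X₀.Modules) [Coh.IsQCoh F₀] (hF₀ : CohB1.IsFT F₀)
    {X Y : Scheme.{u}} (f : X ⟶ Y) (g : Y ⟶ c.pt) (qY : Y ⟶ Y₀) (qX : X ⟶ X₀)
    (hY : IsPullback qY g g₀ (c.π.app i₀)) (hX : IsPullback qX f f₀ qY) (hF : ClSub.IsProperOver f (CohB1.support ((Scheme.Modules.pullback qX).obj F₀))) :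
    ∃ (i : I) (φ : i ⟶ i₀) (Xi Yi : Scheme.{u}) (fi : Xi ⟶ Yi) (gi : Yi ⟶ D.obj i) (pY : Yi ⟶ Y₀)
      (pX : Xi ⟶ X₀), IsPullback pY gi g₀ (D.map φ) ∧ IsPullback pX fi f₀ pY ∧ ClSub.IsProperOver fi (CohB1.support ((Scheme.Modules.pullback pX).obj F₀)) := by
  have : ∀ {i j : I} (f : i ⟶ j), IsAffineHom (D.map f) := fun f => inferInstance
  have hqc : F₀.IsQuasicoherent := ‹Coh.IsQCoh F₀›
  have hft : F₀.IsFiniteType := hF₀
  have hcl : IsClosed (CohB1.support F₀) :=
    Groth.Agent.Lib.ModStalk.isClosed_support_of_isFiniteType F₀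
  let I₀ : X₀.IdealSheafData :=
    Scheme.IdealSheafData.vanishingIdeal ⟨CohB1.support F₀, hcl⟩
  have hrange : Set.range I₀.subschemeι = CohB1.support F₀ := by
    rw [I₀.range_subschemeι]
    simp [I₀]
  have hsupp : ∀ {T : Scheme.{u}} (q : T ⟶ X₀),
      CohB1.support ((Scheme.Modules.pullback q).obj F₀) = q.base ⁻¹' Set.range I₀.subschemeι := by
    intro T q
    rw [hrange]
    exact Groth.Agent.Lib.SupportPullback.support_pullback_eq_preimage q F₀
  rw [hsupp qX] at hF
  obtain ⟨j, hj⟩ := Groth.Agent.Lib.LimProperSupport68.exists_isProperOver_descend D c hc f₀ g₀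
    I₀.subschemeι f g qY qX hY hX hF
  refine ⟨j.left, j.hom, _, _, Groth.Agent.Lib.LimDescent.bcMap f₀ g₀ (D.map j.hom),
    Limits.pullback.snd _ _, Limits.pullback.fst _ _, Limits.pullback.fst _ _, IsPullback.of_hasPullback _ _,
    Groth.Agent.Lib.LimDescent.isPullback_bcMap f₀ g₀ _, ?_⟩
  rw [hsupp]
  exact hj

end Groth.Agent.S9221
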