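import Groth.Statements.S9225
import Mathlib
import Groth.Agent.Lib.RegularLocal

set_option autoImplicit false
universe u
open CAlg

namespace Groth.Agent.S9225
open IsLocalRing

/-- a derivation maps `p^2` into `p`. -/
lemma D_mem_of_mem_sq {S : Type*} [CommRing S] {R : Type u} [CommRing R] [Algebra S R]
    (D : Derivation S R R) (p : Ideal R) (y : R)
    (hy : y ∈ p ^ 2) : D y ∈ p := by
  rw [pow_two] at hy
  refine Submodule.mul_induction_on hy (fun a ha b hb => ?_) (fun x y hx hy => ?_)
  · rw [Derivation.leibniz]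
    exact Ideal.add_mem _ (Ideal.mul_mem_right _ _ ha) (Ideal.mul_mem_right _ _ hb)
  · rw [map_add]; exact Ideal.add_mem _ hx hy

/-- key: `f/1 ∉ (pR_p)^2`. -/
lemma notMem_sq {S : Type*} [CommRing S] {R : Type u} [CommRing R] [Algebra S R] (f : R)
    (D : Derivation S R R)
    (hD : IsUnit (Ideal.Quotient.mk (Ideal.span {f}) (D f))) (p : Ideal R) [p.IsPrime]
    (hfp : f ∈ p) :
    algebraMap R (Localization.AtPrime p) f ∉ (maximalIdeal (Localization.AtPrime p)) ^ 2 := by
  intro hmem
  rw [← Localization.AtPrime.map_eq_maximalIdeal, ← Ideal.map_pow,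
    IsLocalization.mem_map_algebraMap_iff p.primeCompl] at hmem
  obtain ⟨⟨⟨i, hi⟩, ⟨s, hs⟩⟩, h1⟩ := hmem
  simp only at h1
  rw [← map_mul, IsLocalization.eq_iff_exists p.primeCompl] at h1
  obtain ⟨⟨t, ht⟩, h2⟩ := h1
  simp only at h2
  -- t * (f * s) = t * i ∈ p^2
  have h3 : (t * s) * f ∈ p ^ 2 := by
    have : (t * s) * f = t * i := by rw [← h2]; ring
    rw [this]
    exact Ideal.mul_mem_left _ _ hi
  have h4 := D_mem_of_mem_sq D p _ h3
  rw [Derivation.leibniz, smul_eq_mul, smul_eq_mul] at h4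
  have h5 : (t * s) * D f ∈ p := by
    have := Ideal.sub_mem _ h4 (Ideal.mul_mem_right (D (t * s)) p hfp)
    simpa using this
  have hts : t * s ∉ p := fun h => (Ideal.IsPrime.mem_or_mem inferInstance h).elim ht hs
  have h6 : D f ∈ p := (Ideal.IsPrime.mem_or_mem inferInstance h5).resolve_left hts
  obtain ⟨g, hg⟩ := hD.exists_right_inv
  obtain ⟨g, rfl⟩ := Ideal.Quotient.mk_surjective g
  rw [← map_mul, ← map_one (Ideal.Quotient.mk (Ideal.span {f})), Ideal.Quotient.eq] at hg
  have h7 : D f * g - 1 ∈ p := (Ideal.span_singleton_le_iff_mem p).mpr hfp hg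
  have h8 : (1 : R) ∈ p := by
    have := Ideal.sub_mem _ (Ideal.mul_mem_right g p h6) h7
    simpa using this
  exact (Ideal.ne_top_iff_one p).mp (Ideal.IsPrime.ne_top inferInstance) h8

theorem regular_quotient {S : Type*} [CommRing S] (R : Type u) [CommRing R] [Algebra S R]
    [IsRegularRing R] (f : R) (D : Derivation S R R)
    (hD : IsUnit (Ideal.Quotient.mk (Ideal.span {f}) (D f))) :
    IsRegularRing (R ⧸ Ideal.span ({f} : Set R)) := by
  rw [isRegularRing_iff]
  intro P hP
  let p : Ideal R := P.comap (Ideal.Quotient.mk (Ideal.span {f}))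
  have hfp : f ∈ p := by
    change Ideal.Quotient.mk _ f ∈ P
    rw [Ideal.Quotient.eq_zero_iff_mem.mpr (Ideal.mem_span_singleton_self f)]
    exact zero_mem _
  let Rp := Localization.AtPrime p
  let x : Rp := algebraMap R Rp f
  have hx : x ∈ maximalIdeal Rp := by
    rw [← Localization.AtPrime.map_eq_maximalIdeal]
    exact Ideal.mem_map_of_mem _ hfp
  have hx2 : x ∉ (maximalIdeal Rp) ^ 2 := notMem_sq f D hD p hfp
  obtain ⟨hreg, -⟩ := Groth.Agent.Lib.RegularLocal.isRegularLocalRing_quotient_of_spanFinrank hx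
    (Groth.Agent.Lib.RegularLocal.spanFinrank_map_mk_add_one_le hx hx2)
  -- transfer
  have hmap : (Ideal.span {f}).map (algebraMap R Rp) = Ideal.span {x} := by
    rw [Ideal.map_span, Set.image_singleton]
  have hloc : IsLocalization (Algebra.algebraMapSubmonoid (R ⧸ Ideal.span {f}) p.primeCompl)
      (Rp ⧸ (Ideal.span {f}).map (algebraMap R Rp)) := inferInstance
  have hsub : Algebra.algebraMapSubmonoid (R ⧸ Ideal.span {f}) p.primeCompl = P.primeCompl := by
    ext y
    constructor
    · rintro ⟨z, hz, rfl⟩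
      exact hz
    · intro hy
      obtain ⟨z, rfl⟩ := Ideal.Quotient.mk_surjective y
      exact ⟨z, hy, rfl⟩
  rw [hsub] at hloc
  let e1 : Localization.AtPrime P ≃ₐ[R ⧸ Ideal.span {f}]
      (Rp ⧸ (Ideal.span {f}).map (algebraMap R Rp)) :=
    IsLocalization.algEquiv P.primeCompl _ _
  let e2 : (Rp ⧸ (Ideal.span {f}).map (algebraMap R Rp)) ≃+* (Rp ⧸ Ideal.span {x}) :=
    Ideal.quotEquivOfEq hmap
  exact IsRegularLocalRing.of_ringEquiv (e1.toRingEquiv.trans e2).symm


/-- Let R be a regular ring, f an element of R and D a derivation of R such that the image of D(f) in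
R/(f) is a unit. Then R/(f) is a regular ring. -/
theorem result (R : Type u) [CommRing R] [IsRegularRing R]
    (f : R) (D : Derivation ℤ R R)
    (hD : IsUnit (Ideal.Quotient.mk (Ideal.span {f}) (D f))) :
    IsRegularRing (R ⧸ Ideal.span ({f} : Set R)) := by
  exact regular_quotient R f D hD

end Groth.Agent.S9225
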