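import Groth.Statements.S9226
import Mathlib
import Groth.Agent.Lib.RegularLocal
import Groth.Agent.S9225

set_option autoImplicit false
universe u
open CAlg

namespace Groth.Agent.S9226
open IsLocalRing Pointwise RingTheory.Sequence

open Groth.Agent.Lib.RegularLocal

/-- independence modulo `m^2` -/
def Indep (R : Type*) [CommRing R] [IsLocalRing R] {m : ℕ} (f : Fin m → R) : Prop :=
  ∀ c : Fin m → R, (∑ j, c j * f j) ∈ (maximalIdeal R) ^ 2 → ∀ j, c j ∈ maximalIdeal R

theorem main (m : ℕ) : ∀ (R : Type u) [CommRing R] [IsRegularLocalRing R] (f : Fin m → R)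
    (_ : ∀ i, f i ∈ maximalIdeal R) (_ : Indep R f),
    IsRegularLocalRing (R ⧸ Ideal.span (Set.range f)) ∧ IsWeaklyRegular R (List.ofFn f) := by
  induction m with
  | zero =>
    intro R _ _ f _ _
    constructor
    · have : Ideal.span (Set.range f) = ⊥ := by
        rw [Set.range_eq_empty, Ideal.span_empty]
      exact IsRegularLocalRing.of_ringEquiv
        ((RingEquiv.quotientBot R).symm.trans (Ideal.quotEquivOfEq this.symm))
    · simp
  | succ m ih =>
    intro R _ _ f hf hind
    have hdom : IsDomain R := isDomain R
    set x := f 0 with hx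
    have hxm : x ∈ maximalIdeal R := hf 0
    have hx2 : x ∉ (maximalIdeal R) ^ 2 := by
      intro h
      have hsum : ∑ j, (Pi.single 0 1 : Fin (m + 1) → R) j * f j = f 0 := by
        rw [Finset.sum_eq_single 0]
        · simp
        · intro b _ hb; simp [Pi.single_eq_of_ne hb]
        · simp
      have := hind (Pi.single 0 1) (by rw [hsum]; exact h) 0
      simp only [Pi.single_eq_same] at this
      exact (Ideal.ne_top_iff_one _).mp (maximalIdeal.isMaximal R).ne_top this
    have hx0 : x ≠ 0 := by
      intro h; apply hx2; rw [h]; exact Ideal.zero_mem _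
    have hle := spanFinrank_map_mk_add_one_le hxm hx2
    obtain ⟨hreg, hcard⟩ := isRegularLocalRing_quotient_of_spanFinrank hxm hle
    set mk := Ideal.Quotient.mk (Ideal.span ({x} : Set R)) with hmk
    have hmap : (maximalIdeal R).map mk = maximalIdeal (R ⧸ Ideal.span ({x} : Set R)) :=
      IsLocalRing.map_maximalIdeal_of_surjective _ Ideal.Quotient.mk_surjective
    let f' : Fin m → R ⧸ Ideal.span ({x} : Set R) := fun i => mk (f i.succ)
    have hf' : ∀ i, f' i ∈ maximalIdeal (R ⧸ Ideal.span ({x} : Set R)) := by
      intro i; rw [← hmap]; exact Ideal.mem_map_of_mem _ (hf i.succ)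
    have hind' : Indep (R ⧸ Ideal.span ({x} : Set R)) f' := by
      intro c' hc' j
      choose c hc using fun j => Ideal.Quotient.mk_surjective (c' j)
      have h1 : mk (∑ j, c j * f j.succ) ∈ ((maximalIdeal R) ^ 2).map mk := by
        rw [Ideal.map_pow, hmap, map_sum]
        convert hc' using 2 with j
        rw [map_mul, hc]
      rw [Ideal.mem_map_iff_of_surjective mk Ideal.Quotient.mk_surjective] at h1
      obtain ⟨y, hy, hy'⟩ := h1
      have h2 : (∑ j, c j * f j.succ) - y ∈ Ideal.span ({x} : Set R) := by
        rw [← Ideal.Quotient.eq_zero_iff_mem, map_sub, hy', sub_self]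
      rw [Ideal.mem_span_singleton'] at h2
      obtain ⟨r, hr⟩ := h2
      have h3 := hind (Fin.cons (-r) c) (by
        rw [Fin.sum_univ_succ]
        simp only [Fin.cons_zero, Fin.cons_succ]
        have : -r * f 0 + ∑ j : Fin m, c j * f j.succ = y := by
          rw [← hx]; linear_combination (-1 : R) * hr
        rw [this]; exact hy)
      have h4 := h3 j.succ
      simp only [Fin.cons_succ] at h4
      rw [← hc j, ← hmap]
      exact Ideal.mem_map_of_mem _ h4
    obtain ⟨ihreg, ihwr⟩ := ih (R ⧸ Ideal.span ({x} : Set R)) f' hf' hind'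
    constructor
    · -- regular quotient
      have hJ : (Ideal.span (Set.range (fun i : Fin m => f i.succ))).map mk =
          Ideal.span (Set.range f') := by
        rw [Ideal.map_span, ← Set.range_comp]; rfl
      have hsup : Ideal.span ({x} : Set R) ⊔ Ideal.span (Set.range (fun i : Fin m => f i.succ)) =
          Ideal.span (Set.range f) := by
        rw [← Ideal.span_union]
        congr 1
        ext z
        simp only [Set.mem_union, Set.mem_singleton_iff, Set.mem_range]
        constructor
        · rintro (rfl | ⟨i, rfl⟩)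
          · exact ⟨0, rfl⟩
          · exact ⟨i.succ, rfl⟩
        · rintro ⟨i, rfl⟩
          refine Fin.cases ?_ (fun j => ?_) i
          · left; rfl
          · right; exact ⟨j, rfl⟩
      let e : (R ⧸ Ideal.span (Set.range f)) ≃+* ((R ⧸ Ideal.span ({x} : Set R)) ⧸
          Ideal.span (Set.range f')) :=
        ((Ideal.quotEquivOfEq hsup.symm).trans
          (DoubleQuot.quotQuotEquivQuotSup _ _).symm).trans (Ideal.quotEquivOfEq hJ)
      exact IsRegularLocalRing.of_ringEquiv e.symm
    · rw [List.ofFn_succ, isWeaklyRegular_cons_iff]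
      constructor
      · exact (IsRegular.of_ne_zero hx0).left.isSMulRegular
      · have hlist : List.ofFn f' =
            (List.ofFn (fun i : Fin m => f i.succ)).map
              (algebraMap R (R ⧸ Ideal.span ({x} : Set R))) := by
          rw [List.map_ofFn]; rfl
        rw [hlist, isWeaklyRegular_map_algebraMap_iff] at ihwr
        have h : Ideal.span {x} = x • (⊤ : Ideal R) := by
          simp [← Submodule.ideal_span_singleton_smul]
        let e : (R ⧸ Ideal.span ({x} : Set R)) ≃ₗ[R] QuotSMulTop x R :=
          Submodule.quotEquivOfEq _ _ h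
        exact (e.isWeaklyRegular_congr _).mp ihwr


/-- Let R be a regular local ring, m ≥ 1, f_1, ..., f_m elements of the maximal ideal, and D_1, ..., D_m
derivations of R such that the determinant of the matrix (D_i(f_j)) is a unit of R. Then R/(f_1,
..., f_m) is a regular local ring and f_1, ..., f_m is a regular sequence on R. -/
theorem result (R : Type u) [CommRing R]
    [IsRegularLocalRing R] (m : ℕ) (hm : 1 ≤ m) (f : Fin m → R)
    (hf : ∀ i, f i ∈ IsLocalRing.maximalIdeal R) (D : Fin m → Derivation ℤ R R)
    (hdet : IsUnit (Matrix.det (Matrix.of (fun i j : Fin m => D i (f j))))) :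
    IsRegularLocalRing (R ⧸ Ideal.span (Set.range f)) ∧
      RingTheory.Sequence.IsRegular R (List.ofFn f) := by
  have hind : Indep R f := by
    intro c hc
    set M : Matrix (Fin m) (Fin m) R := Matrix.of (fun i j : Fin m => D i (f j)) with hM
    have hv : ∀ i, (M.mulVec c) i ∈ maximalIdeal R := by
      intro i
      have h1 := Groth.Agent.S9225.D_mem_of_mem_sq (D i) (maximalIdeal R) _ hc
      rw [map_sum] at h1
      simp only [Derivation.leibniz, smul_eq_mul, Finset.sum_add_distrib] at h1
      have h2 : ∑ j, f j * (D i) (c j) ∈ maximalIdeal R :=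
        Ideal.sum_mem _ fun j _ => Ideal.mul_mem_right _ _ (hf j)
      have h3 : ∑ j, c j * (D i) (f j) ∈ maximalIdeal R := by
        have := Ideal.sub_mem _ h1 h2
        simpa using this
      have : (M.mulVec c) i = ∑ j, c j * (D i) (f j) := by
        simp only [Matrix.mulVec, dotProduct, hM, Matrix.of_apply]
        exact Finset.sum_congr rfl fun j _ => mul_comm _ _
      rw [this]; exact h3
    have hc' : c = M⁻¹.mulVec (M.mulVec c) := by
      rw [Matrix.mulVec_mulVec, Matrix.nonsing_inv_mul M hdet, Matrix.one_mulVec]
    intro j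
    rw [hc']
    simp only [Matrix.mulVec, dotProduct]
    exact Ideal.sum_mem _ fun i _ => Ideal.mul_mem_left _ _ (hv i)
  obtain ⟨h1, h2⟩ := main m R f hf hind
  refine ⟨h1, ?_⟩
  rw [IsLocalRing.isRegular_iff_isWeaklyRegular_of_subset_maximalIdeal]
  · exact h2
  · intro r hr
    rw [List.mem_ofFn] at hr
    obtain ⟨i, rfl⟩ := hr
    exact hf i

end Groth.Agent.S9226
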