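import Groth.Statements.S9227
import Mathlib
import Groth.Agent.S9225

set_option autoImplicit false
universe u
open CAlg

namespace Groth.Agent.S9227
open Polynomial

/-- coefficientwise extension of a derivation to the polynomial ring. -/
noncomputable def ext' {R : Type u} [CommRing R] (D : Derivation ℤ R R) : Derivation ℤ R[X] R[X] :=
  (PolynomialModule.equivPolynomialSelf (R := R)).toLinearMap.compDer D.mapCoeffs

lemma ext'_coeff {R : Type u} [CommRing R] (D : Derivation ℤ R R) (q : R[X]) (i : ℕ) :
    (ext' D q).coeff i = D (q.coeff i) := rfl


/-- Let R be a regular ring, f an element of R and D a derivation of R with D(f) a unit of R. Then for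
every polynomial p with integer coefficients the ring R[z]/(p(z) - f) is regular; in particular
R[z]/(z^n - f) is regular for every n ≥ 1. -/
theorem result (R : Type u) [CommRing R]
    [IsRegularRing R] (f : R) (D : Derivation ℤ R R) (hD : IsUnit (D f)) (p : Polynomial ℤ) :
    IsRegularRing (Polynomial R ⧸
      Ideal.span ({Polynomial.map (Int.castRingHom R) p - Polynomial.C f} : Set (Polynomial R))) := by
  apply Groth.Agent.S9225.regular_quotient (Polynomial R) _ (ext' D)
  have h1 : ext' D (Polynomial.map (Int.castRingHom R) p - Polynomial.C f) = - C (D f) := by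
    ext i
    rw [ext'_coeff, coeff_sub, coeff_map, map_sub, coeff_neg, coeff_C]
    have : D ((Int.castRingHom R) (p.coeff i)) = 0 := by
      rw [eq_intCast, ← eq_intCast (algebraMap ℤ R), Derivation.map_algebraMap]
    rw [this, zero_sub, coeff_C]
    split_ifs <;> simp
  rw [h1]
  exact ((hD.map C).neg).map _

end Groth.Agent.S9227
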