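import Groth.Statements.S9229
import Groth.Agent.Lib.QuotFormalFibres98
import Groth.Agent.Lib.CplNormalLocal51
import Groth.Agent.Lib.FECat33
import Groth.Agent.S2632
import Groth.Agent.S2636

set_option autoImplicit false
universe u
open EGA4

namespace Groth.Agent.S9229

/-- A Noetherian local ring A whose formal fibres are geometrically normal and which is unibranch (a
normal local ring, say) is universally catenary. -/
theorem result (A : Type u) [CommRing A]
    [IsLocalRing A] [IsNoetherianRing A] (hA : EGA4.HasGeomNormalFormalFibres A)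
    (hu : CAlg2.IsUnibranch A) : CAlg.IsUniversallyCatenary A := by
  obtain ⟨hdom, hloc⟩ := hu
  haveI : IsDomain (A ⧸ nilradical A) := hdom
  haveI : IsLocalRing (integralClosure (A ⧸ nilradical A) (FractionRing (A ⧸ nilradical A))) := hloc
  have hR : EGA4.HasGeomNormalFormalFibres (A ⧸ nilradical A) :=
    Groth.Agent.Lib.QuotFormalFibres98.hasGeomNormalFormalFibres_quotient A (nilradical A) hA
  haveI hdomC : IsDomain (EGA4.Cpl (A ⧸ nilradical A)) :=
    Groth.Agent.Lib.CplNormalLocal51.isDomain_cpl_of_isLocalRing_integralClosure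
      (A ⧸ nilradical A) hR
  obtain ⟨φ, hφ⟩ := Groth.Agent.Lib.QuotFormalFibres98.exists_ringHom_cpl_quotient A
    (nilradical A) le_rfl
  have hP₀prime : (RingHom.ker φ).IsPrime := RingHom.ker_isPrime φ
  have hP₀nil : RingHom.ker φ ≤ nilradical (EGA4.Cpl A) := fun x hx =>
    mem_nilradical.mpr (hφ x (RingHom.mem_ker.mp hx))
  have hFE : EGA4.IsFormallyEquidim A := by
    intro p hp
    have hpprime : p.IsPrime := hp.1.1
    have h1 : RingHom.ker φ ≤ p := hP₀nil.trans (nilradical_le_prime p)
    have h2 : p ≤ RingHom.ker φ := hp.2 ⟨hP₀prime, bot_le⟩ h1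
    have h3 : p ≤ nilradical (EGA4.Cpl A) := h2.trans hP₀nil
    exact Groth.Agent.Lib.QuotFormalFibres98.ringKrullDim_quotient_of_le_nilradical p h3
  have hFC : EGA4.IsFormallyCatenary A := fun p _ =>
    ((Groth.Agent.S2632.result A hFE).2 p).mp
      (Groth.Agent.Lib.FECat33.isEquidim_of_isDomain (A ⧸ p))
  exact Groth.Agent.S2636.result A hFC

end Groth.Agent.S9229
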