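import Groth.Statements.S9230
import Groth.Agent.Lib.HznFormalFibres98
import Groth.Agent.Lib.QuotFormalFibres98
import Groth.Agent.Lib.FECat33
import Groth.Agent.Lib.HenselIntegralLocal
import Groth.Agent.Lib.HenselizationUP
import Groth.Agent.S9229

set_option autoImplicit false
universe u
open EGA4

namespace Groth.Agent.S9230

set_option maxHeartbeats 400000

open Groth.Agent.Lib

/-- A Noetherian ring is universally catenary as soon as its quotients by its minimal primes are. -/
theorem isUniversallyCatenary_of_quotient_minimalPrimes {R : Type u} [CommRing R]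
    [IsNoetherianRing R]
    (h : ∀ q ∈ minimalPrimes R, CAlg.IsUniversallyCatenary (R ⧸ q)) :
    CAlg.IsUniversallyCatenary R := by
  refine ⟨inferInstance, fun B _ _ hft => ?_⟩
  apply FECat33.isCatenary_of_quotient_minimalPrimes
  intro 𝔓 h𝔓
  haveI : 𝔓.IsPrime := h𝔓.1.1
  obtain ⟨q, hq, hle⟩ := Ideal.exists_minimalPrimes_le (I := ⊥)
    (J := 𝔓.comap (algebraMap R B)) bot_le
  letI : Algebra (R ⧸ q) (B ⧸ 𝔓) :=
    (Ideal.Quotient.lift q ((Ideal.Quotient.mk 𝔓).comp (algebraMap R B)) (fun a ha => by
      rw [RingHom.comp_apply, Ideal.Quotient.eq_zero_iff_mem]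
      exact hle ha)).toAlgebra
  haveI : IsScalarTower R (R ⧸ q) (B ⧸ 𝔓) := IsScalarTower.of_algebraMap_eq (fun a => rfl)
  haveI : Algebra.FiniteType R B := hft
  haveI : Algebra.FiniteType R (B ⧸ 𝔓) :=
    Algebra.FiniteType.of_surjective (Ideal.Quotient.mkₐ R 𝔓) Ideal.Quotient.mk_surjective
  have hft' : Algebra.FiniteType (R ⧸ q) (B ⧸ 𝔓) :=
    Algebra.FiniteType.of_restrictScalars_finiteType R (R ⧸ q) (B ⧸ 𝔓)
  exact (h q hq).2 (B ⧸ 𝔓) hft'

/-- A henselian local domain is unibranch. -/
theorem isUnibranch_of_henselian_domain (D : Type u) [CommRing D] [IsDomain D]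
    [HenselianLocalRing D] : CAlg2.IsUnibranch D := by
  haveI hprime : (nilradical D).IsPrime := by
    rw [nilradical_eq_zero, Ideal.zero_eq_bot]
    exact Ideal.isPrime_bot
  haveI hdom : IsDomain (D ⧸ nilradical D) := Ideal.Quotient.isDomain _
  haveI : HenselianLocalRing (D ⧸ nilradical D) :=
    HenselizationUP.henselianLocalRing_of_surjective (Ideal.Quotient.mk (nilradical D))
      Ideal.Quotient.mk_surjective
  refine ⟨hdom, ?_⟩
  exact HenselIntegralLocal.isLocalRing_of_isDomain_of_isIntegral (D ⧸ nilradical D)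
    (integralClosure (D ⧸ nilradical D) (FractionRing (D ⧸ nilradical D)))

/-- For a Noetherian local ring A whose formal fibres are geometrically normal, every henselization S of
A is universally catenary. -/
theorem result (A S : Type u) [CommRing A]
    [IsLocalRing A] [IsNoetherianRing A] [CommRing S] [IsLocalRing S] [Algebra A S]
    [IsLocalHom (algebraMap A S)] [Hensel.IsHenselization A S]
    (hA : EGA4.HasGeomNormalFormalFibres A) : CAlg.IsUniversallyCatenary S := by
  haveI : IsNoetherianRing S :=
    (Groth.Agent.Lib.HenselizationNoeth.isNoetherianRing_iff_of_isHenselization A S).mp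
      inferInstance
  have hS : EGA4.HasGeomNormalFormalFibres S :=
    HznFormalFibres98.hasGeomNormalFormalFibres_of_isHenselization A S hA
  haveI : HenselianLocalRing S := Hensel.IsHenselization.henselian (R := A)
  apply isUniversallyCatenary_of_quotient_minimalPrimes
  intro q hq
  haveI : q.IsPrime := hq.1.1
  haveI : IsDomain (S ⧸ q) := Ideal.Quotient.isDomain q
  haveI : HenselianLocalRing (S ⧸ q) :=
    HenselizationUP.henselianLocalRing_of_surjective (Ideal.Quotient.mk q)
      Ideal.Quotient.mk_surjective
  have hq' : EGA4.HasGeomNormalFormalFibres (S ⧸ q) :=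
    QuotFormalFibres98.hasGeomNormalFormalFibres_quotient S q hS
  exact Groth.Agent.S9229.result (S ⧸ q) hq' (isUnibranch_of_henselian_domain (S ⧸ q))

end Groth.Agent.S9230
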