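import Groth.Statements.S9231
import Groth.Agent.S0390
import Groth.Agent.Lib.FlatCrit
import Groth.Agent.Lib.AdicNoeth
import Mathlib

set_option autoImplicit false
universe u
open CAlg

namespace Groth.Agent.S9231

/-- For a local ring map A → B between Noetherian local rings, let ψ be the induced map from the
completion of A at its maximal ideal to that of B (here: a ring map of the completions whose
composite with A → A^ is the composite A → B → B^; since A is Noetherian such a map is unique, hence
is the canonical one). Then ψ is flat exactly when A → B is flat. -/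
theorem result (A B : Type u) [CommRing A] [CommRing B] [IsLocalRing A]
    [IsLocalRing B] [IsNoetherianRing A] [IsNoetherianRing B] [Algebra A B]
    [IsLocalHom (algebraMap A B)]
    (ψ : AdicCompletion (IsLocalRing.maximalIdeal A) A →+* AdicCompletion (IsLocalRing.maximalIdeal B) B)
    (hψ : ψ.comp (algebraMap A (AdicCompletion (IsLocalRing.maximalIdeal A) A)) =
      (algebraMap B (AdicCompletion (IsLocalRing.maximalIdeal B) B)).comp (algebraMap A B)) :
    ψ.Flat ↔ (algebraMap A B).Flat := by
  rw [RingHom.flat_algebraMap_iff]
  letI algψ : Algebra (AdicCompletion (IsLocalRing.maximalIdeal A) A)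
    (AdicCompletion (IsLocalRing.maximalIdeal B) B) := ψ.toAlgebra
  haveI t2 : IsScalarTower A (AdicCompletion (IsLocalRing.maximalIdeal A) A)
      (AdicCompletion (IsLocalRing.maximalIdeal B) B) :=
    IsScalarTower.of_algebraMap_eq (fun a => by
      rw [IsScalarTower.algebraMap_apply A B (AdicCompletion (IsLocalRing.maximalIdeal B) B)]
      exact (RingHom.congr_fun hψ a).symm)
  haveI : Module.FaithfullyFlat B (AdicCompletion (IsLocalRing.maximalIdeal B) B) :=
    Module.FaithfullyFlat.of_flat_of_isLocalHom
  haveI : IsNoetherianRing (AdicCompletion (IsLocalRing.maximalIdeal A) A) :=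
    Groth.Agent.Lib.AdicNoeth.isNoetherianRing_adicCompletion _
  haveI : IsNoetherianRing (AdicCompletion (IsLocalRing.maximalIdeal B) B) :=
    Groth.Agent.Lib.AdicNoeth.isNoetherianRing_adicCompletion _
  change Module.Flat (AdicCompletion (IsLocalRing.maximalIdeal A) A)
    (AdicCompletion (IsLocalRing.maximalIdeal B) B) ↔ _
  constructor
  · intro hflat
    haveI : Module.Flat A (AdicCompletion (IsLocalRing.maximalIdeal B) B) :=
      Module.Flat.trans A (AdicCompletion (IsLocalRing.maximalIdeal A) A) _
    exact Groth.Agent.Lib.FlatCrit.flat_of_faithfullyFlat_of_flat B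
      (N := AdicCompletion (IsLocalRing.maximalIdeal B) B)
  · intro hflat
    haveI : Module.Flat A (AdicCompletion (IsLocalRing.maximalIdeal B) B) :=
      Module.Flat.trans A B _
    haveI : IsLocalHom (algebraMap (AdicCompletion (IsLocalRing.maximalIdeal A) A)
        (AdicCompletion (IsLocalRing.maximalIdeal B) B)) := by
      apply ((IsLocalRing.local_hom_TFAE (algebraMap (AdicCompletion (IsLocalRing.maximalIdeal A) A)
        (AdicCompletion (IsLocalRing.maximalIdeal B) B))).out 0 2).mpr
      rw [AdicCompletion.maximalIdeal_eq_map (R := A), AdicCompletion.maximalIdeal_eq_map (R := B),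
        Ideal.map_map, ← IsScalarTower.algebraMap_eq,
        IsScalarTower.algebraMap_eq A B (AdicCompletion (IsLocalRing.maximalIdeal B) B),
        ← Ideal.map_map]
      apply Ideal.map_mono
      exact ((IsLocalRing.local_hom_TFAE (algebraMap A B)).out 0 2).mp ‹IsLocalHom (algebraMap A B)›
    apply Groth.Agent.S0390.result (R := AdicCompletion (IsLocalRing.maximalIdeal A) A)
      (S := AdicCompletion (IsLocalRing.maximalIdeal B) B)
      (M := AdicCompletion (IsLocalRing.maximalIdeal B) B)
    have key : ∀ J : Ideal (AdicCompletion (IsLocalRing.maximalIdeal A) A),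
        J = (IsLocalRing.maximalIdeal A).map
          (algebraMap A (AdicCompletion (IsLocalRing.maximalIdeal A) A)) →
        Function.Injective (LinearMap.rTensor (AdicCompletion (IsLocalRing.maximalIdeal B) B)
          (Submodule.subtype J)) := by
      rintro _ rfl
      exact Groth.Agent.Lib.FlatCrit.rTensor_map_injective
        (S := AdicCompletion (IsLocalRing.maximalIdeal A) A)
        (M := AdicCompletion (IsLocalRing.maximalIdeal B) B) (IsLocalRing.maximalIdeal A)
        (Module.Flat.rTensor_preserves_injective_linearMap _ Subtype.val_injective)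
    exact key _ (AdicCompletion.maximalIdeal_eq_map (R := A))

end Groth.Agent.S9231
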