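import Groth.Statements.S9232
import Groth.Agent.S11551
import Mathlib

set_option autoImplicit false
universe u
open CAlg

namespace Groth.Agent.S9232

/-- Suppose A → B is a flat local ring map between Noetherian local rings, the maximal ideal of A
generates that of B, and the residue field map is bijective. Then the induced map between the
completions of A and B (a ring map of the completions compatible with A → B; it is unique since A is
Noetherian) is an isomorphism. -/
theorem result (A B : Type u) [CommRing A]
    [CommRing B] [IsLocalRing A] [IsLocalRing B] [IsNoetherianRing A] [IsNoetherianRing B]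
    [Algebra A B] [IsLocalHom (algebraMap A B)] [Module.Flat A B]
    (hm : Ideal.map (algebraMap A B) (IsLocalRing.maximalIdeal A) = IsLocalRing.maximalIdeal B)
    (hk : Function.Bijective (IsLocalRing.ResidueField.map (algebraMap A B)))
    (ψ : AdicCompletion (IsLocalRing.maximalIdeal A) A →+* AdicCompletion (IsLocalRing.maximalIdeal B) B)
    (hψ : ψ.comp (algebraMap A (AdicCompletion (IsLocalRing.maximalIdeal A) A)) =
      (algebraMap B (AdicCompletion (IsLocalRing.maximalIdeal B) B)).comp (algebraMap A B)) :
    Function.Bijective ψ := by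
  classical
  have hNB : IsNoetherianRing (AdicCompletion (IsLocalRing.maximalIdeal B) B) :=
    Groth.Agent.Lib.AdicNoeth.isNoetherianRing_adicCompletion _
  have hff : Module.FaithfullyFlat A B := Module.FaithfullyFlat.of_flat_of_isLocalHom
  have hmapψ : (IsLocalRing.maximalIdeal (AdicCompletion (IsLocalRing.maximalIdeal A) A)).map ψ =
      IsLocalRing.maximalIdeal (AdicCompletion (IsLocalRing.maximalIdeal B) B) := by
    rw [AdicCompletion.maximalIdeal_eq_map, Ideal.map_map, hψ, ← Ideal.map_map, hm,
      ← AdicCompletion.maximalIdeal_eq_map]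
  -- ψ at finite levels
  have hkerA : ∀ n, RingHom.ker (AdicCompletion.evalₐ (IsLocalRing.maximalIdeal A) n).toRingHom =
      (IsLocalRing.maximalIdeal A ^ n).map (algebraMap A _) := fun n =>
    Groth.Agent.Lib.ComplFlat.ker_evalₐ_eq_map _ (IsNoetherian.noetherian _) n
  have hkerB : ∀ n, RingHom.ker (AdicCompletion.evalₐ (IsLocalRing.maximalIdeal B) n).toRingHom =
      (IsLocalRing.maximalIdeal B ^ n).map (algebraMap B _) := fun n =>
    Groth.Agent.Lib.ComplFlat.ker_evalₐ_eq_map _ (IsNoetherian.noetherian _) n
  have hψev : ∀ (n : ℕ) (x : AdicCompletion (IsLocalRing.maximalIdeal A) A) (a : A),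
      AdicCompletion.evalₐ (IsLocalRing.maximalIdeal A) n x = Ideal.Quotient.mk _ a →
      AdicCompletion.evalₐ (IsLocalRing.maximalIdeal B) n (ψ x) =
        Ideal.Quotient.mk _ (algebraMap A B a) := by
    intro n x a hx
    have h1 : x - algebraMap A _ a ∈
        RingHom.ker (AdicCompletion.evalₐ (IsLocalRing.maximalIdeal A) n).toRingHom := by
      rw [RingHom.mem_ker]
      change AdicCompletion.evalₐ (IsLocalRing.maximalIdeal A) n _ = 0
      rw [map_sub, hx, AdicCompletion.algebraMap_apply, AdicCompletion.evalₐ_of]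
      simp
    rw [hkerA] at h1
    have h2 : ψ (x - algebraMap A _ a) ∈
        ((IsLocalRing.maximalIdeal A ^ n).map (algebraMap A _)).map ψ := Ideal.mem_map_of_mem _ h1
    rw [Ideal.map_map, hψ, ← Ideal.map_map, Ideal.map_pow, hm, ← hkerB, RingHom.mem_ker] at h2
    have h3 : ψ (algebraMap A _ a) = algebraMap B _ (algebraMap A B a) := RingHom.congr_fun hψ a
    change AdicCompletion.evalₐ (IsLocalRing.maximalIdeal B) n _ = 0 at h2
    rw [map_sub, map_sub, h3, sub_eq_zero] at h2
    rw [h2, AdicCompletion.algebraMap_apply, AdicCompletion.evalₐ_of]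
    rfl
  constructor
  · rw [injective_iff_map_eq_zero]
    intro x hx
    refine AdicCompletion.ext_evalₐ fun n => ?_
    obtain ⟨a, ha⟩ := Ideal.Quotient.mk_surjective
      (AdicCompletion.evalₐ (IsLocalRing.maximalIdeal A) n x)
    have h1 := hψev n x a ha.symm
    rw [hx, map_zero] at h1
    have h2 : algebraMap A B a ∈ IsLocalRing.maximalIdeal B ^ n :=
      Ideal.Quotient.eq_zero_iff_mem.mp h1.symm
    rw [← hm, ← Ideal.map_pow] at h2
    have h3 : a ∈ ((IsLocalRing.maximalIdeal A ^ n).map (algebraMap A B)).comap (algebraMap A B) := h2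
    rw [Ideal.comap_map_eq_self_of_faithfullyFlat] at h3
    rw [← ha, map_zero]
    exact Ideal.Quotient.eq_zero_iff_mem.mpr h3
  · have haus : IsHausdorff ((IsLocalRing.maximalIdeal
        (AdicCompletion (IsLocalRing.maximalIdeal A) A)).map ψ)
        (AdicCompletion (IsLocalRing.maximalIdeal B) B) := by
      rw [hmapψ]; infer_instance
    apply surjective_of_mk_map_comp_surjective ψ
      (I := IsLocalRing.maximalIdeal (AdicCompletion (IsLocalRing.maximalIdeal A) A))
    intro z
    obtain ⟨y, rfl⟩ := Ideal.Quotient.mk_surjective z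
    obtain ⟨b, hb⟩ := Groth.Agent.S11551.exists_sub_mem_maximalIdeal B y
    obtain ⟨x, hx⟩ := hk.2 (IsLocalRing.residue B b)
    obtain ⟨a₀, rfl⟩ := IsLocalRing.residue_surjective x
    rw [IsLocalRing.ResidueField.map_residue] at hx
    have hb' : b - algebraMap A B a₀ ∈ IsLocalRing.maximalIdeal B := by
      rw [← IsLocalRing.residue_eq_zero_iff, map_sub, hx, sub_self]
    refine ⟨algebraMap A _ a₀, ?_⟩
    simp only [RingHom.comp_apply]
    rw [Ideal.Quotient.eq, hmapψ]
    have h1 : ψ (algebraMap A _ a₀) = algebraMap B _ (algebraMap A B a₀) := RingHom.congr_fun hψ a₀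
    rw [h1]
    have h2 : algebraMap B (AdicCompletion (IsLocalRing.maximalIdeal B) B) (algebraMap A B a₀) - y =
        -(y - algebraMap B _ b) - algebraMap B _ (b - algebraMap A B a₀) := by
      rw [map_sub]; ring
    rw [h2]
    refine sub_mem (neg_mem hb) ?_
    rw [AdicCompletion.maximalIdeal_eq_map]
    exact Ideal.mem_map_of_mem _ hb'

end Groth.Agent.S9232
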