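import Groth.Statements.S9240
import Groth.Agent.S9243

set_option autoImplicit false
universe u
open Brnch

namespace Groth.Agent.S9240

open IsLocalRing

/-- Let A be a Noetherian local ring, S its henselization and A^ its completion, and let ψ : S → A^ be
the ring map compatible with the structure maps from A (it is unique, A^ being henselian). Then
contraction along ψ sends every minimal prime of A^ to a minimal prime of S, and every minimal prime
of S arises this way: contraction maps the minimal primes of A^ onto the minimal primes of S. -/
theorem result (A S : Type u) [CommRing A] [IsLocalRing A]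
    [IsNoetherianRing A] [CommRing S] [IsLocalRing S] [Algebra A S] [IsLocalHom (algebraMap A S)]
    [Hensel.IsHenselization A S] (ψ : S →+* AdicCompletion (IsLocalRing.maximalIdeal A) A)
    (hψ : ψ.comp (algebraMap A S) = algebraMap A (AdicCompletion (IsLocalRing.maximalIdeal A) A)) :
    Set.MapsTo (Ideal.comap ψ) (minimalPrimes (AdicCompletion (IsLocalRing.maximalIdeal A) A))
        (minimalPrimes S) ∧
      Set.SurjOn (Ideal.comap ψ) (minimalPrimes (AdicCompletion (IsLocalRing.maximalIdeal A) A))
        (minimalPrimes S) := by
  classical
  have hflatA : Module.Flat A (AdicCompletion (maximalIdeal A) A) :=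
    AdicCompletion.flat_of_isNoetherian (maximalIdeal A)
  letI algSA : Algebra S (AdicCompletion (maximalIdeal A) A) := ψ.toAlgebra
  have htower : IsScalarTower A S (AdicCompletion (maximalIdeal A) A) :=
    IsScalarTower.of_algebraMap_eq (fun a => (RingHom.congr_fun hψ a).symm)
  have hwe : Algebra.WeaklyEtale A S :=
    Groth.Agent.Lib.HznWeaklyEtale96.weaklyEtale_of_isHenselization A S
  have hflatS : Module.Flat S (AdicCompletion (maximalIdeal A) A) :=
    Groth.Agent.Lib.DiagFlat.flat_of_flat_lmul' (Algebra.WeaklyEtale.flat_lmul' A S)
      (AdicCompletion (maximalIdeal A) A)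
  have hloc : IsLocalHom (algebraMap S (AdicCompletion (maximalIdeal A) A)) := by
    refine ((local_hom_TFAE (algebraMap S (AdicCompletion (maximalIdeal A) A))).out 2 0).mp ?_
    rw [← Groth.Agent.Lib.HenselizationUP.map_maximalIdeal_eq A S, Ideal.map_map,
      ← IsScalarTower.algebraMap_eq]
    exact map_maximalIdeal_le (algebraMap A (AdicCompletion (maximalIdeal A) A))
  have hff : Module.FaithfullyFlat S (AdicCompletion (maximalIdeal A) A) :=
    Module.FaithfullyFlat.of_flat_of_isLocalHom
  have hinj : Function.Injective (algebraMap S (AdicCompletion (maximalIdeal A) A)) :=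
    FaithfulSMul.algebraMap_injective S (AdicCompletion (maximalIdeal A) A)
  constructor
  · intro P hP
    exact Groth.Agent.S9243.comap_mem_minimalPrimes (R := S) hP
  · intro q hq
    have hq' : q ∈ ((⊥ : Ideal (AdicCompletion (maximalIdeal A) A)).comap
        (algebraMap S (AdicCompletion (maximalIdeal A) A))).minimalPrimes := by
      rw [Ideal.comap_bot_of_injective _ hinj]; exact hq
    obtain ⟨P, hP, hPq⟩ := Ideal.exists_minimalPrimes_comap_eq
      (algebraMap S (AdicCompletion (maximalIdeal A) A)) q hq'
    exact ⟨P, hP, hPq⟩

end Groth.Agent.S9240
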