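import Groth.Statements.S9242
import Groth.Agent.S9243
import Groth.Agent.Lib.CompletionBranchesB98
import Groth.Agent.Lib.H14AdicLocal
import Groth.Agent.Lib.AdicNoeth
import Groth.Agent.Lib.HznWeaklyEtale96
import Groth.Agent.Lib.DiagFlat
import Groth.Agent.Lib.HenselizationUP

set_option autoImplicit false
universe u
open Brnch

namespace Groth.Agent.S9242

open IsLocalRing

set_option maxHeartbeats 400000


/-- Let A be a Noetherian local ring with henselization S and completion A^, let ψ : S → A^ be the ring
map compatible with the structure maps from A, and let q be a minimal prime of A^ with dim(A^/q) =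
1. Then q is the radical of the extension along ψ of some minimal prime of S. -/
theorem result (A S : Type u) [CommRing A]
    [IsLocalRing A] [IsNoetherianRing A] [CommRing S] [IsLocalRing S] [Algebra A S]
    [IsLocalHom (algebraMap A S)] [Hensel.IsHenselization A S]
    (ψ : S →+* AdicCompletion (IsLocalRing.maximalIdeal A) A)
    (hψ : ψ.comp (algebraMap A S) = algebraMap A (AdicCompletion (IsLocalRing.maximalIdeal A) A))
    (q : Ideal (AdicCompletion (IsLocalRing.maximalIdeal A) A))
    (hq : q ∈ minimalPrimes (AdicCompletion (IsLocalRing.maximalIdeal A) A))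
    (hdim : ringKrullDim (AdicCompletion (IsLocalRing.maximalIdeal A) A ⧸ q) = 1) :
    ∃ q' ∈ minimalPrimes S, (Ideal.map ψ q').radical = q := by
  classical
  have hflatA : Module.Flat A (AdicCompletion (maximalIdeal A) A) :=
    AdicCompletion.flat_of_isNoetherian (maximalIdeal A)
  have hN : IsNoetherianRing (AdicCompletion (maximalIdeal A) A) :=
    Groth.Agent.Lib.AdicNoeth.isNoetherianRing_adicCompletion _
  letI algSA : Algebra S (AdicCompletion (maximalIdeal A) A) := ψ.toAlgebra
  have htower : IsScalarTower A S (AdicCompletion (maximalIdeal A) A) :=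
    IsScalarTower.of_algebraMap_eq (fun a => (RingHom.congr_fun hψ a).symm)
  have hwe : Algebra.WeaklyEtale A S :=
    Groth.Agent.Lib.HznWeaklyEtale96.weaklyEtale_of_isHenselization A S
  have hflatS : Module.Flat S (AdicCompletion (maximalIdeal A) A) :=
    Groth.Agent.Lib.DiagFlat.flat_of_flat_lmul' (Algebra.WeaklyEtale.flat_lmul' A S)
      (AdicCompletion (maximalIdeal A) A)
  have hmS : (maximalIdeal A).map (algebraMap A S) = maximalIdeal S :=
    Groth.Agent.Lib.HenselizationUP.map_maximalIdeal_eq A S
  have hloc : IsLocalHom (algebraMap S (AdicCompletion (maximalIdeal A) A)) := by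
    refine ((local_hom_TFAE (algebraMap S (AdicCompletion (maximalIdeal A) A))).out 2 0).mp ?_
    rw [← hmS, Ideal.map_map, ← IsScalarTower.algebraMap_eq]
    exact map_maximalIdeal_le (algebraMap A (AdicCompletion (maximalIdeal A) A))
  have hSh : HenselianLocalRing S := Hensel.IsHenselization.henselian (R := A)
  have hmC : (maximalIdeal A).map (algebraMap A (AdicCompletion (maximalIdeal A) A))
      = maximalIdeal (AdicCompletion (maximalIdeal A) A) :=
    AdicCompletion.maximalIdeal_eq_map.symm
  have hcomp : (algebraMap S (AdicCompletion (maximalIdeal A) A)).comp (algebraMap A S)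
      = algebraMap A (AdicCompletion (maximalIdeal A) A) := hψ
  have hs : ∀ t : AdicCompletion (maximalIdeal A) A, ∃ d : S,
      t - algebraMap S (AdicCompletion (maximalIdeal A) A) d ∈
        (maximalIdeal S).map (algebraMap S (AdicCompletion (maximalIdeal A) A)) := by
    intro t
    obtain ⟨a, ha⟩ := Groth.Agent.Lib.H14AdicLocal.exists_sub_mem_map A (maximalIdeal A)
      (IsNoetherian.noetherian _) t
    refine ⟨algebraMap A S a, ?_⟩
    have h1 : algebraMap S (AdicCompletion (maximalIdeal A) A) (algebraMap A S a)
        = algebraMap A (AdicCompletion (maximalIdeal A) A) a := RingHom.congr_fun hcomp a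
    rw [h1, ← hmS, Ideal.map_map, hcomp]
    exact ha
  have hqprime : q.IsPrime := hq.1.1
  have hdimQ : ∀ Q : Ideal (AdicCompletion (maximalIdeal A) A), Q.IsPrime → q < Q →
      Q = maximalIdeal (AdicCompletion (maximalIdeal A) A) := by
    intro Q hQ hlt
    have hK : Ring.KrullDimLE 1 (AdicCompletion (maximalIdeal A) A ⧸ q) :=
      Ring.krullDimLE_iff.mpr (by rw [hdim]; norm_num)
    have hmapprime : (Q.map (Ideal.Quotient.mk q)).IsPrime :=
      Ideal.map_isPrime_of_surjective Ideal.Quotient.mk_surjective
        (by rw [Ideal.mk_ker]; exact hlt.le)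
    have hcm : (Q.map (Ideal.Quotient.mk q)).comap (Ideal.Quotient.mk q) = Q := by
      rw [Ideal.comap_map_of_surjective _ Ideal.Quotient.mk_surjective,
        ← RingHom.ker_eq_comap_bot, Ideal.mk_ker, sup_eq_left.mpr hlt.le]
    have hne : Q.map (Ideal.Quotient.mk q) ≠ ⊥ := by
      intro h
      rw [h, ← RingHom.ker_eq_comap_bot, Ideal.mk_ker] at hcm
      exact hlt.ne hcm
    have hmax : (Q.map (Ideal.Quotient.mk q)).IsMaximal :=
      Ring.krullDimLE_one_iff_of_noZeroDivisors.mp hK _ hne hmapprime
    have hQmax : Q.IsMaximal := by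
      rw [← hcm]; exact Ideal.comap_isMaximal_of_surjective _ Ideal.Quotient.mk_surjective
    exact IsLocalRing.eq_maximalIdeal hQmax
  have hq' : q.comap (algebraMap S (AdicCompletion (maximalIdeal A) A)) ∈ minimalPrimes S :=
    Groth.Agent.S9243.comap_mem_minimalPrimes (R := S) hq
  have hq'prime : (q.comap (algebraMap S (AdicCompletion (maximalIdeal A) A))).IsPrime :=
    hq'.1.1
  refine ⟨q.comap ψ, hq', ?_⟩
  rw [← Ideal.sInf_minimalPrimes]
  have hset : (Ideal.map ψ (q.comap ψ)).minimalPrimes = {q} := by
    have h0 : Ideal.map ψ (q.comap ψ)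
        = Ideal.map (algebraMap S (AdicCompletion (maximalIdeal A) A))
          (q.comap (algebraMap S (AdicCompletion (maximalIdeal A) A))) := rfl
    rw [h0, Groth.Agent.S9243.minimalPrimes_map_eq hq']
    ext P
    simp only [Set.mem_setOf_eq, Set.mem_singleton_iff]
    constructor
    · rintro ⟨hP, hPq⟩
      exact (Groth.Agent.Lib.CompletionBranches98.eq_of_comap_eq_of_coheight_one
        (q.comap (algebraMap S (AdicCompletion (maximalIdeal A) A))) hs hq hP rfl hPq
        hdimQ).symm
    · rintro rfl
      exact ⟨hq, rfl⟩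
  rw [hset, sInf_singleton]

end Groth.Agent.S9242
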