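import Groth.Statements.S9245
import Mathlib

set_option autoImplicit false
universe u
open CAlg

namespace Groth.Agent.S9245

section Helpers

/-- Noetherianity descends along faithfully flat ring maps. -/
theorem isNoetherianRing_of_faithfullyFlat (R S : Type*) [CommRing R] [CommRing S] [Algebra R S]
    [Module.FaithfullyFlat R S] [IsNoetherianRing S] : IsNoetherianRing R := by
  rw [isNoetherianRing_iff, isNoetherian_iff']
  have hS : WellFoundedGT (Ideal S) := (isNoetherian_iff' (R := S) (M := S)).mp inferInstance
  let φ : Ideal R ↪o Ideal S :=
    OrderEmbedding.ofMapLEIff (Ideal.map (algebraMap R S)) (fun I J => by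
      constructor
      · intro h
        have := Ideal.comap_mono (f := algebraMap R S) h
        rwa [Ideal.comap_map_eq_self_of_faithfullyFlat,
          Ideal.comap_map_eq_self_of_faithfullyFlat] at this
      · exact fun h => Ideal.map_mono h)
  exact OrderEmbedding.wellFoundedGT φ

/-- Essentially of finite type over Noetherian is Noetherian. -/
theorem isNoetherianRing_of_essFiniteType (R S : Type*) [CommRing R] [CommRing S] [Algebra R S]
    [Algebra.EssFiniteType R S] [IsNoetherianRing R] : IsNoetherianRing S := by
  have : IsNoetherianRing (Algebra.EssFiniteType.subalgebra R S) :=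
    Algebra.FiniteType.isNoetherianRing R _
  exact IsLocalization.isNoetherianRing (Algebra.EssFiniteType.submonoid R S) S inferInstance

end Helpers

/-- For an étale ring map A → B and a prime q of B with contraction p in A, the localization A_p is a
Noetherian ring exactly when the localization B_q is. -/
theorem result (A B : Type u) [CommRing A] [CommRing B]
    [Algebra A B] [Algebra.Etale A B] (q : Ideal B) [q.IsPrime] :
    IsNoetherianRing (Localization.AtPrime (Ideal.comap (algebraMap A B) q)) ↔
      IsNoetherianRing (Localization.AtPrime q) := by
  have : q.LiesOver (Ideal.comap (algebraMap A B) q) := ⟨rfl⟩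
  let _ := Localization.AtPrime.algebraOfLiesOver (Ideal.comap (algebraMap A B) q) q
  have hflat : Module.Flat (Localization.AtPrime (Ideal.comap (algebraMap A B) q))
      (Localization.AtPrime q) := inferInstance
  have hloc : IsLocalHom (algebraMap (Localization.AtPrime (Ideal.comap (algebraMap A B) q))
      (Localization.AtPrime q)) := by
    rw [Localization.AtPrime.IsLiesOverAlgebra.algebraMap_eq]
    infer_instance
  have hff : Module.FaithfullyFlat (Localization.AtPrime (Ideal.comap (algebraMap A B) q))
      (Localization.AtPrime q) := Module.FaithfullyFlat.of_flat_of_isLocalHom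
  constructor
  · intro h
    have h1 : Algebra.EssFiniteType A (Localization.AtPrime q) :=
      Algebra.EssFiniteType.comp A B (Localization.AtPrime q)
    have h2 : Algebra.EssFiniteType (Localization.AtPrime (Ideal.comap (algebraMap A B) q))
        (Localization.AtPrime q) :=
      Algebra.EssFiniteType.of_comp A _ _
    exact isNoetherianRing_of_essFiniteType
      (Localization.AtPrime (Ideal.comap (algebraMap A B) q)) (Localization.AtPrime q)
  · intro h
    exact isNoetherianRing_of_faithfullyFlat
      (Localization.AtPrime (Ideal.comap (algebraMap A B) q)) (Localization.AtPrime q)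

end Groth.Agent.S9245
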