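import Groth.Statements.S9246
import Groth.Agent.Lib.H56FlatLocal
import Groth.Agent.Lib.HenselizationNoeth
import Groth.Agent.Lib.H87Serre2
import Mathlib.RingTheory.Unramified.LocalRing
import Mathlib.RingTheory.Smooth.Flat
import Mathlib.RingTheory.Flat.Localization

set_option autoImplicit false
universe u
open CAlg

namespace Groth.Agent.S9246

/-- Let A → B be an étale ring map and q a prime of B lying over the prime p of A. Then A_p is a regular
local ring if and only if B_q is a regular local ring. -/
theorem result (A B : Type u) [CommRing A] [CommRing B]
    [Algebra A B] [Algebra.Etale A B] (q : Ideal B) [q.IsPrime] :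
    IsRegularLocalRing (Localization.AtPrime (Ideal.comap (algebraMap A B) q)) ↔
      IsRegularLocalRing (Localization.AtPrime q) := by
  have hover : q.LiesOver (Ideal.comap (algebraMap A B) q) := ⟨rfl⟩
  let : Algebra (Localization.AtPrime (Ideal.comap (algebraMap A B) q)) (Localization.AtPrime q) :=
    Localization.AtPrime.algebraOfLiesOver (Ideal.comap (algebraMap A B) q) q
  have hloc : IsLocalHom (algebraMap (Localization.AtPrime (Ideal.comap (algebraMap A B) q))
      (Localization.AtPrime q)) :=
    Localization.isLocalHom_localRingHom _ _ _ Ideal.LiesOver.over
  have hflat : Module.Flat (Localization.AtPrime (Ideal.comap (algebraMap A B) q))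
      (Localization.AtPrime q) := inferInstance
  have hess : Algebra.EssFiniteType (Localization.AtPrime (Ideal.comap (algebraMap A B) q))
      (Localization.AtPrime q) := by
    have : Algebra.EssFiniteType B (Localization.AtPrime q) :=
      Algebra.EssFiniteType.of_isLocalization _ q.primeCompl
    have : Algebra.EssFiniteType A (Localization.AtPrime q) :=
      Algebra.EssFiniteType.comp A B _
    exact Algebra.EssFiniteType.of_comp A _ _
  have hun : Algebra.IsUnramifiedAt A q := by
    have : Algebra.FormallyUnramified B (Localization.AtPrime q) :=
      Algebra.FormallyUnramified.of_isLocalization q.primeCompl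
    exact Algebra.FormallyUnramified.comp A B (Localization.AtPrime q)
  have hmap := ((Algebra.isUnramifiedAt_iff_map_eq A (Ideal.comap (algebraMap A B) q) q).mp hun).2
  have hm : (IsLocalRing.maximalIdeal (Localization.AtPrime (Ideal.comap (algebraMap A B) q))).map
      (algebraMap (Localization.AtPrime (Ideal.comap (algebraMap A B) q))
        (Localization.AtPrime q)) = IsLocalRing.maximalIdeal (Localization.AtPrime q) := by
    rw [← Localization.AtPrime.map_eq_maximalIdeal, Ideal.map_map,
      ← IsScalarTower.algebraMap_eq]
    exact hmap
  constructor
  · intro h
    have : IsNoetherianRing (Localization.AtPrime q) :=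
      Algebra.EssFiniteType.isNoetherianRing
        (Localization.AtPrime (Ideal.comap (algebraMap A B) q)) _
    exact Groth.Agent.Lib.H56FlatLocal.isRegularLocalRing_of_flat_of_map_maximalIdeal hm
  · intro h
    have : Module.FaithfullyFlat (Localization.AtPrime (Ideal.comap (algebraMap A B) q))
        (Localization.AtPrime q) := Module.FaithfullyFlat.of_flat_of_isLocalHom
    have : IsNoetherianRing (Localization.AtPrime (Ideal.comap (algebraMap A B) q)) :=
      Groth.Agent.Lib.HenselizationNoeth.isNoetherianRing_of_faithfullyFlat _
        (Localization.AtPrime q)
    exact Groth.Agent.Lib.H87Serre2.isRegularLocalRing_of_flat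
      (Localization.AtPrime (Ideal.comap (algebraMap A B) q)) (Localization.AtPrime q)

end Groth.Agent.S9246
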