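import Groth.Statements.S9247
import Groth.Agent.Lib.RegUFD6

set_option autoImplicit false
universe u
open CAlg

namespace Groth.Agent.S9247

/-- For a regular local ring R and an element f of R, the Picard group of R_f is trivial. -/
theorem result (R : Type u) [CommRing R]
    [IsRegularLocalRing R] (f : R) : Subsingleton (CommRing.Pic (Localization.Away f)) := by
  have hdom : IsDomain R := Groth.Agent.Lib.RegularLocal.isDomain R
  have hufd : UniqueFactorizationMonoid R := Groth.Agent.Lib.RegUFD6.ufd_of_isRegularLocalRing R
  by_cases hf : f = 0
  · subst hf
    have : Subsingleton (Localization.Away (0 : R)) :=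
      IsLocalization.subsingleton (M := Submonoid.powers (0 : R)) ⟨1, by simp⟩
    have : IsEmpty (MaximalSpectrum (Localization.Away (0 : R))) :=
      ⟨fun m => m.isMaximal.ne_top (Subsingleton.elim _ _)⟩
    infer_instance
  · have hAdom : IsDomain (Localization.Away f) :=
      IsLocalization.isDomain_of_le_nonZeroDivisors _
        (powers_le_nonZeroDivisors_of_noZeroDivisors hf)
    have hA : UniqueFactorizationMonoid (Localization.Away f) :=
      UniqueFactorizationMonoid.of_isLocalization (Submonoid.powers f) _
    infer_instance

end Groth.Agent.S9247
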