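import Groth.Statements.S9254
import Groth.Agent.Lib.RelGCIFlat89
import Groth.Agent.Lib.KRLocal89
import Groth.Agent.Lib.NLTorAmp32

set_option autoImplicit false
universe u
attribute [local instance] HasDerivedCategory.standard
open CategoryTheory
open Synt

namespace Groth.Agent.S9254

/-- Let R be a ring and F_1, ..., F_c polynomials in R[x_1, ..., x_n] that present R[x_1, ...,
x_n]/(F_1, ..., F_c) as a relative global complete intersection over R. Then the Koszul complex of
F_1, ..., F_c over the polynomial ring is exact outside degree zero, that is, F_1, ..., F_c form a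
Koszul-regular sequence. -/
theorem result (R : Type u) [CommRing R] (n c : ℕ)
    (F : Fin c → MvPolynomial (Fin n) R) (h : Synt.IsRelGCI R n c F) :
    LCI.IsKoszulRegularSeq (MvPolynomial (Fin n) R) (List.ofFn F) := by
  apply Groth.Agent.Lib.KRLocal89.isKoszulRegularSeq_of_atPrime
  intro m _
  by_cases hIm : Ideal.span (Set.range F) ≤ m
  · exact Groth.Agent.Lib.NLTorAmp32.isKoszulRegularSeq_of_isWeaklyRegular _
      (Groth.Agent.Lib.RelGCIFlat89.isRegular_and_flat F h m hIm).1.toIsWeaklyRegular
  · apply Groth.Agent.Lib.KRDescA.isKoszulRegularSeq_of_ofList_eq_top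
    obtain ⟨x, hxI, hxm⟩ := SetLike.not_le_iff_exists.mp hIm
    rw [← Ideal.map_ofList, Groth.Agent.Lib.H8LCICM.ofList_ofFn]
    exact Ideal.eq_top_of_isUnit_mem _ (Ideal.mem_map_of_mem _ hxI)
      (IsLocalization.map_units (M := m.primeCompl) _ ⟨x, hxm⟩)

end Groth.Agent.S9254
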