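import Groth.Statements.S9256
import Groth.Agent.Lib.MacLane5H44

set_option autoImplicit false
universe u
open CAlg

namespace Groth.Agent.S9256

open TensorProduct

/-- An Artinian reduced ring is a regular ring. -/
theorem isRegularRing_of_artinian_reduced (R : Type*) [CommRing R] [IsArtinianRing R]
    [IsReduced R] : IsRegularRing R := by
  rw [isRegularRing_iff]
  intro p hp
  have h1 : IsReduced (Localization.AtPrime p) :=
    isReduced_localizationPreserves p.primeCompl _ inferInstance
  have hf : IsField (Localization.AtPrime p) :=
    IsArtinianRing.isField_of_isReduced_of_isLocalRing _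
  let := hf.toField
  infer_instance

/-- A regular Artinian ring is reduced. -/
theorem isReduced_of_artinian_regular (R : Type*) [CommRing R] [IsArtinianRing R]
    [IsRegularRing R] : IsReduced R := by
  apply isReduced_ofLocalizationMaximal
  intro m hm
  have hreg : IsRegularLocalRing (Localization.AtPrime m) := inferInstance
  have h0 : ringKrullDim (Localization.AtPrime m) = 0 :=
    ringKrullDimZero_iff_ringKrullDim_eq_zero.1 inferInstance
  have h1 := hreg.spanFinrank_maximalIdeal
  rw [h0] at h1
  have h2 : (IsLocalRing.maximalIdeal (Localization.AtPrime m)).spanFinrank = 0 := by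
    exact_mod_cast h1
  have h3 : IsLocalRing.maximalIdeal (Localization.AtPrime m) = ⊥ :=
    (Submodule.spanFinrank_eq_zero_iff_eq_bot
      (IsNoetherian.noetherian (IsLocalRing.maximalIdeal (Localization.AtPrime m)))).1 h2
  have hf : IsField (Localization.AtPrime m) :=
    IsLocalRing.isField_iff_maximalIdeal_eq.2 h3
  let := hf.toField
  infer_instance



/-- If `k'` is a finite extension of `k` then `k' ⊗[k] K` is an Artinian ring. -/
theorem isArtinianRing_tensor (k k' K : Type*) [Field k] [Field k'] [Field K] [Algebra k k']
    [Algebra k K] [Module.Finite k k'] : IsArtinianRing (k' ⊗[k] K) := by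
  have h1 : Module.Finite K (K ⊗[k] k') := inferInstance
  have h2 : IsArtinianRing (K ⊗[k] k') := IsArtinianRing.of_finite K _
  exact (Algebra.TensorProduct.comm k K k').toRingEquiv.isArtinianRing

theorem aux_iff (k κ K : Type u) [Field k] [Field κ] [Field K] [Algebra k κ] [Algebra k K]
    (hκ : Function.Bijective (algebraMap k κ)) :
    (IsNoetherianRing (κ ⊗[k] K) ∧ CAlg.IsGeometricallyRegular κ (κ ⊗[k] K)) ↔
      Algebra.IsGeometricallyReduced k K := by
  have hfin : Module.Finite k κ :=
    Module.Finite.of_surjective (Algebra.linearMap k κ) hκ.2
  constructor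
  · rintro ⟨-, hreg⟩
    apply Groth.Agent.Lib.MacLane5H44.isGeometricallyReduced_of_forall_finite_purelyInseparable
    intro k' _ _ _ _
    let e : k ≃+* κ := RingEquiv.ofBijective (algebraMap k κ) hκ
    let : Algebra κ k' := ((algebraMap k k').comp e.symm.toRingHom).toAlgebra
    have : IsScalarTower k κ k' := IsScalarTower.of_algebraMap_eq (fun x => by
      change algebraMap k k' x = algebraMap k k' (e.symm (e x))
      rw [e.symm_apply_apply])
    have : Module.Finite κ k' := Module.Finite.of_restrictScalars_finite k κ k'
    have h1 : IsRegularRing (k' ⊗[κ] (κ ⊗[k] K)) := hreg k' inferInstance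
    have h2 : IsRegularRing (k' ⊗[k] K) :=
      IsRegularRing.of_ringEquiv (Algebra.TensorProduct.cancelBaseChange k κ k' k' K).toRingEquiv
    have := isArtinianRing_tensor k k' K
    exact isReduced_of_artinian_regular _
  · intro hgr
    constructor
    · haveI := isArtinianRing_tensor k κ K
      infer_instance
    · intro k' _ _ hk'
      let : Algebra k k' := ((algebraMap κ k').comp (algebraMap k κ)).toAlgebra
      have : IsScalarTower k κ k' := IsScalarTower.of_algebraMap_eq (fun x => rfl)
      have : Module.Finite k k' := Module.Finite.trans κ k'
      have := isArtinianRing_tensor k k' K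
      have : IsReduced (k' ⊗[k] K) := inferInstance
      have h2 : IsRegularRing (k' ⊗[k] K) := isRegularRing_of_artinian_reduced _
      exact IsRegularRing.of_ringEquiv
        (Algebra.TensorProduct.cancelBaseChange k κ k' k' K).symm.toRingEquiv

/-- For a field extension K of k, the ring map k → K is regular exactly when K is separable over k, that
is, geometrically reduced over k. -/
theorem result (k K : Type u) [Field k] [Field K]
    [Algebra k K] : CAlg.IsRegularHom k K ↔ Algebra.IsGeometricallyReduced k K := by
  unfold CAlg.IsRegularHom
  constructor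
  · rintro ⟨-, h⟩
    have := h ⊥
    exact (aux_iff k (⊥ : Ideal k).ResidueField K
      (⊥ : Ideal k).algEquivResidueFieldOfField.bijective).1 this
  · intro h
    refine ⟨inferInstance, fun p hp => ?_⟩
    exact (aux_iff k p.ResidueField K p.algEquivResidueFieldOfField.bijective).2 h

end Groth.Agent.S9256
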