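import Groth.Statements.S9257
import Groth.Agent.Lib.H14FinCpl5
import Groth.Agent.Lib.H14QFCompl5
import Groth.Agent.S9289

set_option autoImplicit false
set_option linter.style.haveILetI false
universe u
open CAlg

namespace Groth.Agent.S9257


open IsLocalRing TensorProduct EGA4 Groth.Agent.Lib.H14GeomP Groth.Agent.Lib.H14FinCpl in
theorem key (S k' : Type u) [CommRing S] [IsDomain S] [IsNoetherianRing S] [Field k'] [Algebra S k']
    (hinj : Function.Injective (algebraMap S k')) [Algebra.EssFiniteType S k']
    (h : ∀ (Q : Ideal S) [Q.IsPrime],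
        CAlg.IsGeometricallyRegular (⊥ : Ideal (Localization.AtPrime Q)).ResidueField
          (EGA4.formalFibre (Localization.AtPrime Q) (⊥ : Ideal (Localization.AtPrime Q))))
    (Q : Ideal S) [Q.IsPrime] :
    IsRegularRing (k' ⊗[S] Cpl (Localization.AtPrime Q)) := by
  let φ : Localization.AtPrime Q →+* k' := IsLocalization.lift (M := Q.primeCompl)
    (g := algebraMap S k')
    (fun y => IsUnit.mk0 _ (fun h0 => y.2 (by
      have := hinj (h0.trans (map_zero _).symm)
      rw [this]
      exact Q.zero_mem)))
  letI : Algebra (Localization.AtPrime Q) k' := φ.toAlgebra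
  haveI : IsScalarTower S (Localization.AtPrime Q) k' :=
    IsScalarTower.of_algebraMap_eq (fun r => (IsLocalization.lift_eq _ r).symm)
  haveI : Algebra.EssFiniteType (Localization.AtPrime Q) k' :=
    Algebra.EssFiniteType.of_comp S (Localization.AtPrime Q) k'
  have hker : RingHom.ker (algebraMap (Localization.AtPrime Q) k') = ⊥ := by
    rw [← RingHom.injective_iff_ker_eq_bot, RingHom.algebraMap_toAlgebra]
    rw [IsLocalization.lift_injective_iff]
    intro x y
    exact ⟨fun hxy => by rw [(IsLocalization.injective (Localization.AtPrime Q)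
      (Ideal.primeCompl_le_nonZeroDivisors Q)) hxy], fun hxy => by rw [hinj hxy]⟩
  haveI : IsNoetherianRing (Cpl (Localization.AtPrime Q)) :=
    Groth.Agent.Lib.AdicNoeth.isNoetherianRing_adicCompletion _
  haveI : IsNoetherianRing ((⊥ : Ideal (Localization.AtPrime Q)).Fiber
      (Cpl (Localization.AtPrime Q))) :=
    Groth.Agent.Lib.H14ComplFlat.isNoetherianRing_fiber _ _ _
  have r1 : IsRegularRing (k' ⊗[Localization.AtPrime Q] Cpl (Localization.AtPrime Q)) :=
    Groth.Agent.Lib.H14QFCompl.isRegularRing_field_tensor_of_fibre (Localization.AtPrime Q)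
      (Cpl (Localization.AtPrime Q)) ⊥ (h Q) k' hker
  exact good_regular.of_equiv (IsLocalization.algebraTensorEquiv Q.primeCompl
    (Localization.AtPrime Q) k' (Cpl (Localization.AtPrime Q))).toRingEquiv r1

open IsLocalRing TensorProduct EGA4 Groth.Agent.Lib.H14GeomP Groth.Agent.Lib.H14FinCpl in
theorem isGRing_of_generic (R : Type u) [CommRing R] [IsNoetherianRing R]
    (h : ∀ (q : Ideal R) [q.IsPrime] (P : Ideal (R ⧸ q)) [P.IsPrime],
        CAlg.IsGeometricallyRegular (⊥ : Ideal (Localization.AtPrime P)).ResidueField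
          (EGA4.formalFibre (Localization.AtPrime P) (⊥ : Ideal (Localization.AtPrime P)))) :
    CAlg.IsGRing R := by
  refine ⟨inferInstance, fun P hP => ?_⟩
  haveI : Module.Flat (Localization.AtPrime P) (Cpl (Localization.AtPrime P)) :=
    AdicCompletion.flat_of_isNoetherian _
  haveI : IsNoetherianRing (Cpl (Localization.AtPrime P)) :=
    Groth.Agent.Lib.AdicNoeth.isNoetherianRing_adicCompletion _
  refine ⟨inferInstance, fun p' hp' =>
    ⟨Groth.Agent.Lib.H14ComplFlat.isNoetherianRing_fiber _ _ p', fun k' _ _ hfin => ?_⟩⟩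
  letI : Algebra (Localization.AtPrime P) k' :=
    ((algebraMap p'.ResidueField k').comp
      (algebraMap (Localization.AtPrime P) p'.ResidueField)).toAlgebra
  haveI : IsScalarTower (Localization.AtPrime P) p'.ResidueField k' :=
    IsScalarTower.of_algebraMap_eq (fun _ => rfl)
  letI : Algebra R k' :=
    ((algebraMap (Localization.AtPrime P) k').comp (algebraMap R (Localization.AtPrime P))).toAlgebra
  haveI : IsScalarTower R (Localization.AtPrime P) k' :=
    IsScalarTower.of_algebraMap_eq (fun _ => rfl)
  haveI : Algebra.EssFiniteType (Localization.AtPrime P) k' :=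
    Algebra.EssFiniteType.comp (Localization.AtPrime P) p'.ResidueField k'
  haveI : Algebra.EssFiniteType R k' := Algebra.EssFiniteType.comp R (Localization.AtPrime P) k'
  -- the quotient `S = R / q`
  let q : Ideal R := RingHom.ker (algebraMap R k')
  haveI hq : q.IsPrime := RingHom.ker_isPrime _
  letI : Algebra (R ⧸ q) k' := (RingHom.kerLift (algebraMap R k')).toAlgebra
  haveI : IsScalarTower R (R ⧸ q) k' := IsScalarTower.of_algebraMap_eq (fun _ => rfl)
  have hinj : Function.Injective (algebraMap (R ⧸ q) k') := RingHom.kerLift_injective _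
  haveI : Algebra.EssFiniteType (R ⧸ q) k' := Algebra.EssFiniteType.of_comp R (R ⧸ q) k'
  have key : ∀ (Q : Ideal (R ⧸ q)) [Q.IsPrime],
      IsRegularRing (k' ⊗[R ⧸ q] Cpl (Localization.AtPrime Q)) :=
    fun Q _ => Groth.Agent.S9257.key (R ⧸ q) k' hinj (h q) Q
  haveI : IsNoetherianRing (k' ⊗[R] Cpl (Localization.AtPrime P)) :=
    isNoetherianRing_tensor_of_essFiniteType R k' _
  have h1 : IsRegularRing (k' ⊗[R] Cpl (Localization.AtPrime P)) :=
    isRegularRing_tensor_cpl_of_finite R (R ⧸ q) P k' key
  have h2 : IsRegularRing (k' ⊗[Localization.AtPrime P] Cpl (Localization.AtPrime P)) :=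
    good_regular.of_equiv (IsLocalization.algebraTensorEquiv P.primeCompl
      (Localization.AtPrime P) k' (Cpl (Localization.AtPrime P))).symm.toRingEquiv h1
  exact good_regular.of_equiv (Algebra.TensorProduct.cancelBaseChange (Localization.AtPrime P)
    p'.ResidueField p'.ResidueField k' (Cpl (Localization.AtPrime P))).symm.toRingEquiv h2

/-- A Noetherian ring R is a G-ring exactly when, for all primes q ⊆ p of R, the completion of the local
domain (R/q)_p tensored with its fraction field κ(q) is geometrically regular over κ(q). Here the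
pairs q ⊆ p are enumerated as primes P of R/q. -/
theorem result (R : Type u) [CommRing R] [IsNoetherianRing R] :
    CAlg.IsGRing R ↔
      ∀ (q : Ideal R) [q.IsPrime] (P : Ideal (R ⧸ q)) [P.IsPrime],
        CAlg.IsGeometricallyRegular (⊥ : Ideal (Localization.AtPrime P)).ResidueField
          (EGA4.formalFibre (Localization.AtPrime P) (⊥ : Ideal (Localization.AtPrime P))) := by
  constructor
  · intro hG q _ P _
    have h1 := Groth.Agent.S9289.result R (R ⧸ q) P (hG.2 (Ideal.comap (algebraMap R (R ⧸ q)) P))
    exact (h1.2 ⊥).2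
  · intro h
    exact Groth.Agent.S9257.isGRing_of_generic R h

end Groth.Agent.S9257
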