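import Groth.Statements.S9260
import Mathlib
-- import your own Groth.Agent.* helpers here

set_option autoImplicit false
universe u
open CAlg

namespace Groth.Agent.S9260

open Polynomial in
theorem eval_sub_eval_zero_mem {A : Type u} [CommRing A] {ι : Type u} (J : Ideal A) (a : ι → A)
    (ha : ∀ j, a j ∈ J) (c : MvPolynomial ι A) :
    MvPolynomial.eval a c - MvPolynomial.eval (0 : ι → A) c ∈ J := by
  induction c using MvPolynomial.induction_on with
  | C r => simp
  | add p q hp hq =>
    rw [map_add, map_add, add_sub_add_comm]
    exact J.add_mem hp hq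
  | mul_X p j _ =>
    rw [map_mul, map_mul, MvPolynomial.eval_X, MvPolynomial.eval_X, Pi.zero_apply, mul_zero, sub_zero]
    exact J.mul_mem_left _ (ha j)

/-- Suppose a finite group G with n elements acts on a ring R by ring automorphisms, A → R is a ring map
compatible with the action whose image contains the invariants (so that A maps onto R^G), J is an
ideal of A, and x lies in JR. Then ∏_σ (T - σ(x)) is the image of a monic polynomial over A of
degree at most n whose coefficients below degree n all lie in J. (The published statement takes A =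
R^G and a polynomial of degree n; this row allows any such A mapping onto R^G and asks degree at
most n, which is the same when A is nonzero.) -/
theorem result (A R G : Type u) [CommRing A]
    [CommRing R] [Algebra A R] [Group G] [Fintype G] [MulSemiringAction G R] [SMulCommClass G A R]
    [Algebra.IsInvariant A R G] (J : Ideal A) (x : R) (hx : x ∈ Ideal.map (algebraMap A R) J) :
    ∃ P : Polynomial A, P.Monic ∧ P.natDegree ≤ Fintype.card G ∧
      (∀ i : ℕ, i < Fintype.card G → P.coeff i ∈ J) ∧
      Polynomial.map (algebraMap A R) P = ∏ σ : G, (Polynomial.X - Polynomial.C (σ • x)) := by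
  classical
  set n := Fintype.card G with hn
  have hnpos : 0 < n := Fintype.card_pos
  rcases subsingleton_or_nontrivial R with hR | hR
  · refine ⟨Polynomial.X ^ n, Polynomial.monic_X_pow n, ?_, ?_, Subsingleton.elim _ _⟩
    · exact Polynomial.natDegree_X_pow_le n
    · intro i hi
      rw [Polynomial.coeff_X_pow, if_neg (by omega)]
      exact J.zero_mem
  have hA : Nontrivial A := (algebraMap A R).domain_nontrivial
  -- write x as a finite combination
  rw [Ideal.map, Ideal.span, Submodule.mem_span_image_iff_exists_fun] at hx
  obtain ⟨t, htJ, c, hxc⟩ := hx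
  let ι := {y // y ∈ t}
  let a : ι → A := fun j => (j : A)
  have ha : ∀ j, a j ∈ J := fun j => htJ j.2
  let r : ι → R := c
  have hx' : x = ∑ j : ι, r j * algebraMap A R (a j) := by
    rw [← hxc]
    exact Finset.sum_congr rfl fun j _ => rfl
  -- the generic element
  let φ : MvPolynomial ι A →+* MvPolynomial ι R := MvPolynomial.map (algebraMap A R)
  let hat : G → (MvPolynomial ι R →+* MvPolynomial ι R) :=
    fun σ => MvPolynomial.map (MulSemiringAction.toRingHom G R σ)
  let Xg : MvPolynomial ι R := ∑ j : ι, MvPolynomial.X j * MvPolynomial.C (r j)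
  let F : Polynomial (MvPolynomial ι R) := ∏ σ : G, (Polynomial.X - Polynomial.C (hat σ Xg))
  have hhat_mul : ∀ σ τ : G, hat τ (hat σ Xg) = hat (τ * σ) Xg := by
    intro σ τ
    simp only [hat, Xg, map_sum, map_mul, MvPolynomial.map_X, MvPolynomial.map_C,
      MulSemiringAction.toRingHom_apply, mul_smul]
  have hFinv : ∀ τ : G, Polynomial.map (hat τ) F = F := by
    intro τ
    simp only [F, Polynomial.map_prod, Polynomial.map_sub, Polynomial.map_X, Polynomial.map_C, hhat_mul]
    exact Fintype.prod_equiv (Equiv.mulLeft τ) _ _ fun σ => rfl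
  have hFmonic : F.Monic := Polynomial.monic_prod_of_monic _ _ fun σ _ => Polynomial.monic_X_sub_C _
  have hFdeg : F.natDegree = n := by
    rw [Polynomial.natDegree_prod_of_monic _ _ fun σ _ => Polynomial.monic_X_sub_C _]
    simp [hn]
  -- F lifts to A
  have hFlifts : F ∈ Polynomial.lifts φ := by
    rw [Polynomial.lifts_iff_coeff_lifts]
    intro i
    show F.coeff i ∈ Set.range (MvPolynomial.map (algebraMap A R))
    rw [MvPolynomial.mem_range_map_iff_coeffs_subset]
    intro y hy
    rw [Finset.mem_coe, MvPolynomial.mem_coeffs_iff] at hy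
    obtain ⟨m, _, rfl⟩ := hy
    have hinv : ∀ τ : G, τ • MvPolynomial.coeff m (F.coeff i) = MvPolynomial.coeff m (F.coeff i) := by
      intro τ
      have h1 := congrArg (fun P => MvPolynomial.coeff m (Polynomial.coeff P i)) (hFinv τ)
      simp only [Polynomial.coeff_map] at h1
      have h2 : MvPolynomial.coeff m (hat τ (F.coeff i)) =
          (MulSemiringAction.toRingHom G R τ) (MvPolynomial.coeff m (F.coeff i)) :=
        MvPolynomial.coeff_map _ _ _
      rw [h2] at h1
      exact h1
    obtain ⟨b, hb⟩ := Algebra.IsInvariant.isInvariant (A := A) (G := G) _ hinv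
    exact ⟨b, hb⟩
  obtain ⟨Ft, hFt_map, hFt_deg, hFt_monic⟩ := Polynomial.lifts_and_natDegree_eq_and_monic hFlifts hFmonic
  -- evaluate
  let ev : MvPolynomial ι A →+* A := MvPolynomial.eval a
  let ev0 : MvPolynomial ι A →+* A := MvPolynomial.eval (0 : ι → A)
  let P := Polynomial.map ev Ft
  let P0 := Polynomial.map ev0 Ft
  have hPmonic : P.Monic := hFt_monic.map ev
  have hP0monic : P0.Monic := hFt_monic.map ev0
  have hPdeg : P.natDegree = n := by rw [hFt_monic.natDegree_map, hFt_deg, hFdeg]
  have hP0deg : P0.natDegree = n := by rw [hFt_monic.natDegree_map, hFt_deg, hFdeg]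
  have hdeglt : (P - P0).degree < (n : WithBot ℕ) := by
    have h1 : P.degree = P0.degree := by
      rw [Polynomial.degree_eq_natDegree hPmonic.ne_zero, Polynomial.degree_eq_natDegree hP0monic.ne_zero,
        hPdeg, hP0deg]
    have h2 := Polynomial.degree_sub_lt_left h1 hPmonic.ne_zero (by rw [hPmonic.leadingCoeff, hP0monic.leadingCoeff])
    rwa [Polynomial.degree_eq_natDegree hPmonic.ne_zero, hPdeg] at h2
  -- images in R[T]
  have hsmul_alg : ∀ (σ : G) (b : A), σ • algebraMap A R b = algebraMap A R b := by
    intro σ b
    rw [Algebra.algebraMap_eq_smul_one, smul_comm, smul_one]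
  have hcomp : ∀ (u : ι → A) (q : MvPolynomial ι A),
      algebraMap A R (MvPolynomial.eval u q) = MvPolynomial.eval (fun j => algebraMap A R (u j)) (φ q) := by
    intro u q
    show _ = MvPolynomial.eval _ (MvPolynomial.map (algebraMap A R) q)
    rw [MvPolynomial.eval_map]
    have := MvPolynomial.eval₂_comp_left (algebraMap A R) (RingHom.id A) u q
    rw [RingHom.comp_id] at this
    exact this
  have hmapgen : ∀ u : ι → A, Polynomial.map (algebraMap A R) (Polynomial.map (MvPolynomial.eval u) Ft) =
      ∏ σ : G, (Polynomial.X - Polynomial.C (σ • ∑ j : ι, r j * algebraMap A R (u j))) := by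
    intro u
    have h1 : Polynomial.map (algebraMap A R) (Polynomial.map (MvPolynomial.eval u) Ft) =
        Polynomial.map (MvPolynomial.eval (fun j => algebraMap A R (u j))) (Polynomial.map φ Ft) := by
      rw [Polynomial.map_map, Polynomial.map_map]
      congr 1
      apply RingHom.ext
      intro q
      exact hcomp u q
    rw [h1, hFt_map]
    simp only [F, Polynomial.map_prod, Polynomial.map_sub, Polynomial.map_X, Polynomial.map_C]
    refine Finset.prod_congr rfl fun σ _ => ?_
    congr 2
    simp only [hat, Xg, map_sum, map_mul, MvPolynomial.map_X, MvPolynomial.map_C, MvPolynomial.eval_X,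
      MvPolynomial.eval_C, MulSemiringAction.toRingHom_apply, Finset.smul_sum, smul_mul', hsmul_alg]
    exact Finset.sum_congr rfl fun j _ => mul_comm _ _
  have hmapP : Polynomial.map (algebraMap A R) P = ∏ σ : G, (Polynomial.X - Polynomial.C (σ • x)) := by
    rw [hx']; exact hmapgen a
  have hmapP0 : Polynomial.map (algebraMap A R) P0 = Polynomial.X ^ n := by
    have := hmapgen (0 : ι → A)
    simp only [Pi.zero_apply, map_zero, mul_zero, Finset.sum_const_zero, smul_zero, sub_zero,
      Finset.prod_const, Finset.card_univ] at this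
    exact this
  refine ⟨Polynomial.X ^ n + (P - P0), Polynomial.monic_X_pow_add hdeglt, ?_, ?_, ?_⟩
  · refine (Polynomial.natDegree_add_le _ _).trans (max_le (Polynomial.natDegree_X_pow_le n) ?_)
    exact Polynomial.natDegree_le_of_degree_le hdeglt.le
  · intro i hi
    rw [Polynomial.coeff_add, Polynomial.coeff_X_pow, if_neg (by omega), zero_add, Polynomial.coeff_sub,
      Polynomial.coeff_map, Polynomial.coeff_map]
    exact eval_sub_eval_zero_mem J a ha _
  · rw [Polynomial.map_add, Polynomial.map_sub, Polynomial.map_pow, Polynomial.map_X, hmapP, hmapP0]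
    ring

end Groth.Agent.S9260
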