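import Groth.Statements.S9261
import Mathlib.LinearAlgebra.TensorProduct.Pi
import Mathlib.RingTheory.Flat.Basic

set_option autoImplicit false
universe u
open CAlg

namespace Groth.Agent.S9261

open TensorProduct

section Aux

variable {S R A G : Type u} [CommRing S] [CommRing R] [Algebra S R]
  [Group G] [MulSemiringAction G R] [SMulCommClass G S R]
  [CommRing A] [Algebra S A]

/-- `r ↦ (σ r - r)_σ`. -/
noncomputable def dmap : R →ₗ[S] (G → R) :=
  LinearMap.pi fun σ => (MulSemiringAction.toAlgHom S R σ).toLinearMap - LinearMap.id

theorem dmap_apply (r : R) (σ : G) : dmap (S := S) (R := R) (G := G) r σ = σ • r - r := rfl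

theorem exact_dmap [Algebra.IsInvariant S R G] :
    Function.Exact (Algebra.linearMap S R) (dmap (S := S) (R := R) (G := G)) := by
  intro r
  constructor
  · intro h
    have h' : ∀ σ : G, σ • r = r := by
      intro σ
      have := congrFun h σ
      rw [dmap_apply] at this
      exact sub_eq_zero.mp this
    obtain ⟨s, hs⟩ := Algebra.IsInvariant.isInvariant (A := S) (B := R) (G := G) r h'
    exact ⟨s, hs⟩
  · rintro ⟨s, rfl⟩
    funext σ
    rw [dmap_apply]
    simp [smul_algebraMap]

theorem proj_lTensor_dmap [Fintype G] [DecidableEq G] (σ : G) (x : A ⊗[S] R) :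
    ((LinearMap.proj σ : (G → R) →ₗ[S] R).lTensor A) ((dmap (S := S) (R := R) (G := G)).lTensor A x) =
      Algebra.TensorProduct.map (AlgHom.id S A) (MulSemiringAction.toAlgHom S R σ) x - x := by
  induction x using TensorProduct.induction_on with
  | zero => simp
  | add x y hx hy => simp only [map_add, hx, hy]; abel
  | tmul a r =>
    simp [dmap_apply, TensorProduct.tmul_sub]

end Aux

/-- Let G be a finite group acting on a ring R, S = R^G its ring of invariants (here: S → R injective
with image the invariants) and A a flat S-algebra. Then the map A → A ⊗_S R is injective with image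
the invariants of G acting on A ⊗_S R through the second factor; that is, A → (A ⊗_S R)^G is an
isomorphism. -/
theorem result (S R A G : Type u) [CommRing S] [CommRing R] [Algebra S R]
    [FaithfulSMul S R] [Group G] [Finite G] [MulSemiringAction G R] [SMulCommClass G S R]
    [Algebra.IsInvariant S R G] [CommRing A] [Algebra S A] [Module.Flat S A] :
    Function.Injective (algebraMap A (TensorProduct S A R)) ∧
      ∀ x : TensorProduct S A R,
        (∀ σ : G, Algebra.TensorProduct.map (AlgHom.id S A) (MulSemiringAction.toAlgHom S R σ) x = x) →
          x ∈ Set.range (algebraMap A (TensorProduct S A R)) := by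
  classical
  have : Fintype G := Fintype.ofFinite G
  constructor
  · exact Algebra.TensorProduct.includeLeft_injective (S := S) (A := A)
      (FaithfulSMul.algebraMap_injective S R)
  · intro x hx
    have hex := Module.Flat.lTensor_exact A (exact_dmap (S := S) (R := R) (G := G))
    have hzero : (dmap (S := S) (R := R) (G := G)).lTensor A x = 0 := by
      apply (TensorProduct.piRight S S A (fun _ : G => R)).injective
      rw [map_zero]
      funext σ
      have h1 : ∀ y : A ⊗[S] (G → R), TensorProduct.piRight S S A (fun _ : G => R) y σ =
          (LinearMap.proj σ : (G → R) →ₗ[S] R).lTensor A y := by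
        intro y
        induction y using TensorProduct.induction_on with
        | zero => simp
        | add x y hx hy => simp only [map_add, Pi.add_apply, hx, hy]
        | tmul a f => simp
      rw [h1, proj_lTensor_dmap, hx σ, sub_self]
      rfl
    obtain ⟨y, hy⟩ := (hex x).mp hzero
    rw [← hy]
    clear hy hzero hx
    induction y using TensorProduct.induction_on with
    | zero => exact ⟨0, by simp⟩
    | add y z hy hz =>
      obtain ⟨a, ha⟩ := hy
      obtain ⟨b, hb⟩ := hz
      exact ⟨a + b, by rw [map_add, map_add, ha, hb]⟩
    | tmul a s =>
      refine ⟨s • a, ?_⟩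
      rw [LinearMap.lTensor_tmul, Algebra.linearMap_apply, Algebra.TensorProduct.algebraMap_apply,
        Algebra.algebraMap_eq_smul_one s, Algebra.algebraMap_self, RingHom.id_apply,
        TensorProduct.smul_tmul]

end Groth.Agent.S9261
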