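import Groth.Statements.S9264
import Mathlib.Algebra.Homology.SingleHomology

set_option autoImplicit false
universe u
attribute [local instance] HasDerivedCategory.standard
open CategoryTheory
open DerCA

namespace Groth.Agent.S9264

open CategoryTheory.Limits

/-- The terms of the extended Cech complex vanish outside `[0, r]`. -/
theorem isZero_X {R : Type u} [CommRing R] (M : ModuleCat.{u} R) :
    ∀ (fs : List R) (q : ℤ), (q < 0 ∨ (fs.length : ℤ) < q) → IsZero ((DerCA.extCech M fs).X q)
  | [], q, hq => by
      have hq0 : q ≠ 0 := by
        simp only [List.length_nil, Nat.cast_zero] at hq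
        omega
      exact HomologicalComplex.isZero_single_obj_X (ComplexShape.up ℤ) 0 M q hq0
  | f :: fs, q, hq => by
      have hq' : q < 0 ∨ (fs.length : ℤ) + 1 < q := by
        simpa using hq
      refine IsZero.of_iso ?_ (DerCA.mappingCoconeXIso _ q)
      rw [biprod_isZero_iff]
      constructor
      · exact isZero_X M fs q (by omega)
      · exact (DerCA.locFunctor (Submonoid.powers f)).map_isZero
          (isZero_X M fs (q - 1) (by omega))

/-- The cohomology of the extended alternating Cech complex of a module M with respect to f_1, ..., f_r
vanishes in degrees outside [0, r]. -/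
theorem result (R : Type u) [CommRing R] (fs : List R)
    (M : ModuleCat.{u} R) (q : ℤ) (hq : q < 0 ∨ (fs.length : ℤ) < q) :
    Limits.IsZero (DerCA.extCechH fs M q) := by
  have h : (DerCA.extCech M fs).ExactAt q :=
    ShortComplex.exact_of_isZero_X₂ _ (isZero_X M fs q hq)
  exact h.isZero_homology

end Groth.Agent.S9264
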