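import Groth.Statements.S9266
import Groth.Agent.Lib.ExtCechTors
import Groth.Agent.Lib.KoszulDepth

set_option autoImplicit false
universe u
attribute [local instance] HasDerivedCategory.standard
open CategoryTheory
open DerCA

namespace Groth.Agent.S9266

open Groth.Agent.Lib.KoszulElem Groth.Agent.Lib.ExtCech Groth.Agent.Lib.ExtCechTors in
/-- an element acting bijectively on the terms acts injectively on cohomology -/
theorem smul_injective_homology {R : Type u} [CommRing R]
    (K : CochainComplex (ModuleCat.{u} R) ℤ) (f : R)
    (hb : ∀ j : ℤ, Function.Bijective (fun m : K.X j => f • m)) (q : ℤ) (x : K.homology q)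
    (hx : f • x = 0) : x = 0 := by
  obtain ⟨c, rfl⟩ := exists_cycle K q x
  rw [← map_smul] at hx
  obtain ⟨w, hw⟩ := Groth.Agent.Lib.KoszulDepth.exists_boundary_of_homologyπ_eq_zero K (q - 1) q
    (by ring) (f • c) hx
  obtain ⟨w', rfl⟩ := (hb (q - 1)).2 w
  rw [map_smul, map_smul] at hw
  have h2 : K.iCycles q c = K.d (q - 1) q w' := (hb q).1 hw
  exact homologyπ_eq_zero_of_boundary K (q - 1) q (by ring) c w' h2


/-- If some element f of the ideal (f_1, ..., f_r) acts invertibly on the module M, then the extended
alternating Cech complex of M with respect to f_1, ..., f_r has zero cohomology in every degree. -/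
theorem result (R : Type u) [CommRing R] (fs : List R)
    (M : ModuleCat.{u} R) (f : R) (hf : f ∈ Ideal.span {a : R | a ∈ fs})
    (hbij : Function.Bijective (fun m : M => f • m)) (q : ℤ) :
    Limits.IsZero (DerCA.extCechH fs M q) := by
  have hinv : Groth.Agent.Lib.ExtCech.ActsInv f M :=
    (Groth.Agent.Lib.ExtCech.actsInv_iff_bijective f M).mpr hbij
  have hb : ∀ j : ℤ, Function.Bijective (fun m : (DerCA.extCech M fs).X j => f • m) := fun j =>
    (Groth.Agent.Lib.ExtCech.actsInv_iff_bijective f _).mp
      (Groth.Agent.Lib.ExtCech.actsInv_extCech_X f M hinv fs j)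
  have hall : ∀ x : DerCA.extCechH fs M q, x = 0 := by
    intro x
    obtain ⟨n, hn⟩ := Groth.Agent.Lib.ExtCechTors.exists_pow_smul_eq_zero_of_mem_span fs M q x f hf
    induction n with
    | zero => simpa using hn
    | succ n ih =>
      apply ih
      apply smul_injective_homology (DerCA.extCech M fs) f hb q
      rw [smul_smul, ← pow_succ']
      exact hn
  have : Subsingleton (DerCA.extCechH fs M q) := ⟨fun a b => (hall a).trans (hall b).symm⟩
  exact ModuleCat.isZero_of_subsingleton _

end Groth.Agent.S9266

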