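import Groth.Statements.S9267
import Groth.Agent.Lib.ExtCechKoszul
import Groth.Agent.Lib.KoszulMinLen

set_option autoImplicit false
universe u
attribute [local instance] HasDerivedCategory.standard
open CategoryTheory
open DerCA

namespace Groth.Agent.S9267

/-- For a Koszul-regular sequence f_1, ..., f_r in a ring R, the extended alternating Cech complex R → ⊕
R_{f_i} → ... → R_{f_1 ... f_r} has cohomology only in degree r. -/
theorem result (R : Type u) [CommRing R] (fs : List R)
    (hfs : LCI.IsKoszulRegularSeq R fs) (q : ℤ) (hq : q ≠ (fs.length : ℤ)) :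
    Limits.IsZero (DerCA.extCechH fs (ModuleCat.of R R) q) := by
  apply Groth.Agent.Lib.ExtCechKoszul.isZero_extCechH_of_koszul_acyclic fs (ModuleCat.of R R) _ q hq
  intro n hn
  exact (hfs n (ne_of_lt hn)).of_iso ((HomologicalComplex.homologyFunctor _ _ n).mapIso
    (CategoryTheory.eqToIso (Groth.Agent.Lib.KoszulMinLen.kcx_eq_koszul fs)))

end Groth.Agent.S9267

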