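import Groth.Statements.S9273
import Mathlib.RingTheory.Flat.Equalizer
import Mathlib.LinearAlgebra.TensorProduct.Pi
import Mathlib.LinearAlgebra.TensorProduct.RightExactness

set_option autoImplicit false
universe u
open CAlgX

namespace Groth.Agent.S9273

open TensorProduct

section aux

variable {A B A' : Type u} [CommRing A] [CommRing B] [CommRing A'] [Algebra A B] [Algebra A A']
  {r : ℕ} (f : Fin r → B)

/-- `a ↦ ∑ a_i f_i` as a `B`-linear map. -/
noncomputable def phiB : (Fin r → B) →ₗ[B] B where
  toFun a := ∑ i, a i * f i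
  map_add' := by intros; simp [add_mul, Finset.sum_add_distrib]
  map_smul' := by intros; simp [Finset.mul_sum, mul_assoc]

variable (A) in
/-- The same map, `A`-linear. -/
noncomputable def phiA : (Fin r → B) →ₗ[A] B := (phiB f).restrictScalars A

theorem phiA_apply (a : Fin r → B) : phiA A f a = ∑ i, a i * f i := rfl

/-- The trivial (Koszul) relations. -/
def triv {C : Type u} [CommRing C] (g : Fin r → C) : Set (Fin r → C) :=
  {v | ∃ i j : Fin r, v = Pi.single i (g j) - Pi.single j (g i)}

variable (A A') in
/-- `z ↦ (1 ⊗ z_i)_i`. -/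
def iota (z : Fin r → B) : Fin r → A' ⊗[A] B := fun i => (1 : A') ⊗ₜ[A] z i

theorem iota_mem (z : Fin r → B) (hz : z ∈ Submodule.span B (triv f)) :
    iota A A' z ∈ Submodule.span (A' ⊗[A] B) (triv fun i => ((1 : A') ⊗ₜ[A] f i : A' ⊗[A] B)) := by
  induction hz using Submodule.span_induction with
  | mem x hx =>
    obtain ⟨i, j, rfl⟩ := hx
    apply Submodule.subset_span
    refine ⟨i, j, ?_⟩
    funext k
    simp only [iota, Pi.sub_apply, Pi.single_apply]
    split_ifs <;> simp [tmul_sub, tmul_neg]
  | zero =>
    have : iota A A' (0 : Fin r → B) = 0 := by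
      funext k; simp [iota]
    rw [this]; exact Submodule.zero_mem _
  | add x y _ _ hx hy =>
    have : iota A A' (x + y) = iota A A' x + iota A A' y := by
      funext k; simp [iota, tmul_add]
    rw [this]; exact Submodule.add_mem _ hx hy
  | smul b x _ hx =>
    have : iota A A' (b • x) = ((1 : A') ⊗ₜ[A] b : A' ⊗[A] B) • iota A A' x := by
      funext k; simp [iota, Algebra.TensorProduct.tmul_mul_tmul]
    rw [this]; exact Submodule.smul_mem _ _ hx

theorem lTensor_phiA (t : A' ⊗[A] (Fin r → B)) :
    (phiA A f).lTensor A' t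
      = ∑ i, (TensorProduct.piRight A A' A' (fun _ : Fin r => B) t) i * ((1 : A') ⊗ₜ[A] f i) := by
  induction t using TensorProduct.induction_on with
  | zero => simp
  | tmul a b =>
    simp only [LinearMap.lTensor_tmul, phiA_apply, tmul_sum]
    refine Finset.sum_congr rfl fun i _ => ?_
    simp [TensorProduct.piRight, Algebra.TensorProduct.tmul_mul_tmul]
  | add x y hx hy =>
    simp only [map_add, hx, hy, Pi.add_apply, add_mul, Finset.sum_add_distrib]

end aux

/-- Let A → B and A → A' be ring maps and B' = A' ⊗_A B. If f_1, ..., f_r is an H_1-regular sequence in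
B with B/(f_1, ..., f_r) flat over A, then the images of the f_i in B' form an H_1-regular sequence. -/
theorem result (A B A' : Type u) [CommRing A] [CommRing B]
    [CommRing A'] [Algebra A B] [Algebra A A'] (r : ℕ) (f : Fin r → B)
    (hflat : Module.Flat A (B ⧸ Ideal.span (Set.range f))) (hq : CAlgX.IsH1Regular f) :
    CAlgX.IsH1Regular (fun i => ((1 : A') ⊗ₜ[A] f i : TensorProduct A A' B)) := by
  classical
  intro a' ha'
  set J : Ideal B := Ideal.span (Set.range f) with hJ
  -- the inclusion J → B and the projection B → B/J, A-linearly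
  let g : (J.restrictScalars A) →ₗ[A] B := (J.restrictScalars A).subtype
  have hg : Function.Injective g := Submodule.subtype_injective _
  let π : B →ₗ[A] (B ⧸ J) := (Ideal.Quotient.mkₐ A J).toLinearMap
  have hπ : Function.Surjective π := Ideal.Quotient.mk_surjective
  have hex : Function.Exact g π := by
    intro b
    constructor
    · intro hb
      have : b ∈ J := Ideal.Quotient.eq_zero_iff_mem.mp hb
      exact ⟨⟨b, this⟩, rfl⟩
    · rintro ⟨⟨x, hx⟩, rfl⟩
      exact Ideal.Quotient.eq_zero_iff_mem.mpr hx
  have hinj : Function.Injective (g.lTensor A') :=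
    LinearMap.lTensor_injective_of_exact_of_flat π hπ g hg hex A'
  -- φ corestricted to J
  have hmem : ∀ a : Fin r → B, phiA A f a ∈ J.restrictScalars A := by
    intro a
    rw [phiA_apply]
    exact (Ideal.mem_span_range_iff_exists_fun).mpr ⟨a, rfl⟩
  let φJ : (Fin r → B) →ₗ[A] (J.restrictScalars A) := (phiA A f).codRestrict _ hmem
  have hφJ : Function.Surjective φJ := by
    rintro ⟨x, hx⟩
    obtain ⟨c, hc⟩ := (Ideal.mem_span_range_iff_exists_fun).mp hx
    exact ⟨c, Subtype.ext hc⟩
  have hcomp : g ∘ₗ φJ = phiA A f := by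
    ext a; rfl
  let Z : Submodule A (Fin r → B) := LinearMap.ker φJ
  have hexZ : Function.Exact Z.subtype φJ := LinearMap.exact_subtype_ker_map φJ
  have hexT : Function.Exact (Z.subtype.lTensor A') (φJ.lTensor A') :=
    lTensor_exact A' hexZ hφJ
  let Ψ := TensorProduct.piRight A A' A' (fun _ : Fin r => B)
  set t := Ψ.symm a' with ht
  have h1 : (phiA A f).lTensor A' t = 0 := by
    rw [lTensor_phiA]
    have : Ψ t = a' := by simp [ht]
    change ∑ i, (Ψ t) i * _ = 0
    rw [this]
    exact ha'
  have h2 : φJ.lTensor A' t = 0 := by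
    apply hinj
    rw [map_zero, ← LinearMap.comp_apply, ← LinearMap.lTensor_comp, hcomp]
    exact h1
  obtain ⟨s, hs⟩ := (hexT t).mp h2
  have key : ∀ s : A' ⊗[A] Z, Ψ (Z.subtype.lTensor A' s) ∈
      Submodule.span (A' ⊗[A] B) (triv fun i => ((1 : A') ⊗ₜ[A] f i : A' ⊗[A] B)) := by
    intro s
    induction s using TensorProduct.induction_on with
    | zero => simp
    | tmul x z =>
      have hz : (z : Fin r → B) ∈ Submodule.span B (triv f) := by
        apply hq
        have := z.2
        have h3 : φJ z = 0 := this
        have h4 := congrArg g h3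
        rw [map_zero] at h4
        exact h4
      have := iota_mem (A := A) (A' := A') f _ hz
      have h5 : Ψ (Z.subtype.lTensor A' (x ⊗ₜ[A] z))
          = ((x ⊗ₜ[A] (1 : B)) : A' ⊗[A] B) • iota A A' (z : Fin r → B) := by
        funext k
        simp [Ψ, TensorProduct.piRight, iota, Algebra.TensorProduct.tmul_mul_tmul]
      rw [h5]
      exact Submodule.smul_mem _ _ this
    | add x y hx hy =>
      rw [map_add, map_add]
      exact Submodule.add_mem _ hx hy
  have := key s
  rw [hs] at this
  have h6 : Ψ t = a' := by simp [ht]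
  rw [h6] at this
  exact this

end Groth.Agent.S9273
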