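import Groth.Statements.S9275
import Mathlib.RingTheory.RingHom.Etale

set_option autoImplicit false
universe u
open EtAlg

namespace Groth.Agent.S9275

theorem etale_away_mul {A B : Type u} [CommRing A] [CommRing B] [Algebra A B] (g h : B)
    (hh : Algebra.Etale A (Localization.Away h)) :
    Algebra.Etale A (Localization.Away (algebraMap B (Localization.Away g) h)) := by
  -- `T' = (B_h)_g` is etale over `A`
  have h1 : Algebra.Etale (Localization.Away h)
      (Localization.Away (algebraMap B (Localization.Away h) g)) :=
    Algebra.Etale.of_isLocalizationAway (algebraMap B (Localization.Away h) g)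
  have h2 : Algebra.Etale A (Localization.Away (algebraMap B (Localization.Away h) g)) :=
    Algebra.Etale.comp A (Localization.Away h) _
  -- both are localizations of `B` away from `g * h`
  have i1 : IsLocalization.Away (g * h) (Localization.Away (algebraMap B (Localization.Away g) h)) :=
    inferInstance
  have i2 : IsLocalization.Away (g * h) (Localization.Away (algebraMap B (Localization.Away h) g)) :=
    inferInstance
  let e : Localization.Away (algebraMap B (Localization.Away h) g) ≃ₐ[B]
      Localization.Away (algebraMap B (Localization.Away g) h) :=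
    IsLocalization.algEquiv (Submonoid.powers (g * h)) _ _
  exact Algebra.Etale.of_equiv (e.restrictScalars A)

/-- Let A → B be a ring map and J an ideal of B such that A → B is étale at every prime of V(J), in the
sense that every prime q ⊇ J has some h ∉ q with A → B_h étale. Then there is g ∈ B mapping to a
unit of B/J such that A → B_g is étale. -/
theorem result (A B : Type u) [CommRing A] [CommRing B]
    [Algebra A B] (J : Ideal B)
    (h : ∀ (q : Ideal B) [q.IsPrime], J ≤ q → ∃ h : B, h ∉ q ∧ Algebra.Etale A (Localization.Away h)) :
    ∃ g : B, IsUnit (Ideal.Quotient.mk J g) ∧ Algebra.Etale A (Localization.Away g) := by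
  set E : Set B := {h : B | Algebra.Etale A (Localization.Away h)} with hE
  have htop : Ideal.span E ⊔ J = ⊤ := by
    by_contra hne
    obtain ⟨q, hq, hle⟩ := Ideal.exists_le_maximal _ hne
    have : q.IsPrime := hq.isPrime
    obtain ⟨h0, hh0, het⟩ := h q (le_trans le_sup_right hle)
    exact hh0 (hle (Ideal.mem_sup_left (Ideal.subset_span het)))
  obtain ⟨g, hg, j, hj, hgj⟩ := Submodule.mem_sup.mp (htop ▸ Submodule.mem_top : (1 : B) ∈ Ideal.span E ⊔ J)
  refine ⟨g, ?_, ?_⟩
  · have : Ideal.Quotient.mk J g = 1 := by
      rw [← map_one (Ideal.Quotient.mk J), ← hgj, map_add, Ideal.Quotient.eq_zero_iff_mem.mpr hj,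
        add_zero]
    rw [this]
    exact isUnit_one
  · rw [← RingHom.etale_algebraMap]
    apply RingHom.Etale.ofLocalizationSpanTarget (algebraMap A (Localization.Away g))
      ((algebraMap B (Localization.Away g)) '' E)
    · rw [← Ideal.map_span, Ideal.eq_top_iff_one]
      have hu : IsUnit (algebraMap B (Localization.Away g) g) := IsLocalization.Away.algebraMap_isUnit g
      have hm : algebraMap B (Localization.Away g) g ∈
          Ideal.map (algebraMap B (Localization.Away g)) (Ideal.span E) := Ideal.mem_map_of_mem _ hg
      exact (Ideal.eq_top_of_isUnit_mem _ hm hu) ▸ Submodule.mem_top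
    · rintro ⟨_, h0, hh0, rfl⟩
      have := etale_away_mul g h0 hh0
      rw [← IsScalarTower.algebraMap_eq, RingHom.etale_algebraMap]
      exact this

end Groth.Agent.S9275
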