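import Groth.Statements.S9277
import Groth.Agent.Lib.McCoy

set_option autoImplicit false
universe u
open CAlgX

namespace Groth.Agent.S9277

/-- Let R be a local ring and φ : R^m → R^n a map of finite free modules with matrix M. Then φ is
injective if and only if the rank of M is m and the annihilator of the determinantal ideal I(M)
(generated by the minors of size the rank) is zero. -/
theorem result (R : Type u) [CommRing R] [IsLocalRing R]
    (m n : ℕ) (M : Matrix (Fin n) (Fin m) R) :
    Function.Injective (Matrix.mulVecLin M) ↔
      CAlgX.matrixRank M = m ∧ (CAlgX.detIdeal M).annihilator = ⊥ := by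
  constructor
  · intro hinj
    have hann := Groth.Agent.Lib.McCoy.annihilator_minorIdeal_eq_bot_of_injective M hinj
    have hne : CAlgX.minorIdeal M m ≠ ⊥ := by
      intro h0
      rw [h0] at hann
      have : (1 : R) ∈ (⊥ : Ideal R).annihilator := by
        rw [Submodule.mem_annihilator]
        intro x hx
        rw [Submodule.mem_bot] at hx
        simp [hx]
      rw [hann, Submodule.mem_bot] at this
      exact one_ne_zero this
    have hrank := Groth.Agent.Lib.McCoy.matrixRank_eq_of_minorIdeal_ne_bot M hne
    refine ⟨hrank, ?_⟩
    unfold CAlgX.detIdeal
    rw [hrank]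
    exact hann
  · rintro ⟨hrank, hann⟩
    unfold CAlgX.detIdeal at hann
    rw [hrank] at hann
    exact Groth.Agent.Lib.McCoy.injective_of_annihilator_minorIdeal_eq_bot M hann

end Groth.Agent.S9277
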