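import Groth.Statements.S9278
import Groth.Agent.Lib.McCoy
import Mathlib.RingTheory.Ideal.AssociatedPrime.Finiteness

set_option autoImplicit false
universe u
open CAlgX

namespace Groth.Agent.S9278

/-- Let R be a Noetherian local ring and φ : R^m → R^n a map of finite free modules with matrix M. Then
φ is injective if and only if the rank of M is m and the determinantal ideal I(M) is the unit ideal
or contains a nonzerodivisor. -/
theorem result (R : Type u) [CommRing R]
    [IsLocalRing R] [IsNoetherianRing R] (m n : ℕ) (M : Matrix (Fin n) (Fin m) R) :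
    Function.Injective (Matrix.mulVecLin M) ↔
      CAlgX.matrixRank M = m ∧ (CAlgX.detIdeal M = ⊤ ∨ ∃ a ∈ CAlgX.detIdeal M, IsRegular a) := by
  constructor
  · intro hinj
    have hann := Groth.Agent.Lib.McCoy.annihilator_minorIdeal_eq_bot_of_injective M hinj
    have hne : CAlgX.minorIdeal M m ≠ ⊥ := by
      intro h0
      rw [h0] at hann
      have : (1 : R) ∈ (⊥ : Ideal R).annihilator := by
        rw [Submodule.mem_annihilator]
        intro x hx
        rw [Submodule.mem_bot] at hx
        simp [hx]
      rw [hann, Submodule.mem_bot] at this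
      exact one_ne_zero this
    have hrank := Groth.Agent.Lib.McCoy.matrixRank_eq_of_minorIdeal_ne_bot M hne
    refine ⟨hrank, Or.inr ?_⟩
    unfold CAlgX.detIdeal
    rw [hrank]
    by_contra hcon
    push Not at hcon
    have hdisj : Disjoint ((CAlgX.minorIdeal M m : Ideal R) : Set R) (nonZeroDivisors R) := by
      rw [Set.disjoint_left]
      intro a ha hnz
      exact hcon a ha (isRegular_iff_mem_nonZeroDivisors.mpr hnz)
    have hlt := Ideal.bot_lt_annihilator_of_disjoint_nonZeroDivisors hdisj
    have : Module.annihilator R (CAlgX.minorIdeal M m) = (CAlgX.minorIdeal M m).annihilator := rfl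
    rw [this, hann] at hlt
    exact lt_irrefl _ hlt
  · rintro ⟨hrank, h⟩
    unfold CAlgX.detIdeal at h
    rw [hrank] at h
    apply Groth.Agent.Lib.McCoy.injective_of_annihilator_minorIdeal_eq_bot M
    rw [eq_bot_iff]
    intro x hx
    rw [Submodule.mem_bot]
    rw [Submodule.mem_annihilator] at hx
    rcases h with h | ⟨a, ha, hreg⟩
    · have := hx 1 (by rw [h]; trivial)
      simpa using this
    · have := hx a ha
      rw [smul_eq_mul] at this
      exact hreg.right (by simpa using this)

end Groth.Agent.S9278
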