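import Groth.Statements.S9279
import Groth.Agent.Lib.CompletionBranchesC98
import Groth.Agent.Lib.H14AdicLocal
import Groth.Agent.Lib.AdicNoeth
import Groth.Agent.Lib.HznWeaklyEtale96
import Groth.Agent.Lib.DiagFlat
import Groth.Agent.Lib.HenselizationUP
import Groth.Agent.Lib.HenselizationNoeth

set_option autoImplicit false
universe u
open Brnch

namespace Groth.Agent.S9279

open IsLocalRing

set_option maxHeartbeats 400000


/-- For a Noetherian local ring A with henselization S and completion A^ at its maximal ideal, the
spectrum of A^ with its closed point removed is preconnected exactly when the spectrum of S with its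
closed point removed is (the two sets are empty together, namely when A has dimension zero). Stated
as: the complement of the closed point in Spec A^ is preconnected iff the complement of the closed
point in Spec S is. -/
theorem result (A S : Type u) [CommRing A]
    [IsLocalRing A] [IsNoetherianRing A] [CommRing S] [IsLocalRing S] [Algebra A S]
    [IsLocalHom (algebraMap A S)] [Hensel.IsHenselization A S] :
    IsPreconnected
        ({IsLocalRing.closedPoint (AdicCompletion (IsLocalRing.maximalIdeal A) A)}ᶜ :
          Set (PrimeSpectrum (AdicCompletion (IsLocalRing.maximalIdeal A) A))) ↔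
      IsPreconnected ({IsLocalRing.closedPoint S}ᶜ : Set (PrimeSpectrum S)) := by
  classical
  have hflatA : Module.Flat A (AdicCompletion (maximalIdeal A) A) :=
    AdicCompletion.flat_of_isNoetherian (maximalIdeal A)
  have hN : IsNoetherianRing (AdicCompletion (maximalIdeal A) A) :=
    Groth.Agent.Lib.AdicNoeth.isNoetherianRing_adicCompletion _
  have hH : HenselianLocalRing (AdicCompletion (maximalIdeal A) A) :=
    Groth.Agent.Lib.HenselizationNoeth.henselianLocalRing_of_henselianRing _
  obtain ⟨ψ, hψ, -⟩ := Hensel.IsHenselization.universal (R := A) (S := S)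
    (AdicCompletion (maximalIdeal A) A) (algebraMap A (AdicCompletion (maximalIdeal A) A))
    inferInstance
  letI algSA : Algebra S (AdicCompletion (maximalIdeal A) A) := ψ.toAlgebra
  have htower : IsScalarTower A S (AdicCompletion (maximalIdeal A) A) :=
    IsScalarTower.of_algebraMap_eq (fun a => (RingHom.congr_fun hψ a).symm)
  have hwe : Algebra.WeaklyEtale A S :=
    Groth.Agent.Lib.HznWeaklyEtale96.weaklyEtale_of_isHenselization A S
  have hflatS : Module.Flat S (AdicCompletion (maximalIdeal A) A) :=
    Groth.Agent.Lib.DiagFlat.flat_of_flat_lmul' (Algebra.WeaklyEtale.flat_lmul' A S)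
      (AdicCompletion (maximalIdeal A) A)
  have hmS : (maximalIdeal A).map (algebraMap A S) = maximalIdeal S :=
    Groth.Agent.Lib.HenselizationUP.map_maximalIdeal_eq A S
  have hloc : IsLocalHom (algebraMap S (AdicCompletion (maximalIdeal A) A)) := by
    refine ((local_hom_TFAE (algebraMap S (AdicCompletion (maximalIdeal A) A))).out 2 0).mp ?_
    rw [← hmS, Ideal.map_map, ← IsScalarTower.algebraMap_eq]
    exact map_maximalIdeal_le (algebraMap A (AdicCompletion (maximalIdeal A) A))
  have hSh : HenselianLocalRing S := Hensel.IsHenselization.henselian (R := A)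
  have hcomp : (algebraMap S (AdicCompletion (maximalIdeal A) A)).comp (algebraMap A S)
      = algebraMap A (AdicCompletion (maximalIdeal A) A) := hψ
  have hs : ∀ t : AdicCompletion (maximalIdeal A) A, ∃ d : S,
      t - algebraMap S (AdicCompletion (maximalIdeal A) A) d ∈
        (maximalIdeal S).map (algebraMap S (AdicCompletion (maximalIdeal A) A)) := by
    intro t
    obtain ⟨a, ha⟩ := Groth.Agent.Lib.H14AdicLocal.exists_sub_mem_map A (maximalIdeal A)
      (IsNoetherian.noetherian _) t
    refine ⟨algebraMap A S a, ?_⟩
    have h1 : algebraMap S (AdicCompletion (maximalIdeal A) A) (algebraMap A S a)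
        = algebraMap A (AdicCompletion (maximalIdeal A) A) a := RingHom.congr_fun hcomp a
    rw [h1, ← hmS, Ideal.map_map, hcomp]
    exact ha
  exact Groth.Agent.Lib.CompletionBranches98.isPreconnected_punctured_iff hs

end Groth.Agent.S9279
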