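import Groth.Statements.S9280
import Groth.Agent.Lib.H87J2b

set_option autoImplicit false
universe u
open EGA4

namespace Groth.Agent.S9280

/-- A Nagata ring of dimension 1 is J-2, that is, every finite type algebra over it has open regular
locus. -/
theorem result (R : Type u) [CommRing R] (hR : CAlg.IsNagata R)
    (hdim : ringKrullDim R = 1) : EGA4.IsJ2 R := by
  obtain ⟨hN, hN2⟩ := hR
  apply Groth.Agent.Lib.H87J2.isJ2_of_forall_finite R
  intro A' _ _ _ hfin
  have hint : Algebra.IsIntegral R A' := inferInstance
  have hdimA' : ringKrullDim A' ≤ 1 := by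
    rw [← hdim]
    exact Order.krullDim_le_of_strictMono
      (fun I => ⟨Ideal.comap (algebraMap R A') I.asIdeal, inferInstance⟩)
      (fun I J hIJ => Ideal.IsIntegral.comap_lt_comap (R := R) hIJ)
  have hA'N : IsNoetherianRing A' := Algebra.FiniteType.isNoetherianRing R A'
  have hprime : (RingHom.ker (algebraMap R A')).IsPrime := RingHom.ker_isPrime _
  letI alg0 : Algebra (R ⧸ RingHom.ker (algebraMap R A')) A' :=
    (RingHom.kerLift (algebraMap R A')).toAlgebra
  have htow : IsScalarTower R (R ⧸ RingHom.ker (algebraMap R A')) A' :=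
    IsScalarTower.of_algebraMap_eq (fun x => rfl)
  have hinj0 : Function.Injective (algebraMap (R ⧸ RingHom.ker (algebraMap R A')) A') :=
    RingHom.kerLift_injective _
  have hfaith : FaithfulSMul (R ⧸ RingHom.ker (algebraMap R A')) A' :=
    (faithfulSMul_iff_algebraMap_injective _ _).mpr hinj0
  have hfin0 : Module.Finite (R ⧸ RingHom.ker (algebraMap R A')) A' :=
    Module.Finite.of_restrictScalars_finite R _ _
  have hinjK : Function.Injective
      (algebraMap (R ⧸ RingHom.ker (algebraMap R A')) (FractionRing A')) := by
    rw [IsScalarTower.algebraMap_eq _ A' (FractionRing A')]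
    exact (IsFractionRing.injective A' (FractionRing A')).comp hinj0
  have hfaithK : FaithfulSMul (R ⧸ RingHom.ker (algebraMap R A')) (FractionRing A') :=
    (faithfulSMul_iff_algebraMap_injective _ _).mpr hinjK
  letI algK : Algebra (FractionRing (R ⧸ RingHom.ker (algebraMap R A'))) (FractionRing A') :=
    FractionRing.liftAlgebra _ _
  have hfd : FiniteDimensional (FractionRing (R ⧸ RingHom.ker (algebraMap R A')))
      (FractionRing A') :=
    Groth.Agent.Lib.H87J2.finiteDimensional_of_finite (R ⧸ RingHom.ker (algebraMap R A')) A' _ _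
  have h1 := Groth.Agent.Lib.H87Japanese.finite_of_isN2 (R ⧸ RingHom.ker (algebraMap R A'))
    (hN2 (RingHom.ker (algebraMap R A')))
    (FractionRing (R ⧸ RingHom.ker (algebraMap R A'))) (FractionRing A') hfd
  have h2 := Groth.Agent.Lib.H87J2.finite_integralClosure_of_tower
    (R ⧸ RingHom.ker (algebraMap R A')) A' (FractionRing A') h1
  exact Groth.Agent.Lib.H87J2.J0_of_finite_integralClosure A' hdimA' (FractionRing A') h2

end Groth.Agent.S9280
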