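import Groth.Statements.S9282
-- import your own Groth.Agent.* helpers here
import Mathlib

set_option autoImplicit false
set_option linter.style.haveILetI false
universe u
open CAlg

namespace Groth.Agent.S9282

open IsLocalRing Algebra MvPolynomial

lemma map_pow_mem' {R S : Type*} [CommRing R] [CommRing S] (f : R →+* S) (I : Ideal R) (K : Ideal S)
    (h : ∀ x ∈ I, f x ∈ K) (k : ℕ) (t : R) (ht : t ∈ I ^ k) : f t ∈ K ^ k := by
  have h1 : I.map f ≤ K := by
    rw [Ideal.map_le_iff_le_comap]
    intro t ht
    exact h t ht
  have h2 := Ideal.pow_right_mono h1 k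
  rw [← Ideal.map_pow] at h2
  exact h2 (Ideal.mem_map_of_mem _ ht)

theorem cotangent_map_injective (A B : Type u) [CommRing A] [CommRing B] [IsLocalRing B]
    [Algebra A B] (hfs : CAlgX.IsAdicFormallySmooth A B (IsLocalRing.maximalIdeal B)) :
    Function.Injective (Extension.Cotangent.map
      (Generators.defaultHom (Generators.self A (ResidueField B))
        (Generators.self B (ResidueField B))).toExtensionHom) := by
  set K := ResidueField B with hK
  let P := (Generators.self A K).toExtension
  let P' := (Generators.self B K).toExtension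
  let f : P.Hom P' :=
    (Generators.defaultHom (Generators.self A K) (Generators.self B K)).toExtensionHom
  let Q := P.infinitesimal
  let π : Q.Ring →ₐ[A] K := IsScalarTower.toAlgHom A Q.Ring K
  have hπ : Function.Surjective π := Q.algebraMap_surjective
  let J : Ideal Q.Ring := RingHom.ker π
  have hJQ : J = Q.ker := rfl
  have hJ : J ^ 2 = ⊥ := by
    have h1 : Q.ker = P.ker.cotangentIdeal := Extension.ker_infinitesimal P
    have h2 := Ideal.cotangentIdeal_square P.ker
    rw [hJQ, h1]
    exact h2
  let e : (Q.Ring ⧸ J) ≃ₐ[A] K := Ideal.quotientKerAlgEquivOfSurjective hπ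
  let ψ : B →ₐ[A] Q.Ring ⧸ J := e.symm.toAlgHom.comp (IsScalarTower.toAlgHom A B K)
  obtain ⟨χ, hχ⟩ := hfs Q.Ring J hJ ψ ⟨1, fun x hx => by
    rw [pow_one] at hx
    change e.symm (algebraMap B K x) = 0
    have : algebraMap B K x = 0 := by
      change residue B x = 0
      rw [residue_eq_zero_iff]; exact hx
    rw [this, map_zero]⟩
  have hχ' : ∀ b : B, algebraMap Q.Ring K (χ b) = algebraMap B K b := by
    intro b
    have h1 : Ideal.Quotient.mk J (χ b) = e.symm (algebraMap B K b) := AlgHom.congr_fun hχ b
    have h2 : e (Ideal.Quotient.mk J (χ b)) = algebraMap B K b := by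
      rw [h1, AlgEquiv.apply_symm_apply]
    exact h2
  letI algBQ : Algebra B Q.Ring := χ.toRingHom.toAlgebra
  have halgBQ : ∀ b : B, algebraMap B Q.Ring b = χ b := fun b => rfl
  let mkQ : MvPolynomial K A →+* Q.Ring := P.toInfinitesimal.toRingHom
  let fA : MvPolynomial K A →ₐ[A] MvPolynomial K B :=
    (Generators.defaultHom (Generators.self A K) (Generators.self B K)).toAlgHom
  let g : MvPolynomial K B →ₐ[B] Q.Ring := MvPolynomial.aeval (fun s : K => mkQ (X s))
  -- (a)
  have ha : (g : MvPolynomial K B →+* Q.Ring).comp (fA : MvPolynomial K A →+* MvPolynomial K B) =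
      mkQ := by
    apply MvPolynomial.ringHom_ext
    · intro a
      have h1 : fA (C a) = C (algebraMap A B a) := Generators.Hom.toAlgHom_C _ a
      have h2 : g (C (algebraMap A B a)) = algebraMap B Q.Ring (algebraMap A B a) :=
        MvPolynomial.aeval_C _ _
      change g (fA (C a)) = mkQ (C a)
      rw [h1, h2, halgBQ, χ.commutes]
      rfl
    · intro s
      have h1 : fA (X s) = X s := Generators.Hom.toAlgHom_X
          (Generators.defaultHom (Generators.self A K) (Generators.self B K)) s
      change g (fA (X s)) = mkQ (X s)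
      rw [h1]
      exact MvPolynomial.aeval_X _ s
  -- (b)
  let αB : MvPolynomial K B →+* K := algebraMap P'.Ring K
  have hαBX : ∀ s : K, αB (X s) = s := fun s => MvPolynomial.aeval_X _ s
  have hαBC : ∀ b : B, αB (C b) = algebraMap B K b := fun b => MvPolynomial.aeval_C _ b
  let αA : MvPolynomial K A →+* K := algebraMap P.Ring K
  have hαAX : ∀ s : K, αA (X s) = s := fun s => MvPolynomial.aeval_X _ s
  have hb : (algebraMap Q.Ring K).comp (g : MvPolynomial K B →+* Q.Ring) = αB := by
    apply MvPolynomial.ringHom_ext
    · intro b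
      have h2 : g (C b) = algebraMap B Q.Ring b := MvPolynomial.aeval_C _ _
      change algebraMap Q.Ring K (g (C b)) = αB (C b)
      rw [h2, halgBQ, hχ', hαBC]
    · intro s
      change algebraMap Q.Ring K (g (X s)) = αB (X s)
      have h2 : g (X s) = mkQ (X s) := MvPolynomial.aeval_X _ s
      rw [h2]
      have h3 : algebraMap Q.Ring K (mkQ (X s)) = αA (X s) :=
        P.toInfinitesimal.algebraMap_toRingHom (X s)
      rw [h3, hαAX, hαBX]
  -- (c)
  have hc : ∀ y : MvPolynomial K B, y ∈ P'.ker ^ 2 → g y = 0 := by
    intro y hy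
    have h1 : g y ∈ J ^ 2 := by
      refine map_pow_mem' (g : MvPolynomial K B →+* Q.Ring) P'.ker J (fun x hx => ?_) 2 y hy
      change algebraMap Q.Ring K (g x) = 0
      have h2 : algebraMap Q.Ring K (g x) = αB x := RingHom.congr_fun hb x
      rw [h2]
      exact hx
    rw [hJ, Ideal.mem_bot] at h1
    exact h1
  -- conclusion
  rw [injective_iff_map_eq_zero]
  intro x hx
  obtain ⟨x₀, rfl⟩ := Extension.Cotangent.mk_surjective x
  rw [Extension.Cotangent.map_mk, Extension.Cotangent.mk_eq_zero_iff] at hx
  rw [Extension.Cotangent.mk_eq_zero_iff]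
  have h1 : g (fA x₀.1) = 0 := hc _ hx
  have h2 : g (fA x₀.1) = mkQ x₀.1 := RingHom.congr_fun ha x₀.1
  rw [h2] at h1
  exact Ideal.Quotient.eq_zero_iff_mem.mp h1

/-- Let A → B be a local ring map between Noetherian local rings that is formally smooth for the adic
topology of the maximal ideal of B, and write K for the residue field of B. In the Jacobi–Zariski
sequence attached to A → B → K, the map from H_1(NL_{K/A}) to H_1(NL_{K/B}), which is m_B/m_B^2, is
injective; the remaining terms are exact in general, so that sequence starts with a zero. -/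
theorem result (A B : Type u) [CommRing A]
    [CommRing B] [IsLocalRing A] [IsLocalRing B] [IsNoetherianRing A] [IsNoetherianRing B]
    [Algebra A B] [IsLocalHom (algebraMap A B)]
    (hfs : CAlgX.IsAdicFormallySmooth A B (IsLocalRing.maximalIdeal B)) :
    Function.Injective
      (Algebra.H1Cotangent.map A B (IsLocalRing.ResidueField B) (IsLocalRing.ResidueField B)) := by
  have h := cotangent_map_injective A B hfs
  intro x y hxy
  apply Subtype.ext
  apply h
  exact congrArg Subtype.val hxy

end Groth.Agent.S9282
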