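import Groth.Statements.S9283
import Mathlib.RingTheory.Ideal.Operations
import Mathlib.RingTheory.Finiteness.Ideal

set_option autoImplicit false
universe u
open CAlg

namespace Groth.Agent.S9283

/-- killing one more element while staying nonzero -/
theorem step {R : Type u} [CommRing R] (y f : R) (hy : y ≠ 0) (hf : ∃ n : ℕ, f ^ n * y = 0) :
    ∃ c : R, c * y ≠ 0 ∧ f * (c * y) = 0 := by
  classical
  let n := Nat.find hf
  have hn : f ^ n * y = 0 := Nat.find_spec hf
  have hn0 : n ≠ 0 := by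
    intro h0
    rw [h0, pow_zero, one_mul] at hn
    exact hy hn
  obtain ⟨k, hk⟩ := Nat.exists_eq_succ_of_ne_zero hn0
  refine ⟨f ^ k, ?_, ?_⟩
  · intro h
    have : k < n := by omega
    exact Nat.find_min hf this h
  · rw [← mul_assoc, ← pow_succ']
    have e : k + 1 = n := hk.symm
    rw [e]
    exact hn

theorem finset_case {R : Type u} [CommRing R] [IsLocalRing R] (x : R) (hx : x ≠ 0)
    (h : ∀ f ∈ IsLocalRing.maximalIdeal R, ∃ n : ℕ, f ^ n * x = 0) (s : Finset R)
    (hs : ∀ f ∈ s, f ∈ IsLocalRing.maximalIdeal R) :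
    ∃ c : R, c * x ≠ 0 ∧ ∀ f ∈ s, f * (c * x) = 0 := by
  classical
  induction s using Finset.induction_on with
  | empty => exact ⟨1, by rwa [one_mul], by simp⟩
  | insert a s ha ih =>
    obtain ⟨c, hc, hcs⟩ := ih (fun f hf => hs f (Finset.mem_insert_of_mem hf))
    obtain ⟨n, hn⟩ := h a (hs a (Finset.mem_insert_self a s))
    obtain ⟨c', hc', hac'⟩ := step (c * x) a hc ⟨n, by rw [mul_left_comm, hn, mul_zero]⟩
    refine ⟨c' * c, by rwa [mul_assoc], ?_⟩
    intro f hf
    rw [Finset.mem_insert] at hf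
    rcases hf with rfl | hf
    · rw [mul_assoc]; exact hac'
    · rw [mul_assoc, mul_left_comm, hcs f hf, mul_zero]

theorem result (R : Type u) [CommRing R] [IsLocalRing R]
    (h : ∃ x : R, x ≠ 0 ∧ ∀ f ∈ IsLocalRing.maximalIdeal R, ∃ n : ℕ, f ^ n * x = 0)
    (I : Ideal R) (hI : I.FG) (hI' : I ≠ ⊤) : I.annihilator ≠ ⊥ := by
  obtain ⟨x, hx, hx'⟩ := h
  obtain ⟨s, rfl⟩ := hI
  have hle : Ideal.span (s : Set R) ≤ IsLocalRing.maximalIdeal R :=
    IsLocalRing.le_maximalIdeal hI'
  obtain ⟨c, hc, hcs⟩ := finset_case x hx hx' s (fun f hf => hle (Ideal.subset_span hf))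
  intro hbot
  apply hc
  have : c * x ∈ (Ideal.span (s : Set R)).annihilator := by
    rw [Submodule.mem_annihilator_span]
    intro f
    rw [smul_eq_mul, mul_comm]
    exact hcs f.1 f.2
  rw [hbot] at this
  exact this

end Groth.Agent.S9283
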