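import Groth.Statements.S9285
import Mathlib.RingTheory.Ideal.Operations
import Mathlib.RingTheory.Finiteness.Ideal
import Mathlib.LinearAlgebra.Finsupp.LinearCombination

set_option autoImplicit false
universe u
open CAlg

namespace Groth.Agent.S9285

theorem result (R : Type u) [CommRing R] :
    (∀ I : Ideal R, I.FG → I ≠ ⊤ → I.annihilator ≠ ⊥) ↔
      ∀ (n : ℕ) (u : R →ₗ[R] (Fin n → R)), Function.Injective u →
        ∃ v : (Fin n → R) →ₗ[R] R, v.comp u = LinearMap.id := by
  constructor
  · intro hP n u hu
    let a : Fin n → R := u 1
    let I : Ideal R := Ideal.span (Set.range a)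
    have hIfg : I.FG := Submodule.fg_span (Set.finite_range a)
    have htop : I = ⊤ := by
      by_contra hne
      have hann := hP I hIfg hne
      apply hann
      rw [eq_bot_iff]
      intro y hy
      rw [Submodule.mem_annihilator_span] at hy
      have : u y = 0 := by
        have e : u y = y • u 1 := by rw [← map_smul, smul_eq_mul, mul_one]
        rw [e]
        funext i
        exact hy ⟨a i, i, rfl⟩
      have := hu (this.trans (map_zero u).symm)
      exact this
    have h1 : (1 : R) ∈ Ideal.span (Set.range a) := by
      change (1 : R) ∈ I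
      rw [htop]; trivial
    obtain ⟨b, hb⟩ := Ideal.mem_span_range_iff_exists_fun.1 h1
    refine ⟨∑ i, b i • LinearMap.proj i, ?_⟩
    apply LinearMap.ext
    intro r
    have e : u r = r • u 1 := by rw [← map_smul, smul_eq_mul, mul_one]
    simp only [LinearMap.comp_apply, LinearMap.id_apply, LinearMap.sum_apply, LinearMap.smul_apply,
      LinearMap.proj_apply, e, Pi.smul_apply, smul_eq_mul]
    calc ∑ i, b i * (r * u 1 i) = r * ∑ i, b i * a i := by
          rw [Finset.mul_sum]
          refine Finset.sum_congr rfl fun i _ => ?_
          ring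
      _ = r := by rw [hb, mul_one]
  · intro hQ I hIfg hItop hann
    obtain ⟨n, a, ha⟩ := Submodule.fg_iff_exists_fin_generating_family.1 hIfg
    let u : R →ₗ[R] (Fin n → R) := LinearMap.pi (fun i => LinearMap.toSpanSingleton R R (a i))
    have hu : Function.Injective u := by
      rw [injective_iff_map_eq_zero]
      intro r hr
      have hmem : r ∈ I.annihilator := by
        rw [← ha, Submodule.mem_annihilator_span]
        rintro ⟨_, i, rfl⟩
        have := congrFun hr i
        simpa [u, LinearMap.toSpanSingleton_apply] using this
      rw [hann] at hmem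
      exact hmem
    obtain ⟨v, hv⟩ := hQ n u hu
    apply hItop
    rw [Ideal.eq_top_iff_one]
    have h1 : v (u 1) = 1 := by
      have := LinearMap.congr_fun hv 1
      exact this
    have hu1 : u 1 = ∑ i, a i • (Pi.single i (1 : R) : Fin n → R) := by
      funext j
      simp [u, LinearMap.toSpanSingleton_apply, Finset.sum_apply, Pi.single_apply]
    rw [hu1, map_sum] at h1
    rw [← h1]
    refine Submodule.sum_mem _ fun i _ => ?_
    rw [map_smul, smul_eq_mul]
    apply Ideal.mul_mem_right
    rw [← ha]
    exact Submodule.subset_span ⟨i, rfl⟩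

end Groth.Agent.S9285
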