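import Groth.Statements.S9286
import Groth.Agent.S9285
import Mathlib.RingTheory.Finiteness.Projective
import Mathlib.LinearAlgebra.Isomorphisms
import Mathlib.Tactic

set_option autoImplicit false
universe u
open CAlg

namespace Groth.Agent.S9286

section aux

variable {R : Type u} [CommRing R]

/-- Under property (P), an injective map `R → M` into a finite projective module splits. -/
lemma exists_retraction_of_injective
    (hP : (∀ I : Ideal R, I.FG → I ≠ ⊤ → I.annihilator ≠ ⊥))
    (M : Type u) [AddCommGroup M] [Module R M] [Module.Finite R M] [Module.Projective R M]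
    (w : R →ₗ[R] M) (hw : Function.Injective w) :
    ∃ v : M →ₗ[R] R, v.comp w = LinearMap.id := by
  obtain ⟨n, f, g, -, hg, hfg⟩ := Module.Finite.exists_comp_eq_id_of_projective R M
  obtain ⟨v, hv⟩ := (Groth.Agent.S9285.result R).1 hP n (g.comp w) (hg.comp hw)
  exact ⟨v.comp g, by rw [LinearMap.comp_assoc]; exact hv⟩

/-- The key inductive statement: an injective map from a finite free module to a finite projective
module has projective cokernel. -/
lemma projective_quotient_range_of_free
    (hP : (∀ I : Ideal R, I.FG → I ≠ ⊤ → I.annihilator ≠ ⊥)) :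
    ∀ (m : ℕ) (M : Type u) [AddCommGroup M] [Module R M] [Module.Finite R M]
      [Module.Projective R M] (u : (Fin m → R) →ₗ[R] M), Function.Injective u →
      Module.Projective R (M ⧸ LinearMap.range u) := by
  intro m
  induction m with
  | zero =>
    intro M _ _ _ _ u _
    have hr : LinearMap.range u = ⊥ := by
      rw [eq_bot_iff]
      rintro _ ⟨x, rfl⟩
      have : x = 0 := Subsingleton.elim _ _
      rw [Submodule.mem_bot, this, map_zero]
    exact Module.Projective.of_equiv
      ((Submodule.quotEquivOfEqBot _ hr).symm : M ≃ₗ[R] (M ⧸ LinearMap.range u))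
  | succ m ih =>
    intro M _ _ _ _ u hu
    -- the first basis vector
    let e : Fin (m + 1) → R := Pi.single 0 1
    let w : R →ₗ[R] M := LinearMap.toSpanSingleton R M (u e)
    have hw : Function.Injective w := by
      rw [injective_iff_map_eq_zero]
      intro r hr
      have h1 : u (r • e) = 0 := by
        rw [map_smul]; simpa [w, LinearMap.toSpanSingleton_apply] using hr
      have h2 : r • e = 0 := hu (h1.trans (map_zero u).symm)
      have := congrFun h2 0
      simpa [e] using this
    obtain ⟨v, hv⟩ := exists_retraction_of_injective hP M w hw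
    have hve : v (u e) = 1 := by
      have := LinearMap.congr_fun hv 1
      simpa [w, LinearMap.toSpanSingleton_apply] using this
    -- the complement K = ker v
    let K : Submodule R M := LinearMap.ker v
    -- projection of M onto K
    let p : M →ₗ[R] M := LinearMap.id - (LinearMap.toSpanSingleton R M (u e)).comp v
    have hp_apply : ∀ x, p x = x - v x • u e := fun x => by
      simp [p, LinearMap.toSpanSingleton_apply]
    have hpK : ∀ x, p x ∈ K := by
      intro x
      simp only [K, LinearMap.mem_ker, hp_apply, map_sub, map_smul, hve, smul_eq_mul, mul_one,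
        sub_self]
    let pK : M →ₗ[R] K := p.codRestrict K hpK
    have hpK_id : ∀ k : K, pK (k : M) = k := by
      intro k
      apply Subtype.ext
      have hk : v (k : M) = 0 := k.2
      simp [pK, hp_apply, hk]
    -- K is a retract of M, hence finite projective
    have hKproj : Module.Projective R K :=
      Module.Projective.of_split K.subtype pK (by ext k; simp [hpK_id])
    have hKfin : Module.Finite R K :=
      Module.Finite.of_surjective pK (fun k => ⟨k, hpK_id k⟩)
    -- the embedding of the last `m` coordinates
    let ι : (Fin m → R) →ₗ[R] (Fin (m + 1) → R) :=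
      LinearMap.pi (fun i => Fin.cases 0 (fun j => LinearMap.proj j) i)
    have hι0 : ∀ x, ι x 0 = 0 := fun x => by simp [ι]
    have hιs : ∀ x (j : Fin m), ι x j.succ = x j := fun x j => by simp [ι]
    let u' : (Fin m → R) →ₗ[R] K := pK.comp (u.comp ι)
    have hu' : Function.Injective u' := by
      rw [injective_iff_map_eq_zero]
      intro x hx
      have h1 : p (u (ι x)) = 0 := by
        have := congrArg Subtype.val hx
        simpa [u', pK] using this
      rw [hp_apply, sub_eq_zero] at h1
      have h2 : u (ι x - v (u (ι x)) • e) = 0 := by
        rw [map_sub, map_smul, ← h1, sub_self]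
      have h3 : ι x - v (u (ι x)) • e = 0 := hu (h2.trans (map_zero u).symm)
      have h4 := congrFun h3 0
      simp only [Pi.sub_apply, hι0, Pi.smul_apply, e, Pi.single_eq_same, smul_eq_mul, mul_one,
        Pi.zero_apply, zero_sub, neg_eq_zero] at h4
      rw [h4, zero_smul, sub_zero] at h3
      funext j
      have := congrFun h3 j.succ
      simpa [hιs] using this
    have ihK := ih K u' hu'
    -- the map K → M ⧸ range u is surjective with kernel range u'
    let q : K →ₗ[R] (M ⧸ LinearMap.range u) := (LinearMap.range u).mkQ.comp K.subtype
    have hq_surj : Function.Surjective q := by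
      intro y
      obtain ⟨x, rfl⟩ := Submodule.Quotient.mk_surjective _ y
      refine ⟨pK x, ?_⟩
      change Submodule.Quotient.mk (p x) = Submodule.Quotient.mk x
      rw [Submodule.Quotient.eq, hp_apply]
      have : x - v x • u e - x = u (-(v x) • e) := by
        rw [map_smul, neg_smul]; abel
      rw [this]
      exact LinearMap.mem_range_self _ _
    have hdecomp : ∀ y : Fin (m + 1) → R, y = y 0 • e + ι (fun j => y j.succ) := by
      intro y
      funext i
      refine Fin.cases ?_ (fun j => ?_) i
      · simp [e, hι0]
      · simp [e, hιs]
    have hq_ker : LinearMap.ker q = LinearMap.range u' := by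
      apply le_antisymm
      · intro k hk
        have hk' : (k : M) ∈ LinearMap.range u := by
          have : Submodule.Quotient.mk (k : M) = (0 : M ⧸ LinearMap.range u) := hk
          rwa [Submodule.Quotient.mk_eq_zero] at this
        obtain ⟨y, hy⟩ := hk'
        refine ⟨fun j => y j.succ, ?_⟩
        apply Subtype.ext
        have hkv : v (k : M) = 0 := k.2
        change p (u (ι fun j => y j.succ)) = (k : M)
        have hy' : u y = y 0 • u e + u (ι fun j => y j.succ) := by
          conv_lhs => rw [hdecomp y]
          rw [map_add, map_smul]
        have h1 : u (ι fun j => y j.succ) = (k : M) - y 0 • u e := by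
          rw [← hy, hy']; abel
        rw [h1, hp_apply]
        simp only [map_sub, hkv, map_smul, hve, smul_eq_mul, mul_one, zero_sub, neg_smul]
        abel
      · rintro _ ⟨x, rfl⟩
        change Submodule.Quotient.mk (p (u (ι x))) = (0 : M ⧸ LinearMap.range u)
        rw [Submodule.Quotient.mk_eq_zero, hp_apply]
        have : u (ι x) - v (u (ι x)) • u e = u (ι x - v (u (ι x)) • e) := by
          rw [map_sub, map_smul]
        rw [this]
        exact LinearMap.mem_range_self _ _
    have eqv : (K ⧸ LinearMap.range u') ≃ₗ[R] (M ⧸ LinearMap.range u) :=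
      (Submodule.quotEquivOfEq _ _ hq_ker.symm).trans (q.quotKerEquivOfSurjective hq_surj)
    exact Module.Projective.of_equiv eqv

end aux

/-- Let R be a ring in which every proper finitely generated ideal has a nonzero annihilator. Given an
injective R-linear map u : N → M, where both N and M are finite and projective over R, the quotient
Coker(u) = M/u(N) is again projective as an R-module. -/
theorem result (R : Type u) [CommRing R]
    (hP : (∀ I : Ideal R, I.FG → I ≠ ⊤ → I.annihilator ≠ ⊥))
    (N M : Type u) [AddCommGroup N] [Module R N] [Module.Finite R N] [Module.Projective R N]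
    [AddCommGroup M] [Module R M] [Module.Finite R M] [Module.Projective R M]
    (u : N →ₗ[R] M) (hu : Function.Injective u) :
    Module.Projective R (M ⧸ LinearMap.range u) := by
  obtain ⟨n, s, g, -, -, hsg⟩ := Module.Finite.exists_comp_eq_id_of_projective R N
  have hsg' : ∀ x, s (g x) = x := fun x => LinearMap.congr_fun hsg x
  -- ũ : R^n → M × R^n
  let U : (Fin n → R) →ₗ[R] (M × (Fin n → R)) :=
    (u.comp s).prod (LinearMap.id - g.comp s)
  have hU : Function.Injective U := by
    rw [injective_iff_map_eq_zero]
    intro x hx
    have h1 : u (s x) = 0 := congrArg Prod.fst hx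
    have h2 : x - g (s x) = 0 := congrArg Prod.snd hx
    have h3 : s x = 0 := hu (h1.trans (map_zero u).symm)
    rw [h3, map_zero, sub_zero] at h2
    exact h2
  have hproj := projective_quotient_range_of_free hP n (M × (Fin n → R)) U hU
  -- M ⧸ range u is a retract of (M × R^n) ⧸ range U
  let i : (M ⧸ LinearMap.range u) →ₗ[R] ((M × (Fin n → R)) ⧸ LinearMap.range U) :=
    (LinearMap.range u).liftQ ((LinearMap.range U).mkQ.comp (LinearMap.inl R M (Fin n → R))) (by
      rintro _ ⟨y, rfl⟩
      change Submodule.Quotient.mk ((u y, 0) : M × (Fin n → R)) = 0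
      rw [Submodule.Quotient.mk_eq_zero]
      refine ⟨g y, ?_⟩
      change (u (s (g y)), g y - g (s (g y))) = _
      rw [hsg', sub_self])
  let p : ((M × (Fin n → R)) ⧸ LinearMap.range U) →ₗ[R] (M ⧸ LinearMap.range u) :=
    (LinearMap.range U).liftQ ((LinearMap.range u).mkQ.comp (LinearMap.fst R M (Fin n → R))) (by
      rintro _ ⟨x, rfl⟩
      change Submodule.Quotient.mk (u (s x)) = 0
      rw [Submodule.Quotient.mk_eq_zero]
      exact LinearMap.mem_range_self _ _)
  refine Module.Projective.of_split i p ?_
  apply LinearMap.ext
  intro y
  obtain ⟨x, rfl⟩ := Submodule.Quotient.mk_surjective _ y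
  rfl

end Groth.Agent.S9286
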