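import Groth.Statements.S9284
import Groth.Agent.S9286
import Mathlib.LinearAlgebra.TensorProduct.Finiteness
import Mathlib.LinearAlgebra.Finsupp.Supported
import Mathlib.Algebra.Exact.Basic

set_option autoImplicit false
universe u
open CAlgX

namespace Groth.Agent.S9284

open TensorProduct

section aux

variable {R : Type u} [CommRing R]

/-- An injective map with projective cokernel has a retraction. -/
theorem exists_retraction_of_projective_quotient {N M : Type u} [AddCommGroup N] [Module R N]
    [AddCommGroup M] [Module R M] (u : N →ₗ[R] M) (hu : Function.Injective u)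
    [Module.Projective R (M ⧸ LinearMap.range u)] :
    ∃ v : M →ₗ[R] N, v.comp u = LinearMap.id := by
  have hex : Function.Exact u (Submodule.mkQ (LinearMap.range u)) :=
    LinearMap.exact_map_mkQ_range u
  have hsurj : Function.Surjective (Submodule.mkQ (LinearMap.range u)) :=
    Submodule.mkQ_surjective _
  have h12 := (hex.split_tfae hu hsurj).out 0 1
  refine h12.1 ?_
  obtain ⟨σ, hσ⟩ := Module.projective_lifting_property (Submodule.mkQ (LinearMap.range u))
    LinearMap.id hsurj
  exact ⟨σ, hσ⟩

/-- Core lemma: an injective map from a free module to a projective module admits, for every finite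
set of coordinates, a map back which is a retraction on the elements supported there. -/
theorem core (hP : (∀ I : Ideal R, I.FG → I ≠ ⊤ → I.annihilator ≠ ⊥))
    {ι : Type u} {M : Type u} [AddCommGroup M] [Module R M] [Module.Projective R M]
    (u : (ι →₀ R) →ₗ[R] M) (hu : Function.Injective u) (S : Finset ι) :
    ∃ v : M →ₗ[R] (ι →₀ R), ∀ f ∈ Finsupp.supported R R (S : Set ι), v (u f) = f := by
  classical
  obtain ⟨t, ht⟩ := Module.projective_def'.1 (inferInstance : Module.Projective R M)
  have htinj : Function.Injective t := by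
    intro a b hab
    have := congrArg (Finsupp.linearCombination R (id : M → M)) hab
    have h1 := LinearMap.congr_fun ht a
    have h2 := LinearMap.congr_fun ht b
    simp only [LinearMap.comp_apply, LinearMap.id_apply] at h1 h2
    rw [h1, h2] at this
    exact this
  let u' : (ι →₀ R) →ₗ[R] (M →₀ R) := t.comp u
  have hu' : Function.Injective u' := htinj.comp hu
  let T : Finset M := S.biUnion fun i => (u' (Finsupp.single i 1)).support
  have hmaps : ∀ f ∈ Finsupp.supported R R (S : Set ι), u' f ∈ Finsupp.supported R R (T : Set M) := by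
    have hle : Finsupp.supported R R (S : Set ι) ≤
        (Finsupp.supported R R (T : Set M)).comap u' := by
      rw [Finsupp.supported_eq_span_single, Submodule.span_le]
      rintro _ ⟨i, hi, rfl⟩
      change u' (Finsupp.single i 1) ∈ Finsupp.supported R R (T : Set M)
      rw [Finsupp.mem_supported]
      intro m hm
      exact Finset.mem_biUnion.2 ⟨i, hi, hm⟩
    exact fun f hf => hle hf
  let u₀ : Finsupp.supported R R (S : Set ι) →ₗ[R] Finsupp.supported R R (T : Set M) :=
    u'.restrict hmaps
  have hu₀ : Function.Injective u₀ := by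
    intro a b hab
    have h1 : u' a.1 = u' b.1 := congrArg Subtype.val hab
    exact Subtype.ext (hu' h1)
  haveI : Finite (S : Set ι) := S.finite_toSet.to_subtype
  haveI : Finite (T : Set M) := T.finite_toSet.to_subtype
  let eS : Finsupp.supported R R (S : Set ι) ≃ₗ[R] ((S : Set ι) →₀ R) :=
    Finsupp.supportedEquivFinsupp (M := R) (R := R) (S : Set ι)
  let eT : Finsupp.supported R R (T : Set M) ≃ₗ[R] ((T : Set M) →₀ R) :=
    Finsupp.supportedEquivFinsupp (M := R) (R := R) (T : Set M)
  let u₁ : ((S : Set ι) →₀ R) →ₗ[R] ((T : Set M) →₀ R) :=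
    (eT.toLinearMap.comp u₀).comp eS.symm.toLinearMap
  have hu₁ : Function.Injective u₁ := eT.injective.comp (hu₀.comp eS.symm.injective)
  haveI : Module.Projective R (((T : Set M) →₀ R) ⧸ LinearMap.range u₁) :=
    Groth.Agent.S9286.result R hP _ _ u₁ hu₁
  obtain ⟨v₁, hv₁⟩ := exists_retraction_of_projective_quotient u₁ hu₁
  let v₀ : Finsupp.supported R R (T : Set M) →ₗ[R] Finsupp.supported R R (S : Set ι) :=
    (eS.symm.toLinearMap.comp v₁).comp eT.toLinearMap
  have hv₀ : ∀ x, v₀ (u₀ x) = x := by
    intro x
    have h1 : v₁ (u₁ (eS x)) = eS x := LinearMap.congr_fun hv₁ (eS x)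
    have h2 : u₁ (eS x) = eT (u₀ x) := by
      change eT (u₀ (eS.symm (eS x))) = eT (u₀ x)
      rw [LinearEquiv.symm_apply_apply]
    change eS.symm (v₁ (eT (u₀ x))) = x
    rw [← h2, h1, LinearEquiv.symm_apply_apply]
  refine ⟨((Submodule.subtype _).comp v₀).comp ((Finsupp.restrictDom R R (T : Set M)).comp t), ?_⟩
  intro f hf
  have h1 : Finsupp.restrictDom R R (T : Set M) (t (u f)) = u₀ ⟨f, hf⟩ := by
    have h2 : t (u f) = (Submodule.subtype _) (u₀ ⟨f, hf⟩) := rfl
    rw [h2]
    exact LinearMap.congr_fun (Finsupp.restrictDom_comp_subtype (M := R) (R := R) (T : Set M)) _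
  have h3 : v₀ (u₀ ⟨f, hf⟩) = ⟨f, hf⟩ := hv₀ ⟨f, hf⟩
  simp only [LinearMap.comp_apply]
  rw [h1, h3]
  rfl

/-- For projective `N`, `M` and injective `u`, every finite set of elements of `N` is fixed by
`v ∘ u` for a suitable `v : M → N`. -/
theorem exists_partial_retraction (hP : (∀ I : Ideal R, I.FG → I ≠ ⊤ → I.annihilator ≠ ⊥))
    {N M : Type u} [AddCommGroup N] [Module R N] [Module.Projective R N] [AddCommGroup M]
    [Module R M] [Module.Projective R M] (u : N →ₗ[R] M) (hu : Function.Injective u)
    (T : Finset N) : ∃ v : M →ₗ[R] N, ∀ n ∈ T, v (u n) = n := by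
  classical
  obtain ⟨s, hs⟩ := Module.projective_def'.1 (inferInstance : Module.Projective R N)
  let π : (N →₀ R) →ₗ[R] N := Finsupp.linearCombination R (id : N → N)
  have hπs : ∀ n, π (s n) = n := fun n => LinearMap.congr_fun hs n
  -- the thickened map
  let up : (N →₀ R) →ₗ[R] (M × (N →₀ R)) :=
    LinearMap.prod (u.comp π) (LinearMap.id - s.comp π)
  have hup : Function.Injective up := by
    rw [injective_iff_map_eq_zero]
    intro f hf
    have h1 : u (π f) = 0 := congrArg Prod.fst hf
    have h2 : f - s (π f) = 0 := congrArg Prod.snd hf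
    have h3 : π f = 0 := hu (h1.trans (map_zero u).symm)
    rw [h3, map_zero, sub_zero] at h2
    exact h2
  let S : Finset N := T.biUnion fun n => (s n).support
  obtain ⟨vp, hvp⟩ := core hP up hup S
  refine ⟨(π.comp vp).comp (LinearMap.inl R M (N →₀ R)), ?_⟩
  intro n hn
  have hsupp : s n ∈ Finsupp.supported R R (S : Set N) := by
    rw [Finsupp.mem_supported]
    intro m hm
    exact Finset.mem_biUnion.2 ⟨n, hn, hm⟩
  have h1 : up (s n) = (u n, 0) := by
    change (u (π (s n)), s n - s (π (s n))) = (u n, 0)
    rw [hπs, sub_self]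
  have h2 := hvp (s n) hsupp
  simp only [LinearMap.comp_apply, LinearMap.inl_apply]
  rw [← h1, h2, hπs]

end aux

/-- Let R be a ring such that every proper finitely generated ideal of R has a nonzero annihilator, and
let u : N → M be an R-linear map between projective R-modules. Then u stays injective after
tensoring with every R-module exactly when u is injective. -/
theorem result (R : Type u) [CommRing R]
    (hP : (∀ I : Ideal R, I.FG → I ≠ ⊤ → I.annihilator ≠ ⊥))
    (N M : Type u) [AddCommGroup N] [Module R N] [Module.Projective R N] [AddCommGroup M]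
    [Module R M] [Module.Projective R M] (u : N →ₗ[R] M) :
    CAlgX.UniversallyInjective R u ↔ Function.Injective u := by
  classical
  constructor
  · intro h
    have h1 := h R
    intro a b hab
    have h2 : u.rTensor R (a ⊗ₜ[R] (1 : R)) = u.rTensor R (b ⊗ₜ[R] (1 : R)) := by
      simp only [LinearMap.rTensor_tmul, hab]
    have h3 := h1 h2
    have h4 := congrArg (TensorProduct.rid R N) h3
    simpa using h4
  · intro hu Q _ _
    rw [injective_iff_map_eq_zero]
    intro z hz
    obtain ⟨S, rfl⟩ := TensorProduct.exists_finset z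
    obtain ⟨v, hv⟩ := exists_partial_retraction hP u hu (S.image Prod.fst)
    have h1 : (v.rTensor Q) ((u.rTensor Q) (S.sum fun i => i.1 ⊗ₜ[R] i.2)) =
        S.sum fun i => i.1 ⊗ₜ[R] i.2 := by
      rw [map_sum, map_sum]
      refine Finset.sum_congr rfl fun i hi => ?_
      rw [LinearMap.rTensor_tmul, LinearMap.rTensor_tmul,
        hv i.1 (Finset.mem_image_of_mem Prod.fst hi)]
    rw [← h1, hz, map_zero]

end Groth.Agent.S9284
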