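import Groth.Statements.S9291
import Mathlib.RingTheory.Localization.Ideal
import Mathlib.RingTheory.Localization.Away.Basic

set_option autoImplicit false
universe u
open EtAlg

namespace Groth.Agent.S9291

theorem result (A : Type u) [CommRing A] (I : Ideal A) (u : (A ⧸ I)ˣ) :
    ∃ (A' : Type u) (_ : CommRing A') (_ : Algebra A A'), Algebra.Etale A A' ∧
      Function.Bijective (Ideal.quotientMap (Ideal.map (algebraMap A A') I) (algebraMap A A')
        Ideal.le_comap_map) ∧
      ∃ u' : A'ˣ, Ideal.Quotient.mk (Ideal.map (algebraMap A A') I) (u' : A') =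
        Ideal.quotientMap (Ideal.map (algebraMap A A') I) (algebraMap A A') Ideal.le_comap_map
          (u : A ⧸ I) := by
  obtain ⟨a, ha⟩ := Ideal.Quotient.mk_surjective (u : A ⧸ I)
  obtain ⟨b, hb⟩ := Ideal.Quotient.mk_surjective ((u⁻¹ : (A ⧸ I)ˣ) : A ⧸ I)
  have hab : ∀ n : ℕ, (a * b) ^ n - 1 ∈ I := by
    intro n
    rw [← Ideal.Quotient.eq_zero_iff_mem, map_sub, map_pow, map_mul, ha, hb, Units.mul_inv, one_pow,
      map_one, sub_self]
  have haunit : ∀ n : ℕ, IsUnit (Ideal.Quotient.mk I (a ^ n)) := by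
    intro n
    rw [map_pow, ha]
    exact (u ^ n).isUnit
  refine ⟨Localization.Away a, inferInstance, inferInstance,
    Algebra.Etale.of_isLocalizationAway a, ⟨?_, ?_⟩, ?_⟩
  · -- injective
    apply Ideal.quotientMap_injective'
    intro x hx
    rw [Ideal.mem_comap, IsLocalization.mem_map_algebraMap_iff (Submonoid.powers a)] at hx
    obtain ⟨⟨i, m⟩, hx⟩ := hx
    obtain ⟨n, hn⟩ := m.2
    replace hn : a ^ n = (m : A) := hn
    rw [← map_mul] at hx
    obtain ⟨c, hc⟩ := (IsLocalization.eq_iff_exists (Submonoid.powers a) (Localization.Away a)).1 hx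
    obtain ⟨k, hk⟩ := c.2
    replace hk : a ^ k = (c : A) := hk
    replace hc : (c : A) * (x * (m : A)) = (c : A) * (i : A) := hc
    -- a^k * (x * a^n) = a^k * i
    have h1 : a ^ k * (x * a ^ n) ∈ I := by
      rw [hk, hn, hc]
      exact Ideal.mul_mem_left _ _ i.2
    have h2 : Ideal.Quotient.mk I (a ^ (k + n)) * Ideal.Quotient.mk I x = 0 := by
      rw [← map_mul, Ideal.Quotient.eq_zero_iff_mem]
      have : a ^ (k + n) * x = a ^ k * (x * a ^ n) := by ring
      rw [this]; exact h1
    have h3 := (haunit (k + n)).mul_right_eq_zero.1 h2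
    exact Ideal.Quotient.eq_zero_iff_mem.1 h3
  · -- surjective
    intro z
    obtain ⟨z, rfl⟩ := Ideal.Quotient.mk_surjective z
    obtain ⟨x, m, rfl⟩ := IsLocalization.exists_mk'_eq (Submonoid.powers a) z
    obtain ⟨n, hn⟩ := m.2
    replace hn : a ^ n = (m : A) := hn
    refine ⟨Ideal.Quotient.mk I (x * b ^ n), ?_⟩
    rw [Ideal.quotientMap_mk, Ideal.Quotient.eq]
    -- multiply by the unit algebraMap (a^n)
    have hu : IsUnit (algebraMap A (Localization.Away a) (m : A)) :=
      IsLocalization.map_units _ m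
    have key : algebraMap A (Localization.Away a) (m : A) *
        (algebraMap A (Localization.Away a) (x * b ^ n) - IsLocalization.mk' _ x m) ∈
        Ideal.map (algebraMap A (Localization.Away a)) I := by
      rw [mul_sub, IsLocalization.mk'_spec', ← map_mul, ← map_sub]
      apply Ideal.mem_map_of_mem
      have : (m : A) * (x * b ^ n) - x = x * ((a * b) ^ n - 1) := by
        rw [← hn]; ring
      rw [this]
      exact Ideal.mul_mem_left _ _ (hab n)
    obtain ⟨w, hw⟩ := hu
    have := Ideal.mul_mem_left _ (↑w⁻¹ : Localization.Away a) key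
    rwa [← mul_assoc, ← hw, Units.inv_mul, one_mul] at this
  · refine ⟨(IsLocalization.Away.algebraMap_isUnit a).unit, ?_⟩
    rw [← ha, Ideal.quotientMap_mk]
    rfl

end Groth.Agent.S9291
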