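import Groth.Statements.S9292
import Mathlib

set_option autoImplicit false
universe u
open EtAlg

namespace Groth.Agent.S9292

section
variable {A : Type u} [CommRing A] (I : Ideal A)

theorem mem_map_away {a x : A} (h : a * x ∈ I) :
    algebraMap A (Localization.Away a) x ∈ Ideal.map (algebraMap A (Localization.Away a)) I := by
  have hu : IsUnit (algebraMap A (Localization.Away a) a) :=
    IsLocalization.Away.algebraMap_isUnit a
  have := Ideal.mem_map_of_mem (algebraMap A (Localization.Away a)) h
  rw [map_mul] at this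
  obtain ⟨w, hw⟩ := hu
  have h2 := Ideal.mul_mem_left _ (↑w⁻¹ : Localization.Away a) this
  rwa [← mul_assoc, ← hw, Units.inv_mul, one_mul] at h2

theorem exists_pow_mul_mem {a x : A}
    (hx : algebraMap A (Localization.Away a) x ∈
      Ideal.map (algebraMap A (Localization.Away a)) I) : ∃ k : ℕ, a ^ k * x ∈ I := by
  rw [IsLocalization.mem_map_algebraMap_iff (Submonoid.powers a)] at hx
  obtain ⟨⟨i, m⟩, hx⟩ := hx
  obtain ⟨n, hn⟩ := m.2
  replace hn : a ^ n = (m : A) := hn
  rw [← map_mul] at hx
  obtain ⟨c, hc⟩ := (IsLocalization.eq_iff_exists (Submonoid.powers a) (Localization.Away a)).1 hx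
  obtain ⟨k, hk⟩ := c.2
  replace hk : a ^ k = (c : A) := hk
  replace hc : (c : A) * (x * (m : A)) = (c : A) * (i : A) := hc
  refine ⟨k + n, ?_⟩
  have : a ^ (k + n) * x = a ^ k * (x * a ^ n) := by ring
  rw [this, hk, hn, hc]
  exact Ideal.mul_mem_left _ _ i.2

theorem exists_sub_mem {a : A} (h : a * (1 - a) ∈ I) (z : Localization.Away a) :
    ∃ x : A, z - algebraMap A _ x ∈ Ideal.map (algebraMap A (Localization.Away a)) I := by
  obtain ⟨x, m, rfl⟩ := IsLocalization.exists_mk'_eq (Submonoid.powers a) z
  obtain ⟨n, hn⟩ := m.2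
  replace hn : a ^ n = (m : A) := hn
  refine ⟨x, ?_⟩
  set J := Ideal.map (algebraMap A (Localization.Away a)) I with hJ
  have h1 : Ideal.Quotient.mk J (algebraMap A _ a) = 1 := by
    have := mem_map_away I h
    rw [← hJ, ← Ideal.Quotient.eq_zero_iff_mem, map_sub, map_sub, map_one, map_one,
      sub_eq_zero] at this
    exact this.symm
  rw [← Ideal.Quotient.eq_zero_iff_mem, map_sub, sub_eq_zero]
  have h2 : IsLocalization.mk' (Localization.Away a) x m * algebraMap A _ (m : A) =
      algebraMap A _ x := IsLocalization.mk'_spec _ x m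
  rw [← h2, map_mul, ← hn, map_pow, map_pow, h1, one_pow, mul_one]

theorem single_mem {ι : Type*} [Fintype ι] [DecidableEq ι] (R : ι → Type*)
    [∀ i, CommRing (R i)] [∀ i, Algebra A (R i)] (i : ι) (y : R i)
    (hy : y ∈ Ideal.map (algebraMap A (R i)) I) :
    Pi.single i y ∈ Ideal.map (algebraMap A (Π i, R i)) I := by
  unfold Ideal.map at hy
  induction hy using Submodule.span_induction with
  | mem y hy =>
    obtain ⟨c, hc, rfl⟩ := hy
    have : Pi.single i (algebraMap A (R i) c) =
        algebraMap A (Π i, R i) c * Pi.single i 1 := by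
      ext k
      by_cases h : k = i
      · subst h; simp
      · simp [h]
    rw [this]; exact Ideal.mul_mem_right _ _ (Ideal.mem_map_of_mem _ hc)
  | zero => simp
  | add y z _ _ hy hz => rw [Pi.single_add]; exact add_mem hy hz
  | smul r y _ hy =>
    have : Pi.single i (r • y) = Pi.single i r * Pi.single i y := by
      rw [smul_eq_mul, Pi.single_mul]
    rw [this]; exact Ideal.mul_mem_left _ _ hy

theorem mem_map_pi_iff {ι : Type*} [Fintype ι] [DecidableEq ι] (R : ι → Type*)
    [∀ i, CommRing (R i)] [∀ i, Algebra A (R i)] (x : Π i, R i) :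
    x ∈ Ideal.map (algebraMap A (Π i, R i)) I ↔
      ∀ i, x i ∈ Ideal.map (algebraMap A (R i)) I := by
  constructor
  · intro hx i
    have h1 := Ideal.mem_map_of_mem (Pi.evalRingHom R i) hx
    rw [Ideal.map_map] at h1
    exact h1
  · intro hx
    rw [← Finset.univ_sum_single x]
    exact Ideal.sum_mem _ fun i _ => single_mem I R i (x i) (hx i)

end


/-- Let A be a ring, I an ideal, and e_1, ..., e_n a complete system of orthogonal idempotents of A/I
(equivalently a finite disjoint open covering of Spec(A/I)). Then one can find an A-algebra A' that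
is étale over A, such that the induced map A/I → A'/IA' is bijective, together with a complete
system of orthogonal idempotents of A' lifting the e_j. -/
theorem result (A : Type u) [CommRing A] (I : Ideal A)
    (n : ℕ) (e : Fin n → A ⧸ I) (he : CompleteOrthogonalIdempotents e) :
    ∃ (A' : Type u) (_ : CommRing A') (_ : Algebra A A'), Algebra.Etale A A' ∧
      Function.Bijective (Ideal.quotientMap (Ideal.map (algebraMap A A') I) (algebraMap A A')
        Ideal.le_comap_map) ∧
      ∃ e' : Fin n → A', CompleteOrthogonalIdempotents e' ∧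
        ∀ j, Ideal.Quotient.mk (Ideal.map (algebraMap A A') I) (e' j) =
          Ideal.quotientMap (Ideal.map (algebraMap A A') I) (algebraMap A A') Ideal.le_comap_map
            (e j) := by
  classical
  choose a ha using fun j => Ideal.Quotient.mk_surjective (e j)
  have h_idem : ∀ j, a j * (1 - a j) ∈ I := by
    intro j
    rw [← Ideal.Quotient.eq_zero_iff_mem, map_mul, map_sub, map_one, ha, mul_sub, mul_one,
      (he.idem j).eq, sub_self]
  have h_orth : ∀ i j, i ≠ j → a i * a j ∈ I := by
    intro i j hij
    rw [← Ideal.Quotient.eq_zero_iff_mem, map_mul, ha, ha]; exact he.ortho hij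
  let R : Fin n → Type u := fun j => Localization.Away (a j)
  have F1 : ∀ j, Ideal.Quotient.mk (Ideal.map (algebraMap A (R j)) I) (algebraMap A (R j) (a j)) = 1 := by
    intro j
    have := mem_map_away I (h_idem j)
    rw [← Ideal.Quotient.eq_zero_iff_mem, map_sub, map_sub, map_one, map_one,
      sub_eq_zero] at this
    exact this.symm
  have F2 : ∀ i j, i ≠ j →
      Ideal.Quotient.mk (Ideal.map (algebraMap A (R j)) I) (algebraMap A (R j) (a i)) = 0 := by
    intro i j hij
    rw [Ideal.Quotient.eq_zero_iff_mem]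
    exact mem_map_away I (h_orth j i hij.symm)
  refine ⟨Π j, R j, inferInstance, inferInstance, inferInstance, ⟨?_, ?_⟩, ?_⟩
  · -- injective
    apply Ideal.quotientMap_injective'
    intro x hx
    rw [Ideal.mem_comap, mem_map_pi_iff] at hx
    have h0 : ∀ j, e j * Ideal.Quotient.mk I x = 0 := by
      intro j
      obtain ⟨k, hk⟩ := exists_pow_mul_mem I (hx j)
      have hk' : a j ^ (k + 1) * x ∈ I := by
        rw [pow_succ', mul_assoc]; exact Ideal.mul_mem_left _ _ hk
      rw [← Ideal.Quotient.eq_zero_iff_mem, map_mul, map_pow, ha, (he.idem j).pow_succ_eq] at hk'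
      exact hk'
    rw [← Ideal.Quotient.eq_zero_iff_mem, ← one_mul (Ideal.Quotient.mk I x), ← he.complete,
      Finset.sum_mul]
    exact Finset.sum_eq_zero fun j _ => h0 j
  · -- surjective
    intro z
    obtain ⟨z, rfl⟩ := Ideal.Quotient.mk_surjective z
    choose x hx using fun j => exists_sub_mem I (h_idem j) (z j)
    refine ⟨Ideal.Quotient.mk I (∑ i, a i * x i), ?_⟩
    rw [Ideal.quotientMap_mk, Ideal.Quotient.eq, mem_map_pi_iff]
    intro j
    have hxj := hx j
    rw [← Ideal.Quotient.eq_zero_iff_mem, map_sub, sub_eq_zero] at hxj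
    rw [← Ideal.Quotient.eq_zero_iff_mem, Pi.sub_apply, map_sub, sub_eq_zero]
    rw [hxj]
    show Ideal.Quotient.mk _ (algebraMap A (R j) (∑ i, a i * x i)) = _
    rw [map_sum, map_sum, Finset.sum_eq_single j]
    · rw [map_mul, map_mul, F1, one_mul]
    · intro i _ hij
      rw [map_mul, map_mul, F2 i j hij, zero_mul]
    · intro h; exact absurd (Finset.mem_univ j) h
  · refine ⟨fun j => Pi.single j 1, CompleteOrthogonalIdempotents.single R, ?_⟩
    intro j
    rw [← ha j, Ideal.quotientMap_mk, Ideal.Quotient.eq, mem_map_pi_iff]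
    intro k
    rw [← Ideal.Quotient.eq_zero_iff_mem, Pi.sub_apply, map_sub, sub_eq_zero]
    show Ideal.Quotient.mk _ ((Pi.single j 1 : Π j, R j) k) =
      Ideal.Quotient.mk _ (algebraMap A (R k) (a j))
    by_cases hkj : k = j
    · subst hkj
      rw [Pi.single_eq_same, F1, map_one]
    · rw [Pi.single_eq_of_ne hkj, F2 j k (Ne.symm hkj), map_zero]

end Groth.Agent.S9292
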