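import Groth.Statements.S9300
import Mathlib.RingTheory.Ideal.Prime
import Mathlib.RingTheory.Ideal.Maximal

set_option autoImplicit false
universe u
open CAlg

namespace Groth.Agent.S9300

theorem result (A B : Type u) [CommRing A] [IsDomain A]
    [CommRing B] [IsDomain B] (φ : A →+* B)
    (h : ∃! q : PrimeSpectrum B, Ideal.comap φ q.asIdeal = ⊥) (J : Ideal B) (hJ : J ≠ ⊥) :
    Ideal.comap φ J ≠ ⊥ := by
  intro hcomap
  obtain ⟨q, hq, huniq⟩ := h
  -- φ is injective
  have hker : RingHom.ker φ = ⊥ := by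
    rw [eq_bot_iff]
    intro a ha
    have : a ∈ Ideal.comap φ q.asIdeal := by
      rw [Ideal.mem_comap, (RingHom.mem_ker).1 ha]
      exact Ideal.zero_mem _
    rw [hq] at this
    exact this
  -- the zero ideal is the unique prime over zero
  let z : PrimeSpectrum B := ⟨⊥, Ideal.isPrime_bot⟩
  have hz : Ideal.comap φ z.asIdeal = ⊥ := by
    change Ideal.comap φ ⊥ = ⊥
    exact hker
  have hqz : z = q := huniq z hz
  -- multiplicative set of images of nonzero elements
  let M : Submonoid B := (nonZeroDivisors A).map (φ : A →* B)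
  have hdisj : Disjoint (J : Set B) (M : Set B) := by
    rw [Set.disjoint_left]
    rintro b hbJ ⟨a, ha, rfl⟩
    have : a ∈ Ideal.comap φ J := hbJ
    rw [hcomap] at this
    exact (nonZeroDivisors.ne_zero ha) this
  obtain ⟨P, hP, hJP, hPM⟩ := Ideal.exists_le_prime_disjoint J M hdisj
  let P' : PrimeSpectrum B := ⟨P, hP⟩
  have hP' : Ideal.comap φ P'.asIdeal = ⊥ := by
    rw [eq_bot_iff]
    intro a ha
    by_contra hne
    have ha0 : a ≠ 0 := hne
    have haM : φ a ∈ (M : Set B) := ⟨a, mem_nonZeroDivisors_of_ne_zero ha0, rfl⟩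
    exact (Set.disjoint_left.1 hPM) ha haM
  have : P' = q := huniq P' hP'
  have hPbot : P = ⊥ := by
    have := congrArg PrimeSpectrum.asIdeal (this.trans hqz.symm)
    exact this
  apply hJ
  rw [eq_bot_iff, ← hPbot]
  exact hJP

end Groth.Agent.S9300
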