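import Groth.Statements.S9301
import Mathlib.RingTheory.Localization.Integral
import Mathlib.RingTheory.Localization.BaseChange
import Mathlib.RingTheory.Ideal.GoingUp
import Mathlib.RingTheory.Flat.TorsionFree

set_option autoImplicit false
universe u
open CAlg

namespace Groth.Agent.S9301

section helpers

open TensorProduct

theorem isAlgebraic_of_quasiFinite (A B₀ : Type u) [CommRing A] [IsDomain A]
    [CommRing B₀] [Algebra A B₀] [Algebra.QuasiFinite A B₀] (b₀ : B₀) :
    ∃ q : Polynomial A, q ≠ 0 ∧ Polynomial.aeval b₀ q = 0 := by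
  let K := FractionRing A
  have hfin : Module.Finite K (K ⊗[A] B₀) := Module.Finite.of_quasiFinite
  have hint : IsIntegral K ((1 : K) ⊗ₜ[A] b₀) := Algebra.IsIntegral.isIntegral _
  have halgK : IsAlgebraic K ((1 : K) ⊗ₜ[A] b₀) := hint.isAlgebraic
  have halgA : IsAlgebraic A ((1 : K) ⊗ₜ[A] b₀) :=
    (IsFractionRing.isAlgebraic_iff A K (K ⊗[A] B₀)).mpr halgK
  obtain ⟨p, hp0, hp⟩ := halgA
  have h1 : Polynomial.aeval ((1 : K) ⊗ₜ[A] b₀) p = (1 : K) ⊗ₜ[A] (Polynomial.aeval b₀ p) := by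
    have := Polynomial.aeval_algHom_apply
      (Algebra.TensorProduct.includeRight : B₀ →ₐ[A] K ⊗[A] B₀) b₀ p
    simpa using this
  rw [h1] at hp
  have h2 : TensorProduct.mk A K B₀ 1 (Polynomial.aeval b₀ p) = 0 := hp
  rw [IsLocalizedModule.eq_zero_iff (nonZeroDivisors A)] at h2
  obtain ⟨a', ha'⟩ := h2
  refine ⟨Polynomial.C (a' : A) * p, ?_, ?_⟩
  · exact mul_ne_zero (Polynomial.C_ne_zero.mpr (nonZeroDivisors.coe_ne_zero a')) hp0
  · rw [map_mul, Polynomial.aeval_C, ← Algebra.smul_def]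
    exact ha'

end helpers

/-- Let A and B be domains and A → B a flat ring map which is the localization of a quasi-finite ring
map A → B₀ (of finite type with finite fibres). Then every nonzero ideal of B has nonzero preimage
in A. -/
theorem result (A B₀ B : Type u) [CommRing A] [IsDomain A]
    [CommRing B₀] [CommRing B] [IsDomain B] [Algebra A B₀] [Algebra.FiniteType A B₀]
    [Algebra.QuasiFinite A B₀] (S : Submonoid B₀) [Algebra B₀ B] [IsLocalization S B] [Algebra A B]
    [IsScalarTower A B₀ B] [Module.Flat A B] (J : Ideal B) (hJ : J ≠ ⊥) :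
    Ideal.comap (algebraMap A B) J ≠ ⊥ := by
  obtain ⟨b, hbJ, hb0⟩ := Submodule.exists_mem_ne_zero_of_ne_bot hJ
  obtain ⟨⟨b₀, s⟩, rfl⟩ := IsLocalization.mk'_surjective S b
  have hspec : IsLocalization.mk' B b₀ s * algebraMap B₀ B s = algebraMap B₀ B b₀ :=
    IsLocalization.mk'_spec B b₀ s
  have hcJ : algebraMap B₀ B b₀ ∈ J := by
    rw [← hspec]
    exact J.mul_mem_right _ hbJ
  have hc0 : algebraMap B₀ B b₀ ≠ 0 := by
    rw [← hspec]
    exact mul_ne_zero hb0 (IsLocalization.map_units B s).ne_zero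
  obtain ⟨q, hq0, hq⟩ := isAlgebraic_of_quasiFinite A B₀ b₀
  have halg : IsAlgebraic A (algebraMap B₀ B b₀) := by
    refine ⟨q, hq0, ?_⟩
    rw [Polynomial.aeval_algebraMap_apply, hq, map_zero]
  exact Ideal.comap_ne_bot_of_algebraic_mem hc0 hcJ halg

end Groth.Agent.S9301
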