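import Groth.Statements.S9302
import Mathlib.Algebra.Polynomial.Identities
import Mathlib.Algebra.Polynomial.Div

set_option autoImplicit false
universe u
open CategoryTheory
open EtAlg

namespace Groth.Agent.S9302

open Polynomial Limits

section Alg

variable {R : Type*} [CommRing R] (I : Ideal R) (hjac : I ≤ Ideal.jacobson ⊥)

include hjac in
/-- uniqueness of Hensel roots in a given residue class -/
lemma root_unique (f : R[X]) (a a' : R) (ha : f.IsRoot a) (ha' : f.IsRoot a') (hd : a' - a ∈ I)
    (hu : IsUnit (Ideal.Quotient.mk I (f.derivative.eval a))) : a' = a := by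
  obtain ⟨k, hk⟩ := Polynomial.binomExpansion f a (a' - a)
  rw [add_sub_cancel, ha'.eq_zero, ha.eq_zero, zero_add] at hk
  have h1 : (a' - a) * (f.derivative.eval a + k * (a' - a)) = 0 := by
    rw [hk]; ring
  have h2 : IsUnit (f.derivative.eval a + k * (a' - a)) := by
    have := isLocalHom_of_le_jacobson_bot I hjac
    apply isUnit_of_map_unit (Ideal.Quotient.mk I)
    have h3 : Ideal.Quotient.mk I (f.derivative.eval a + k * (a' - a)) =
        Ideal.Quotient.mk I (f.derivative.eval a) := by
      rw [map_add, add_eq_left, Ideal.Quotient.eq_zero_iff_mem]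
      exact I.mul_mem_left k hd
    rw [h3]
    exact hu
  exact sub_eq_zero.1 (h2.mul_left_eq_zero.1 h1)

end Alg

section Lim

variable {J : Type u} [Preorder J] (F : J ⥤ CommRingCat.{u})

lemma exists_of_compatible (a : ∀ j, F.obj j)
    (h : ∀ (i j : J) (φ : i ⟶ j), (F.map φ).hom (a i) = a j) :
    ∃ x : (limit F : CommRingCat.{u}), ∀ j, (limit.π F j).hom x = a j := by
  let hl := isLimitOfPreserves (forget CommRingCat.{u}) (limit.isLimit F)
  let s : (F ⋙ forget CommRingCat.{u}).sections := ⟨fun j => a j, fun {i j} φ => h i j φ⟩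
  refine ⟨(Types.isLimitEquivSections hl).symm s, fun j => ?_⟩
  exact Types.isLimitEquivSections_symm_apply hl s j

lemma limit_ext' (x y : (limit F : CommRingCat.{u}))
    (h : ∀ j, (limit.π F j).hom x = (limit.π F j).hom y) : x = y :=
  Concrete.limit_ext F x y h

lemma π_compat (i j : J) (φ : i ⟶ j) (x : (limit F : CommRingCat.{u})) :
    (F.map φ).hom ((limit.π F i).hom x) = (limit.π F j).hom x := by
  have := ConcreteCategory.congr_hom (limit.w F φ) x
  exact this

end Lim

/-- Henselian pairs are preserved under limits: for an inverse system (A_j, I_j) of henselian pairs over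
a preordered set J, the limit A = lim A_j with the ideal I = lim I_j (elements all of whose
projections lie in the I_j) is a henselian pair. -/
theorem result (J : Type u) [Preorder J] (F : J ⥤ CommRingCat.{u})
    (I : ∀ j : J, Ideal (F.obj j))
    (hI : ∀ (i j : J) (φ : i ⟶ j), Ideal.map (F.map φ).hom (I i) ≤ I j)
    (h : ∀ j : J, HenselianRing (F.obj j) (I j)) :
    HenselianRing ((Limits.limit F : CommRingCat.{u}) : Type u)
      (⨅ j : J, Ideal.comap (Limits.limit.π F j).hom (I j)) := by
  set A : CommRingCat.{u} := Limits.limit F with hA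
  set II : Ideal A := ⨅ j : J, Ideal.comap (Limits.limit.π F j).hom (I j) with hII
  have hmem : ∀ x : A, x ∈ II ↔ ∀ j, (limit.π F j).hom x ∈ I j := by
    intro x
    rw [hII, Ideal.mem_iInf]
    rfl
  have hImap : ∀ (i j : J) (φ : i ⟶ j) (y : F.obj i), y ∈ I i → (F.map φ).hom y ∈ I j :=
    fun i j φ y hy => hI i j φ (Ideal.mem_map_of_mem _ hy)
  constructor
  · -- I ≤ jacobson ⊥
    intro x hx
    rw [Ideal.mem_jacobson_bot]
    intro y
    have hu : ∀ j, IsUnit ((limit.π F j).hom (x * y + 1)) := by
      intro j
      rw [map_add, map_mul, map_one]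
      exact (Ideal.mem_jacobson_bot.1 ((h j).jac ((hmem x).1 hx j))) _
    obtain ⟨v, hv⟩ := exists_of_compatible F (fun j => ((hu j).unit⁻¹ : (F.obj j)ˣ).1) (by
      intro i j φ
      have h1 : (F.map φ).hom ((limit.π F i).hom (x * y + 1)) = (limit.π F j).hom (x * y + 1) :=
        π_compat F i j φ _
      have h2 : (F.map φ).hom (((hu i).unit⁻¹ : (F.obj i)ˣ).1) * (limit.π F j).hom (x * y + 1) =
          1 := by
        rw [← h1, ← map_mul, (hu i).val_inv_mul, map_one]
      have h3 : (((hu j).unit⁻¹ : (F.obj j)ˣ).1) * (limit.π F j).hom (x * y + 1) = 1 :=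
        (hu j).val_inv_mul
      calc (F.map φ).hom (((hu i).unit⁻¹ : (F.obj i)ˣ).1)
          = (F.map φ).hom (((hu i).unit⁻¹ : (F.obj i)ˣ).1) *
              ((limit.π F j).hom (x * y + 1) * (((hu j).unit⁻¹ : (F.obj j)ˣ).1)) := by
            rw [mul_comm ((limit.π F j).hom (x * y + 1)), h3, mul_one]
        _ = (((hu j).unit⁻¹ : (F.obj j)ˣ).1) := by rw [← mul_assoc, h2, one_mul])
    refine IsUnit.of_mul_eq_one v ?_
    apply limit_ext' F
    intro j
    rw [map_mul, hv j, map_one]
    exact (hu j).mul_val_inv
  · -- Hensel lifting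
    intro f hf a₀ ha₀ hder
    -- unit mod II gives units mod I j
    obtain ⟨b, hb⟩ : ∃ b : A, f.derivative.eval a₀ * b - 1 ∈ II := by
      obtain ⟨c, hc⟩ := hder.exists_right_inv
      obtain ⟨b, rfl⟩ := Ideal.Quotient.mk_surjective c
      refine ⟨b, ?_⟩
      rw [← Ideal.Quotient.eq_zero_iff_mem, map_sub, map_mul, map_one, hc, sub_self]
    have hroot : ∀ j, ∃ a : F.obj j, (f.map (limit.π F j).hom).IsRoot a ∧
        a - (limit.π F j).hom a₀ ∈ I j := by
      intro j
      refine (h j).is_henselian (f.map (limit.π F j).hom) (hf.map _) ((limit.π F j).hom a₀) ?_ ?_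
      · rw [Polynomial.eval_map, Polynomial.eval₂_hom]
        exact (hmem _).1 ha₀ j
      · rw [Polynomial.derivative_map, Polynomial.eval_map, Polynomial.eval₂_hom]
        have h1 := (hmem _).1 hb j
        rw [map_sub, map_mul, map_one] at h1
        refine IsUnit.of_mul_eq_one (Ideal.Quotient.mk (I j) ((limit.π F j).hom b)) ?_
        rw [← map_mul, ← sub_eq_zero, ← map_one (Ideal.Quotient.mk (I j)), ← map_sub,
          Ideal.Quotient.eq_zero_iff_mem]
        exact h1
    choose a har hac using hroot
    have hder_j : ∀ j, IsUnit (Ideal.Quotient.mk (I j)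
        ((f.map (limit.π F j).hom).derivative.eval (a j))) := by
      intro j
      -- derivative at a j is congruent to derivative at π a₀
      have h1 : (f.map (limit.π F j).hom).derivative.eval (a j) -
          (f.map (limit.π F j).hom).derivative.eval ((limit.π F j).hom a₀) ∈ I j := by
        obtain ⟨q, hq⟩ := Polynomial.sub_dvd_eval_sub (a j) ((limit.π F j).hom a₀)
          (f.map (limit.π F j).hom).derivative
        rw [hq]
        exact (I j).mul_mem_right _ (hac j)
      have h2 : Ideal.Quotient.mk (I j) ((f.map (limit.π F j).hom).derivative.eval (a j)) =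
          Ideal.Quotient.mk (I j)
            ((f.map (limit.π F j).hom).derivative.eval ((limit.π F j).hom a₀)) :=
        Ideal.Quotient.eq.2 h1
      rw [h2, Polynomial.derivative_map, Polynomial.eval_map, Polynomial.eval₂_hom]
      have h3 := (hmem _).1 hb j
      rw [map_sub, map_mul, map_one] at h3
      refine IsUnit.of_mul_eq_one (Ideal.Quotient.mk (I j) ((limit.π F j).hom b)) ?_
      rw [← map_mul, ← sub_eq_zero, ← map_one (Ideal.Quotient.mk (I j)), ← map_sub,
        Ideal.Quotient.eq_zero_iff_mem]
      exact h3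
    obtain ⟨x, hx⟩ := exists_of_compatible F a (by
      intro i j φ
      refine root_unique (I j) (h j).jac (f.map (limit.π F j).hom) (a j) _ (har j) ?_ ?_ (hder_j j)
      · -- image of a root is a root
        have h1 : f.map (limit.π F j).hom = (f.map (limit.π F i).hom).map (F.map φ).hom := by
          rw [Polynomial.map_map]
          congr 1
          ext y
          exact (π_compat F i j φ y).symm
        rw [Polynomial.IsRoot, h1, Polynomial.eval_map, Polynomial.eval₂_hom, (har i).eq_zero,
          map_zero]
      · have h2 : (F.map φ).hom (a i) - a j =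
            (F.map φ).hom (a i - (limit.π F i).hom a₀) - (a j - (limit.π F j).hom a₀) := by
          rw [map_sub, π_compat F i j φ a₀]; ring
        rw [h2]
        exact (I j).sub_mem (hImap i j φ _ (hac i)) (hac j))
    refine ⟨x, ?_, ?_⟩
    · apply limit_ext' F
      intro j
      rw [map_zero, ← Polynomial.eval₂_hom, ← Polynomial.eval_map, hx j]
      exact (har j)
    · rw [hmem]
      intro j
      rw [map_sub, hx j]
      exact hac j

end Groth.Agent.S9302
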