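import Groth.Statements.S9303
import Mathlib

set_option autoImplicit false
universe u
open CAlg

namespace Groth.Agent.S9303

section Generic

variable {A : Type u} [CommRing A] (f : A) (D : Type u) [CommRing D] [Algebra A D]

/-- The localization of an `A`-algebra `D` at the powers of `f`. -/
abbrev Loc : Type u := Localization (Algebra.algebraMapSubmonoid D (Submonoid.powers f))

lemma phi_algebraMap (a : A) :
    algebraMap (Localization.Away f) (Loc f D) (algebraMap A (Localization.Away f) a) =
      algebraMap D (Loc f D) (algebraMap A D a) := by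
  rw [← IsScalarTower.algebraMap_apply, ← IsScalarTower.algebraMap_apply]

lemma algebraMap_eq_zero_iff (d : D) :
    algebraMap D (Loc f D) d = 0 ↔ ∃ m : ℕ, algebraMap A D (f ^ m) * d = 0 := by
  rw [IsLocalization.map_eq_zero_iff (Algebra.algebraMapSubmonoid D (Submonoid.powers f))]
  constructor
  · rintro ⟨⟨c, hc⟩, h⟩
    obtain ⟨y, ⟨m, rfl⟩, rfl⟩ := hc
    exact ⟨m, h⟩
  · rintro ⟨m, h⟩
    exact ⟨⟨algebraMap A D (f ^ m), Algebra.mem_algebraMapSubmonoid_of_mem
      (⟨f ^ m, m, rfl⟩ : Submonoid.powers f)⟩, h⟩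

lemma away_eq_zero_iff (a : A) :
    algebraMap A (Localization.Away f) a = 0 ↔ ∃ m : ℕ, f ^ m * a = 0 := by
  rw [IsLocalization.map_eq_zero_iff (Submonoid.powers f)]
  constructor
  · rintro ⟨⟨c, m, rfl⟩, h⟩
    exact ⟨m, h⟩
  · rintro ⟨m, h⟩
    exact ⟨⟨f ^ m, m, rfl⟩, h⟩

variable {f D}

/-- The kernel of `A_f → D_f` is cut out by the idempotent. -/
lemma ker_iff (e : Localization.Away f) (he : IsIdempotentElem e)
    [IsLocalization.Away e (Loc f D)] (a : A) :
    (∃ m : ℕ, algebraMap A D (f ^ m * a) = 0) ↔ e * algebraMap A (Localization.Away f) a = 0 := by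
  have h1 : (∃ m : ℕ, algebraMap A D (f ^ m * a) = 0) ↔
      algebraMap D (Loc f D) (algebraMap A D a) = 0 := by
    rw [algebraMap_eq_zero_iff]
    simp only [map_mul]
  rw [h1, ← phi_algebraMap, IsLocalization.map_eq_zero_iff (Submonoid.powers e)]
  constructor
  · rintro ⟨⟨c, n, rfl⟩, h⟩
    have h' : e ^ n * algebraMap A (Localization.Away f) a = 0 := h
    rcases n with _ | n
    · rw [pow_zero, one_mul] at h'
      rw [h', mul_zero]
    · rwa [he.pow_succ_eq] at h'
  · intro h
    exact ⟨⟨e, 1, pow_one e⟩, h⟩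

/-- `A_f → D_f` is surjective. -/
lemma phi_surjective (e : Localization.Away f) (he : IsIdempotentElem e)
    [IsLocalization.Away e (Loc f D)] :
    Function.Surjective (algebraMap (Localization.Away f) (Loc f D)) := by
  intro z
  obtain ⟨n, y, hy⟩ := IsLocalization.Away.surj e z
  have hu : IsUnit (algebraMap (Localization.Away f) (Loc f D) e) :=
    IsLocalization.Away.algebraMap_isUnit e
  have hid : IsIdempotentElem (algebraMap (Localization.Away f) (Loc f D) e) := he.map _
  have h1 : algebraMap (Localization.Away f) (Loc f D) e = 1 := by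
    have := hid.eq
    exact hu.mul_left_cancel (by rw [this, mul_one])
  rw [h1, one_pow, mul_one] at hy
  exact ⟨y, hy.symm⟩

end Generic

/-- Let A be a ring, I a finitely generated ideal and A → C a ring map such that for every f ∈ I the map
A_f → C_f is the localization of A_f at an idempotent. Then there is a surjection A → C' (C' = A/K
for an ideal K) such that A_f → (C × C')_f is an isomorphism for every f ∈ I. -/
theorem result (A : Type u) [CommRing A]
    (I : Ideal A) (hI : I.FG) (C : Type u) [CommRing C] [Algebra A C]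
    (h : ∀ f ∈ I, ∃ e : Localization.Away f, IsIdempotentElem e ∧
      IsLocalization.Away e (Localization (Algebra.algebraMapSubmonoid C (Submonoid.powers f)))) :
    ∃ K : Ideal A, ∀ f ∈ I, Function.Bijective
      (algebraMap (Localization.Away f)
        (Localization (Algebra.algebraMapSubmonoid (C × (A ⧸ K)) (Submonoid.powers f)))) := by
  classical
  obtain ⟨s, hs⟩ := hI
  have hsI : ∀ g ∈ s, g ∈ I := fun g hg => hs ▸ Ideal.subset_span hg
  choose e he hloc using h
  -- the ideal `K`
  let Kg : ∀ g : A, Localization.Away g → Ideal A := fun g ε =>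
    (Ideal.span {ε}).comap (algebraMap A (Localization.Away g))
  have mem_Kg : ∀ (g : A) (ε : Localization.Away g), IsIdempotentElem ε → ∀ a : A,
      a ∈ Kg g ε ↔ (1 - ε) * algebraMap A (Localization.Away g) a = 0 := by
    intro g ε hε a
    change algebraMap A (Localization.Away g) a ∈ Ideal.span {ε} ↔ _
    rw [Ideal.mem_span_singleton']
    constructor
    · rintro ⟨y, hy⟩
      rw [← hy]
      have : (1 - ε) * (y * ε) = y * (ε - ε * ε) := by ring
      rw [this, hε.eq, sub_self, mul_zero]
    · intro h0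
      refine ⟨algebraMap A (Localization.Away g) a, ?_⟩
      have : algebraMap A (Localization.Away g) a * ε =
          algebraMap A (Localization.Away g) a - (1 - ε) * algebraMap A (Localization.Away g) a := by
        ring
      rw [this, h0, sub_zero]
  let K : Ideal A := ⨅ g : s, Kg g.1 (e g.1 (hsI g.1 g.2))
  have mem_K : ∀ a : A, a ∈ K ↔ ∀ g (hg : g ∈ s),
      (1 - e g (hsI g hg)) * algebraMap A (Localization.Away g) a = 0 := by
    intro a
    change a ∈ ⨅ g : s, Kg g.1 (e g.1 (hsI g.1 g.2)) ↔ _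
    rw [Ideal.mem_iInf]
    constructor
    · intro h g hg
      exact (mem_Kg g _ (he g _) a).mp (h ⟨g, hg⟩)
    · intro h g
      exact (mem_Kg g.1 _ (he g.1 _) a).mpr (h g.1 g.2)
  refine ⟨K, ?_⟩
  intro f hf
  have := hloc f hf
  -- elements of `ker (A → C)` are killed by the idempotents
  have J1 : ∀ b : A, algebraMap A C b = 0 → ∀ g (hg : g ∈ I),
      e g hg * algebraMap A (Localization.Away g) b = 0 := by
    intro b hb g hg
    have := hloc g hg
    exact (ker_iff (D := C) (e g hg) (he g hg) b).mp ⟨0, by rw [pow_zero, one_mul, hb]⟩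
  -- elements of `ker (A → C) ∩ K` are `f`-power torsion
  have Z : ∀ b : A, algebraMap A C b = 0 → b ∈ K → ∃ N : ℕ, f ^ N * b = 0 := by
    intro b hb hbK
    let Nn : Ideal A := (Submodule.span A {b}).annihilator
    have hg : ∀ g ∈ s, g ∈ Nn.radical := by
      intro g hg
      have h1 := J1 b hb g (hsI g hg)
      have h2 := (mem_K b).mp hbK g hg
      have h3 : algebraMap A (Localization.Away g) b = 0 := by
        have : algebraMap A (Localization.Away g) b =
            e g (hsI g hg) * algebraMap A _ b + (1 - e g (hsI g hg)) * algebraMap A _ b := by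
          ring
        rw [this, h1, h2, add_zero]
      obtain ⟨m, hm⟩ := (away_eq_zero_iff g b).mp h3
      refine ⟨m, ?_⟩
      rw [Submodule.mem_annihilator_span_singleton]
      exact hm
    have hle : I ≤ Nn.radical := by rw [← hs]; exact Ideal.span_le.mpr hg
    obtain ⟨N, hN⟩ := hle hf
    exact ⟨N, (Submodule.mem_annihilator_span_singleton _ _).mp hN⟩
  -- write the idempotent at `f` as a fraction
  obtain ⟨k, ε, hε⟩ := IsLocalization.Away.surj f (e f hf)
  obtain ⟨M₁, hM₁⟩ : ∃ M₁ : ℕ, algebraMap A C (f ^ M₁ * (ε - f ^ k)) = 0 := by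
    apply (ker_iff (D := C) (e f hf) (he f hf) (ε - f ^ k)).mpr
    rw [map_sub, map_pow, ← hε]
    have h0 := (he f hf).eq
    have h1 : e f hf * (e f hf * algebraMap A _ f ^ k - algebraMap A _ f ^ k) =
        (e f hf * e f hf - e f hf) * algebraMap A _ f ^ k := by ring
    rw [h1, h0, sub_self, zero_mul]
  have Kpart : ∀ g (hg : g ∈ s), ∃ M : ℕ, ∀ M' ≥ M,
      (1 - e g (hsI g hg)) * algebraMap A (Localization.Away g) (f ^ M' * ε) = 0 := by
    intro g hg
    have hgI := hsI g hg
    have := hloc g hgI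
    obtain ⟨kg, εg, hεg⟩ := IsLocalization.Away.surj g (e g hgI)
    have h1 : e g hgI * algebraMap A (Localization.Away g) (g ^ kg - εg) = 0 := by
      rw [map_sub, map_pow, ← hεg]
      have h0 := (he g hgI).eq
      have h1 : e g hgI * (algebraMap A _ g ^ kg - e g hgI * algebraMap A _ g ^ kg) =
          (e g hgI - e g hgI * e g hgI) * algebraMap A _ g ^ kg := by ring
      rw [h1, h0, sub_self, zero_mul]
    obtain ⟨m, hm⟩ := (ker_iff (D := C) (e g hgI) (he g hgI) (g ^ kg - εg)).mpr h1
    have h2 := J1 _ hm f hf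
    have h3 : algebraMap A (Localization.Away f) (ε * (g ^ m * (g ^ kg - εg))) = 0 := by
      rw [map_mul, ← hε, mul_comm (e f hf) _, mul_assoc, h2, mul_zero]
    obtain ⟨M, hM⟩ := (away_eq_zero_iff f _).mp h3
    refine ⟨M, fun M' hM' => ?_⟩
    have h5 : algebraMap A (Localization.Away g) (g ^ kg - εg) =
        algebraMap A _ g ^ kg * (1 - e g hgI) := by
      rw [map_sub, map_pow, ← hεg]; ring
    have h4 : algebraMap A (Localization.Away g) (f ^ M' * ε) *
        (algebraMap A _ g ^ m * (algebraMap A _ g ^ kg * (1 - e g hgI))) = 0 := by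
      rw [← h5, ← map_pow, ← map_mul, ← map_mul]
      have h6 : f ^ M' * ε * (g ^ m * (g ^ kg - εg)) =
          f ^ (M' - M) * (f ^ M * (ε * (g ^ m * (g ^ kg - εg)))) := by
        rw [← mul_assoc (f ^ (M' - M)), ← pow_add, Nat.sub_add_cancel hM']; ring
      rw [h6, hM, mul_zero, map_zero]
    have hug : IsUnit (algebraMap A (Localization.Away g) g) :=
      IsLocalization.Away.algebraMap_isUnit g
    have hu2 : IsUnit (algebraMap A (Localization.Away g) g ^ m * algebraMap A _ g ^ kg) :=
      (hug.pow m).mul (hug.pow kg)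
    have h7 : (algebraMap A (Localization.Away g) g ^ m * algebraMap A _ g ^ kg) *
        ((1 - e g hgI) * algebraMap A _ (f ^ M' * ε)) = 0 := by
      rw [← h4]; ring
    exact hu2.mul_right_eq_zero.mp h7
  choose Mg hMg using Kpart
  let M₂ : ℕ := ∑ g ∈ s.attach, Mg g.1 g.2
  have hM₂ : ∀ M' ≥ M₂, f ^ M' * ε ∈ K := by
    intro M' hM'
    rw [mem_K]
    intro g hg
    apply hMg g hg
    have : Mg g hg ≤ M₂ :=
      Finset.single_le_sum (f := fun g : s => Mg g.1 g.2) (fun _ _ => Nat.zero_le _)
        (Finset.mem_attach s ⟨g, hg⟩)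
    omega
  -- the image of the idempotent in the localized product
  have hE : algebraMap (Localization.Away f) (Loc f (C × (A ⧸ K))) (e f hf) =
      algebraMap (C × (A ⧸ K)) (Loc f (C × (A ⧸ K))) (1, 0) := by
    have hu : IsUnit (algebraMap (Localization.Away f) (Loc f (C × (A ⧸ K)))
        (algebraMap A _ f ^ k)) :=
      ((IsLocalization.Away.algebraMap_isUnit f).pow k).map _
    apply hu.mul_left_injective
    change algebraMap (Localization.Away f) (Loc f (C × (A ⧸ K))) (e f hf) *
        algebraMap (Localization.Away f) (Loc f (C × (A ⧸ K))) (algebraMap A _ f ^ k) =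
      algebraMap (C × (A ⧸ K)) (Loc f (C × (A ⧸ K))) (1, 0) *
        algebraMap (Localization.Away f) (Loc f (C × (A ⧸ K))) (algebraMap A _ f ^ k)
    rw [← map_mul, hε, ← map_pow, phi_algebraMap, phi_algebraMap, ← map_mul, ← sub_eq_zero,
      ← map_sub, algebraMap_eq_zero_iff]
    refine ⟨M₁ + M₂, ?_⟩
    ext
    · have h1 : (algebraMap A (C × (A ⧸ K)) (f ^ (M₁ + M₂)) *
          (algebraMap A (C × (A ⧸ K)) ε - (1, 0) * algebraMap A (C × (A ⧸ K)) (f ^ k))).1 =
          algebraMap A C (f ^ M₂ * (f ^ M₁ * (ε - f ^ k))) := by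
        simp only [Prod.algebraMap_apply, Prod.fst_mul, Prod.fst_sub, one_mul]
        rw [← map_sub, ← map_mul]
        congr 1
        ring
      rw [h1, map_mul, hM₁, mul_zero]
      rfl
    · have h1 : (algebraMap A (C × (A ⧸ K)) (f ^ (M₁ + M₂)) *
          (algebraMap A (C × (A ⧸ K)) ε - (1, 0) * algebraMap A (C × (A ⧸ K)) (f ^ k))).2 =
          Ideal.Quotient.mk K (f ^ (M₁ + M₂) * ε) := by
        simp only [Prod.algebraMap_apply, Prod.snd_mul, Prod.snd_sub, zero_mul, sub_zero,
          Ideal.Quotient.algebraMap_eq, map_mul]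
      rw [h1, Ideal.Quotient.eq_zero_iff_mem.mpr (hM₂ _ (Nat.le_add_left _ _))]
      rfl
  have huf : IsUnit (algebraMap A (Localization.Away f) f) :=
    IsLocalization.Away.algebraMap_isUnit f
  constructor
  · rw [injective_iff_map_eq_zero]
    intro x hx
    obtain ⟨n, a, hxa⟩ := IsLocalization.Away.surj f x
    have h1 : algebraMap (Localization.Away f) (Loc f (C × (A ⧸ K))) (algebraMap A _ a) = 0 := by
      rw [← hxa, map_mul, hx, zero_mul]
    rw [phi_algebraMap, algebraMap_eq_zero_iff] at h1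
    obtain ⟨m, hm⟩ := h1
    rw [← map_mul] at hm
    have hC : algebraMap A C (f ^ m * a) = 0 := congr_arg Prod.fst hm
    have hK : f ^ m * a ∈ K := Ideal.Quotient.eq_zero_iff_mem.mp (congr_arg Prod.snd hm)
    obtain ⟨N, hN⟩ := Z _ hC hK
    have h2 : algebraMap A (Localization.Away f) a = 0 :=
      (away_eq_zero_iff f a).mpr ⟨N + m, by rw [pow_add, mul_assoc, hN]⟩
    rw [h2] at hxa
    exact (huf.pow n).mul_left_eq_zero.mp hxa
  · intro z
    obtain ⟨⟨p, ⟨t, ht⟩⟩, hz⟩ := IsLocalization.surj
      (Algebra.algebraMapSubmonoid (C × (A ⧸ K)) (Submonoid.powers f)) z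
    obtain ⟨y, ⟨n, rfl⟩, rfl⟩ := ht
    let Rg : Subring (Loc f (C × (A ⧸ K))) :=
      (algebraMap (Localization.Away f) (Loc f (C × (A ⧸ K)))).range
    have hι_alg : ∀ a : A, algebraMap (C × (A ⧸ K)) (Loc f (C × (A ⧸ K)))
        (algebraMap A (C × (A ⧸ K)) a) ∈ Rg :=
      fun a => ⟨algebraMap A _ a, phi_algebraMap f (C × (A ⧸ K)) a⟩
    have hpow_inv : ∀ (n : ℕ) (w : Loc f (C × (A ⧸ K))),
        w * algebraMap (C × (A ⧸ K)) (Loc f (C × (A ⧸ K)))
          (algebraMap A (C × (A ⧸ K)) (f ^ n)) ∈ Rg → w ∈ Rg := by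
      intro n w hw
      obtain ⟨v, hv⟩ := (huf.pow n).exists_right_inv
      have h1 : w = (w * algebraMap (C × (A ⧸ K)) (Loc f (C × (A ⧸ K)))
          (algebraMap A (C × (A ⧸ K)) (f ^ n))) *
          algebraMap (Localization.Away f) (Loc f (C × (A ⧸ K))) v := by
        rw [← phi_algebraMap, map_pow, mul_assoc, ← map_mul, hv, map_one, mul_one]
      rw [h1]
      exact Rg.mul_mem hw ⟨v, rfl⟩
    have h10 : algebraMap (C × (A ⧸ K)) (Loc f (C × (A ⧸ K))) (1, 0) ∈ Rg := ⟨e f hf, hE⟩
    have h01 : algebraMap (C × (A ⧸ K)) (Loc f (C × (A ⧸ K))) (0, 1) ∈ Rg := by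
      have h1 : ((0 : C), (1 : A ⧸ K)) = 1 - (1, 0) := by ext <;> simp
      rw [h1, map_sub, map_one]
      exact Rg.sub_mem Rg.one_mem h10
    have hc0 : ∀ c : C, algebraMap (C × (A ⧸ K)) (Loc f (C × (A ⧸ K))) (c, 0) ∈ Rg := by
      intro c
      obtain ⟨y, hy⟩ := phi_surjective (D := C) (e f hf) (he f hf) (algebraMap C (Loc f C) c)
      obtain ⟨n', a', hy'⟩ := IsLocalization.Away.surj f y
      have h1 : algebraMap C (Loc f C) (algebraMap A C a' - c * algebraMap A C (f ^ n')) = 0 := by
        rw [map_sub, map_mul, ← phi_algebraMap f C a', ← phi_algebraMap f C (f ^ n'), ← hy',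
          map_mul, hy, map_pow (algebraMap A (Localization.Away f)), sub_self]
      obtain ⟨m, hm⟩ := (algebraMap_eq_zero_iff f C _).mp h1
      apply hpow_inv (n' + m)
      have h2 : algebraMap (C × (A ⧸ K)) (Loc f (C × (A ⧸ K))) (c, 0) *
          algebraMap (C × (A ⧸ K)) (Loc f (C × (A ⧸ K)))
            (algebraMap A (C × (A ⧸ K)) (f ^ (n' + m))) =
          algebraMap (C × (A ⧸ K)) (Loc f (C × (A ⧸ K)))
            (algebraMap A (C × (A ⧸ K)) (f ^ m * a')) *
          algebraMap (C × (A ⧸ K)) (Loc f (C × (A ⧸ K))) (1, 0) := by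
        rw [← map_mul, ← map_mul]
        congr 1
        ext
        · simp only [Prod.algebraMap_apply, Prod.fst_mul, mul_one]
          rw [pow_add, map_mul, map_mul]
          linear_combination (-1 : C) * hm
        · simp
      rw [h2]
      exact Rg.mul_mem (hι_alg _) h10
    have h0a : ∀ a : A, algebraMap (C × (A ⧸ K)) (Loc f (C × (A ⧸ K)))
        (0, Ideal.Quotient.mk K a) ∈ Rg := by
      intro a
      have h1 : ((0 : C), Ideal.Quotient.mk K a) = algebraMap A (C × (A ⧸ K)) a * (0, 1) := by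
        ext <;> simp [Prod.algebraMap_apply]
      rw [h1, map_mul]
      exact Rg.mul_mem (hι_alg a) h01
    have hp : algebraMap (C × (A ⧸ K)) (Loc f (C × (A ⧸ K))) p ∈ Rg := by
      obtain ⟨c, ā⟩ := p
      obtain ⟨a, rfl⟩ := Ideal.Quotient.mk_surjective ā
      have h1 : ((c, Ideal.Quotient.mk K a) : C × (A ⧸ K)) =
          (c, 0) + (0, Ideal.Quotient.mk K a) := by ext <;> simp
      rw [h1, map_add]
      exact Rg.add_mem (hc0 c) (h0a a)
    exact hpow_inv n z (by rw [hz]; exact hp)

end Groth.Agent.S9303
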