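import Groth.Statements.S9305
import Groth.Agent.Lib.Unibranch98
import Groth.Agent.Lib.Brnch98
import Groth.Agent.Lib.H56ShGen
import Groth.Agent.Lib.StrictHenselizationProps

set_option autoImplicit false
universe u
open CAlg

namespace Groth.Agent.S9305

open TensorProduct in
/-- Let A be a local ring with finitely many minimal primes, A' the integral closure of A_red in its
total ring of fractions and A^sh a strict henselization of A. In the ring A' ⊗_A A^sh, each minimal
prime lies in exactly one maximal ideal and each maximal ideal contains exactly one minimal prime. -/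
theorem result {A Ash : Type u} [CommRing A]
    [IsLocalRing A] (hfin : (minimalPrimes A).Finite) [CommRing Ash] [IsLocalRing Ash] [Algebra A Ash]
    [IsLocalHom (algebraMap A Ash)] [Hensel.IsStrictHenselization A Ash] :
    (∀ q ∈ minimalPrimes ((CAlg2.normRed A) ⊗[A] Ash),
        ∃! m : Ideal ((CAlg2.normRed A) ⊗[A] Ash), m.IsMaximal ∧ q ≤ m) ∧
      (∀ m : Ideal ((CAlg2.normRed A) ⊗[A] Ash), m.IsMaximal →
        ∃! q : Ideal ((CAlg2.normRed A) ⊗[A] Ash), q ∈ minimalPrimes ((CAlg2.normRed A) ⊗[A] Ash) ∧ q ≤ m) := by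
  classical
  haveI hff : Module.FaithfullyFlat A Ash :=
    Groth.Agent.Lib.StrictHenselization.faithfullyFlat_of_isStrictHenselization A Ash
  haveI hhens : HenselianLocalRing Ash := Hensel.IsStrictHenselization.henselian (R := A)
  have hS' : ∀ F : Finset Ash, ∃ (E : Type u) (_ : CommRing E) (_ : Algebra A E)
      (_ : Algebra.Etale A E) (φ : E →ₐ[A] Ash), ∀ x ∈ F, x ∈ φ.range :=
    fun F => Groth.Agent.Lib.H56ShGen.exists_etale_of_finset A Ash F
  have hA' : ∀ (P : Ideal (CAlg2.normRed A)) [P.IsPrime],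
      IsDomain (Localization.AtPrime P) ∧ IsIntegrallyClosed (Localization.AtPrime P) :=
    fun P _ => Groth.Agent.Lib.Brnch98.normRed_normal_localization A hfin P
  letI : Algebra Ash (TensorProduct A (CAlg2.normRed A) Ash) :=
    Algebra.TensorProduct.rightAlgebra
  haveI hint := Groth.Agent.Lib.Unibranch98.isIntegral_normRed A
  haveI hintD : Algebra.IsIntegral Ash (TensorProduct A (CAlg2.normRed A) Ash) :=
    Groth.Agent.Lib.Unibranch98.isIntegral_right A (CAlg2.normRed A) Ash
  constructor
  · intro q hq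
    haveI hqp : q.IsPrime := hq.1.1
    obtain ⟨m, hm, hqm⟩ := Ideal.exists_le_maximal q hqp.ne_top
    refine ⟨m, ⟨hm, hqm⟩, ?_⟩
    rintro m' ⟨hm', hqm'⟩
    exact Groth.Agent.Lib.Brnch98.maximal_unique_of_prime_le Ash
      (TensorProduct A (CAlg2.normRed A) Ash) q hm' hm hqm' hqm
  · intro m hm
    haveI hmp : m.IsPrime := hm.isPrime
    obtain ⟨q, hq, hqm⟩ := Ideal.exists_minimalPrimes_le (I := ⊥) (J := m) bot_le
    refine ⟨q, ⟨hq, hqm⟩, ?_⟩
    rintro q' ⟨hq', hq'm⟩
    exact Groth.Agent.Lib.Brnch98.minimalPrimes_eq_of_le (CAlg2.normRed A) hS' hA' m hq' hq hq'm hqm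

end Groth.Agent.S9305
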