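import Groth.Statements.S9310
import Groth.Agent.Lib.FormalInverse50

set_option autoImplicit false
universe u
open CAlg

namespace Groth.Agent.S9310

/-- Let K be a field, A = K[[x_1, ..., x_n]], and y_1, ..., y_n ∈ A a regular system of parameters (n
elements generating the maximal ideal). Then the substitution map K[[y_1, ..., y_n]] → A is an
isomorphism: f ↦ f(y_1, ..., y_n) is a bijection of K[[x_1, ..., x_n]] onto itself. -/
theorem result (K : Type u) [Field K] (n : ℕ)
    (y : Fin n → MvPowerSeries (Fin n) K)
    (hy : Ideal.span (Set.range y) = IsLocalRing.maximalIdeal (MvPowerSeries (Fin n) K)) :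
    Function.Bijective (MvPowerSeries.subst y : MvPowerSeries (Fin n) K → MvPowerSeries (Fin n) K) := by
  have hmem : ∀ i, y i ∈ IsLocalRing.maximalIdeal (MvPowerSeries (Fin n) K) := by
    intro i
    rw [← hy]
    exact Ideal.subset_span ⟨i, rfl⟩
  have h0 : ∀ i, MvPowerSeries.constantCoeff (y i) = 0 := by
    intro i
    have h1 := hmem i
    rw [IsLocalRing.mem_maximalIdeal, mem_nonunits_iff, MvPowerSeries.isUnit_iff_constantCoeff] at h1
    by_contra h
    exact h1 (IsUnit.mk0 _ h)
  apply Groth.Agent.Lib.FormalInverse50.subst_bijective_of_isUnit_det y h0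
  apply Groth.Agent.Lib.FormalInverse50.isUnit_det_of_X_mem y h0
  intro j
  have hXj : (MvPowerSeries.X j : MvPowerSeries (Fin n) K) ∈ Ideal.span (Set.range y) := by
    rw [hy, IsLocalRing.mem_maximalIdeal, mem_nonunits_iff, MvPowerSeries.isUnit_iff_constantCoeff,
      MvPowerSeries.constantCoeff_X]
    exact not_isUnit_zero
  obtain ⟨c, hc⟩ := (Ideal.mem_span_range_iff_exists_fun).mp hXj
  exact ⟨0, 0, c, Ideal.zero_mem _, by rw [zero_mul, zero_add, hc]⟩

end Groth.Agent.S9310
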