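import Groth.Statements.S9312
import Mathlib

set_option autoImplicit false
universe u
open CAlg

namespace Groth.Agent.S9312

open TensorProduct

set_option linter.unusedSectionVars false
variable {R G : Type u} [CommRing R] [Group G] [Fintype G] [MulSemiringAction G R]

section general
variable (τ : Type u)

/-- coefficientwise action -/
noncomputable def act (g : G) : MvPolynomial τ R →+* MvPolynomial τ R :=
  MvPolynomial.map (MulSemiringAction.toRingHom G R g)

noncomputable def iot : MvPolynomial τ (FixedPoints.subring R G) →+* MvPolynomial τ R :=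
  MvPolynomial.map (FixedPoints.subring R G).subtype

variable {τ}

lemma act_act (g h : G) (x : MvPolynomial τ R) : act τ g (act τ h x) = act τ (g * h) x := by
  simp only [act, MvPolynomial.map_map]
  congr 2
  ext r
  simp [mul_smul]

lemma iot_inj : Function.Injective (iot (R := R) (G := G) τ) :=
  MvPolynomial.map_injective _ Subtype.val_injective

lemma act_iot (g : G) (p : MvPolynomial τ (FixedPoints.subring R G)) :
    act τ g (iot τ p) = iot τ p := by
  simp only [act, iot, MvPolynomial.map_map]
  congr 2
  ext r
  exact r.2 g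

lemma mem_range_iot (x : MvPolynomial τ R) (h : ∀ g : G, act τ g x = x) :
    x ∈ (iot (R := R) (G := G) τ).rangeS := by
  have := MvPolynomial.mem_range_map_iff_coeffs_subset
    (f := (FixedPoints.subring R G).subtype) (x := x)
  obtain ⟨p, hp⟩ := this.mpr (by
    intro c hc
    obtain ⟨m, -, rfl⟩ := MvPolynomial.mem_coeffs_iff.mp hc
    refine ⟨⟨MvPolynomial.coeff m x, fun g => ?_⟩, rfl⟩
    have := congrArg (MvPolynomial.coeff m) (h g)
    simpa [act, MvPolynomial.coeff_map] using this)
  exact ⟨p, hp⟩

noncomputable def nrm (G : Type u) [Group G] [Fintype G] [MulSemiringAction G R]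
    (x : MvPolynomial τ R) : Polynomial (MvPolynomial τ R) :=
  ∏ g : G, (Polynomial.X - Polynomial.C (act τ g x))

lemma nrm_monic (x : MvPolynomial τ R) : (nrm G x).Monic :=
  Polynomial.monic_prod_of_monic _ _ (fun g _ => Polynomial.monic_X_sub_C _)

lemma map_act_nrm (h : G) (x : MvPolynomial τ R) :
    Polynomial.map (act τ h) (nrm G x) = nrm G x := by
  simp only [nrm, Polynomial.map_prod, Polynomial.map_sub, Polynomial.map_X, Polynomial.map_C,
    act_act]
  exact Fintype.prod_equiv (Equiv.mulLeft h) _ _ (fun g => rfl)

lemma exists_desc (x : MvPolynomial τ R) :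
    ∃ Q : Polynomial (MvPolynomial τ (FixedPoints.subring R G)),
      Q.Monic ∧ Q.map (iot τ) = nrm G x := by
  have h1 : nrm G x ∈ (Polynomial.mapRingHom (iot (R := R) (G := G) τ)).rangeS := by
    rw [Polynomial.mem_map_rangeS]
    intro n
    apply mem_range_iot
    intro g
    have := congrArg (fun p => Polynomial.coeff p n) (map_act_nrm g x)
    simpa [Polynomial.coeff_map] using this
  obtain ⟨Q, hQ⟩ := h1
  refine ⟨Q, ?_, hQ⟩
  have hm : (Q.map (iot τ)).Monic := by
    have : Q.map (iot τ) = nrm G x := hQ
    rw [this]; exact nrm_monic x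
  exact Polynomial.monic_of_injective iot_inj hm

lemma map_nrm {B : Type*} [CommRing B] (θ : MvPolynomial τ R →+* B) (x : MvPolynomial τ R) :
    (nrm G x).map θ = ∏ g : G, (Polynomial.X - Polynomial.C (θ (act τ g x))) := by
  simp [nrm, Polynomial.map_prod]

end general


section main
variable {A : Type u} [CommRing A] [Algebra (FixedPoints.subring R G) A]

/-- the map `R[Y_a] → A ⊗ R` -/
noncomputable def Phi : MvPolynomial A R →+* TensorProduct (FixedPoints.subring R G) A R :=
  MvPolynomial.eval₂Hom
    (Algebra.TensorProduct.includeRight (R := FixedPoints.subring R G) (A := A) (B := R)).toRingHom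
    (fun a => a ⊗ₜ 1)

noncomputable def ppi : MvPolynomial A (FixedPoints.subring R G) →+* A :=
  MvPolynomial.eval₂Hom (algebraMap (FixedPoints.subring R G) A) id

lemma Phi_iot (p : MvPolynomial A (FixedPoints.subring R G)) :
    Phi (iot A p) = algebraMap A (TensorProduct (FixedPoints.subring R G) A R) (ppi p) := by
  have : (Phi (R := R) (G := G) (A := A)).comp (iot A) =
      (algebraMap A (TensorProduct (FixedPoints.subring R G) A R)).comp (ppi (R := R) (G := G) (A := A)) := by
    apply MvPolynomial.ringHom_ext
    · intro s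
      simp only [RingHom.comp_apply, iot, MvPolynomial.map_C, Phi, MvPolynomial.eval₂Hom_C, ppi,
        Algebra.TensorProduct.algebraMap_apply, Algebra.algebraMap_self, RingHom.id_apply]
      simp only [AlgHom.toRingHom_eq_coe, RingHom.coe_coe,
        Algebra.TensorProduct.includeRight_apply, Subring.subtype_apply]
      rw [Algebra.algebraMap_eq_smul_one, TensorProduct.smul_tmul]
      congr 1
      rw [Subring.smul_def, smul_eq_mul, mul_one]
    · intro a
      simp [iot, Phi, ppi]
  exact RingHom.congr_fun this p

lemma Phi_act (g : G) (x : MvPolynomial A R) :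
    Phi (act A g x) = Algebra.TensorProduct.map (AlgHom.id (FixedPoints.subring R G) A)
        (MulSemiringAction.toAlgHom (FixedPoints.subring R G) R g) (Phi x) := by
  have : (Phi (R := R) (G := G) (A := A)).comp (act A g) =
      (Algebra.TensorProduct.map (AlgHom.id (FixedPoints.subring R G) A)
        (MulSemiringAction.toAlgHom (FixedPoints.subring R G) R g)).toRingHom.comp Phi := by
    apply MvPolynomial.ringHom_ext
    · intro r
      simp [act, Phi]
    · intro a
      simp [act, Phi]
  exact RingHom.congr_fun this x

lemma Phi_surj : Function.Surjective (Phi (R := R) (G := G) (A := A)) := by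
  intro b
  induction b using TensorProduct.induction_on with
  | zero => exact ⟨0, map_zero _⟩
  | tmul a r =>
    refine ⟨MvPolynomial.X a * MvPolynomial.C r, ?_⟩
    simp [Phi]
  | add x y hx hy =>
    obtain ⟨x', rfl⟩ := hx
    obtain ⟨y', rfl⟩ := hy
    exact ⟨x' + y', map_add _ _ _⟩

theorem part1 (b : TensorProduct (FixedPoints.subring R G) A R)
    (hb : ∀ σ : G, Algebra.TensorProduct.map (AlgHom.id (FixedPoints.subring R G) A)
        (MulSemiringAction.toAlgHom (FixedPoints.subring R G) R σ) b = b) :
    ∃ P : Polynomial A, P.Monic ∧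
        Polynomial.map (algebraMap A (TensorProduct (FixedPoints.subring R G) A R)) P =
          (Polynomial.X - Polynomial.C b) ^ Fintype.card G := by
  obtain ⟨b', rfl⟩ := Phi_surj b
  obtain ⟨Q, hQm, hQ⟩ := exists_desc (G := G) b'
  refine ⟨Q.map ppi, hQm.map _, ?_⟩
  rw [Polynomial.map_map]
  have h1 : (algebraMap A (TensorProduct (FixedPoints.subring R G) A R)).comp (ppi (R := R) (G := G) (A := A)) =
      (Phi (R := R) (G := G) (A := A)).comp (iot A) := by
    refine RingHom.ext (fun p => ?_)
    exact (Phi_iot p).symm
  rw [h1, ← Polynomial.map_map, hQ, map_nrm]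
  simp only [Phi_act, hb]
  simp


lemma stepA (a : A) (ha : algebraMap A (TensorProduct (FixedPoints.subring R G) A R) a = 0) :
    iot A (MvPolynomial.X a : MvPolynomial A (FixedPoints.subring R G)) ∈
      Ideal.map (iot (R := R) (G := G) A)
      (RingHom.ker (ppi (R := R) (G := G) (A := A))) := by
  let πₐ : MvPolynomial A (FixedPoints.subring R G) →ₐ[FixedPoints.subring R G] A :=
    MvPolynomial.aeval id
  have hπ : ∀ p, πₐ p = ppi p := fun p => rfl
  have hsurj : Function.Surjective πₐ := fun a => ⟨MvPolynomial.X a, by simp [πₐ]⟩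
  have hk := Algebra.TensorProduct.rTensor_ker (R := FixedPoints.subring R G)
    (S := FixedPoints.subring R G) (C := R) πₐ hsurj
  have hmem : (MvPolynomial.X a : MvPolynomial A (FixedPoints.subring R G))
      ⊗ₜ[FixedPoints.subring R G] (1 : R) ∈
      RingHom.ker (Algebra.TensorProduct.map πₐ (AlgHom.id (FixedPoints.subring R G) R)) := by
    rw [RingHom.mem_ker]
    simp only [Algebra.TensorProduct.map_tmul, πₐ, MvPolynomial.aeval_X, id, AlgHom.id_apply]
    simpa using ha
  rw [hk] at hmem
  let iₐ : MvPolynomial A (FixedPoints.subring R G) →ₐ[FixedPoints.subring R G] MvPolynomial A R :=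
    MvPolynomial.mapAlgHom (Algebra.ofId (FixedPoints.subring R G) R)
  let cₐ : R →ₐ[FixedPoints.subring R G] MvPolynomial A R := IsScalarTower.toAlgHom _ R _
  let e := Algebra.TensorProduct.productMap iₐ cₐ
  have he : e.toRingHom.comp (Algebra.TensorProduct.includeLeft
      (R := FixedPoints.subring R G) (S := FixedPoints.subring R G)
      (A := MvPolynomial A (FixedPoints.subring R G)) (B := R)).toRingHom = iot A := by
    refine RingHom.ext (fun p => ?_)
    simp only [RingHom.comp_apply, AlgHom.toRingHom_eq_coe, RingHom.coe_coe,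
      Algebra.TensorProduct.includeLeft_apply, e, Algebra.TensorProduct.productMap_apply_tmul,
      map_one, mul_one]
    rfl
  have h2 := Ideal.mem_map_of_mem e.toRingHom hmem
  have h3 : e.toRingHom ((MvPolynomial.X a : MvPolynomial A (FixedPoints.subring R G))
      ⊗ₜ[FixedPoints.subring R G] (1 : R)) =
      iot A (MvPolynomial.X a : MvPolynomial A (FixedPoints.subring R G)) := by
    rw [← he]; rfl
  rw [h3] at h2
  have hle : Ideal.map e.toRingHom (Ideal.map (Algebra.TensorProduct.includeLeft
      (R := FixedPoints.subring R G) (S := FixedPoints.subring R G)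
      (A := MvPolynomial A (FixedPoints.subring R G)) (B := R)) (RingHom.ker πₐ)) ≤
      Ideal.map (iot (R := R) (G := G) A) (RingHom.ker (ppi (R := R) (G := G) (A := A))) := by
    refine Ideal.map_le_iff_le_comap.mpr (Ideal.map_le_iff_le_comap.mpr (fun p hp => ?_))
    rw [Ideal.mem_comap, Ideal.mem_comap]
    have h5 : e.toRingHom (Algebra.TensorProduct.includeLeft
      (R := FixedPoints.subring R G) (S := FixedPoints.subring R G)
      (A := MvPolynomial A (FixedPoints.subring R G)) (B := R) p) = iot A p := by
      rw [← he]; rfl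
    rw [h5]
    apply Ideal.mem_map_of_mem
    rw [RingHom.mem_ker] at hp ⊢
    rw [← hπ]; exact hp
  exact hle h2


section rho
variable {J : Type u}

noncomputable def rhoE (v : J → MvPolynomial A (FixedPoints.subring R G)) :
    MvPolynomial (A ⊕ J) (FixedPoints.subring R G) →+* MvPolynomial A (FixedPoints.subring R G) :=
  MvPolynomial.eval₂Hom MvPolynomial.C (Sum.elim MvPolynomial.X v)

noncomputable def rho (v : J → MvPolynomial A (FixedPoints.subring R G)) :
    MvPolynomial (A ⊕ J) R →+* MvPolynomial A R :=
  MvPolynomial.eval₂Hom MvPolynomial.C (Sum.elim MvPolynomial.X (fun j => iot A (v j)))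

lemma rho_act (v : J → MvPolynomial A (FixedPoints.subring R G)) (g : G)
    (y : MvPolynomial (A ⊕ J) R) : rho v (act _ g y) = act A g (rho v y) := by
  have : (rho v).comp (act (A ⊕ J) g) = (act A g).comp (rho v) := by
    apply MvPolynomial.ringHom_ext
    · intro r; simp [rho, act]
    · rintro (a | j)
      · simp [rho, act]
      · simp only [RingHom.comp_apply]
        have : rho v (MvPolynomial.X (Sum.inr j)) = iot A (v j) := by simp [rho]
        rw [show act (A ⊕ J) g (MvPolynomial.X (Sum.inr j)) = MvPolynomial.X (Sum.inr j) by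
          simp [act], this, act_iot]
  exact RingHom.congr_fun this y

lemma rho_iot (v : J → MvPolynomial A (FixedPoints.subring R G))
    (q : MvPolynomial (A ⊕ J) (FixedPoints.subring R G)) :
    rho v (iot _ q) = iot A (rhoE v q) := by
  have : (rho v).comp (iot (A ⊕ J)) = (iot A).comp (rhoE v) := by
    apply MvPolynomial.ringHom_ext
    · intro r; simp [rho, iot, rhoE]
    · rintro (a | j)
      · simp [rho, iot, rhoE]
      · simp [rho, iot, rhoE]
  exact RingHom.congr_fun this q

lemma ppi_rhoE (v w : J → MvPolynomial A (FixedPoints.subring R G))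
    (h : ∀ j, ppi (v j) = ppi (w j)) (q : MvPolynomial (A ⊕ J) (FixedPoints.subring R G)) :
    ppi (rhoE v q) = ppi (rhoE w q) := by
  have : (ppi (R := R) (G := G) (A := A)).comp (rhoE v) = ppi.comp (rhoE w) := by
    apply MvPolynomial.ringHom_ext
    · intro r; simp [rhoE]
    · rintro (a | j)
      · simp [rhoE]
      · simpa [rhoE] using h j
  exact RingHom.congr_fun this q

end rho

theorem part2_aux {J : Type u} (v1 : J → MvPolynomial A (FixedPoints.subring R G))
    (hv : ∀ j, ppi (v1 j) = 0) (l : J →₀ MvPolynomial A R) (a : A)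
    (hl : (l.sum fun j c => c • iot A (v1 j)) =
      iot A (MvPolynomial.X a : MvPolynomial A (FixedPoints.subring R G))) :
    (Polynomial.X - Polynomial.C a) ^ Fintype.card G =
      (Polynomial.X : Polynomial A) ^ Fintype.card G := by
  let v0 : J → MvPolynomial A (FixedPoints.subring R G) := fun _ => 0
  let X' : MvPolynomial (A ⊕ J) R :=
    l.sum (fun j c => MvPolynomial.X (Sum.inr j) * MvPolynomial.rename Sum.inl c)
  have hren : ∀ (v : J → MvPolynomial A (FixedPoints.subring R G)) (c : MvPolynomial A R),
      rho v (MvPolynomial.rename Sum.inl c) = c := by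
    intro v c
    simp only [rho, MvPolynomial.coe_eval₂Hom, MvPolynomial.eval₂_rename]
    have : (Sum.elim MvPolynomial.X (fun j => iot A (v j)) ∘ Sum.inl : A → MvPolynomial A R) =
        MvPolynomial.X := by
      ext x; simp
    rw [this, MvPolynomial.eval₂_eta]
  have hX1 : rho v1 X' =
      iot A (MvPolynomial.X a : MvPolynomial A (FixedPoints.subring R G)) := by
    rw [← hl]
    simp only [X', Finsupp.sum, map_sum, map_mul, hren]
    refine Finset.sum_congr rfl (fun j _ => ?_)
    simp [rho, mul_comm]
  have hX0 : rho v0 X' = 0 := by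
    simp only [X', Finsupp.sum, map_sum, map_mul, hren]
    refine Finset.sum_eq_zero (fun j _ => ?_)
    simp [rho, v0]
  obtain ⟨Q, hQm, hQ⟩ := exists_desc (G := G) X'
  have key1 : Q.map (rhoE v1) =
      (Polynomial.X - Polynomial.C (MvPolynomial.X a)) ^ Fintype.card G := by
    apply Polynomial.map_injective (iot A) iot_inj
    rw [Polynomial.map_map]
    have : (iot A).comp (rhoE v1) = (rho v1).comp (iot _) :=
      RingHom.ext (fun q => (rho_iot v1 q).symm)
    rw [this, ← Polynomial.map_map, hQ, map_nrm]
    simp only [rho_act, hX1, act_iot]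
    simp [Polynomial.map_pow]
  have key0 : Q.map (rhoE v0) = Polynomial.X ^ Fintype.card G := by
    apply Polynomial.map_injective (iot A) iot_inj
    rw [Polynomial.map_map]
    have : (iot A).comp (rhoE v0) = (rho v0).comp (iot _) :=
      RingHom.ext (fun q => (rho_iot v0 q).symm)
    rw [this, ← Polynomial.map_map, hQ, map_nrm]
    simp only [rho_act, hX0, map_zero]
    simp [Polynomial.map_pow]
  have h10 : ∀ j : J, ppi (v1 j) = ppi (v0 j) := by
    intro j
    rw [hv j]; simp [v0]
  have h5 : (Q.map (rhoE v1)).map ppi = (Q.map (rhoE v0)).map ppi := by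
    rw [Polynomial.map_map, Polynomial.map_map]
    congr 1
    exact RingHom.ext (ppi_rhoE v1 v0 h10)
  rw [key1, key0] at h5
  simpa [ppi] using h5

theorem part2 (a : A) (ha : algebraMap A (TensorProduct (FixedPoints.subring R G) A R) a = 0) :
    (Polynomial.X - Polynomial.C a) ^ Fintype.card G =
      (Polynomial.X : Polynomial A) ^ Fintype.card G := by
  have hA := stepA (G := G) a ha
  have hA' : iot A (MvPolynomial.X a : MvPolynomial A (FixedPoints.subring R G)) ∈
      Submodule.span (MvPolynomial A R) (Set.range (fun j : (RingHom.ker (ppi (R := R) (G := G)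
        (A := A))) => iot A j.1)) := by
    have h2 : Ideal.map (iot (R := R) (G := G) A) (RingHom.ker (ppi (R := R) (G := G) (A := A))) ≤
        Submodule.span (MvPolynomial A R) (Set.range (fun j : (RingHom.ker (ppi (R := R) (G := G)
        (A := A))) => iot A j.1)) := by
      rw [Ideal.map_le_iff_le_comap]
      intro p hp
      rw [Ideal.mem_comap]
      exact Submodule.subset_span ⟨⟨p, hp⟩, rfl⟩
    exact h2 hA
  obtain ⟨l, hl⟩ := Finsupp.mem_span_range_iff_exists_finsupp.mp hA'
  have hv : ∀ j : RingHom.ker (ppi (R := R) (G := G) (A := A)), ppi (R := R) (G := G) (A := A) j.1 = 0 := fun j => RingHom.mem_ker.mp j.2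
  exact part2_aux (J := RingHom.ker (ppi (R := R) (G := G) (A := A))) (fun j => j.1) hv l a hl

theorem result' (R G A : Type u) [CommRing R] [Group G] [Fintype G]
    [MulSemiringAction G R] [CommRing A] [Algebra (FixedPoints.subring R G) A] :
    (∀ b : TensorProduct (FixedPoints.subring R G) A R,
      (∀ σ : G, Algebra.TensorProduct.map (AlgHom.id (FixedPoints.subring R G) A)
        (MulSemiringAction.toAlgHom (FixedPoints.subring R G) R σ) b = b) →
      ∃ P : Polynomial A, P.Monic ∧
        Polynomial.map (algebraMap A (TensorProduct (FixedPoints.subring R G) A R)) P =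
          (Polynomial.X - Polynomial.C b) ^ Fintype.card G) ∧
    (∀ a : A, algebraMap A (TensorProduct (FixedPoints.subring R G) A R) a = 0 →
      ∀ i : ℕ, i < Fintype.card G → ((Polynomial.X - Polynomial.C a) ^ Fintype.card G).coeff i = 0) := by
  refine ⟨fun b hb => part1 b hb, fun a ha i hi => ?_⟩
  rw [part2 (G := G) a ha, Polynomial.coeff_X_pow, if_neg hi.ne]

end main


/-- Let a finite group G with n elements act on a ring R by ring automorphisms, with invariant ring R^G,
and let A be an algebra over R^G; G acts on A ⊗ R through the factor R. (1) For every G-invariant b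
∈ A ⊗ R there is a monic polynomial over A whose image in (A ⊗ R)[T] is (T - b)^n. (2) For every a
in the kernel of A → A ⊗ R, all coefficients of (T - a)^n below degree n vanish, that is (T - a)^n =
T^n in A[T]. -/
theorem result (R G A : Type u) [CommRing R] [Group G] [Fintype G]
    [MulSemiringAction G R] [CommRing A] [Algebra (FixedPoints.subring R G) A] :
    (∀ b : TensorProduct (FixedPoints.subring R G) A R,
      (∀ σ : G, Algebra.TensorProduct.map (AlgHom.id (FixedPoints.subring R G) A)
        (MulSemiringAction.toAlgHom (FixedPoints.subring R G) R σ) b = b) →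
      ∃ P : Polynomial A, P.Monic ∧
        Polynomial.map (algebraMap A (TensorProduct (FixedPoints.subring R G) A R)) P =
          (Polynomial.X - Polynomial.C b) ^ Fintype.card G) ∧
    (∀ a : A, algebraMap A (TensorProduct (FixedPoints.subring R G) A R) a = 0 →
      ∀ i : ℕ, i < Fintype.card G → ((Polynomial.X - Polynomial.C a) ^ Fintype.card G).coeff i = 0) := by
  exact result' R G A

end Groth.Agent.S9312
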