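import Groth.Statements.S9313
import Mathlib.RingTheory.ZariskisMainTheorem

set_option autoImplicit false
universe u
open CAlg

namespace Groth.Agent.S9313

section helpers

variable {A B : Type u} [CommRing A] [CommRing B] [Algebra A B]

/-- elements `r` such that `B[1/r]` is integral over `A` up to powers of `r`. -/
def UU (A : Type u) {B : Type u} [CommRing A] [CommRing B] [Algebra A B] (r : B) : Prop :=
  IsIntegral A r ∧ ∀ x : B, ∃ m : ℕ, IsIntegral A (r ^ m * x)

lemma UU.mul_left {r : B} (hr : UU A r) {a : B} (ha : IsIntegral A a) : UU A (a * r) := by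
  refine ⟨ha.mul hr.1, fun x => ?_⟩
  obtain ⟨m, hm⟩ := hr.2 x
  refine ⟨m, ?_⟩
  rw [mul_pow, mul_assoc]
  exact (ha.pow m).mul hm

lemma UU.zero : UU A (0 : B) :=
  ⟨isIntegral_zero, fun x => ⟨1, by simpa using isIntegral_zero⟩⟩

lemma UU.pow_mul_of_le {r : B} (hr : UU A r) {x : B} {m n : ℕ} (hm : IsIntegral A (r ^ m * x))
    (hmn : m ≤ n) : IsIntegral A (r ^ n * x) := by
  obtain ⟨k, rfl⟩ := Nat.exists_eq_add_of_le hmn
  rw [pow_add, mul_comm (r ^ m), mul_assoc]
  exact (hr.1.pow k).mul hm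

lemma UU.add {r s : B} (hr : UU A r) (hs : UU A s) : UU A (r + s) := by
  refine ⟨hr.1.add hs.1, fun x => ?_⟩
  obtain ⟨m₁, hm₁⟩ := hr.2 x
  obtain ⟨m₂, hm₂⟩ := hs.2 x
  refine ⟨m₁ + m₂, ?_⟩
  rw [add_pow, Finset.sum_mul]
  refine IsIntegral.sum _ fun k hk => ?_
  have hk' : k ≤ m₁ + m₂ := Nat.lt_succ_iff.mp (Finset.mem_range.mp hk)
  have hnat : IsIntegral A (((m₁ + m₂).choose k : ℕ) : B) := by
    rw [← map_natCast (algebraMap A B)]
    exact isIntegral_algebraMap
  by_cases h : m₁ ≤ k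
  · have : r ^ k * s ^ (m₁ + m₂ - k) * ((m₁ + m₂).choose k : B) * x =
      ((m₁ + m₂).choose k : B) * (s ^ (m₁ + m₂ - k) * (r ^ k * x)) := by ring
    rw [this]
    exact hnat.mul ((hs.1.pow _).mul (hr.pow_mul_of_le hm₁ h))
  · have h2 : m₂ ≤ m₁ + m₂ - k := by omega
    have : r ^ k * s ^ (m₁ + m₂ - k) * ((m₁ + m₂).choose k : B) * x =
      ((m₁ + m₂).choose k : B) * (r ^ k * (s ^ (m₁ + m₂ - k) * x)) := by ring
    rw [this]
    exact hnat.mul ((hr.1.pow _).mul (hs.pow_mul_of_le hm₂ h2))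

lemma UU.pow {r : B} (hr : UU A r) (n : ℕ) : UU A (r ^ (n + 1)) := by
  rw [pow_succ]
  exact hr.mul_left (hr.1.pow n)

/-- for `g ∈ U` and `x ∈ IB` some `g^m x ∈ I S'` (as an element of `B`). -/
lemma UU.exists_pow_mul_mem {r : B} (hr : UU A r) (I : Ideal A) {x : B}
    (hx : x ∈ Ideal.map (algebraMap A B) I) :
    ∃ m : ℕ, ∃ y : integralClosure A B,
      y ∈ Ideal.map (algebraMap A (integralClosure A B)) I ∧ (y : B) = r ^ m * x := by
  induction hx using Submodule.span_induction with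
  | mem x hx =>
    obtain ⟨a, ha, rfl⟩ := hx
    refine ⟨0, algebraMap A _ a, Ideal.mem_map_of_mem _ ha, by simp⟩
  | zero => exact ⟨0, 0, zero_mem _, by simp⟩
  | add x y _ _ hx hy =>
    obtain ⟨m₁, y₁, hy₁, e₁⟩ := hx
    obtain ⟨m₂, y₂, hy₂, e₂⟩ := hy
    refine ⟨m₁ + m₂, ⟨r, hr.1⟩ ^ m₂ * y₁ + ⟨r, hr.1⟩ ^ m₁ * y₂,
      add_mem (Ideal.mul_mem_left _ _ hy₁) (Ideal.mul_mem_left _ _ hy₂), ?_⟩
    simp only [AddMemClass.coe_add, MulMemClass.coe_mul, SubmonoidClass.coe_pow, e₁, e₂]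
    ring
  | smul b x _ hx =>
    obtain ⟨m₁, y₁, hy₁, e₁⟩ := hx
    obtain ⟨m₂, hm₂⟩ := hr.2 b
    refine ⟨m₂ + m₁, ⟨_, hm₂⟩ * y₁, Ideal.mul_mem_left _ _ hy₁, ?_⟩
    simp only [MulMemClass.coe_mul, e₁, smul_eq_mul]
    ring

lemma weaklyQuasiFiniteAt_of_quotient (J : Ideal B) [Algebra.QuasiFinite A (B ⧸ J)]
    (q : Ideal B) [q.IsPrime]
    (h : ∀ j ∈ J, ∃ s ∉ q, s * j ∈ (q.under A).map (algebraMap A B)) :
    Algebra.WeaklyQuasiFiniteAt A q := by
  rw [Algebra.weaklyQuasiFiniteAt_iff]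
  let g : B →ₐ[A] (Localization.AtPrime q ⧸
      (q.under A).map (algebraMap A (Localization.AtPrime q))) :=
    (Ideal.Quotient.mkₐ A _).comp (IsScalarTower.toAlgHom A B (Localization.AtPrime q))
  have hgu : ∀ s ∉ q, IsUnit (g s) := fun s hs =>
    (IsLocalization.map_units (Localization.AtPrime q) (⟨s, hs⟩ : q.primeCompl)).map
      (Ideal.Quotient.mk _)
  have hgp : ∀ x ∈ (q.under A).map (algebraMap A B), g x = 0 := by
    intro x hx
    have : algebraMap B (Localization.AtPrime q) x ∈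
        (q.under A).map (algebraMap A (Localization.AtPrime q)) := by
      rw [IsScalarTower.algebraMap_eq A B (Localization.AtPrime q), ← Ideal.map_map]
      exact Ideal.mem_map_of_mem _ hx
    exact Ideal.Quotient.eq_zero_iff_mem.mpr this
  have hg : ∀ j ∈ J, g j = 0 := by
    intro j hj
    obtain ⟨s, hs, hsj⟩ := h j hj
    have := hgp _ hsj
    rw [map_mul] at this
    exact (hgu s hs).mul_right_eq_zero.mp this
  let f : B ⧸ J →ₐ[A] _ := Ideal.Quotient.liftₐ J g hg
  refine .of_forall_exists_mul_mem_range f fun x => ?_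
  obtain ⟨x, rfl⟩ := Ideal.Quotient.mk_surjective x
  obtain ⟨a, ⟨s, hs⟩, rfl⟩ := IsLocalization.exists_mk'_eq q.primeCompl x
  refine ⟨Ideal.Quotient.mk J s, ?_, Ideal.Quotient.mk J a, ?_⟩
  · exact hgu s hs
  · change g a = Ideal.Quotient.mk _ _ * g s
    change Ideal.Quotient.mk _ (algebraMap B _ a) =
      Ideal.Quotient.mk _ _ * Ideal.Quotient.mk _ (algebraMap B _ s)
    rw [← map_mul, IsLocalization.mk'_spec]

lemma mul_mem_of_mem_sup (I : Ideal A) (et : B)
    (het : et * (1 - et) ∈ I.map (algebraMap A B)) {j : B}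
    (hj : j ∈ I.map (algebraMap A B) ⊔ Ideal.span {1 - et}) :
    et * j ∈ I.map (algebraMap A B) := by
  obtain ⟨x, hx, y, hy, rfl⟩ := Submodule.mem_sup.mp hj
  obtain ⟨c, rfl⟩ := Ideal.mem_span_singleton'.mp hy
  rw [mul_add]
  refine add_mem (Ideal.mul_mem_left _ _ hx) ?_
  have : et * (c * (1 - et)) = c * (et * (1 - et)) := by ring
  rw [this]
  exact Ideal.mul_mem_left _ _ het

lemma exists_UU_not_mem [Algebra.FiniteType A B] (I : Ideal A) (et : B)
    (het : et * (1 - et) ∈ I.map (algebraMap A B))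
    [Module.Finite A (B ⧸ (I.map (algebraMap A B) ⊔ Ideal.span {1 - et}))]
    (q : Ideal B) [q.IsPrime] (hq : I.map (algebraMap A B) ⊔ Ideal.span {1 - et} ≤ q) :
    ∃ u, UU A u ∧ u ∉ q := by
  have h1 : 1 - et ∈ q := hq (Ideal.mem_sup_right (Ideal.mem_span_singleton_self _))
  have h2 : et ∉ q := fun h => by
    have : (1 : B) ∈ q := by
      have := add_mem h1 h
      simpa using this
    exact Ideal.IsPrime.ne_top ‹_› ((Ideal.eq_top_iff_one _).mpr this)
  have h3 : I.map (algebraMap A B) ≤ (q.under A).map (algebraMap A B) := by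
    refine Ideal.map_mono fun a ha => ?_
    exact hq (Ideal.mem_sup_left (Ideal.mem_map_of_mem _ ha))
  have : Algebra.WeaklyQuasiFiniteAt A q :=
    weaklyQuasiFiniteAt_of_quotient _ q fun j hj => ⟨et, h2, h3 (mul_mem_of_mem_sup I et het hj)⟩
  obtain ⟨r, hr, h⟩ := Algebra.zariskisMainProperty_iff.mp
    (Algebra.ZariskisMainProperty.of_finiteType_of_weaklyQuasiFiniteAt (R := A) q)
  exact ⟨r, h, hr⟩

lemma UU.exists_pow_forall_mem {v : B} (hv : UU A v) (et : B) (T : Finset B) :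
    ∃ m : ℕ, ∀ b ∈ Submodule.span A (T : Set B), IsIntegral A (v ^ m * (b * et)) := by
  classical
  have h1 : ∃ m : ℕ, ∀ b ∈ T, IsIntegral A (v ^ m * (b * et)) := by
    induction T using Finset.induction_on with
    | empty => exact ⟨0, by simp⟩
    | insert a s ha ih =>
      obtain ⟨m₁, h₁⟩ := ih
      obtain ⟨m₂, h₂⟩ := hv.2 (a * et)
      refine ⟨max m₁ m₂, fun b hb => ?_⟩
      rcases Finset.mem_insert.mp hb with rfl | hb
      · exact hv.pow_mul_of_le h₂ (le_max_right _ _)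
      · exact hv.pow_mul_of_le (h₁ b hb) (le_max_left _ _)
  obtain ⟨m, hm⟩ := h1
  refine ⟨m, fun b hb => ?_⟩
  induction hb using Submodule.span_induction with
  | mem x hx => exact hm x hx
  | zero => simpa using isIntegral_zero
  | add x y _ _ hx hy => rw [add_mul, mul_add]; exact hx.add hy
  | smul a x _ hx =>
    rw [Algebra.smul_def, mul_assoc, mul_left_comm]
    exact isIntegral_algebraMap.mul hx

lemma exists_finset_span_sup (J : Ideal B) [Module.Finite A (B ⧸ J)] :
    ∃ T : Finset B, ∀ b : B, ∃ b' ∈ Submodule.span A (T : Set B), b - b' ∈ J := by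
  classical
  obtain ⟨s, hs⟩ := (Module.Finite.fg_top : (⊤ : Submodule A (B ⧸ J)).FG)
  choose! lift hlift using fun y : B ⧸ J => Ideal.Quotient.mk_surjective y
  refine ⟨s.image lift, fun b => ?_⟩
  have hb : Ideal.Quotient.mk J b ∈ Submodule.span A (s : Set (B ⧸ J)) := hs ▸ Submodule.mem_top
  have key : ∀ y ∈ Submodule.span A (s : Set (B ⧸ J)),
      ∃ b' ∈ Submodule.span A ((s.image lift : Finset B) : Set B), Ideal.Quotient.mk J b' = y := by
    intro y hy
    induction hy using Submodule.span_induction with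
    | mem x hx =>
      exact ⟨lift x, Submodule.subset_span (by simpa using ⟨x, hx, rfl⟩), hlift x⟩
    | zero => exact ⟨0, zero_mem _, map_zero _⟩
    | add x y _ _ hx hy =>
      obtain ⟨x', hx', rfl⟩ := hx
      obtain ⟨y', hy', rfl⟩ := hy
      exact ⟨x' + y', add_mem hx' hy', map_add _ _ _⟩
    | smul a x _ hx =>
      obtain ⟨x', hx', rfl⟩ := hx
      refine ⟨a • x', Submodule.smul_mem _ _ hx', ?_⟩
      rw [Algebra.smul_def, Algebra.smul_def, map_mul]
      rfl
  obtain ⟨b', hb', e⟩ := key _ hb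
  exact ⟨b', hb', Ideal.Quotient.eq.mp e.symm⟩

/-- the auxiliary ideal: `y` such that every multiple `b * y` is, modulo `J₁`, of the form `g₀`
with `g₀ * et ∈ U`. -/
def NN (A : Type u) {B : Type u} [CommRing A] [CommRing B] [Algebra A B] (J : Ideal B)
    (et : B) : Ideal B where
  carrier := {y | ∀ b : B, ∃ g₀ : B, UU A (g₀ * et) ∧ g₀ - b * y ∈ J}
  add_mem' := by
    intro y y' hy hy' b
    obtain ⟨g, hg, hgy⟩ := hy b
    obtain ⟨g', hg', hgy'⟩ := hy' b
    refine ⟨g + g', ?_, ?_⟩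
    · rw [add_mul]; exact hg.add hg'
    · have : g + g' - b * (y + y') = (g - b * y) + (g' - b * y') := by ring
      rw [this]; exact add_mem hgy hgy'
  zero_mem' := fun b => ⟨0, by simpa using UU.zero, by simp⟩
  smul_mem' := by
    intro c y hy b
    obtain ⟨g, hg, hgy⟩ := hy (b * c)
    refine ⟨g, hg, ?_⟩
    have : g - b * (c • y) = g - b * c * y := by rw [smul_eq_mul]; ring
    rw [this]; exact hgy

lemma exists_UU_lift [Algebra.FiniteType A B] (I : Ideal A) (et : B)
    (het : et * (1 - et) ∈ I.map (algebraMap A B))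
    [Module.Finite A (B ⧸ (I.map (algebraMap A B) ⊔ Ideal.span {1 - et}))] :
    ∃ g₁ : B, UU A g₁ ∧ g₁ - et ∈ I.map (algebraMap A B) := by
  set J : Ideal B := I.map (algebraMap A B) ⊔ Ideal.span {1 - et} with hJ
  have hJN : J ≤ NN A J et := fun y hy b => ⟨0, by simpa using UU.zero, by
    simpa using Ideal.mul_mem_left _ b hy⟩
  have htop : NN A J et = ⊤ := by
    by_contra hne
    obtain ⟨q, hqmax, hNq⟩ := Ideal.exists_le_maximal _ hne
    have : q.IsPrime := hqmax.isPrime
    obtain ⟨v, hv, hvq⟩ := exists_UU_not_mem I et het q (hJN.trans hNq)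
    obtain ⟨T, hT⟩ := exists_finset_span_sup (A := A) J
    obtain ⟨m, hm⟩ := hv.exists_pow_forall_mem et T
    have hmem : v ^ (m + 1) ∈ NN A J et := by
      intro b
      obtain ⟨b', hb', hbb'⟩ := hT b
      refine ⟨b' * v ^ (m + 1), ?_, ?_⟩
      · have : b' * v ^ (m + 1) * et = (v ^ m * (b' * et)) * v := by ring
        rw [this]
        exact hv.mul_left (hm b' hb')
      · have : b' * v ^ (m + 1) - b * v ^ (m + 1) = -(v ^ (m + 1) * (b - b')) := by ring
        rw [this]
        exact neg_mem (Ideal.mul_mem_left _ _ hbb')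
    exact hvq (Ideal.IsPrime.mem_of_pow_mem ‹_› _ (hNq hmem))
  have h1 : (1 : B) ∈ NN A J et := htop ▸ Submodule.mem_top
  obtain ⟨g₀, hg₀, hg₀J⟩ := h1 1
  refine ⟨g₀ * et, hg₀, ?_⟩
  have : g₀ * et - et = et * (g₀ - 1 * 1) := by ring
  rw [this]
  exact mul_mem_of_mem_sup I et het hg₀J

lemma pow_add_eq_of_succ {R : Type*} [Monoid R] {x : R} {n : ℕ} (h : x ^ (n + 1) = x ^ n) (k : ℕ) :
    x ^ (n + k) = x ^ n := by
  induction k with
  | zero => rfl
  | succ k ih => rw [← add_assoc, pow_succ, ih, ← pow_succ, h]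

end helpers

/-- Let A be a ring with an ideal I and A → B a ring map of finite type, and suppose B/IB = C_1 × C_2
(given by an idempotent e of B/IB with C_1 = (B/IB)/(1 - e)) where C_1 is finite over A/I. Writing
B' for the integral closure of A in B, some g ∈ B' has idempotent image in B'/IB' lifting e (so
B'/IB' = C_1' × C_2' compatibly with the decomposition of B/IB), and the map B'_g → B_g is an
isomorphism (whence C_1' = C_1). -/
theorem result (A B : Type u) [CommRing A] [CommRing B]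
    [Algebra A B] [Algebra.FiniteType A B] (I : Ideal A) (e : B ⧸ Ideal.map (algebraMap A B) I)
    (he : IsIdempotentElem e)
    (hfin : Module.Finite (A ⧸ I) ((B ⧸ Ideal.map (algebraMap A B) I) ⧸ Ideal.span {1 - e})) :
    ∃ g : integralClosure A B,
      IsIdempotentElem (Ideal.Quotient.mk (Ideal.map (algebraMap A (integralClosure A B)) I) g) ∧
      Ideal.Quotient.mk (Ideal.map (algebraMap A B) I) (g : B) = e ∧
      Function.Bijective (algebraMap (Localization.Away g)
        (Localization (Algebra.algebraMapSubmonoid B (Submonoid.powers g)))) := by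
  classical
  obtain ⟨et, rfl⟩ := Ideal.Quotient.mk_surjective e
  have het : et * (1 - et) ∈ Ideal.map (algebraMap A B) I := by
    rw [← Ideal.Quotient.eq_zero_iff_mem, map_mul, map_sub, map_one, mul_sub, mul_one, he.eq,
      sub_self]
  -- finiteness of `B ⧸ (IB ⊔ (1 - et))` over `A`
  have hfinA : Module.Finite A ((B ⧸ Ideal.map (algebraMap A B) I) ⧸
      Ideal.span {1 - Ideal.Quotient.mk (Ideal.map (algebraMap A B) I) et}) :=
    Module.Finite.trans (A ⧸ I) _
  let φ : ((B ⧸ Ideal.map (algebraMap A B) I) ⧸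
      Ideal.span {1 - Ideal.Quotient.mk (Ideal.map (algebraMap A B) I) et}) →ₐ[A]
      B ⧸ (Ideal.map (algebraMap A B) I ⊔ Ideal.span {1 - et}) :=
    Ideal.Quotient.liftₐ _ (Ideal.Quotient.liftₐ (Ideal.map (algebraMap A B) I)
      (Ideal.Quotient.mkₐ A _)
      (fun a ha => Ideal.Quotient.eq_zero_iff_mem.mpr (Ideal.mem_sup_left ha))) (by
      intro a ha
      obtain ⟨c, rfl⟩ := Ideal.mem_span_singleton'.mp ha
      obtain ⟨c, rfl⟩ := Ideal.Quotient.mk_surjective c
      rw [← map_one (Ideal.Quotient.mk (Ideal.map (algebraMap A B) I)), ← map_sub, ← map_mul]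
      change Ideal.Quotient.mk _ (c * (1 - et)) = 0
      exact Ideal.Quotient.eq_zero_iff_mem.mpr (Ideal.mem_sup_right
        (Ideal.mul_mem_left _ _ (Ideal.mem_span_singleton_self _))))
  have hφ : Function.Surjective φ := by
    intro y
    obtain ⟨y, rfl⟩ := Ideal.Quotient.mk_surjective y
    exact ⟨Ideal.Quotient.mk _ (Ideal.Quotient.mk _ y), rfl⟩
  have : Module.Finite A (B ⧸ (Ideal.map (algebraMap A B) I ⊔ Ideal.span {1 - et})) :=
    Module.Finite.of_surjective φ.toLinearMap hφ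
  obtain ⟨g₁, hg₁, hg₁e⟩ := exists_UU_lift I et het
  have hx : g₁ ^ 2 - g₁ ∈ Ideal.map (algebraMap A B) I := by
    have : g₁ ^ 2 - g₁ = (g₁ - et) * (g₁ + et - 1) - et * (1 - et) := by ring
    rw [this]
    exact sub_mem (Ideal.mul_mem_right _ _ hg₁e) het
  obtain ⟨m, y, hy, hym⟩ := hg₁.exists_pow_mul_mem I hx
  let γ : integralClosure A B := ⟨g₁, hg₁.1⟩
  have hγ : γ ^ (m + 1 + 1) - γ ^ (m + 1) = y := by
    apply Subtype.ext
    simp only [AddSubgroupClass.coe_sub, SubmonoidClass.coe_pow, hym, γ]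
    ring
  have hpow : (Ideal.Quotient.mk (Ideal.map (algebraMap A (integralClosure A B)) I) γ) ^
      (m + 1 + 1) =
      (Ideal.Quotient.mk (Ideal.map (algebraMap A (integralClosure A B)) I) γ) ^ (m + 1) := by
    rw [← map_pow, ← map_pow, Ideal.Quotient.eq, hγ]
    exact hy
  have hgU : UU A ((γ ^ (m + 1) : integralClosure A B) : B) := by
    simpa [γ] using hg₁.pow m
  refine ⟨γ ^ (m + 1), ?_, ?_, ?_⟩
  · rw [map_pow]
    unfold IsIdempotentElem
    rw [← pow_add, pow_add_eq_of_succ hpow]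
  · simp only [SubmonoidClass.coe_pow]
    rw [map_pow]
    have : Ideal.Quotient.mk (Ideal.map (algebraMap A B) I) g₁ =
        Ideal.Quotient.mk (Ideal.map (algebraMap A B) I) et := Ideal.Quotient.eq.mpr hg₁e
    simp only [γ]
    rw [this]
    exact he.pow_succ_eq m
  · refine ⟨localizationAlgebra_injective _ _ Subtype.val_injective, fun z => ?_⟩
    obtain ⟨b, ⟨s, hs⟩, rfl⟩ := IsLocalization.exists_mk'_eq
      (Algebra.algebraMapSubmonoid B (Submonoid.powers (γ ^ (m + 1)))) z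
    obtain ⟨_, ⟨k, rfl⟩, hk⟩ := hs
    subst hk
    obtain ⟨n, hn⟩ := hgU.2 b
    refine ⟨IsLocalization.mk' _ (⟨_, hn⟩ : integralClosure A B)
      (⟨(γ ^ (m + 1)) ^ (n + k), n + k, rfl⟩ : Submonoid.powers (γ ^ (m + 1))), ?_⟩
    have key : ∀ x, algebraMap (Localization.Away (γ ^ (m + 1)))
        (Localization (Algebra.algebraMapSubmonoid B (Submonoid.powers (γ ^ (m + 1))))) x =
        IsLocalization.map _ (algebraMap (integralClosure A B) B)
          (show Submonoid.powers (γ ^ (m + 1)) ≤ (Algebra.algebraMapSubmonoid B _).comap _ from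
            (Submonoid.powers (γ ^ (m + 1))).le_comap_map) x := fun x => rfl
    rw [key, IsLocalization.map_mk']
    rw [IsLocalization.mk'_eq_iff_eq]
    congr 1
    simp only [map_pow]
    change ((γ ^ (m + 1) : integralClosure A B) : B) ^ k *
      (((γ ^ (m + 1) : integralClosure A B) : B) ^ n * b) =
      ((γ ^ (m + 1) : integralClosure A B) : B) ^ (n + k) * b
    ring

end Groth.Agent.S9313
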