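import Groth.Statements.S9319
import Groth.Agent.Lib.DeltaNatH44
import Groth.Agent.Lib.MacLane4H44
import Groth.Agent.Lib.PBasisField3H44

set_option autoImplicit false
universe u
open CAlg

namespace Groth.Agent.S9319

open TensorProduct Algebra KaehlerDifferential Groth.Agent.Lib.DeltaNatH44

/-- The connecting map is injective when the big extension is formally smooth. -/
theorem δ_injective (F K L : Type u) [Field F] [Field K] [Field L] [Algebra F K] [Algebra F L]
    [Algebra K L] [IsScalarTower F K L] [Algebra.FormallySmooth F L] :
    Function.Injective (H1Cotangent.δ F K L) := by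
  rw [injective_iff_map_eq_zero]
  intro x hx
  obtain ⟨y, rfl⟩ := (H1Cotangent.exact_map_δ F K L x).1 hx
  rw [Subsingleton.elim y 0, map_zero]

theorem cancel_eq (F K L M : Type u) [Field F] [Field K] [Field L] [Field M]
    [Algebra F K] [Algebra K L] [Algebra L M] [Algebra K M] [IsScalarTower K L M]
    (m : M) (w : L ⊗[K] Ω[K⁄F]) :
    TensorProduct.AlgebraTensorModule.cancelBaseChange K L M M Ω[K⁄F] (m ⊗ₜ w) =
      m • phi F K L M w := by
  induction w using TensorProduct.induction_on with
  | zero => simp
  | tmul l ω =>
    rw [TensorProduct.AlgebraTensorModule.cancelBaseChange_tmul, phi_tmul,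
      TensorProduct.smul_tmul', Algebra.smul_def, smul_eq_mul, mul_comm]
  | add a b ha hb => rw [tmul_add, map_add, ha, hb, map_add, smul_add]

theorem injective_aux (F K L M : Type u) [Field F] [Field K] [Field L] [Field M]
    [Algebra F K] [Algebra F L] [Algebra F M] [Algebra K L] [Algebra L M] [Algebra K M]
    [IsScalarTower K L M] [IsScalarTower F K L] [IsScalarTower F K M]
    [Algebra.FormallySmooth F L] :
    Function.Injective ((Algebra.H1Cotangent.map K K L M).liftBaseChange M) := by
  have h1 : Function.Injective ((H1Cotangent.δ F K L).baseChange M) :=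
    Module.Flat.lTensor_preserves_injective_linearMap (M := M) _ (δ_injective F K L)
  have h2 : (H1Cotangent.δ F K M) ∘ₗ ((Algebra.H1Cotangent.map K K L M).liftBaseChange M) =
      (TensorProduct.AlgebraTensorModule.cancelBaseChange K L M M Ω[K⁄F]).toLinearMap ∘ₗ
        ((H1Cotangent.δ F K L).baseChange M) := by
    apply TensorProduct.AlgebraTensorModule.ext
    intro m x
    simp only [LinearMap.coe_comp, Function.comp_apply, LinearMap.liftBaseChange_tmul,
      LinearEquiv.coe_coe, LinearMap.baseChange_tmul, map_smul]
    rw [δ_natural, cancel_eq]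
  intro a b hab
  have h3 := congrArg (H1Cotangent.δ F K M) hab
  have h4 := LinearMap.congr_fun h2 a
  have h5 := LinearMap.congr_fun h2 b
  simp only [LinearMap.coe_comp, Function.comp_apply, LinearEquiv.coe_coe] at h4 h5
  rw [h4, h5] at h3
  exact h1 ((TensorProduct.AlgebraTensorModule.cancelBaseChange K L M M Ω[K⁄F]).injective h3)


open TensorProduct in
/-- For a tower of fields `K ⊆ L ⊆ M`, the first map of the Jacobi–Zariski sequence, from `H_1(L_{L/K})
⊗_L M` to `H_1(L_{M/K})`, is injective; here `H_1(L)` denotes the first homology of the naive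
cotangent complex and the map is the `M`-linear extension of the functoriality map. (The rest of the
six-term sequence is exact for any three rings, so for fields it is exact with a zero on the left.) -/
theorem result {K L M : Type u} [Field K] [Field L]
    [Field M] [Algebra K L] [Algebra L M] [Algebra K M] [IsScalarTower K L M] :
    Function.Injective ((Algebra.H1Cotangent.map K K L M).liftBaseChange M) := by
  obtain h0 | ⟨p, hp, hchar⟩ := CharP.exists' K
  · have : Algebra.FormallySmooth K L := Groth.Agent.Lib.MacLane4H44.formallySmooth_of_charZero K L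
    have : Subsingleton (M ⊗[L] Algebra.H1Cotangent K L) := inferInstance
    exact Function.injective_of_subsingleton _
  · have hL : CharP L p := charP_of_injective_algebraMap (algebraMap K L).injective p
    have hM : CharP M p := charP_of_injective_algebraMap (algebraMap K M).injective p
    let _ : Algebra (Groth.Agent.Lib.MacLane4H44.PF.{u} p) K :=
      (Groth.Agent.Lib.MacLane4H44.toField p K).toAlgebra
    let _ : Algebra (Groth.Agent.Lib.MacLane4H44.PF.{u} p) L :=
      (Groth.Agent.Lib.MacLane4H44.toField p L).toAlgebra
    let _ : Algebra (Groth.Agent.Lib.MacLane4H44.PF.{u} p) M :=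
      (Groth.Agent.Lib.MacLane4H44.toField p M).toAlgebra
    have t1 : IsScalarTower (Groth.Agent.Lib.MacLane4H44.PF.{u} p) K L := by
      apply IsScalarTower.of_algebraMap_eq'
      exact (Groth.Agent.Lib.MacLane4H44.toField_unique p L
        ((algebraMap K L).comp (algebraMap (Groth.Agent.Lib.MacLane4H44.PF.{u} p) K))).symm
    have t2 : IsScalarTower (Groth.Agent.Lib.MacLane4H44.PF.{u} p) K M := by
      apply IsScalarTower.of_algebraMap_eq'
      exact (Groth.Agent.Lib.MacLane4H44.toField_unique p M
        ((algebraMap K M).comp (algebraMap (Groth.Agent.Lib.MacLane4H44.PF.{u} p) K))).symm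
    have : Algebra.FormallySmooth (Groth.Agent.Lib.MacLane4H44.PF.{u} p) L :=
      Groth.Agent.Lib.PBasisField3H44.formallySmooth_of_perfectRing p _ L
    exact injective_aux (Groth.Agent.Lib.MacLane4H44.PF.{u} p) K L M

end Groth.Agent.S9319
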