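import Groth.Statements.S9320
import Groth.Agent.Lib.CartierH44
import Groth.Agent.Lib.IndexH44

set_option autoImplicit false
universe u
open CAlg

namespace Groth.Agent.S9320

open TensorProduct Algebra KaehlerDifferential Groth.Agent.Lib.SixTermH44
  Groth.Agent.Lib.CartierH44 Groth.Agent.Lib.IndexH44

section Helpers

variable (k k' K K' : Type u) [Field k] [Field k']
    [Field K] [Field K'] [Algebra k k'] [Algebra k K] [Algebra k K'] [Algebra k' K'] [Algebra K K']
    [IsScalarTower k k' K'] [IsScalarTower k K K']

theorem alpha_eq : (KaehlerDifferential.map k k' K K').liftBaseChange K' =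
    (KaehlerDifferential.map k k' K' K') ∘ₗ (KaehlerDifferential.mapBaseChange k K K') := by
  apply TensorProduct.AlgebraTensorModule.ext
  intro m w
  simp only [LinearMap.liftBaseChange_tmul, LinearMap.coe_comp, Function.comp_apply,
    KaehlerDifferential.mapBaseChange_tmul, map_smul]
  congr 1
  have key : KaehlerDifferential.map k k' K K' =
      ((KaehlerDifferential.map k k' K' K').restrictScalars K) ∘ₗ
        (KaehlerDifferential.map k k K K') := by
    apply Derivation.liftKaehlerDifferential_unique
    ext a
    simp [KaehlerDifferential.map_D]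
  exact LinearMap.congr_fun key w

theorem beta_eq : (Algebra.H1Cotangent.map k k' K K').liftBaseChange K' =
    (Algebra.H1Cotangent.map k k' K' K') ∘ₗ
      ((Algebra.H1Cotangent.map k k K K').liftBaseChange K') := by
  apply TensorProduct.AlgebraTensorModule.ext
  intro m w
  simp only [LinearMap.liftBaseChange_tmul, LinearMap.coe_comp, Function.comp_apply, map_smul]
  congr 1
  have key : Algebra.H1Cotangent.map k k' K K' =
      ((Algebra.H1Cotangent.map k k' K' K').restrictScalars K) ∘ₗ
        (Algebra.H1Cotangent.map k k K K') := by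
    rw [Algebra.H1Cotangent.map, Algebra.H1Cotangent.map, Algebra.H1Cotangent.map,
      ← Extension.H1Cotangent.map_comp]
    exact Extension.H1Cotangent.map_eq _ _
  exact LinearMap.congr_fun key w

end Helpers

open TensorProduct in
/-- Consider a commutative square of fields with maps `k → K`, `k → k'`, `k' → K'` and `K → K'`, where
`k'` is a finitely generated field extension of `k` and `K'` is a finitely generated field extension
of `K`. Let `α : Ω_{K/k} ⊗_K K' → Ω_{K'/k'}` and `β : H_1(L_{K/k}) ⊗_K K' → H_1(L_{K'/k'})` be the
comparison maps (`H_1(L)` the first homology of the naive cotangent complex). Then the kernels and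
cokernels of `α` and `β` are finite-dimensional `K'`-vector spaces, and the difference of
transcendence degrees trdeg_k(k') − trdeg_K(K') equals (dim Ker α + dim Coker β) − (dim Coker α +
dim Ker β). -/
theorem result {k k' K K' : Type u} [Field k] [Field k']
    [Field K] [Field K'] [Algebra k k'] [Algebra k K] [Algebra k K'] [Algebra k' K'] [Algebra K K']
    [IsScalarTower k k' K'] [IsScalarTower k K K']
    [Algebra.EssFiniteType k k'] [Algebra.EssFiniteType K K'] :
    Module.Finite K' (LinearMap.ker ((KaehlerDifferential.map k k' K K').liftBaseChange K')) ∧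
      Module.Finite K' (Ω[K'⁄k'] ⧸ LinearMap.range ((KaehlerDifferential.map k k' K K').liftBaseChange K')) ∧
      Module.Finite K' (LinearMap.ker ((Algebra.H1Cotangent.map k k' K K').liftBaseChange K')) ∧
      Module.Finite K' (Algebra.H1Cotangent k' K' ⧸ LinearMap.range ((Algebra.H1Cotangent.map k k' K K').liftBaseChange K')) ∧
      ((Module.finrank K' (LinearMap.ker ((KaehlerDifferential.map k k' K K').liftBaseChange K')) : ℤ)
          - Module.finrank K' (Ω[K'⁄k'] ⧸ LinearMap.range ((KaehlerDifferential.map k k' K K').liftBaseChange K'))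
          - Module.finrank K' (LinearMap.ker ((Algebra.H1Cotangent.map k k' K K').liftBaseChange K'))
          + Module.finrank K' (Algebra.H1Cotangent k' K' ⧸ LinearMap.range ((Algebra.H1Cotangent.map k k' K K').liftBaseChange K'))
        = (Cardinal.toNat (Algebra.trdeg k k') : ℤ) - Cardinal.toNat (Algebra.trdeg K K')) := by
  obtain ⟨c1, c2, c3⟩ := cartier k k'
  obtain ⟨c4, c5, c6⟩ := cartier K K'
  obtain ⟨ha1, hd1, h1⟩ := six_term_36 (F := K')
    ((H1Cotangent.map k k K K').liftBaseChange K') (H1Cotangent.map k K K' K')
    (H1Cotangent.δ k K K') (mapBaseChange k K K') (KaehlerDifferential.map k K K' K')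
    Groth.Agent.S9319.result
    (H1Cotangent.exact_liftBaseChange_map_of_flat k K K')
    (H1Cotangent.exact_map_δ k K K')
    (H1Cotangent.exact_δ_mapBaseChange k K K')
    (KaehlerDifferential.exact_mapBaseChange_map k K K')
    (KaehlerDifferential.map_surjective k K K')
  obtain ⟨hb2, he2, h2⟩ := six_term_14 (F := K')
    ((H1Cotangent.map k k k' K').liftBaseChange K') (H1Cotangent.map k k' K' K')
    (H1Cotangent.δ k k' K') (mapBaseChange k k' K') (KaehlerDifferential.map k k' K' K')
    Groth.Agent.S9319.result
    (H1Cotangent.exact_liftBaseChange_map_of_flat k k' K')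
    (H1Cotangent.exact_map_δ k k' K')
    (H1Cotangent.exact_δ_mapBaseChange k k' K')
    (KaehlerDifferential.exact_mapBaseChange_map k k' K')
    (KaehlerDifferential.map_surjective k k' K')
  obtain ⟨hα, iα⟩ := ind_comp _ _ hd1 he2
  obtain ⟨hβ, iβ⟩ := ind_comp _ _ ha1 hb2
  rw [alpha_eq, beta_eq]
  refine ⟨hα.1, hα.2, hβ.1, hβ.2, ?_⟩
  rw [Module.finrank_baseChange, Module.finrank_baseChange] at h2
  unfold chi at c3 c6
  unfold ind at iα iβ h1 h2
  omega

end Groth.Agent.S9320
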