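import Groth.Statements.S9323
import Groth.Agent.Lib.CohenRing
import Groth.Agent.Lib.H59PowerSeries

set_option autoImplicit false
open CAlg

namespace Groth.Agent.S9323

/-- Let `Λ` be a Cohen ring (a complete discrete valuation ring whose maximal ideal is generated by a
prime number) and `n ≥ 0`. Then `ℤ → Λ[[x_1, …, x_n]]` is formally smooth for the adic topology of
the maximal ideal of the power series ring. (`Λ` is taken in the lowest universe, where `ℤ` lives.) -/
theorem result (Λ : Type) [CommRing Λ] [IsLocalRing Λ]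
    (hΛ : CAlg.IsCohenRing Λ) (n : ℕ) :
    CAlgX.IsAdicFormallySmooth ℤ (MvPowerSeries (Fin n) Λ)
      (IsLocalRing.maximalIdeal (MvPowerSeries (Fin n) Λ)) := by
  classical
  obtain ⟨hdom, hdvr, hcomp, p, hp, hmax⟩ := hΛ
  intro A _ _ J hJ ψ ⟨k, hk⟩
  let S := MvPowerSeries (Fin n) Λ
  -- `C` maps the maximal ideal into the maximal ideal
  have hCm : ∀ a ∈ IsLocalRing.maximalIdeal Λ,
      (MvPowerSeries.C a : S) ∈ IsLocalRing.maximalIdeal S := by
    intro a ha
    rw [IsLocalRing.mem_maximalIdeal, mem_nonunits_iff] at ha ⊢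
    intro hu
    apply ha
    have := hu.map (MvPowerSeries.constantCoeff (σ := Fin n) (R := Λ))
    rwa [MvPowerSeries.constantCoeff_C] at this
  have hXm : ∀ i : Fin n, (MvPowerSeries.X i : S) ∈ IsLocalRing.maximalIdeal S := by
    intro i
    rw [IsLocalRing.mem_maximalIdeal, mem_nonunits_iff]
    intro hu
    have := hu.map (MvPowerSeries.constantCoeff (σ := Fin n) (R := Λ))
    rw [MvPowerSeries.constantCoeff_X] at this
    exact not_isUnit_zero this
  -- the `ZU`-algebra structures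
  let _ : Algebra Groth.Agent.Lib.CohenRing.ZU.{0} Λ := Groth.Agent.Lib.CohenRing.zuAlgebra Λ
  let _ : Algebra Groth.Agent.Lib.CohenRing.ZU.{0} A := Groth.Agent.Lib.CohenRing.zuAlgebra A
  have hfs := Groth.Agent.Lib.CohenRing.isFormallySmoothAdic_ulift_int (W := Λ) hp hmax
  -- `p ^ (2k) = 0` in `A`
  have hpk : ((p : ℕ) : A ⧸ J) ^ k = 0 := by
    have h1 : ((p : ℕ) : S) ^ k ∈ IsLocalRing.maximalIdeal S ^ k := by
      apply Ideal.pow_mem_pow
      have : ((p : ℕ) : S) = MvPowerSeries.C ((p : ℕ) : Λ) := (map_natCast _ p).symm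
      rw [this]
      apply hCm
      rw [hmax]
      exact Ideal.mem_span_singleton_self _
    have h2 := hk _ h1
    rwa [map_pow, map_natCast] at h2
  have hpA : ((p : ℕ) : A) ^ (2 * k) = 0 := by
    have h1 : ((p : ℕ) : A) ^ k ∈ J := by
      rw [← Ideal.Quotient.eq_zero_iff_mem, map_pow, map_natCast]
      exact hpk
    have h2 : (((p : ℕ) : A) ^ k) ^ 2 ∈ J ^ 2 := Ideal.pow_mem_pow h1 2
    rw [hJ, Ideal.mem_bot, ← pow_mul, mul_comm] at h2
    exact h2
  -- lift the restriction to `Λ`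
  let ψ₀ : Λ →ₐ[Groth.Agent.Lib.CohenRing.ZU.{0}] A ⧸ J :=
    Groth.Agent.Lib.CohenRing.toZAlgHom (ψ.toRingHom.comp (MvPowerSeries.C : Λ →+* S))
  obtain ⟨χ₀, hχ₀⟩ := hfs A J ⟨2, hJ⟩ ⟨2 * k, by
      rw [Ideal.span_singleton_pow, Ideal.map_span, Set.image_singleton, map_pow, map_natCast,
        hpA, Ideal.span_singleton_eq_bot]⟩ ψ₀ ⟨k, by
      intro x hx
      show ψ (MvPowerSeries.C x) = 0
      apply hk
      have h1 : (IsLocalRing.maximalIdeal Λ).map (MvPowerSeries.C : Λ →+* S) ≤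
          IsLocalRing.maximalIdeal S := by
        rw [Ideal.map_le_iff_le_comap]
        intro a ha
        exact hCm a ha
      have h2 := Ideal.pow_right_mono h1 k
      rw [← Ideal.map_pow] at h2
      exact h2 (Ideal.mem_map_of_mem _ hx)⟩
  have hχ₀' : ∀ r : Λ, Ideal.Quotient.mk J (χ₀ r) = ψ (MvPowerSeries.C r) :=
    fun r => AlgHom.congr_fun hχ₀ r
  -- lifts of the images of the variables
  choose a ha using fun i : Fin n => Ideal.Quotient.mk_surjective (ψ (MvPowerSeries.X i : S))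
  let 𝔞q : Ideal (A ⧸ J) := (IsLocalRing.maximalIdeal S).map ψ.toRingHom
  have h𝔞q : 𝔞q ^ k = ⊥ := by
    rw [← Ideal.map_pow, eq_bot_iff, Ideal.map_le_iff_le_comap]
    intro x hx
    rw [Ideal.mem_comap, Ideal.mem_bot]
    exact hk x hx
  let 𝔞 : Ideal A := 𝔞q.comap (Ideal.Quotient.mk J)
  have h𝔞 : 𝔞 ^ (k * 2) = ⊥ := by
    have h1 : 𝔞 ^ k ≤ J := by
      have h2 : (𝔞 ^ k).map (Ideal.Quotient.mk J) ≤ ⊥ := by
        rw [Ideal.map_pow, ← h𝔞q]
        apply Ideal.pow_right_mono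
        exact Ideal.map_comap_le
      intro x hx
      have := h2 (Ideal.mem_map_of_mem _ hx)
      rwa [Ideal.mem_bot, Ideal.Quotient.eq_zero_iff_mem] at this
    rw [pow_mul, eq_bot_iff, ← hJ]
    exact Ideal.pow_right_mono h1 2
  have ha𝔞 : ∀ i, a i ∈ 𝔞 := by
    intro i
    show Ideal.Quotient.mk J (a i) ∈ 𝔞q
    rw [ha i]
    exact Ideal.mem_map_of_mem _ (hXm i)
  let _ : Algebra Λ A := χ₀.toRingHom.toAlgebra
  obtain ⟨φ, hφ⟩ := Groth.Agent.Lib.H59PowerSeries.exists_eval (σ := Fin n) (R := Λ) 𝔞 (k * 2) h𝔞 a ha𝔞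
  have hφC : ∀ r : Λ, φ (MvPowerSeries.C r) = χ₀ r := by
    intro r
    have h1 : (MvPowerSeries.C r : S) = algebraMap Λ S r := rfl
    rw [h1, AlgHom.commutes]
    rfl
  have hφX : ∀ i, φ (MvPowerSeries.X i) = a i := by
    intro i
    have := hφ (MvPolynomial.X i)
    rw [MvPolynomial.coe_X, MvPolynomial.aeval_X] at this
    exact this
  -- comparison modulo `J`
  let _ : Algebra Λ (A ⧸ J) := (ψ.toRingHom.comp (MvPowerSeries.C : Λ →+* S)).toAlgebra
  let φa : S →ₐ[Λ] A ⧸ J :=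
    { (Ideal.Quotient.mk J).comp φ.toRingHom with
      commutes' := fun r => by
        show Ideal.Quotient.mk J (φ (MvPowerSeries.C r)) = ψ (MvPowerSeries.C r)
        rw [hφC, hχ₀'] }
  let ψa : S →ₐ[Λ] A ⧸ J := { ψ.toRingHom with commutes' := fun r => rfl }
  have heq : φa = ψa := by
    refine Groth.Agent.Lib.H59PowerSeries.eval_unique 𝔞q k h𝔞q φa ψa (fun i => ?_) (fun i => ?_)
    · show Ideal.Quotient.mk J (φ (MvPowerSeries.X i)) ∈ 𝔞q
      rw [hφX, ha i]
      exact Ideal.mem_map_of_mem _ (hXm i)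
    · show Ideal.Quotient.mk J (φ (MvPowerSeries.X i)) = ψ (MvPowerSeries.X i)
      rw [hφX, ha i]
  refine ⟨{ φ.toRingHom with commutes' := fun r => ?_ }, AlgHom.ext fun f => ?_⟩
  · show φ (algebraMap ℤ S r) = algebraMap ℤ A r
    rw [eq_intCast (algebraMap ℤ S) r, eq_intCast (algebraMap ℤ A) r, map_intCast]
  · exact AlgHom.congr_fun heq f

end Groth.Agent.S9323
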