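import Groth.Statements.S9325
import Groth.Agent.Lib.H87ConormalMono

set_option autoImplicit false
universe u
open CAlg

namespace Groth.Agent.S9325

section aux

variable {A : Type*} [CommRing A] (I : Ideal A) (G : A)
  (B : Type*) [CommRing B] [Algebra A B] [IsLocalization.Away G B]
  (A₁ : Type*) [CommRing A₁] [Algebra (A ⧸ I) A₁]
  [IsLocalization.Away (Ideal.Quotient.mk I G) A₁]

/-- the induced map `A_G → (A/I)_g` -/
noncomputable def φ : B →+* A₁ := IsLocalization.Away.map B A₁ (Ideal.Quotient.mk I) G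

theorem φ_algebraMap (a : A) :
    φ I G B A₁ (algebraMap A B a) = algebraMap (A ⧸ I) A₁ (Ideal.Quotient.mk I a) := by
  unfold φ IsLocalization.Away.map
  exact IsLocalization.map_eq _ _

theorem φ_surjective : Function.Surjective (φ I G B A₁) := by
  unfold φ
  rw [IsLocalization.Away.map_surjective_iff]
  intro a
  obtain ⟨b, rfl⟩ := Ideal.Quotient.mk_surjective a
  exact ⟨b, 0, by simp⟩

theorem ker_φ : RingHom.ker (φ I G B A₁) = I.map (algebraMap A B) := by
  apply le_antisymm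
  · intro y hy
    obtain ⟨a, s, rfl⟩ := IsLocalization.exists_mk'_eq (Submonoid.powers G) y
    rw [RingHom.mem_ker] at hy
    unfold φ IsLocalization.Away.map at hy
    rw [IsLocalization.map_mk', IsLocalization.mk'_eq_zero_iff] at hy
    obtain ⟨⟨m, k, hk⟩, hm⟩ := hy
    rw [IsLocalization.mk'_mem_map_algebraMap_iff]
    refine ⟨G ^ k, ⟨k, rfl⟩, ?_⟩
    rw [← Ideal.Quotient.eq_zero_iff_mem, map_mul, map_pow]
    simpa [← hk] using hm
  · rw [Ideal.map_le_iff_le_comap]
    intro a ha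
    rw [Ideal.mem_comap, RingHom.mem_ker, φ_algebraMap, Ideal.Quotient.eq_zero_iff_mem.mpr ha,
      map_zero]

end aux

theorem exists_pow_mul_mem {A : Type*} [CommRing A] (I J : Ideal A) (hIJ : I ≤ J) (G : A)
    (B : Type*) [CommRing B] [Algebra A B] [IsLocalization.Away G B]
    (A₁ : Type*) [CommRing A₁] [Algebra (A ⧸ I) A₁]
    [IsLocalization.Away (Ideal.Quotient.mk I G) A₁]
    {c : ℕ} (f : Fin c → A₁) (hf : CAlgX.IsH1Regular f)
    (hspan : Ideal.span (Set.range f) =
      (J.map (Ideal.Quotient.mk I)).map (algebraMap (A ⧸ I) A₁))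
    (x : A) (hxI : x ∈ I) (hxJ : x ∈ J ^ 2) : ∃ k : ℕ, G ^ k * x ∈ I * J := by
  let ψ : B →+* A₁ := φ I G B A₁
  let _ : Algebra B A₁ := ψ.toAlgebra
  let _ : Algebra B (A₁ ⧸ Ideal.span (Set.range f)) := ((Ideal.Quotient.mk (Ideal.span (Set.range f))).comp ψ).toAlgebra
  have hsurj : Function.Surjective (algebraMap B A₁) := φ_surjective I G B A₁
  have hker1 : RingHom.ker (algebraMap B A₁) = I.map (algebraMap A B) := ker_φ I G B A₁
  have hkerC : RingHom.ker (algebraMap A₁ (A₁ ⧸ Ideal.span (Set.range f))) = Ideal.span (Set.range f) := Ideal.mk_ker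
  have hmapJ : (J.map (algebraMap A B)).map ψ = Ideal.span (Set.range f) := by
    rw [hspan, Ideal.map_map, Ideal.map_map]
    congr 1
    ext a
    exact φ_algebraMap I G B A₁ a
  have hker2 : RingHom.ker (algebraMap B (A₁ ⧸ Ideal.span (Set.range f))) = J.map (algebraMap A B) := by
    have h1 : RingHom.ker (algebraMap B (A₁ ⧸ Ideal.span (Set.range f))) = (Ideal.span (Set.range f)).comap ψ := by
      ext y
      rw [RingHom.mem_ker, Ideal.mem_comap]
      exact Ideal.Quotient.eq_zero_iff_mem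
    rw [h1, ← hmapJ, Ideal.comap_map_of_surjective ψ hsurj]
    have h2 : Ideal.comap ψ ⊥ = I.map (algebraMap A B) := hker1
    rw [h2, sup_eq_left]
    exact Ideal.map_mono hIJ
  have hx1 : algebraMap B A₁ (algebraMap A B x) = 0 := by
    rw [← RingHom.mem_ker, hker1]
    exact Ideal.mem_map_of_mem _ hxI
  have hx2 : algebraMap A B x ∈ RingHom.ker (algebraMap B (A₁ ⧸ Ideal.span (Set.range f))) * RingHom.ker (algebraMap B (A₁ ⧸ Ideal.span (Set.range f))) := by
    rw [hker2, ← pow_two, ← Ideal.map_pow]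
    exact Ideal.mem_map_of_mem _ hxJ
  have hmem := @Groth.Agent.Lib.H87ConormalMono.mem_mul_of_isH1Regular B A₁
    (A₁ ⧸ Ideal.span (Set.range f)) _ _ _ _ _ _ (IsScalarTower.of_algebraMap_eq (fun _ => rfl))
    hsurj c f hf hkerC (algebraMap A B x) hx1 hx2
  rw [hker1, hker2, ← Ideal.map_mul,
    IsLocalization.algebraMap_mem_map_algebraMap_iff (Submonoid.powers G)] at hmem
  obtain ⟨m, ⟨k, rfl⟩, hm⟩ := hmem
  exact ⟨k, hm⟩


/-- Let `A` be a ring and `I ⊆ J` ideals of `A` such that the ideal `J/I` of `A/I` is `H_1`-regular: for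
every prime `𝔮` of `A/I` containing `J/I` there is `g ∉ 𝔮` such that the extension of `J/I` to
`(A/I)_g` is generated by an `H_1`-regular sequence (a finite sequence all of whose linear relations
are combinations of the trivial ones). Then `I ∩ J² = I J`. -/
theorem result {A : Type u} [CommRing A] (I J : Ideal A)
    (hIJ : I ≤ J)
    (h : ∀ (𝔮 : Ideal (A ⧸ I)) [𝔮.IsPrime], J.map (Ideal.Quotient.mk I) ≤ 𝔮 →
      ∃ g : A ⧸ I, g ∉ 𝔮 ∧ ∃ (c : ℕ) (f : Fin c → Localization.Away g),
        CAlgX.IsH1Regular f ∧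
          Ideal.span (Set.range f) =
            (J.map (Ideal.Quotient.mk I)).map (algebraMap (A ⧸ I) (Localization.Away g))) :
    I ⊓ J ^ 2 = I * J := by
  apply le_antisymm
  · rintro x ⟨hxI, hxJ⟩
    -- the colon ideal
    let K : Ideal A :=
      { carrier := {a | a * x ∈ I * J}
        add_mem' := fun {a b} ha hb => by
          show (a + b) * x ∈ I * J
          rw [add_mul]; exact Ideal.add_mem _ ha hb
        zero_mem' := by show (0 : A) * x ∈ I * J; simp
        smul_mem' := fun c a ha => by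
          show (c • a) * x ∈ I * J
          rw [smul_eq_mul, mul_assoc]; exact Ideal.mul_mem_left _ _ ha }
    have hK : ∀ a, a ∈ K ↔ a * x ∈ I * J := fun a => Iff.rfl
    by_contra hx
    have hKtop : K ≠ ⊤ := by
      intro h
      have : (1 : A) ∈ K := h ▸ Submodule.mem_top
      rw [hK, one_mul] at this
      exact hx this
    obtain ⟨𝔪, h𝔪, hK𝔪⟩ := Ideal.exists_le_maximal K hKtop
    have h𝔪p : 𝔪.IsPrime := h𝔪.isPrime
    by_cases hJ𝔪 : J ≤ 𝔪
    · have hI𝔪 : I ≤ 𝔪 := hIJ.trans hJ𝔪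
      have hq : (𝔪.map (Ideal.Quotient.mk I)).IsPrime :=
        Ideal.map_isPrime_of_surjective Ideal.Quotient.mk_surjective (by rwa [Ideal.mk_ker])
      obtain ⟨g, hg, c, f, hf, hspan⟩ := h (𝔪.map (Ideal.Quotient.mk I)) (Ideal.map_mono hJ𝔪)
      obtain ⟨G, rfl⟩ := Ideal.Quotient.mk_surjective g
      have hG : G ∉ 𝔪 := fun hG => hg (Ideal.mem_map_of_mem _ hG)
      obtain ⟨k, hk⟩ := exists_pow_mul_mem I J hIJ G (Localization.Away G)
        (Localization.Away (Ideal.Quotient.mk I G)) f hf hspan x hxI hxJ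
      exact hG (h𝔪p.mem_of_pow_mem k (hK𝔪 ((hK _).mpr hk)))
    · obtain ⟨s, hsJ, hs𝔪⟩ := Set.not_subset.mp hJ𝔪
      apply hs𝔪
      apply hK𝔪
      rw [hK, mul_comm s x]
      exact Ideal.mul_mem_mul hxI hsJ
  · refine le_inf Ideal.mul_le_left ?_
    rw [pow_two]
    exact Ideal.mul_mono_left hIJ

end Groth.Agent.S9325
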