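import Groth.Statements.S9326
import Mathlib

set_option autoImplicit false
set_option linter.unusedSectionVars false
set_option linter.unusedVariables false
universe u
open CAlg

namespace Groth.Agent.S9326

open Filter Topology

section
variable {N M : Type u} [AddCommGroup N]
    [AddCommGroup M] [UniformSpace N] [IsUniformAddGroup N] [TopologicalSpace M]
    [IsTopologicalAddGroup M] [T2Space M] [T2Space N] [CompleteSpace N] [NonarchimedeanAddGroup N]
    [FirstCountableTopology N]

lemma not_both (u : N →+ M) (hopen : IsOpenMap u) (V : OpenAddSubgroup N)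
    (hV : IsNowhereDense (u '' (V : Set N))) : False := by
  have h1 : IsOpen (u '' (V : Set N)) := hopen _ V.isOpen
  have h2 : (0 : M) ∈ u '' (V : Set N) := ⟨0, V.zero_mem, map_zero u⟩
  have h3 : (0 : M) ∈ interior (closure (u '' (V : Set N))) :=
    interior_mono subset_closure (by rwa [h1.interior_eq])
  rw [IsNowhereDense] at hV
  rw [hV] at h3
  exact h3

/-- decreasing sequence of open subgroups -/
noncomputable def Vseq (V : OpenAddSubgroup N) (V' : ℕ → OpenAddSubgroup N) :
    ℕ → OpenAddSubgroup N
  | 0 => V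
  | n + 1 => Vseq V V' n ⊓ V' n

/-- remainders -/
noncomputable def rseq (u : N →+ M) (y : M) (xs : ℕ → M → N) : ℕ → M
  | 0 => y
  | n + 1 => rseq u y xs n - u (xs n (rseq u y xs n))

lemma closure_image_subset (u : N →+ M) (hu : Continuous u)
    (hnd : ∀ V : OpenAddSubgroup N, ¬ IsNowhereDense (u '' (V : Set N))) (V : OpenAddSubgroup N) :
    closure (u '' (V : Set N)) ⊆ u '' (V : Set N) := by
  have hW : ∀ V' : OpenAddSubgroup N, closure (u '' (V' : Set N)) ∈ 𝓝 (0 : M) := by
    intro V'
    have hne : (interior (closure (u '' (V' : Set N)))).Nonempty := by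
      rw [Set.nonempty_iff_ne_empty]; exact hnd V'
    obtain ⟨g, hg⟩ := hne
    let H : AddSubgroup M := (AddSubgroup.map u (V' : AddSubgroup N)).topologicalClosure
    have hH : (H : Set M) = closure (u '' (V' : Set N)) := by
      simp [H, AddSubgroup.topologicalClosure_coe]
    have hHo : IsOpen (H : Set M) :=
      H.isOpen_of_mem_nhds (g := g) (by rw [hH]; exact mem_interior_iff_mem_nhds.mp hg)
    rw [← hH]; exact hHo.mem_nhds H.zero_mem
  obtain ⟨B, hB⟩ := (𝓝 (0 : N)).exists_antitone_basis
  have hV' : ∀ n, ∃ V' : OpenAddSubgroup N, (V' : Set N) ⊆ B n :=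
    fun n => NonarchimedeanAddGroup.is_nonarchimedean _ (hB.mem n)
  choose V' hV' using hV'
  let Vn : ℕ → OpenAddSubgroup N := Vseq V V'
  have hVn0 : Vn 0 = V := rfl
  have hVnS : ∀ n, Vn (n + 1) = Vn n ⊓ V' n := fun n => rfl
  have hanti1 : ∀ n, Vn (n + 1) ≤ Vn n := fun n => by rw [hVnS]; exact inf_le_left
  have hanti : ∀ n m, n ≤ m → Vn m ≤ Vn n := by
    intro n m hnm
    induction m, hnm using Nat.le_induction with
    | base => exact le_rfl
    | succ m _ ih => exact (hanti1 m).trans ih
  have hVnB : ∀ n, (Vn (n + 1) : Set N) ⊆ B n := by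
    intro n x hx
    have : Vn (n + 1) ≤ V' n := by rw [hVnS]; exact inf_le_right
    exact hV' n (this hx)
  have step : ∀ (n : ℕ) (r : M), r ∈ closure (u '' (Vn n : Set N)) →
      ∃ x : N, x ∈ (Vn n : Set N) ∧ r - u x ∈ closure (u '' (Vn (n + 1) : Set N)) := by
    intro n r hr
    have hnb : {m : M | r - m ∈ closure (u '' (Vn (n + 1) : Set N))} ∈ 𝓝 r := by
      have hc : Continuous (fun m : M => r - m) := continuous_const.sub continuous_id
      have ht : Tendsto (fun m : M => r - m) (𝓝 r) (𝓝 (r - r)) := hc.tendsto r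
      rw [sub_self] at ht
      exact ht (hW (Vn (n + 1)))
    obtain ⟨m, hm1, hm2⟩ := mem_closure_iff_nhds.mp hr _ hnb
    obtain ⟨x, hx, rfl⟩ := hm2
    exact ⟨x, hx, hm1⟩
  intro y hy
  choose! xs hxs using step
  let r : ℕ → M := rseq u y xs
  have hr0 : r 0 = y := rfl
  have hrS : ∀ n, r (n + 1) = r n - u (xs n (r n)) := fun n => rfl
  have hrW : ∀ n, r n ∈ closure (u '' (Vn n : Set N)) := by
    intro n
    induction n with
    | zero => exact hy
    | succ n ih => rw [hrS]; exact (hxs n (r n) ih).2
  let x : ℕ → N := fun n => xs n (r n)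
  have hxV : ∀ n, x n ∈ (Vn n : Set N) := fun n => (hxs n (r n) (hrW n)).1
  have hrsum : ∀ n, r n = y - u (∑ i ∈ Finset.range n, x i) := by
    intro n
    induction n with
    | zero => simp [hr0]
    | succ n ih =>
      rw [show r (n + 1) = r n - u (x n) from hrS n, ih, Finset.sum_range_succ, map_add]
      abel
  have hx0 : Tendsto x atTop (𝓝 0) := by
    rw [← tendsto_add_atTop_iff_nat 1]
    exact hB.tendsto (fun n => hVnB n (hxV (n + 1)))
  have hsum : Summable x :=
    NonarchimedeanAddGroup.summable_of_tendsto_cofinite_zero (by rwa [Nat.cofinite_eq_atTop])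
  have hs := hsum.hasSum.tendsto_sum_nat
  have hxinfV : (∑' i, x i) ∈ (V : Set N) := by
    refine V.isClosed.mem_of_tendsto hs (Filter.Eventually.of_forall (fun n => ?_))
    exact (V : AddSubgroup N).sum_mem (fun i _ => hanti 0 i (Nat.zero_le i) (hxV i))
  have hr1 : Tendsto r atTop (𝓝 (y - u (∑' i, x i))) := by
    have h1 : Tendsto (fun n => y - u (∑ i ∈ Finset.range n, x i)) atTop
        (𝓝 (y - u (∑' i, x i))) :=
      tendsto_const_nhds.sub ((hu.tendsto _).comp hs)
    exact h1.congr (fun n => (hrsum n).symm)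
  have hr2 : Tendsto r atTop (𝓝 0) := by
    rw [(closed_nhds_basis (0 : M)).tendsto_right_iff]
    rintro U ⟨hU, hUc⟩
    have hpre : u ⁻¹' U ∈ 𝓝 (0 : N) := by
      have := hu.tendsto 0
      rw [map_zero] at this
      exact this hU
    obtain ⟨k, hk⟩ := hB.mem_iff.mp hpre
    filter_upwards [eventually_ge_atTop (k + 1)] with n hn
    have hsub : u '' (Vn n : Set N) ⊆ U := by
      rintro _ ⟨z, hz, rfl⟩
      exact hk (hVnB k (hanti (k + 1) n hn hz))
    exact closure_minimal hsub hUc (hrW n)
  have hfin := tendsto_nhds_unique hr1 hr2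
  exact ⟨∑' i, x i, hxinfV, (sub_eq_zero.mp hfin).symm⟩

end

/-- Let `u : N → M` be a continuous homomorphism of topological abelian groups. Assume `M` is Hausdorff
and `N` is Hausdorff and complete, linearly topologized (every neighbourhood of zero contains an
open subgroup) and first countable (zero has a countable basis of neighbourhoods). Then exactly one
of two things holds: `u` is an open map; or there is an open subgroup of `N` whose image is nowhere
dense in `M`. -/
theorem result {N M : Type u} [AddCommGroup N]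
    [AddCommGroup M] [UniformSpace N] [IsUniformAddGroup N] [TopologicalSpace M]
    [IsTopologicalAddGroup M] [T2Space M] [T2Space N] [CompleteSpace N] [NonarchimedeanAddGroup N]
    [FirstCountableTopology N] (u : N →+ M) (hu : Continuous u) :
    Xor (IsOpenMap u) (∃ V : OpenAddSubgroup N, IsNowhereDense (u '' (V : Set N))) := by
  by_cases h : ∃ V : OpenAddSubgroup N, IsNowhereDense (u '' (V : Set N))
  · right
    refine ⟨h, fun hopen => ?_⟩
    obtain ⟨V, hV⟩ := h
    exact not_both u hopen V hV
  · left
    refine ⟨?_, h⟩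
    push Not at h
    have himg : ∀ V : OpenAddSubgroup N, IsOpen (u '' (V : Set N)) := by
      intro V
      have hcl : closure (u '' (V : Set N)) = u '' (V : Set N) :=
        Set.Subset.antisymm (closure_image_subset u hu h V) subset_closure
      let H : AddSubgroup M := AddSubgroup.map u (V : AddSubgroup N)
      have hH : (H : Set M) = u '' (V : Set N) := rfl
      have hne : (interior (closure (u '' (V : Set N)))).Nonempty := by
        rw [Set.nonempty_iff_ne_empty]; exact h V
      obtain ⟨g, hg⟩ := hne
      rw [hcl] at hg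
      rw [← hH]
      exact H.isOpen_of_mem_nhds (g := g) (by rw [hH]; exact mem_interior_iff_mem_nhds.mp hg)
    rw [isOpenMap_iff_nhds_le]
    intro a
    rw [Filter.le_map_iff]
    intro S hS
    have h0 : (fun x => a + x) ⁻¹' S ∈ 𝓝 (0 : N) := by
      have hc : Continuous (fun x : N => a + x) := continuous_const.add continuous_id
      have ht := hc.tendsto 0
      rw [add_zero] at ht
      exact ht hS
    obtain ⟨V, hV⟩ := NonarchimedeanAddGroup.is_nonarchimedean _ h0
    have hsub : (fun m => u a + m) '' (u '' (V : Set N)) ⊆ u '' S := by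
      rintro _ ⟨_, ⟨z, hz, rfl⟩, rfl⟩
      exact ⟨a + z, hV hz, map_add u a z⟩
    refine Filter.mem_of_superset ?_ hsub
    have hop : IsOpen ((fun m => u a + m) '' (u '' (V : Set N))) :=
      (Homeomorph.addLeft (u a)).isOpenMap _ (himg V)
    exact hop.mem_nhds ⟨0, ⟨0, V.zero_mem, map_zero u⟩, add_zero _⟩

end Groth.Agent.S9326
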