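import Groth.Statements.S9328
import Groth.Agent.Lib.H40TameE
import Groth.Agent.Lib.H40TameF

set_option autoImplicit false
universe u
open EtRam

namespace Groth.Agent.S9328

open Polynomial IsLocalRing in
/-- Let `K` be the fraction field of a discrete valuation ring `A`, let `π` be a uniformizer of `A`, and
let `L` be a finite separable extension of `K`. For `e ≥ 1` write `A' = A[z]/(z^e - π)`, a discrete
valuation ring whose fraction field is `K' = K[π^{1/e}]`. Then `L` is tamely ramified with respect
to `A` if and only if there exist `e ≥ 1` invertible in the residue field of `A` and a finite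
separable extension `L'` of `K` into which `L` embeds over `K`, carrying an `A'`-algebra structure
extending `A → K → L'` (so `K' ⊆ L'`), such that `L'` is unramified with respect to `A'`. (The
local-ring instance on `A'`, which holds, is quantified as a hypothesis.) -/
theorem result {A K L : Type u} [CommRing A] [IsDomain A]
    [IsDiscreteValuationRing A] [Field K] [Algebra A K] [IsFractionRing A K] [Field L] [Algebra K L]
    [Algebra A L] [IsScalarTower A K L] [FiniteDimensional K L] [Algebra.IsSeparable K L]
    (π : A) (hπ : maximalIdeal A = Ideal.span {π}) :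
    EtRam.IsTamelyRamified A (algebraMap A L) ↔
      ∃ e : ℕ, 0 < e ∧ (e : ResidueField A) ≠ 0 ∧
        ∃ (L' : Type u) (_ : Field L') (_ : Algebra K L')
          (_ : Algebra (AdjoinRoot (X ^ e - C π : A[X])) L') (_ : L →ₐ[K] L'),
          FiniteDimensional K L' ∧ Algebra.IsSeparable K L' ∧
          (algebraMap (AdjoinRoot (X ^ e - C π : A[X])) L').comp (AdjoinRoot.of (X ^ e - C π)) =
            (algebraMap K L').comp (algebraMap A K) ∧
          ∀ [IsLocalRing (AdjoinRoot (X ^ e - C π : A[X]))],
            EtRam.IsUnramifiedExt (AdjoinRoot (X ^ e - C π : A[X]))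
              (algebraMap (AdjoinRoot (X ^ e - C π : A[X])) L') := by
  have hπirr : Irreducible π := (IsDiscreteValuationRing.irreducible_iff_uniformizer π).mpr hπ
  have hcomp : algebraMap A L = (algebraMap K L).comp (algebraMap A K) :=
    IsScalarTower.algebraMap_eq A K L
  rw [hcomp]
  constructor
  · intro h
    obtain ⟨e₀, he₀2, he₀k, he₀⟩ := Groth.Agent.Lib.H40TameD.exists_e0 (A := A) (K := K) L h
    exact ⟨e₀, by omega, he₀k,
      Groth.Agent.Lib.H40TameE.exists_unramified_over_root π hπirr h e₀ he₀2 he₀k he₀⟩
  · rintro ⟨e, he, hek, L', _, _, _, σ, hfd, hsep, hcompat, hunr⟩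
    have h1 := Groth.Agent.Lib.H40TameF.isTamelyRamified_of_unramified_over_root π hπirr e he hek
      L' hcompat hunr
    have hfg : (σ : L →+* L').comp ((algebraMap K L).comp (algebraMap A K)) =
        (algebraMap K L').comp (algebraMap A K) := by
      refine RingHom.ext fun a => ?_
      exact σ.commutes (algebraMap A K a)
    have hg : Function.Injective ((algebraMap K L).comp (algebraMap A K)) :=
      (algebraMap K L).injective.comp (IsFractionRing.injective A K)
    refine Groth.Agent.Lib.ValDVR76.isTamelyRamified_of_comp
      ((algebraMap K L).comp (algebraMap A K)) (σ : L →+* L') hg ?_ ?_ ?_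
    · intro V hV
      exact Groth.Agent.Lib.H40FSmoothC.isDVR_of_dominates (K := K) V (by rw [hcomp]; exact hV)
    · intro W hW
      let _ : Algebra A L' := ((algebraMap K L').comp (algebraMap A K)).toAlgebra
      have : IsScalarTower A K L' := IsScalarTower.of_algebraMap_eq (fun _ => rfl)
      exact Groth.Agent.Lib.H40FSmoothC.isDVR_of_dominates (K := K) W (by
        change EtRam.Dominates A ((algebraMap K L').comp (algebraMap A K)) W
        rw [← hfg]; exact hW)
    · rw [hfg]; exact h1

end Groth.Agent.S9328
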