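import Groth.Statements.S9329
import Groth.Agent.Lib.H40TameE

set_option autoImplicit false
universe u
open EtRam

namespace Groth.Agent.S9329

open Polynomial IsLocalRing in
/-- Let `K` be the fraction field of a discrete valuation ring `A`, let `π` be a uniformizer of `A`, and
let `L` be a finite separable extension of `K` which is tamely ramified with respect to `A`. Then
there is `e₀ ≥ 1` invertible in the residue field of `A` such that for each `d ≥ 1` that is also
invertible in the residue field, setting `e = d e₀` and `A' = A[z]/(z^e - π)`, there is a finite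
separable extension `L'` of `K` into which `L` embeds over `K`, carrying an `A'`-algebra structure
extending `A → K → L'`, such that `L'` is unramified with respect to `A'`. (The local-ring instance
on `A'`, which holds, is quantified as a hypothesis.) -/
theorem result
    {A K L : Type u} [CommRing A] [IsDomain A]
    [IsDiscreteValuationRing A] [Field K] [Algebra A K] [IsFractionRing A K] [Field L] [Algebra K L]
    [Algebra A L] [IsScalarTower A K L] [FiniteDimensional K L] [Algebra.IsSeparable K L]
    (π : A) (hπ : maximalIdeal A = Ideal.span {π}) (h : EtRam.IsTamelyRamified A (algebraMap A L)) :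
    ∃ e₀ : ℕ, 0 < e₀ ∧ (e₀ : ResidueField A) ≠ 0 ∧
      ∀ d : ℕ, 0 < d → (d : ResidueField A) ≠ 0 →
        ∃ (L' : Type u) (_ : Field L') (_ : Algebra K L')
          (_ : Algebra (AdjoinRoot (X ^ (d * e₀) - C π : A[X])) L') (_ : L →ₐ[K] L'),
          FiniteDimensional K L' ∧ Algebra.IsSeparable K L' ∧
          (algebraMap (AdjoinRoot (X ^ (d * e₀) - C π : A[X])) L').comp (AdjoinRoot.of (X ^ (d * e₀) - C π)) =
            (algebraMap K L').comp (algebraMap A K) ∧
          ∀ [IsLocalRing (AdjoinRoot (X ^ (d * e₀) - C π : A[X]))],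
            EtRam.IsUnramifiedExt (AdjoinRoot (X ^ (d * e₀) - C π : A[X]))
              (algebraMap (AdjoinRoot (X ^ (d * e₀) - C π : A[X])) L') := by
  have hπirr : Irreducible π := (IsDiscreteValuationRing.irreducible_iff_uniformizer π).mpr hπ
  have hcomp : algebraMap A L = (algebraMap K L).comp (algebraMap A K) :=
    IsScalarTower.algebraMap_eq A K L
  rw [hcomp] at h
  obtain ⟨e₀, he₀2, he₀k, he₀⟩ := Groth.Agent.Lib.H40TameD.exists_e0 (A := A) (K := K) L h
  refine ⟨e₀, by omega, he₀k, fun d hd hdk => ?_⟩
  have he2 : 2 ≤ d * e₀ := by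
    calc 2 ≤ e₀ := he₀2
      _ = 1 * e₀ := (one_mul _).symm
      _ ≤ d * e₀ := Nat.mul_le_mul_right _ hd
  have hek : ((d * e₀ : ℕ) : ResidueField A) ≠ 0 := by
    rw [Nat.cast_mul]
    exact mul_ne_zero hdk he₀k
  exact Groth.Agent.Lib.H40TameE.exists_unramified_over_root π hπirr h (d * e₀) he2 hek
    (fun V' hV' => Dvd.dvd.mul_left (he₀ V' hV') d)

end Groth.Agent.S9329
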