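import Groth.Statements.S9331
import Mathlib.AlgebraicGeometry.Fiber
import Mathlib.AlgebraicGeometry.Morphisms.Integral
import Mathlib.AlgebraicGeometry.Morphisms.Proper

set_option autoImplicit false
universe u
open QFin

namespace Groth.Agent.S9331

open AlgebraicGeometry CategoryTheory in
lemma isClosed_singleton_asFiber {X S : Scheme.{u}} (f : X ⟶ S) (x : X)
    (halg : @Algebra.IsAlgebraic (S.residueField (f.base x)) (X.residueField x) _ _ (f.residueFieldMap x).hom.toAlgebra) :
    IsClosed ({f.asFiber x} : Set ↑(f.fiber (f.base x))) := by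
  -- the structure map `Spec κ(x) ⟶ Spec κ(s)` is integral
  have hint : IsIntegralHom (Spec.map (f.residueFieldMap x)) := by
    rw [IsIntegralHom.SpecMap_iff]
    let _ := (f.residueFieldMap x).hom.toAlgebra
    intro y
    exact (halg.isAlgebraic y).isIntegral
  rw [← isOpen_compl_iff, isOpen_iff_forall_mem_open]
  intro y hy
  -- an affine open neighbourhood of `y`
  obtain ⟨_, ⟨W₀, hW, rfl⟩, hyW, -⟩ :=
    (f.fiber (f.base x)).isBasis_affineOpens.exists_subset_of_mem_open
      (Set.mem_univ y) isOpen_univ
  obtain ⟨W, rfl⟩ : ∃ W : (f.fiber (f.base x)).Opens, W = W₀ := ⟨W₀, rfl⟩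
  by_cases hxW : f.asFiber x ∈ W
  · -- `asFiberHom` factors through `W`
    have hrange : Set.range (f.asFiberHom x) ⊆ Set.range W.ι := by
      rw [f.range_asFiberHom, Scheme.Opens.range_ι]
      exact Set.singleton_subset_iff.mpr hxW
    let j' : Spec (X.residueField x) ⟶ W.toScheme := IsOpenImmersion.lift W.ι (f.asFiberHom x) hrange
    have hj' : j' ≫ W.ι = f.asFiberHom x := IsOpenImmersion.lift_fac _ _ _
    have : IsAffine W.toScheme := hW
    have : IsIntegralHom (j' ≫ (W.ι ≫ f.fiberToSpecResidueField (f.base x))) := by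
      rw [← Category.assoc, hj', f.asFiberHom_fiberToSpecResidueField]
      exact hint
    have : IsIntegralHom j' :=
      IsIntegralHom.of_comp j' (W.ι ≫ f.fiberToSpecResidueField (f.base x))
    have hclosed : IsClosed (Set.range j') := j'.isClosedMap.isClosed_range
    -- the image of the closed complement
    refine ⟨W.ι '' (Set.range j')ᶜ, ?_, ?_, ?_⟩
    · rintro _ ⟨z, hz, rfl⟩ hzz
      apply hz
      have hzz' : W.ι z = f.asFiber x := hzz
      obtain ⟨pt⟩ : Nonempty (Spec (X.residueField x)) := inferInstance
      refine ⟨pt, ?_⟩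
      apply W.ι.isEmbedding.injective
      rw [← Scheme.Hom.comp_apply, hj', f.asFiberHom_apply, hzz']
    · exact W.ι.isOpenEmbedding.isOpenMap _ hclosed.isOpen_compl
    · refine ⟨⟨y, hyW⟩, ?_, rfl⟩
      rintro ⟨pt, hpt⟩
      apply hy
      have : W.ι (j' pt) = y := by rw [hpt]; rfl
      rw [← Scheme.Hom.comp_apply, hj', f.asFiberHom_apply] at this
      exact this.symm
  · refine ⟨W, ?_, W.isOpen, hyW⟩
    intro z hz hzz
    apply hxW
    rw [Set.mem_singleton_iff] at hzz
    rw [← hzz]
    exact hz


open AlgebraicGeometry CategoryTheory in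
/-- Let f : X → S be a morphism of schemes, x ∈ X, s = f x. If κ(x) is algebraic over κ(s) (through the
residue field map of f at x), then x is a closed point of the fibre X_s, and if in addition s is
closed in S then x is closed in X. -/
theorem result {X S : Scheme.{u}} (f : X ⟶ S) (x : X)
    (halg : @Algebra.IsAlgebraic (S.residueField (f.base x)) (X.residueField x) _ _ (f.residueFieldMap x).hom.toAlgebra) :
    IsClosed ({f.asFiber x} : Set ↑(f.fiber (f.base x))) ∧
      (IsClosed ({f.base x} : Set ↑S) → IsClosed ({x} : Set ↑X)) := by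
  have h1 : IsClosed ({f.asFiber x} : Set ↑(f.fiber (f.base x))) :=
    isClosed_singleton_asFiber f x halg
  refine ⟨h1, fun hs => ?_⟩
  have hemb : Topology.IsClosedEmbedding (f.fiberι (f.base x)) := by
    refine ⟨(f.fiberι (f.base x)).isEmbedding, ?_⟩
    rw [f.range_fiberι]
    exact hs.preimage f.continuous
  have := hemb.isClosedMap _ h1
  rwa [Set.image_singleton, f.fiberι_asFiber] at this

end Groth.Agent.S9331
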