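import Groth.Prelude

universe u

namespace Groth.Agent.S9332

open AlgebraicGeometry CategoryTheory in
/-- Let f : X → S be locally of finite type and x ∈ X. Then x is closed in its fibre X_{f x} if and only
if κ(x) is a finite extension of κ(f x) (via the residue field map of f at x). -/
theorem result {X S : Scheme.{u}} (f : X ⟶ S) [LocallyOfFiniteType f] (x : X) :
    IsClosed ({f.asFiber x} : Set ↑(f.fiber (f.base x))) ↔ (f.residueFieldMap x).hom.Finite := by
  have hπ : LocallyOfFiniteType (f.fiberToSpecResidueField (f.base x)) :=
    MorphismProperty.pullback_snd _ _ inferInstance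
  constructor
  · intro hcl
    have : IsClosedImmersion (f.asFiberHom x) :=
      .of_isPreimmersion _ (by rw [Scheme.Hom.range_asFiberHom]; exact hcl)
    have h1 : LocallyOfFiniteType (f.asFiberHom x ≫ f.fiberToSpecResidueField _) := inferInstance
    rw [Scheme.Hom.asFiberHom_fiberToSpecResidueField] at h1
    have h2 := (isFinite_iff_locallyOfFiniteType_of_jacobsonSpace
      (f := Spec.map (f.residueFieldMap x))).mpr h1
    exact (IsFinite.SpecMap_iff _).mp h2
  · intro hfin
    have h2 : IsFinite (Spec.map (f.residueFieldMap x)) := (IsFinite.SpecMap_iff _).mpr hfin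
    have h1 : LocallyOfFiniteType (f.asFiberHom x ≫ f.fiberToSpecResidueField _) := by
      rw [Scheme.Hom.asFiberHom_fiberToSpecResidueField]; infer_instance
    have h3 : LocallyOfFiniteType (f.asFiberHom x) :=
      locallyOfFiniteType_of_comp _ (f.fiberToSpecResidueField _)
    have := (f.asFiberHom x).closePoints_subset_preimage_closedPoints
      (IsLocalRing.isClosed_singleton_closedPoint _)
    simpa using this

end Groth.Agent.S9332
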