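import Groth.Prelude
import Groth.Agent.S9332
import Groth.Agent.Lib.FiberClosed

universe u

namespace Groth.Agent.S9333

open AlgebraicGeometry CategoryTheory CategoryTheory.Limits in
/-- Let f : X → S be locally of finite type, g : S' → S any morphism and X' = X ×_S S' with projections
g' : X' → X and f' : X' → S'. If x' ∈ X' maps to x ∈ X and x is closed in the fibre X_{f x}, then x'
is closed in the fibre X'_{f' x'}. -/
theorem result {X S X' S' : Scheme.{u}} (f : X ⟶ S) [LocallyOfFiniteType f] (g : S' ⟶ S)
    (g' : X' ⟶ X) (f' : X' ⟶ S') (hsq : IsPullback g' f' f g) (x' : X')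
    (hx : IsClosed ({f.asFiber (g'.base x')} : Set ↑(f.fiber (f.base (g'.base x'))))) :
    IsClosed ({f'.asFiber x'} : Set ↑(f'.fiber (f'.base x'))) := by
  set x := g'.base x' with hxdef
  have hfin : (f.residueFieldMap x).hom.Finite := (Groth.Agent.S9332.result f x).mp hx
  have hx2 := (Groth.Agent.Lib.FiberClosed.isClosed_singleton_asFiber_iff f x).mp hx
  rw [Groth.Agent.Lib.FiberClosed.isClosed_singleton_asFiber_iff]
  intro y' hxy hy
  -- the images in `X` agree
  have hgy : g'.base y' = x := by
    have h1 : x ⤳ g'.base y' := hxy.map g'.continuous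
    have h2 : f.base (g'.base y') = f.base x := by
      have e1 : f.base (g'.base y') = g.base (f'.base y') := by
        rw [← Scheme.Hom.comp_apply, ← Scheme.Hom.comp_apply, hsq.w]
      have e2 : f.base (g'.base x') = g.base (f'.base x') := by
        rw [← Scheme.Hom.comp_apply, ← Scheme.Hom.comp_apply, hsq.w]
      rw [e1, hy, hxdef, e2]
    exact hx2 _ h1 h2
  -- the auxiliary scheme `W = Spec κ(x) ×_X X'`
  let ix := X.fromSpecResidueField x
  let j : pullback ix g' ⟶ X' := pullback.snd ix g'
  have hj : IsPreimmersion j := MorphismProperty.pullback_snd _ _ inferInstance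
  have hbig : IsPullback (pullback.fst ix g') (j ≫ f') (ix ≫ f) g :=
    (IsPullback.of_hasPullback ix g').paste_vert hsq
  have hqf : LocallyQuasiFinite (ix ≫ f) := by
    have e : ix ≫ f = Spec.map (f.residueFieldMap x) ≫ S.fromSpecResidueField (f.base x) :=
      (Scheme.Hom.SpecMap_residueFieldMap_fromSpecResidueField f x).symm
    rw [e]
    have : IsFinite (Spec.map (f.residueFieldMap x)) := (IsFinite.SpecMap_iff _).mpr hfin
    infer_instance
  have hqf' : LocallyQuasiFinite (j ≫ f') :=
    MorphismProperty.of_isPullback (P := @LocallyQuasiFinite) hbig hqf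
  have hdisc := (j ≫ f').isDiscrete_preimage_singleton (f'.base x')
  have hrange : Set.range j.base = g'.base ⁻¹' {x} := by
    have := Scheme.Pullback.range_snd ix g'
    rw [Scheme.range_fromSpecResidueField] at this
    exact this
  obtain ⟨w1, hw1⟩ : x' ∈ Set.range j.base := by rw [hrange]; rfl
  obtain ⟨w2, hw2⟩ : y' ∈ Set.range j.base := by rw [hrange]; exact hgy
  have hw12 : w1 ⤳ w2 := by
    rw [← j.isEmbedding.isInducing.specializes_iff, hw1, hw2]; exact hxy
  have hm1 : w1 ∈ (j ≫ f').base ⁻¹' {f'.base x'} := by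
    change (j ≫ f').base w1 = f'.base x'
    rw [Scheme.Hom.comp_apply, hw1]
  have hm2 : w2 ∈ (j ≫ f').base ⁻¹' {f'.base x'} := by
    change (j ≫ f').base w2 = f'.base x'
    rw [Scheme.Hom.comp_apply, hw2, hy]
  have := hdisc.to_subtype
  have hsub : (⟨w1, hm1⟩ : ↥((j ≫ f').base ⁻¹' {f'.base x'})) ⤳ ⟨w2, hm2⟩ := by
    rw [subtype_specializes_iff]; exact hw12
  have heq := hsub.eq
  have : w1 = w2 := congrArg Subtype.val heq
  rw [← hw1, ← hw2, this]

end Groth.Agent.S9333
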