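import Groth.Prelude
import Groth.Agent.Lib.IsolatedPoint

universe u

namespace Groth.Agent.S9334

open AlgebraicGeometry CategoryTheory in
/-- Let f : X → S be locally of finite type, x ∈ X, and write s = f x. The morphism f is quasi-finite at
x exactly when x is a closed point of the fibre X_s and no point x' ≠ x of X_s specializes to x. -/
theorem result {X S : Scheme.{u}} (f : X ⟶ S) [LocallyOfFiniteType f] (x : X) :
    f.QuasiFiniteAt x ↔
      (IsClosed ({f.asFiber x} : Set ↑(f.fiber (f.base x))) ∧
        ∀ x' : ↑(f.fiber (f.base x)), x' ⤳ f.asFiber x → x' = f.asFiber x) := by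
  constructor
  · intro h
    have hco := h.isClopen_singleton_asFiber
    refine ⟨hco.1, fun x' hx' => ?_⟩
    exact hx'.mem_open hco.2 rfl
  · rintro ⟨hcl, hgen⟩
    rw [Scheme.Hom.quasiFiniteAt_iff_isOpen_singleton_asFiber]
    have : LocallyOfFiniteType (f.fiberToSpecResidueField (f.base x)) :=
      MorphismProperty.pullback_snd _ _ inferInstance
    have : IsLocallyNoetherian (f.fiber (f.base x)) :=
      LocallyOfFiniteType.isLocallyNoetherian (f.fiberToSpecResidueField (f.base x))
    obtain ⟨_, ⟨U, hU, rfl⟩, hzU, -⟩ :=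
      (f.fiber (f.base x)).isBasis_affineOpens.exists_subset_of_mem_open
        (Set.mem_univ (f.asFiber x)) isOpen_univ
    have : IsNoetherianRing Γ(f.fiber (f.base x), U) :=
      IsLocallyNoetherian.component_noetherian ⟨U, hU⟩
    have h1 := noetherianSpace_of_isAffineOpen U hU
    have h2 : QuasiSober U := U.isOpen.isOpenEmbedding_subtypeVal.quasiSober
    exact @Groth.Agent.Lib.IsolatedPoint.isOpen_singleton_of_locally _ _ _ U hzU h1 h2 hcl hgen

end Groth.Agent.S9334
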