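import Groth.Prelude

universe u

namespace Groth.Agent.S9335

open AlgebraicGeometry CategoryTheory in
/-- If f : X → S is of finite type and s ∈ S, then f is quasi-finite at only finitely many points of the
fibre over s. -/
theorem result {X S : Scheme.{u}} (f : X ⟶ S) [LocallyOfFiniteType f] [QuasiCompact f] (s : S) :
    {x : ↑X | f.base x = s ∧ f.QuasiFiniteAt x}.Finite := by
  have hfin : {z : ↑(f.fiber s) | IsOpen ({z} : Set ↑(f.fiber s))}.Finite := by
    have : LocallyOfFiniteType (f.fiberToSpecResidueField s) :=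
      MorphismProperty.pullback_snd _ _ inferInstance
    have : IsLocallyNoetherian (f.fiber s) :=
      LocallyOfFiniteType.isLocallyNoetherian (f.fiberToSpecResidueField s)
    have : IsNoetherian (f.fiber s) := {}
    have hIc : IsCompact {z : ↑(f.fiber s) | IsOpen ({z} : Set ↑(f.fiber s))} :=
      TopologicalSpace.NoetherianSpace.isCompact _
    refine hIc.finite ⟨discreteTopology_iff_isOpen_singleton.mpr ?_⟩
    rintro ⟨z, hz⟩
    have : ({⟨z, hz⟩} : Set ↥{z : ↑(f.fiber s) | IsOpen ({z} : Set ↑(f.fiber s))}) =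
        Subtype.val ⁻¹' ({z} : Set ↑(f.fiber s)) := by
      ext ⟨y, hy⟩; simp
    rw [this]
    exact hz.preimage continuous_subtype_val
  refine (hfin.image (f.fiberι s).base).subset ?_
  rintro x ⟨rfl, hq⟩
  exact ⟨f.asFiber x, Scheme.Hom.quasiFiniteAt_iff_isOpen_singleton_asFiber.mp hq,
    f.fiberι_asFiber x⟩

end Groth.Agent.S9335
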