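import Groth.Prelude
import Groth.Agent.S9332
import Groth.Agent.S9334
import Groth.Agent.Lib.FiberClosed

universe u

namespace Groth.Agent.S9336

open AlgebraicGeometry CategoryTheory in
/-- Let f : X → Y be surjective and g : Y → S locally of finite type. If g ∘ f is locally quasi-finite
(and locally of finite type), then g is locally quasi-finite. -/
theorem result {X Y S : Scheme.{u}} (f : X ⟶ Y) (g : Y ⟶ S) [Surjective f]
    [LocallyQuasiFinite (f ≫ g)] [LocallyOfFiniteType (f ≫ g)] [LocallyOfFiniteType g] :
    LocallyQuasiFinite g := by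
  -- every point of `Y` is closed in its fibre
  have hclosed : ∀ y : Y, IsClosed ({g.asFiber y} : Set ↑(g.fiber (g.base y))) := by
    intro y
    obtain ⟨x, rfl⟩ := f.surjective y
    rw [Groth.Agent.S9332.result]
    have h1 : IsClosed ({(f ≫ g).asFiber x} : Set ↑((f ≫ g).fiber ((f ≫ g).base x))) :=
      ((f ≫ g).quasiFiniteAt x).isClopen_singleton_asFiber.1
    rw [Groth.Agent.S9332.result, Scheme.residueFieldMap_comp] at h1
    set φ := (g.residueFieldMap (f.base x)).hom with hφ
    set ψ := (f.residueFieldMap x).hom with hψ
    have h2 : (ψ.comp φ).Finite := h1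
    algebraize [φ, ψ, ψ.comp φ]
    have hinj : Function.Injective ψ := ψ.injective
    have : Module.Finite (S.residueField (g.base (f.base x))) (Y.residueField (f.base x)) :=
      Module.Finite.of_injective
        (IsScalarTower.toAlgHom (S.residueField (g.base (f.base x))) (Y.residueField (f.base x))
          (X.residueField x)).toLinearMap hinj
    exact RingHom.finite_algebraMap.mpr this
  apply Groth.Agent.Lib.FiberClosed.locallyQuasiFinite_of_forall_quasiFiniteAt
  intro y
  rw [Groth.Agent.S9334.result]
  refine ⟨hclosed y, ?_⟩
  rw [Groth.Agent.Lib.FiberClosed.forall_specializes_asFiber_iff]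
  intro y1 hy1 hgy
  have := (Groth.Agent.Lib.FiberClosed.isClosed_singleton_asFiber_iff g y1).mp (hclosed y1)
  exact (this y hy1 hgy.symm).symm

end Groth.Agent.S9336
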