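import Groth.Prelude
import Groth.Agent.Lib.FtPoints

universe u

namespace Groth.Agent.S9337

open AlgebraicGeometry CategoryTheory in
/-- Let k be a field and f : Spec k → S a morphism of schemes with image point u. Then f is locally of
finite type if and only if some affine open U ∋ u of S has u as a closed point and the residue field
of Spec k (that is, k) is finite over κ(u). -/
theorem result (S : Scheme.{u}) (k : Type u) [Field k] (f : Spec (CommRingCat.of k) ⟶ S) :
    LocallyOfFiniteType f ↔
      ∃ U : S.Opens, IsAffineOpen U ∧ ∃ hu : f.base (IsLocalRing.closedPoint k) ∈ U,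
        IsClosed ({⟨f.base (IsLocalRing.closedPoint k), hu⟩} : Set ↥U) ∧
          (f.residueFieldMap (IsLocalRing.closedPoint k)).hom.Finite := by
  constructor
  · intro hf
    obtain ⟨U, hU, hu, hcl⟩ := Groth.Agent.Lib.FtPoints.exists_affine_closed_of_lft f
    exact ⟨U, hU, hu, hcl, ((Groth.Agent.Lib.FtPoints.lft_iff f).mp hf).2⟩
  · rintro ⟨U, -, hu, hcl, hfin⟩
    exact (Groth.Agent.Lib.FtPoints.lft_iff f).mpr
      ⟨Groth.Agent.Lib.FtPoints.lft_fromSpecResidueField_of_closed _ U hu hcl, hfin⟩

end Groth.Agent.S9337
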