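import Groth.Prelude
import Groth.Agent.Lib.NilFiniteType

universe u

namespace Groth.Agent.S9338

open AlgebraicGeometry CategoryTheory in
/-- For an Artinian local ring A with residue field κ, a morphism f : Spec A → S is (locally) of finite
type exactly when the composite Spec κ → Spec A → S is. -/
theorem result (S : Scheme.{u}) (A : Type u) [CommRing A] [IsArtinianRing A] [IsLocalRing A]
    (f : Spec (CommRingCat.of A) ⟶ S) :
    LocallyOfFiniteType f ↔
      LocallyOfFiniteType (Spec.map (CommRingCat.ofHom (IsLocalRing.residue A)) ≫ f) := by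
  constructor
  · intro hf
    have : LocallyOfFiniteType (Spec.map (CommRingCat.ofHom (IsLocalRing.residue A))) := by
      rw [HasRingHomProperty.Spec_iff (P := @LocallyOfFiniteType)]
      exact RingHom.FiniteType.of_surjective _ IsLocalRing.residue_surjective
    infer_instance
  · intro hc
    -- all points of `Spec A` are equal
    have hsub : Subsingleton (Spec (CommRingCat.of A)) :=
      inferInstanceAs (Subsingleton (PrimeSpectrum A))
    set s := f.base (IsLocalRing.closedPoint A) with hs
    obtain ⟨_, ⟨W, hW, rfl⟩, hsW, -⟩ :=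
      S.isBasis_affineOpens.exists_subset_of_mem_open (Set.mem_univ s) isOpen_univ
    have hr : Set.range f.base ⊆ Set.range hW.fromSpec.base := by
      rw [hW.range_fromSpec]
      rintro _ ⟨y, rfl⟩
      rw [Subsingleton.elim y (IsLocalRing.closedPoint A)]
      exact hsW
    let f' := IsOpenImmersion.lift hW.fromSpec f hr
    have hf' : f' ≫ hW.fromSpec = f := IsOpenImmersion.lift_fac _ _ _
    obtain ⟨φ, hφ⟩ := Spec.map_surjective f'
    have h1 : LocallyOfFiniteType
        ((Spec.map (CommRingCat.ofHom (IsLocalRing.residue A)) ≫ f') ≫ hW.fromSpec) := by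
      rw [Category.assoc, hf']; exact hc
    have h2 : LocallyOfFiniteType (Spec.map (CommRingCat.ofHom (IsLocalRing.residue A)) ≫ f') :=
      locallyOfFiniteType_of_comp _ hW.fromSpec
    rw [← hφ, ← Spec.map_comp, HasRingHomProperty.Spec_iff (P := @LocallyOfFiniteType)] at h2
    have h3 : φ.hom.FiniteType :=
      Groth.Agent.Lib.NilFiniteType.finiteType_of_residue φ.hom h2
    have h4 : LocallyOfFiniteType (Spec.map φ) :=
      (HasRingHomProperty.Spec_iff (P := @LocallyOfFiniteType)).mpr h3
    rw [← hf', ← hφ]
    infer_instance

end Groth.Agent.S9338
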