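import Groth.Prelude
import Groth.Agent.Lib.FtPoints

universe u

namespace Groth.Agent.S9341

open AlgebraicGeometry CategoryTheory in
/-- Every nonempty locally closed subset of a scheme S contains a finite type point of S; in particular
for a closed subset Z the finite type points lying in Z are dense in Z. -/
theorem result (S : Scheme.{u}) :
    (∀ Z : Set ↑S, IsLocallyClosed Z → Z.Nonempty →
        (Z ∩ {s : ↑S | LocallyOfFiniteType (S.fromSpecResidueField s)}).Nonempty) ∧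
      ∀ Z : Set ↑S, IsClosed Z →
        Z ⊆ closure (Z ∩ {s : ↑S | LocallyOfFiniteType (S.fromSpecResidueField s)}) := by
  have h1 : ∀ Z : Set ↑S, IsLocallyClosed Z → Z.Nonempty →
      (Z ∩ {s : ↑S | LocallyOfFiniteType (S.fromSpecResidueField s)}).Nonempty := by
    rintro Z hZ ⟨z, hz⟩
    obtain ⟨O, C, hO, hC, rfl⟩ := hZ
    obtain ⟨_, ⟨W, hW, rfl⟩, hzW, hWO⟩ :=
      S.isBasis_affineOpens.exists_subset_of_mem_open hz.1 hO
    have i1 : CompactSpace (W : Set S) := isCompact_iff_compactSpace.mp hW.isCompact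
    have i2 : T0Space (W : Set S) := Topology.IsEmbedding.subtypeVal.t0Space
    obtain ⟨x, hx, hxcl⟩ := IsClosed.exists_closed_singleton
      (S := (Subtype.val ⁻¹' C : Set (W : Set S))) (hC.preimage continuous_subtype_val)
      ⟨⟨z, hzW⟩, hz.2⟩
    exact ⟨x.1, ⟨hWO x.2, hx⟩,
      Groth.Agent.Lib.FtPoints.lft_fromSpecResidueField_of_closed x.1 W x.2 hxcl⟩
  refine ⟨h1, ?_⟩
  intro Z hZ z hz
  rw [mem_closure_iff]
  intro O hO hzO
  obtain ⟨x, ⟨hxO, hxZ⟩, hxft⟩ :=
    h1 (O ∩ Z) (hO.isLocallyClosed.inter hZ.isLocallyClosed) ⟨z, hzO, hz⟩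
  exact ⟨x, hxO, hxZ, hxft⟩

end Groth.Agent.S9341
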