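import Groth.Prelude
import Groth.Agent.Lib.FtPoints
import Groth.Agent.S9339
import Groth.Agent.S9341

universe u

namespace Groth.Agent.S9340

open AlgebraicGeometry CategoryTheory in
/-- A surjective morphism locally of finite type maps the set of finite type points of the source onto
the set of finite type points of the target. -/
theorem result {T S : Scheme.{u}} (f : T ⟶ S) [LocallyOfFiniteType f] [Surjective f] :
    f.base '' {t : ↑T | LocallyOfFiniteType (T.fromSpecResidueField t)} =
      {s : ↑S | LocallyOfFiniteType (S.fromSpecResidueField s)} := by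
  apply subset_antisymm (Groth.Agent.S9339.result f)
  intro s hs
  change LocallyOfFiniteType (S.fromSpecResidueField s) at hs
  obtain ⟨t0, ht0⟩ := f.surjective s
  have hne : (Set.univ : Set ↑(f.fiber s)).Nonempty := by
    subst ht0
    exact ⟨f.asFiber t0, trivial⟩
  obtain ⟨z, -, hz⟩ := (Groth.Agent.S9341.result (f.fiber s)).1 Set.univ
    isOpen_univ.isLocallyClosed hne
  change LocallyOfFiniteType ((f.fiber s).fromSpecResidueField z) at hz
  have hπ : LocallyOfFiniteType (f.fiberToSpecResidueField s) :=
    MorphismProperty.pullback_snd _ _ inferInstance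
  have h1 : LocallyOfFiniteType (((f.fiber s).fromSpecResidueField z ≫ f.fiberι s) ≫ f) := by
    rw [Category.assoc, Scheme.Hom.fiber_fac]
    infer_instance
  have h2 : LocallyOfFiniteType ((f.fiber s).fromSpecResidueField z ≫ f.fiberι s) :=
    locallyOfFiniteType_of_comp _ f
  have h3 := ((Groth.Agent.Lib.FtPoints.lft_iff (K := (f.fiber s).residueField z)
    ((f.fiber s).fromSpecResidueField z ≫ f.fiberι s)).mp h2).1
  have e : ((f.fiber s).fromSpecResidueField z ≫ f.fiberι s).base
      (IsLocalRing.closedPoint ((f.fiber s).residueField z)) = (f.fiberι s).base z := by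
    rw [Scheme.Hom.comp_apply, Scheme.fromSpecResidueField_apply]
  rw [e] at h3
  refine ⟨(f.fiberι s).base z, h3, ?_⟩
  have : (f.fiberι s).base z ∈ Set.range (f.fiberι s).base := ⟨z, rfl⟩
  rw [Scheme.Hom.range_fiberι] at this
  exact this

end Groth.Agent.S9340
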