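import Groth.Prelude
import Groth.Agent.Lib.FtPoints

universe u

namespace Groth.Agent.S9342

open AlgebraicGeometry CategoryTheory in
/-- The finite type points of a scheme S are exactly the points that are closed in some affine open
neighbourhood. -/
theorem result (S : Scheme.{u}) (s : S) :
    LocallyOfFiniteType (S.fromSpecResidueField s) ↔
      ∃ U : S.Opens, IsAffineOpen U ∧ ∃ hs : s ∈ U, IsClosed ({⟨s, hs⟩} : Set ↥U) := by
  constructor
  · intro hf
    obtain ⟨U, hU, hu, hcl⟩ := Groth.Agent.Lib.FtPoints.exists_affine_closed_of_lft
      (K := S.residueField s) (S.fromSpecResidueField s)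
    have e : (S.fromSpecResidueField s).base (IsLocalRing.closedPoint (S.residueField s)) = s :=
      S.fromSpecResidueField_apply s _
    rw [e] at hu
    refine ⟨U, hU, hu, ?_⟩
    convert hcl using 2
    exact Subtype.ext e.symm
  · rintro ⟨U, -, hs, hcl⟩
    exact Groth.Agent.Lib.FtPoints.lft_fromSpecResidueField_of_closed s U hs hcl

end Groth.Agent.S9342
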