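import Groth.Prelude
import Groth.Agent.Lib.QcSpecialize

universe u

namespace Groth.Agent.S9343

open AlgebraicGeometry CategoryTheory in
/-- The base change of a quasi-compact dominant morphism f : X → S along a morphism g : S' → S along
which generalizations lift is dominant. -/
theorem result {X S X' S' : Scheme.{u}} (f : X ⟶ S) [QuasiCompact f] [IsDominant f]
    (g : S' ⟶ S) (g' : X' ⟶ X) (f' : X' ⟶ S') (hsq : IsPullback g' f' f g) (hg : GeneralizingMap g.base) :
    IsDominant f' := by
  rw [isDominant_iff, DenseRange, Dense]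
  intro s'
  have h1 : g.base s' ∈ closure (Set.range f.base) := f.denseRange (g.base s')
  obtain ⟨x, hx⟩ := Groth.Agent.Lib.QcSpecialize.exists_specializes_of_mem_closure_range f _ h1
  obtain ⟨s'', hs'', hgs⟩ := hg hx
  obtain ⟨p, hp1, hp2⟩ := Scheme.exists_preimage_of_isPullback hsq x s'' hgs.symm
  exact hs''.mem_closed isClosed_closure (subset_closure ⟨p, hp2⟩)

end Groth.Agent.S9343
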