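import Groth.Prelude

universe u

namespace Groth.Agent.S9345

open AlgebraicGeometry CategoryTheory in
/-- For a morphism f : X → S whose source has only finitely many irreducible components, the image of f
is dense exactly when it contains the generic point of each irreducible component of S, and then S
too has finitely many. -/
theorem result {X S : Scheme.{u}} (f : X ⟶ S)
    (hX : (irreducibleComponents (↑X : Type u)).Finite) :
    (IsDominant f ↔ ∀ s : ↑S, closure {s} ∈ irreducibleComponents (↑S : Type u) → s ∈ Set.range f.base) ∧
      (IsDominant f → (irreducibleComponents (↑S : Type u)).Finite) := by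
  have key : IsDominant f → ∀ Z ∈ irreducibleComponents (↑S : Type u),
      ∃ C ∈ irreducibleComponents (↑X : Type u), Z = closure (f.base '' C) := by
    intro hdom Z hZ
    have hcov : (Set.univ : Set S) =
        ⋃ C ∈ irreducibleComponents (↑X : Type u), closure (f.base '' C) := by
      have h1 : closure (Set.range f.base) = Set.univ := f.denseRange.closure_range
      rw [← h1, ← Set.image_univ, ← sUnion_irreducibleComponents, Set.sUnion_eq_biUnion,
        Set.image_iUnion₂, hX.closure_biUnion]
    classical
    let t : Finset (Set S) := hX.toFinset.image (fun C => closure (f.base '' C))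
    have ht : ∀ z ∈ t, IsClosed z := by
      intro z hz
      simp only [t, Finset.mem_image] at hz
      obtain ⟨C, -, rfl⟩ := hz
      exact isClosed_closure
    have hsub : Z ⊆ ⋃₀ (↑t : Set (Set S)) := by
      intro z _
      have hz : z ∈ ⋃ C ∈ irreducibleComponents (↑X : Type u), closure (f.base '' C) := by
        rw [← hcov]; trivial
      simp only [Set.mem_iUnion] at hz
      obtain ⟨C, hC, hzC⟩ := hz
      refine Set.mem_sUnion.mpr ⟨closure (f.base '' C), ?_, hzC⟩
      simp only [t, Finset.coe_image, Set.mem_image, Finset.mem_coe, Set.Finite.mem_toFinset]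
      exact ⟨C, hC, rfl⟩
    obtain ⟨z, hz, hZz⟩ := (isIrreducible_iff_sUnion_isClosed.mp hZ.1) t ht hsub
    simp only [t, Finset.mem_image, Set.Finite.mem_toFinset] at hz
    obtain ⟨C, hC, rfl⟩ := hz
    refine ⟨C, hC, subset_antisymm hZz (hZ.2 ?_ hZz)⟩
    exact (hC.1.image f.base f.continuous.continuousOn).closure
  have key2 : IsDominant f → ∀ s : ↑S, closure {s} ∈ irreducibleComponents (↑S : Type u) →
      s ∈ Set.range f.base := by
    intro hdom s hs
    obtain ⟨C, hC, hZC⟩ := key hdom _ hs
    have hCc : IsClosed C := isClosed_of_mem_irreducibleComponents C hC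
    obtain ⟨ξ, hξ⟩ : ∃ ξ : X, closure ({ξ} : Set X) = C :=
      ⟨hC.1.genericPoint, hC.1.closure_genericPoint hCc⟩
    have h2 : closure (f.base '' C) = closure {f.base ξ} := by
      rw [← hξ, closure_image_closure f.continuous, Set.image_singleton]
    rw [h2] at hZC
    have : Inseparable s (f.base ξ) := inseparable_iff_closure_eq.mpr hZC
    exact ⟨_, this.eq.symm⟩
  refine ⟨⟨key2, ?_⟩, ?_⟩
  · intro h
    rw [isDominant_iff, DenseRange, Dense]
    intro s
    have hZ := irreducibleComponent_mem_irreducibleComponents s
    have hZc : IsClosed (irreducibleComponent s) := isClosed_irreducibleComponent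
    obtain ⟨η, hη⟩ : ∃ η : S, closure ({η} : Set S) = irreducibleComponent s :=
      ⟨hZ.1.genericPoint, hZ.1.closure_genericPoint hZc⟩
    have hmem : η ∈ Set.range f.base := h _ (by rw [hη]; exact hZ)
    have hs : s ∈ closure ({η} : Set S) := by
      rw [hη]; exact mem_irreducibleComponent
    exact closure_mono (Set.singleton_subset_iff.mpr hmem) hs
  · intro hdom
    refine (hX.image (fun C => closure (f.base '' C))).subset ?_
    intro Z hZ
    obtain ⟨C, hC, rfl⟩ := key hdom Z hZ
    exact ⟨C, hC, rfl⟩

end Groth.Agent.S9345
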