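import Groth.Prelude

universe u

namespace Groth.Agent.S9346

open AlgebraicGeometry CategoryTheory in
/-- For a morphism f : X → Y between integral schemes, these six conditions coincide: (1) f is dominant;
(2) f sends the generic point of X to that of Y; (3) there exist affine opens U ⊆ X, V ⊆ Y with U
nonempty and U ⊆ f⁻¹V such that the induced ring map on sections is injective; (4) the same for all
such pairs; (5) for some x ∈ X the map of local rings O_{Y,f x} → O_{X,x} is injective; (6) the same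
for all x. -/
theorem result {X Y : Scheme.{u}} [AlgebraicGeometry.IsIntegral X] [AlgebraicGeometry.IsIntegral Y] (f : X ⟶ Y) :
    [IsDominant f,
      f.base (genericPoint ↑X) = genericPoint ↑Y,
      ∃ (U : X.Opens) (V : Y.Opens) (hUV : U ≤ f ⁻¹ᵁ V), IsAffineOpen U ∧ IsAffineOpen V ∧ (U : Set ↑X).Nonempty ∧
        Function.Injective (f.appLE V U hUV),
      ∀ (U : X.Opens) (V : Y.Opens) (hUV : U ≤ f ⁻¹ᵁ V), IsAffineOpen U → IsAffineOpen V → (U : Set ↑X).Nonempty →
        Function.Injective (f.appLE V U hUV),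
      ∃ x : ↑X, Function.Injective (f.stalkMap x),
      ∀ x : ↑X, Function.Injective (f.stalkMap x)].TFAE := by
  have hξ := genericPoint_spec (↑X : Type u)
  have hη := genericPoint_spec (↑Y : Type u)
  -- existence of a pair of affine opens around a point
  have hpair : ∀ x : X, ∃ (U : X.Opens) (V : Y.Opens) (_ : U ≤ f ⁻¹ᵁ V),
      IsAffineOpen U ∧ IsAffineOpen V ∧ x ∈ U := by
    intro x
    obtain ⟨_, ⟨V, hV, rfl⟩, hxV, -⟩ :=
      Y.isBasis_affineOpens.exists_subset_of_mem_open (Set.mem_univ (f.base x)) isOpen_univ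
    obtain ⟨_, ⟨U, hU, rfl⟩, hxU, hUV⟩ :=
      X.isBasis_affineOpens.exists_subset_of_mem_open (show x ∈ (f ⁻¹ᵁ V : Set X) from hxV)
        (f ⁻¹ᵁ V).isOpen
    exact ⟨U, V, hUV, hU, hV, hxU⟩
  tfae_have 1 → 2 := by
    intro h
    have h1 : IsGenericPoint (f.base (genericPoint ↑X)) (closure (f.base '' Set.univ)) :=
      hξ.image f.continuous
    rw [Set.image_univ, f.denseRange.closure_range] at h1
    exact h1.eq hη
  tfae_have 2 → 1 := by
    intro h
    rw [isDominant_iff, DenseRange, dense_iff_closure_eq, ← Set.univ_subset_iff]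
    have : (Set.univ : Set Y) = closure {genericPoint ↑Y} := hη.symm
    rw [this, ← h]
    exact closure_mono (Set.singleton_subset_iff.mpr ⟨_, rfl⟩)
  tfae_have 2 → 4 := by
    intro h U V hUV hU hV hne
    rw [injective_iff_map_eq_zero]
    intro s hs
    by_contra hs0
    have h1 : Y.basicOpen s ≠ ⊥ := fun hb => hs0 ((basicOpen_eq_bot_iff s).mp hb)
    have h2 : genericPoint ↑Y ∈ Y.basicOpen s := by
      refine (hη.mem_open_set_iff (Y.basicOpen s).isOpen).mpr ?_
      rw [Set.nonempty_iff_ne_empty, Set.univ_inter]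
      intro he
      exact h1 (TopologicalSpace.Opens.ext he)
    have h3 : genericPoint ↑X ∈ U := by
      refine (hξ.mem_open_set_iff U.isOpen).mpr ?_
      rw [Set.univ_inter]
      exact hne
    have h4 : genericPoint ↑X ∈ X.basicOpen (f.appLE V U hUV s) := by
      rw [Scheme.basicOpen_appLE]
      refine ⟨h3, ?_⟩
      change f.base (genericPoint ↑X) ∈ Y.basicOpen s
      rw [h]; exact h2
    rw [hs, Scheme.basicOpen_zero] at h4
    exact h4
  tfae_have 4 → 6 := by
    intro h x
    rw [injective_iff_map_eq_zero]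
    intro a ha0
    obtain ⟨V0, hxV0, s0, rfl⟩ := Y.presheaf.exists_germ_eq a
    obtain ⟨_, ⟨V, hV, rfl⟩, hxV, hVV0⟩ :=
      Y.isBasis_affineOpens.exists_subset_of_mem_open hxV0 V0.isOpen
    have hs : Y.presheaf.germ V (f.base x) hxV (Y.presheaf.map (homOfLE hVV0).op s0) =
        Y.presheaf.germ V0 (f.base x) hxV0 s0 :=
      Y.presheaf.germ_res_apply (homOfLE hVV0) _ hxV s0
    rw [← hs] at ha0 ⊢
    set s := Y.presheaf.map (homOfLE hVV0).op s0
    rw [Scheme.Hom.germ_stalkMap_apply] at ha0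
    have hxV' : x ∈ f ⁻¹ᵁ V := hxV
    obtain ⟨W, hxW, iU, _, hW⟩ := X.presheaf.germ_eq x hxV' hxV' (f.app V s) 0
      (by rw [ha0, map_zero])
    rw [map_zero] at hW
    obtain ⟨_, ⟨U, hU, rfl⟩, hxU, hUW⟩ :=
      X.isBasis_affineOpens.exists_subset_of_mem_open hxW W.isOpen
    have hUV : U ≤ f ⁻¹ᵁ V := le_trans hUW iU.le
    have h0 : f.appLE V U hUV s = 0 := by
      have e : f.appLE V U hUV s =
          X.presheaf.map (homOfLE hUW).op (X.presheaf.map iU.op (f.app V s)) := by
        rw [Scheme.Hom.appLE, CommRingCat.comp_apply, ← CommRingCat.comp_apply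
          (X.presheaf.map iU.op), ← Functor.map_comp]
        rfl
      rw [e, hW, map_zero]
    have h1 := h U V hUV hU hV ⟨x, hxU⟩ (a₁ := s) (a₂ := 0) (by rw [h0, map_zero])
    rw [h1, map_zero]
  tfae_have 6 → 5 := by
    intro h
    exact ⟨genericPoint ↑X, h _⟩
  tfae_have 5 → 3 := by
    rintro ⟨x, hx⟩
    obtain ⟨U, V, hUV, hU, hV, hxU⟩ := hpair x
    refine ⟨U, V, hUV, hU, hV, ⟨x, hxU⟩, ?_⟩
    rw [injective_iff_map_eq_zero]
    intro s hs
    apply germ_injective_of_isIntegral Y (f.base x) (hUV hxU)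
    rw [map_zero]
    apply hx
    rw [map_zero, Scheme.Hom.germ_stalkMap_apply]
    have e : X.presheaf.germ U x hxU (f.appLE V U hUV s) =
        X.presheaf.germ (f ⁻¹ᵁ V) x (hUV hxU) (f.app V s) := by
      rw [Scheme.Hom.appLE, CommRingCat.comp_apply, TopCat.Presheaf.germ_res_apply]
    rw [← e, hs, map_zero]
  tfae_have 3 → 2 := by
    rintro ⟨U, V, hUV, hU, hV, hne, hinj⟩
    by_contra hne2
    have hξU : genericPoint ↑X ∈ U := by
      refine (hξ.mem_open_set_iff U.isOpen).mpr ?_
      rw [Set.univ_inter]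
      exact hne
    have hyV : f.base (genericPoint ↑X) ∈ V := hUV hξU
    have hsp : genericPoint ↑Y ⤳ f.base (genericPoint ↑X) := hη.specializes (Set.mem_univ _)
    have hnsp : ¬ (f.base (genericPoint ↑X) ⤳ genericPoint ↑Y) :=
      fun h' => hne2 ((h'.antisymm hsp).eq)
    rw [specializes_iff_forall_open] at hnsp
    simp only [not_forall] at hnsp
    obtain ⟨O, hO, hηO, hyO⟩ := hnsp
    have hηV : genericPoint ↑Y ∈ V :=
      (hη.mem_open_set_iff V.isOpen).mpr ⟨_, Set.mem_univ _, hyV⟩
    obtain ⟨b, hbO, hηb⟩ := hV.exists_basicOpen_le (V := ⟨O, hO⟩) ⟨genericPoint ↑Y, hηO⟩ hηV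
    have hb0 : b ≠ 0 := by
      rintro rfl
      rw [Scheme.basicOpen_zero] at hηb
      exact hηb
    have h0 : f.appLE V U hUV b = 0 := by
      rw [← basicOpen_eq_bot_iff]
      by_contra hne3
      have h1 : genericPoint ↑X ∈ X.basicOpen (f.appLE V U hUV b) := by
        refine (hξ.mem_open_set_iff (X.basicOpen _).isOpen).mpr ?_
        rw [Set.univ_inter, Set.nonempty_iff_ne_empty]
        intro he
        exact hne3 (TopologicalSpace.Opens.ext he)
      rw [Scheme.basicOpen_appLE] at h1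
      exact hyO (hbO h1.2)
    exact hb0 (hinj (by rw [h0, map_zero]))
  tfae_finish

end Groth.Agent.S9346
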