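import Groth.Prelude
import Groth.Agent.Lib.QcSpecialize

universe u

namespace Groth.Agent.S9347

open AlgebraicGeometry CategoryTheory in
/-- Let f : X → S be quasi-compact and let η ∈ S be a point whose closure is an irreducible component of
S (a maximal point of S). If η is not in the image of f, then η has an open neighbourhood V with
f⁻¹(V) empty. -/
theorem result {X S : Scheme.{u}} (f : X ⟶ S) [QuasiCompact f]
    (η : ↑S) (hη : closure {η} ∈ irreducibleComponents (↑S : Type u)) (hnot : η ∉ Set.range f.base) :
    ∃ V : S.Opens, η ∈ V ∧ f ⁻¹ᵁ V = ⊥ := by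
  have hηV : η ∉ closure (Set.range f.base) := by
    intro h
    obtain ⟨x, hx⟩ := Groth.Agent.Lib.QcSpecialize.exists_specializes_of_mem_closure_range f η h
    have h1 : closure {η} ⊆ closure {f.base x} := by
      rw [isClosed_closure.closure_subset_iff, Set.singleton_subset_iff]
      exact hx.mem_closure
    have h2 : closure {f.base x} ⊆ closure {η} :=
      hη.2 (isIrreducible_singleton.closure) h1
    have h3 : η ⤳ f.base x := by
      rw [specializes_iff_mem_closure]
      exact h2 (subset_closure rfl)
    have h4 : f.base x = η := (hx.antisymm h3).eq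
    exact hnot ⟨x, h4⟩
  refine ⟨⟨(closure (Set.range f.base))ᶜ, isClosed_closure.isOpen_compl⟩, hηV, ?_⟩
  ext x
  simp only [Scheme.Hom.coe_preimage, Set.mem_preimage, SetLike.mem_coe]
  constructor
  · intro hx
    exact absurd (subset_closure (Set.mem_range_self x)) hx
  · intro hx
    exact absurd hx (by simp)

end Groth.Agent.S9347
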