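import Groth.Prelude

universe u

namespace Groth.Agent.S9348

open AlgebraicGeometry CategoryTheory in
/-- Let f : X → Y be a morphism and g : Y' → Y open and surjective. If the base change f' : X ×_Y Y' →
Y' of f is quasi-compact, then so is f. -/
theorem result {X Y X' Y' : Scheme.{u}} (f : X ⟶ Y) (g : Y' ⟶ Y) [Surjective g]
    (hg : IsOpenMap g.base) (g' : X' ⟶ X) (f' : X' ⟶ Y') (hsq : IsPullback g' f' f g) [QuasiCompact f'] :
    QuasiCompact f := by
  constructor
  intro U hU hUc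
  have hW : ∀ y' : {y' : Y' // g.base y' ∈ U}, ∃ W : Set Y', IsOpen W ∧ IsCompact W ∧
      y'.1 ∈ W ∧ W ⊆ g.base ⁻¹' U := by
    rintro ⟨y', hy'⟩
    obtain ⟨_, ⟨W, hW, rfl⟩, hyW, hWU⟩ := Y'.isBasis_affineOpens.exists_subset_of_mem_open
      (show y' ∈ g.base ⁻¹' U from hy') (hU.preimage g.continuous)
    exact ⟨W, W.isOpen, hW.isCompact, hyW, hWU⟩
  choose W hWo hWc hyW hWU using hW
  obtain ⟨t, ht⟩ := hUc.elim_finite_subcover (fun i => g.base '' W i) (fun i => hg _ (hWo i)) (by
    intro u hu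
    obtain ⟨y', rfl⟩ := g.surjective u
    exact Set.mem_iUnion.mpr ⟨⟨y', hu⟩, y', hyW _, rfl⟩)
  have key : f.base ⁻¹' U = ⋃ i ∈ t, g'.base '' (f'.base ⁻¹' W i) := by
    apply subset_antisymm
    · intro x hx
      obtain ⟨i, hi, w, hw, hwx⟩ : ∃ i ∈ t, f.base x ∈ g.base '' W i := by
        simpa using ht hx
      obtain ⟨p, hp1, hp2⟩ := Scheme.exists_preimage_of_isPullback hsq x w hwx.symm
      refine Set.mem_biUnion hi ⟨p, ?_, hp1⟩
      change f'.base p ∈ W i
      rw [hp2]; exact hw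
    · intro x hx
      simp only [Set.mem_iUnion] at hx
      obtain ⟨i, hi, p, hp, rfl⟩ := hx
      change f.base (g'.base p) ∈ U
      have : f.base (g'.base p) = g.base (f'.base p) := by
        rw [← Scheme.Hom.comp_apply, ← Scheme.Hom.comp_apply, hsq.w]
      rw [this]
      exact hWU i hp
  rw [key]
  exact t.isCompact_biUnion
    (fun i _ => ((QuasiCompact.isCompact_preimage _ (hWo i) (hWc i)).image g'.continuous))

end Groth.Agent.S9348
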