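import Groth.Statements.S9351
import Groth.Agent.S6355

set_option autoImplicit false
universe u
open FlatMod

namespace Groth.Agent.S9351

open AlgebraicGeometry CategoryTheory PrimeSpectrum TopologicalSpace

section alg
variable {R : Type u} [CommRing R]

/-- the pure ideal attached to a closed subset stable under generalization. -/
noncomputable def pureOf (W : Set (PrimeSpectrum R)) : Ideal R :=
  Groth.Agent.S6355.pureIdeal (vanishingIdeal W)

lemma pureOf_pure (W : Set (PrimeSpectrum R)) (hc : IsClosed W)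
    (hg : StableUnderGeneralization W) : (pureOf W).Pure := by
  apply Groth.Agent.S6355.pureIdeal_pure
  rw [zeroLocus_vanishingIdeal_eq_closure, hc.closure_eq]
  exact hg

lemma zeroLocus_pureOf (W : Set (PrimeSpectrum R)) (hc : IsClosed W)
    (hg : StableUnderGeneralization W) : zeroLocus (pureOf W : Set R) = W := by
  have h : zeroLocus ((vanishingIdeal W : Ideal R) : Set R) = W := by
    rw [zeroLocus_vanishingIdeal_eq_closure, hc.closure_eq]
  rw [pureOf, Groth.Agent.S6355.zeroLocus_pureIdeal _ (by rw [h]; exact hg), h]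

lemma pure_map {S : Type u} [CommRing S] (φ : R →+* S) (I : Ideal R) [hI : I.Pure] :
    (I.map φ).Pure := by
  algebraize [φ]
  have h1 : Module.Flat S (TensorProduct R S (R ⧸ I)) := inferInstance
  exact Module.Flat.of_linearEquiv
    (Algebra.TensorProduct.quotIdealMapEquivTensorQuot S I).toLinearEquiv

end alg

variable {X : Scheme.{u}}

set_option backward.isDefEq.respectTransparency false in
lemma flat_iff (I : X.IdealSheafData) :
    Flat I.subschemeι ↔ ∀ U : X.affineOpens, (I.ideal U).Pure := by
  rw [IsZariskiLocalAtSource.iff_of_openCover (P := @Flat) I.subschemeCover.openCover]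
  refine forall_congr' fun U => ?_
  change Flat (I.subschemeCover.f U ≫ I.subschemeι) ↔ _
  rw [Scheme.IdealSheafData.subschemeCover_map_subschemeι, Scheme.IdealSheafData.glueDataObjι_ι,
    MorphismProperty.postcomp_iff (W := @Flat) (W' := @IsOpenImmersion) _ _
      (inferInstanceAs (IsOpenImmersion U.2.fromSpec)), Flat.SpecMap_iff]
  rfl

lemma eq_of_zeroLocus_inter_eq {U : X.Opens} (hU : IsAffineOpen U) (I J : Ideal Γ(X, U))
    [I.Pure] [J.Pure]
    (h : X.zeroLocus (U := U) (I : Set Γ(X, U)) ∩ U = X.zeroLocus (U := U) (J : Set Γ(X, U)) ∩ U) :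
    I = J := by
  rw [← hU.fromSpec_image_zeroLocus, ← hU.fromSpec_image_zeroLocus] at h
  exact Ideal.zeroLocus_inj_of_pure.mp
    (Set.image_injective.mpr hU.fromSpec.isOpenEmbedding.injective h)

lemma injOn (I J : X.IdealSheafData) (hI : Flat I.subschemeι) (hJ : Flat J.subschemeι)
    (h : I.support = J.support) : I = J := by
  ext U : 2
  have := (flat_iff I).mp hI U
  have := (flat_iff J).mp hJ U
  apply eq_of_zeroLocus_inter_eq U.2
  rw [← I.coe_support_inter, ← J.coe_support_inter, h]

/-- the local pure ideals of a closed subset stable under generalization. -/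
noncomputable def idealOf (Z : Set X) (U : X.affineOpens) : Ideal Γ(X, U) :=
  pureOf (R := Γ(X, U)) (U.2.fromSpec ⁻¹' Z)

lemma idealOf_pure (Z : Set X) (hc : IsClosed Z) (hg : StableUnderGeneralization Z)
    (U : X.affineOpens) : (idealOf Z U).Pure :=
  pureOf_pure _ (hc.preimage U.2.fromSpec.continuous) (hg.preimage U.2.fromSpec.continuous)

lemma zeroLocus_idealOf_inter (Z : Set X) (hc : IsClosed Z) (hg : StableUnderGeneralization Z)
    (U : X.affineOpens) :
    X.zeroLocus (U := U.1) (idealOf Z U : Set Γ(X, U)) ∩ U = Z ∩ U := by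
  have hU : IsAffineOpen U.1 := U.2
  have h1 : PrimeSpectrum.zeroLocus (idealOf Z U : Set Γ(X, U)) = hU.fromSpec ⁻¹' Z :=
    zeroLocus_pureOf _ (hc.preimage hU.fromSpec.continuous) (hg.preimage hU.fromSpec.continuous)
  rw [← hU.fromSpec_image_zeroLocus]
  refine (congrArg (fun s => hU.fromSpec '' s) h1).trans ?_
  rw [Set.image_preimage_eq_inter_range, hU.range_fromSpec]

lemma zeroLocus_map_inter {U V : X.Opens} (i : V ≤ U) (I : Ideal Γ(X, U)) :
    X.zeroLocus (U := V) ((I.map (X.presheaf.map (homOfLE i).op).hom : Ideal Γ(X, V)) :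
      Set Γ(X, V)) ∩ V = X.zeroLocus (U := U) (I : Set Γ(X, U)) ∩ V := by
  rw [Ideal.map, X.zeroLocus_span, Scheme.zeroLocus_map]
  ext x
  constructor
  · rintro ⟨hx | hx, hxD⟩
    · exact ⟨hx, hxD⟩
    · exact absurd hxD hx
  · rintro ⟨hx, hxD⟩
    exact ⟨Or.inl hx, hxD⟩

lemma idealOf_map_basicOpen (Z : Set X) (hc : IsClosed Z) (hg : StableUnderGeneralization Z)
    (U : X.affineOpens) (f : Γ(X, U)) :
    (idealOf Z U).map (X.presheaf.map (homOfLE <| X.basicOpen_le f).op).hom =
      idealOf Z (X.affineBasicOpen f) := by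
  have h1 := idealOf_pure Z hc hg U
  have h2 := idealOf_pure Z hc hg (X.affineBasicOpen f)
  have h3 := pure_map (X.presheaf.map (homOfLE <| X.basicOpen_le f).op).hom (idealOf Z U)
  refine @eq_of_zeroLocus_inter_eq _ _ (X.affineBasicOpen f).2 _ _ h3 h2 ?_
  refine (zeroLocus_map_inter (X.basicOpen_le f) (idealOf Z U)).trans ?_
  refine Eq.trans ?_ (zeroLocus_idealOf_inter Z hc hg (X.affineBasicOpen f)).symm
  have hle : ((X.affineBasicOpen f).1 : Set X) ⊆ (U.1 : Set X) := X.basicOpen_le f
  have h4 := zeroLocus_idealOf_inter Z hc hg U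
  ext x
  constructor
  · rintro ⟨hx, hxD⟩
    have : x ∈ Z ∩ U := by rw [← h4]; exact ⟨hx, hle hxD⟩
    exact ⟨this.1, hxD⟩
  · rintro ⟨hxZ, hxD⟩
    have : x ∈ X.zeroLocus (U := U.1) (idealOf Z U : Set Γ(X, U)) ∩ U := by
      rw [h4]; exact ⟨hxZ, hle hxD⟩
    exact ⟨this.1, hxD⟩

/-- the ideal sheaf of a closed subset stable under generalization. -/
noncomputable def sheafOf (Z : Set X) (hc : IsClosed Z) (hg : StableUnderGeneralization Z) :
    X.IdealSheafData :=
  Scheme.IdealSheafData.mkOfMemSupportIff (idealOf Z) (idealOf_map_basicOpen Z hc hg) Z (by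
    intro U x hxU
    have h4 := zeroLocus_idealOf_inter Z hc hg U
    constructor
    · intro hxZ
      have : x ∈ X.zeroLocus (U := U.1) (idealOf Z U : Set Γ(X, U)) ∩ U := by
        rw [h4]; exact ⟨hxZ, hxU⟩
      exact this.1
    · intro hx
      have : x ∈ Z ∩ U := by rw [← h4]; exact ⟨hx, hxU⟩
      exact this.1)

lemma sheafOf_support (Z : Set X) (hc : IsClosed Z) (hg : StableUnderGeneralization Z) :
    ((sheafOf Z hc hg).support : Set X) = Z := rfl

lemma sheafOf_flat (Z : Set X) (hc : IsClosed Z) (hg : StableUnderGeneralization Z) :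
    Flat (sheafOf Z hc hg).subschemeι := by
  rw [flat_iff]
  intro U
  exact idealOf_pure Z hc hg U

lemma mapsTo (I : X.IdealSheafData) (hI : Flat I.subschemeι) :
    StableUnderGeneralization (I.support : Set X) := by
  rw [← I.range_subschemeι]
  exact (Flat.generalizingMap I.subschemeι).stableUnderGeneralization_range

lemma le_ker (I : X.IdealSheafData) (hI : Flat I.subschemeι) {Y : Scheme.{u}} (g : Y ⟶ X)
    (hg : Set.range g.base ⊆ (I.support : Set X)) : I ≤ g.ker := by
  rw [Scheme.Hom.ker, Scheme.IdealSheafData.le_ofIdeals_iff]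
  intro U x hx
  have := (flat_iff I).mp hI U
  obtain ⟨y, hy, hxy⟩ := Ideal.exists_eq_mul_of_pure hx
  rw [RingHom.mem_ker]
  have hab : (g.app U).hom x * (1 - (g.app U).hom y) = 0 := by
    rw [mul_sub, mul_one, ← map_mul, ← hxy, sub_self]
  have hunit : IsUnit (1 - (g.app U).hom y) := by
    apply RingedSpace.isUnit_of_isUnit_germ Y.toRingedSpace
    intro p hp
    have hnb : ¬ IsUnit (Y.presheaf.germ _ p hp ((g.app U).hom y)) := by
      rw [← Scheme.mem_basicOpen _ _ _ hp, ← Scheme.preimage_basicOpen]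
      intro hpy
      have h1 : g p ∈ I.support := hg ⟨p, rfl⟩
      rw [I.mem_support_iff_of_mem (U := U) hp, Scheme.mem_zeroLocus_iff] at h1
      exact h1 y hy hpy
    have := (IsLocalRing.isUnit_or_isUnit_one_sub_self
      (Y.presheaf.germ _ p hp ((g.app U).hom y))).resolve_left hnb
    rw [← map_one (Y.presheaf.germ _ p hp).hom, ← map_sub] at this
    exact this
  exact (hunit.mul_left_eq_zero).mp hab

lemma exists_lift (I : X.IdealSheafData) (hI : Flat I.subschemeι) {Y : Scheme.{u}} (g : Y ⟶ X)
    (hg : Set.range g.base ⊆ (I.support : Set X)) :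
    ∃ g' : Y ⟶ I.subscheme, g' ≫ I.subschemeι = g :=
  ⟨g.toImage ≫ Scheme.IdealSheafData.inclusion (le_ker I hI g hg), by
    rw [Category.assoc, Scheme.IdealSheafData.inclusion_subschemeι, Scheme.Hom.toImage_imageι]⟩

open AlgebraicGeometry CategoryTheory in

open AlgebraicGeometry CategoryTheory in
/-- On a scheme X, taking supports is a bijection from the closed subschemes Z ⊆ X with Z → X flat
(indexed by their quasi-coherent ideal sheaves) onto the closed subsets of X stable under
generalization; and any morphism g : Y → X with image inside such a Z factors through Z. -/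
theorem result (X : Scheme.{u}) :
    Set.BijOn (fun I : X.IdealSheafData => I.support) {I : X.IdealSheafData | Flat I.subschemeι}
        {Z : TopologicalSpace.Closeds ↑X | StableUnderGeneralization (Z : Set ↑X)} ∧
      ∀ I : X.IdealSheafData, Flat I.subschemeι → ∀ (Y : Scheme.{u}) (g : Y ⟶ X),
        Set.range g.base ⊆ (I.support : Set ↑X) → ∃ g' : Y ⟶ I.subscheme, g' ≫ I.subschemeι = g := by
  refine ⟨⟨fun I hI => mapsTo I hI, fun I hI J hJ h => injOn I J hI hJ h, ?_⟩,
    fun I hI Y g hg => exists_lift I hI g hg⟩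
  intro Z hZ
  refine ⟨sheafOf (Z : Set X) Z.isClosed hZ, sheafOf_flat _ _ _, ?_⟩
  exact TopologicalSpace.Closeds.ext (sheafOf_support _ _ _)

end Groth.Agent.S9351
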