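import Groth.Statements.S9352
import Groth.Agent.S9351
import Groth.Agent.Lib.Fitting82Q
import Groth.Agent.Lib.SemilocalFree
import Groth.Agent.Lib.QCohFlat
import Groth.Agent.Lib.CohFinite
import Groth.Agent.Lib.H90OXModPushFinite
import Groth.Agent.Lib.HartogsO
import Groth.Agent.Lib.IdealMod

set_option autoImplicit false
universe u
open FlatMod

namespace Groth.Agent.S9352

open AlgebraicGeometry CategoryTheory PrimeSpectrum TopologicalSpace Opposite
open Groth.Agent.Lib.LocFreeRank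

variable {X : Scheme.{u}}

lemma free_stalk (F : X.Modules) [F.IsFiniteType] (hfl : FlatMod.IsFlat F) (x : X) :
    Module.Free (X.presheaf.stalk x) (F.presheaf.stalk x) := by
  have := Groth.Agent.Lib.CohFinite.finite_stalk_of_isFiniteType F x
  have : Module.Flat (X.presheaf.stalk x) (F.presheaf.stalk x) := hfl x
  exact Module.free_of_flat_of_isLocalRing

lemma fibreRank_eq_rankAtStalk (F : X.Modules) [F.IsQuasicoherent] [F.IsFiniteType]
    (hfl : FlatMod.IsFlat F) {U : X.Opens} (hU : IsAffineOpen U) (x : U) :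
    fibreRank F x.1 = Module.rankAtStalk (R := Γ(X, U)) Γ(F, U) (hU.primeIdealOf x) := by
  rw [Groth.Agent.Lib.SemilocalFree.rankAtStalk_sections_eq F hU x]
  have := free_stalk F hfl x.1
  have := Groth.Agent.Lib.CohFinite.finite_stalk_of_isFiniteType F x.1
  exact Module.finrank_baseChange

lemma isClosed_rank_ge (F : X.Modules) [F.IsQuasicoherent] [F.IsFiniteType]
    (hfl : FlatMod.IsFlat F) (r : ℕ) : IsClosed {x : X | r ≤ fibreRank F x} := by
  rw [TopologicalSpace.IsOpenCover.isClosed_iff_coe_preimage (iSup_affineOpens_eq_top X)]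
  intro U
  have hU : IsAffineOpen U.1 := U.2
  have hfin := Groth.Agent.Lib.CohFinite.finite_sections_of_isAffineOpen F hU
  have hflat := Groth.Agent.Lib.QCohFlat.flat_sections_of_flat_stalks F hU fun x => hfl x.1
  have husc := Groth.Agent.Lib.TFunRank.upperSemicontinuous_fibRank (A := Γ(X, U.1)) Γ(F, U.1)
  rw [← Groth.Agent.Lib.LocConstRank.rankAtStalk_eq_fibRank] at husc
  have hlt : IsOpen {p : PrimeSpectrum Γ(X, U.1) |
      Module.rankAtStalk (R := Γ(X, U.1)) Γ(F, U.1) p < r} :=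
    (upperSemicontinuous_iff_isOpen_preimage.mp husc) r
  have hcl : IsClosed {p : PrimeSpectrum Γ(X, U.1) |
      r ≤ Module.rankAtStalk (R := Γ(X, U.1)) Γ(F, U.1) p} := by
    have : {p : PrimeSpectrum Γ(X, U.1) |
        r ≤ Module.rankAtStalk (R := Γ(X, U.1)) Γ(F, U.1) p} =
        {p : PrimeSpectrum Γ(X, U.1) |
          Module.rankAtStalk (R := Γ(X, U.1)) Γ(F, U.1) p < r}ᶜ := by
      ext p; simp
    rw [this]
    exact hlt.isClosed_compl
  have hcont : Continuous (fun x : U.1 => hU.primeIdealOf x) := hU.isoSpec.hom.continuous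
  have := hcl.preimage hcont
  convert this using 1
  ext x
  simp only [Set.mem_preimage, Set.mem_ofPred_eq]
  rw [fibreRank_eq_rankAtStalk F hfl hU x]

lemma stableUnderGeneralization_rank_ge (F : X.Modules) [F.IsQuasicoherent] [F.IsFiniteType]
    (hfl : FlatMod.IsFlat F) (r : ℕ) :
    StableUnderGeneralization {x : X | r ≤ fibreRank F x} := by
  intro x y hyx hx
  obtain ⟨U, hxU⟩ := Opens.mem_iSup.mp ((iSup_affineOpens_eq_top X).ge (Set.mem_univ x))
  have hU : IsAffineOpen U.1 := U.2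
  have hyU : y ∈ U.1 := hyx.mem_open U.1.2 hxU
  have hfin := Groth.Agent.Lib.CohFinite.finite_sections_of_isAffineOpen F hU
  have hflat := Groth.Agent.Lib.QCohFlat.flat_sections_of_flat_stalks F hU fun x => hfl x.1
  have hcont : Continuous (fun x : U.1 => hU.primeIdealOf x) := hU.isoSpec.hom.continuous
  have hsp : (⟨y, hyU⟩ : U.1) ⤳ ⟨x, hxU⟩ := (subtype_specializes_iff _ _).mpr hyx
  have hsp' := hsp.map hcont
  have hle : hU.primeIdealOf ⟨y, hyU⟩ ≤ hU.primeIdealOf ⟨x, hxU⟩ :=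
    (PrimeSpectrum.le_iff_specializes _ _).mpr hsp'
  have h1 := fibreRank_eq_rankAtStalk F hfl hU ⟨x, hxU⟩
  have h2 := fibreRank_eq_rankAtStalk F hfl hU ⟨y, hyU⟩
  have h3 := Module.rankAtStalk_eq_of_le_of_finite_of_flat (R := Γ(X, U.1)) Γ(F, U.1) hle
  change r ≤ fibreRank F y
  change r ≤ fibreRank F x at hx
  simp only at h1 h2
  rw [h2, h3, ← h1]
  exact hx

lemma isFinLocFree_of_hyp
    (H : ∀ Z : Set X, IsClosed Z → StableUnderGeneralization Z → IsOpen Z)
    (F : X.Modules) (hq : Coh.IsQCoh F) (hft : CohB1.IsFT F) (hfl : FlatMod.IsFlat F) :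
    FlatMod.IsFinLocFree F := by
  haveI : F.IsQuasicoherent := hq
  haveI : F.IsFiniteType := hft
  apply isFinLocFree_of_isFT_of_free_of_rank F hft (free_stalk F hfl)
  rw [IsLocallyConstant.iff_isOpen_fiber]
  intro r
  have h1 : IsOpen {x : X | r ≤ fibreRank F x} :=
    H _ (isClosed_rank_ge F hfl r) (stableUnderGeneralization_rank_ge F hfl r)
  have h2 : IsClosed {x : X | r + 1 ≤ fibreRank F x} := isClosed_rank_ge F hfl (r + 1)
  have : (fun x => fibreRank F x) ⁻¹' {r} =
      {x | r ≤ fibreRank F x} ∩ {x | r + 1 ≤ fibreRank F x}ᶜ := by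
    ext x
    simp only [Set.mem_preimage, Set.mem_singleton_iff, Set.mem_inter_iff, Set.mem_ofPred_eq,
      Set.mem_compl_iff]
    omega
  rw [this]
  exact h1.inter h2.isOpen_compl



lemma isCoh_quotMod (I : X.IdealSheafData) : Coh.IsCoh (ClSub.quotMod I) :=
  Groth.Agent.Lib.H90OXModPushFinite.isCoh_pushforward I.subschemeι _
    (Groth.Agent.Lib.Hartogs.isCoh_structureModule _)

set_option backward.isDefEq.respectTransparency false in
lemma flat_sections_quotMod (I : X.IdealSheafData) (hI : Flat I.subschemeι) (U : X.affineOpens) :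
    Module.Flat Γ(X, U.1) Γ(ClSub.quotMod I, U.1) := by
  have hU : IsAffineOpen U.1 := U.2
  have hV : IsAffineOpen (I.subschemeι ⁻¹ᵁ U.1) := hU.preimage I.subschemeι
  have h1 : (I.subschemeι.app U.1).hom.Flat := by
    have := HasRingHomProperty.appLE (P := @Flat) I.subschemeι hI U ⟨_, hV⟩ le_rfl
    rwa [← Scheme.Hom.app_eq_appLE] at this
  let _ := (I.subschemeι.app U.1).hom.toAlgebra
  let _ : Module Γ(X, U.1) Γ(Coh.structureModule I.subscheme, I.subschemeι ⁻¹ᵁ U.1) :=
    Module.compHom _ (I.subschemeι.app U.1).hom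
  haveI : IsScalarTower Γ(X, U.1) Γ(I.subscheme, I.subschemeι ⁻¹ᵁ U.1)
      Γ(Coh.structureModule I.subscheme, I.subschemeι ⁻¹ᵁ U.1) :=
    .of_algebraMap_smul fun _ _ => rfl
  haveI : Module.Flat Γ(X, U.1) Γ(I.subscheme, I.subschemeι ⁻¹ᵁ U.1) := h1
  haveI : Module.Flat Γ(I.subscheme, I.subschemeι ⁻¹ᵁ U.1)
      Γ(Coh.structureModule I.subscheme, I.subschemeι ⁻¹ᵁ U.1) :=
    inferInstanceAs (Module.Flat Γ(I.subscheme, I.subschemeι ⁻¹ᵁ U.1)
      Γ(I.subscheme, I.subschemeι ⁻¹ᵁ U.1))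
  exact Module.Flat.trans Γ(X, U.1) Γ(I.subscheme, I.subschemeι ⁻¹ᵁ U.1)
    Γ(Coh.structureModule I.subscheme, I.subschemeι ⁻¹ᵁ U.1)

lemma subsingleton_structureModule_sections {Z : Scheme.{u}} (V : Z.Opens) (hV : V = ⊥) :
    Subsingleton Γ(Coh.structureModule Z, V) := by
  subst hV
  exact inferInstanceAs (Subsingleton Γ(Z, ⊥))

/-- the stalks of `O_X / I` vanish off the support. -/
lemma subsingleton_stalk_quotMod (I : X.IdealSheafData) (y : X) (hy : y ∉ I.support) :
    Subsingleton ((ClSub.quotMod I).presheaf.stalk y) := by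
  refine ⟨fun a b => ?_⟩
  suffices h : ∀ ξ : (ClSub.quotMod I).presheaf.stalk y, ξ = 0 by rw [h a, h b]
  intro ξ
  obtain ⟨V, hyV, s, rfl⟩ := TopCat.Presheaf.exists_germ_eq _ ξ
  let W : X.Opens := V ⊓ ⟨(I.support : Set X)ᶜ, I.support.isClosed.isOpen_compl⟩
  have hyW : y ∈ W := ⟨hyV, hy⟩
  have hW : I.subschemeι ⁻¹ᵁ W = ⊥ := by
    ext z
    simp only [Opens.coe_bot, Set.mem_empty_iff_false, iff_false]
    intro hz
    have h1 : I.subschemeι z ∈ (I.support : Set X) := by
      rw [← I.range_subschemeι]; exact ⟨z, rfl⟩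
    exact hz.2 h1
  have hsub : Subsingleton Γ(ClSub.quotMod I, W) :=
    subsingleton_structureModule_sections _ hW
  have hres := TopCat.Presheaf.germ_res_apply (ClSub.quotMod I).presheaf
    (homOfLE (inf_le_left : W ≤ V)) y hyW s
  rw [← hres, Subsingleton.elim ((ClSub.quotMod I).presheaf.map (homOfLE _).op s) 0, map_zero]

/-- the stalks of `O_X / I` are nonzero on the support. -/
lemma not_subsingleton_stalk_quotMod (I : X.IdealSheafData) (x : X) (hx : x ∈ I.support) :
    ¬ Subsingleton ((ClSub.quotMod I).presheaf.stalk x) := by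
  intro hsub
  obtain ⟨z, rfl⟩ : x ∈ Set.range I.subschemeι := by rw [I.range_subschemeι]; exact hx
  let one : Γ(ClSub.quotMod I, ⊤) :=
    Groth.Agent.Lib.StructureModule.toSec (I.subschemeι ⁻¹ᵁ ⊤) 1
  have h0 : (ClSub.quotMod I).presheaf.germ ⊤ (I.subschemeι z) trivial one =
      (ClSub.quotMod I).presheaf.germ ⊤ (I.subschemeι z) trivial 0 := Subsingleton.elim _ _
  obtain ⟨W, hzW, iU, iV, h1⟩ := TopCat.Presheaf.germ_eq _ _ _ _ _ _ h0
  rw [map_zero] at h1
  have h2 : (1 : Γ(I.subscheme, I.subschemeι ⁻¹ᵁ W)) = 0 := by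
    have : (ClSub.quotMod I).presheaf.map iU.op one =
        Groth.Agent.Lib.StructureModule.toSec (I.subschemeι ⁻¹ᵁ W)
          (1 : Γ(I.subscheme, I.subschemeι ⁻¹ᵁ W)) := by
      change (I.subscheme.presheaf.map _).hom (1 : Γ(I.subscheme, I.subschemeι ⁻¹ᵁ ⊤)) = 1
      exact map_one _
    rw [this] at h1
    exact h1
  have h3 : I.subschemeι ⁻¹ᵁ W = ⊥ := by
    rw [← Scheme.basicOpen_of_isUnit I.subscheme
      (isUnit_one : IsUnit (1 : Γ(I.subscheme, I.subschemeι ⁻¹ᵁ W))), h2,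
      Scheme.basicOpen_zero]
  have h4 : z ∈ I.subschemeι ⁻¹ᵁ W := hzW
  rw [h3] at h4
  exact h4

open Groth.Agent.Lib.ModStalk Groth.Agent.Lib.ModStalkLin Groth.Agent.Lib.FreeModSch
  Groth.Agent.Lib.FreeModStalk Groth.Agent.Lib.RestrictStalk Groth.Agent.Lib.ModStalkIso in
lemma nonempty_basis_of_restrict_iso (F : X.Modules) (U : X.Opens) (n : ℕ)
    (e : F.restrict U.ι ≅ FlatMod.freeMod (↑U) n) (y : X) (hy : y ∈ U) :
    Nonempty (Module.Basis (Fin n) (X.presheaf.stalk y) (F.presheaf.stalk y)) := by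
  let y' : U.toScheme := ⟨y, hy⟩
  let b : Module.Basis (Fin n) (U.toScheme.presheaf.stalk y')
      ((F.restrict U.ι).presheaf.stalk y') :=
    (stalkBasis (n := n) y').map (stalkLinEquiv e y').symm
  have hli := (linearIndependent_restrict_iff U.ι F y' b).mp b.linearIndependent
  have hsp := (span_restrict_eq_top_iff U.ι F y' b).mp b.span_eq
  exact ⟨Module.Basis.mk hli hsp.ge⟩

lemma isOpen_of_hyp
    (H : ∀ F : X.Modules, Coh.IsQCoh F → CohB1.IsFT F → FlatMod.IsFlat F → FlatMod.IsFinLocFree F)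
    (Z : Set X) (hc : IsClosed Z) (hg : StableUnderGeneralization Z) : IsOpen Z := by
  let I := Groth.Agent.S9351.sheafOf Z hc hg
  have hIZ : (I.support : Set X) = Z := Groth.Agent.S9351.sheafOf_support Z hc hg
  have hflat : Flat I.subschemeι := Groth.Agent.S9351.sheafOf_flat Z hc hg
  have hcoh := isCoh_quotMod I
  haveI : (ClSub.quotMod I).IsQuasicoherent := hcoh.1
  have hfl : FlatMod.IsFlat (ClSub.quotMod I) :=
    (Groth.Agent.Lib.QCohFlat.isFlat_iff_forall_affine _).mpr (flat_sections_quotMod I hflat)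
  have hflf := H _ hcoh.1 hcoh.2 hfl
  rw [isOpen_iff_forall_mem_open]
  intro x hxZ
  obtain ⟨U, n, hxU, ⟨e⟩⟩ := hflf x
  refine ⟨U, ?_, U.2, hxU⟩
  have hn : n ≠ 0 := by
    rintro rfl
    obtain ⟨b⟩ := nonempty_basis_of_restrict_iso _ U 0 e x hxU
    apply not_subsingleton_stalk_quotMod I x (by rw [← hIZ] at hxZ; exact hxZ)
    exact b.repr.toEquiv.subsingleton
  intro y hyU
  by_contra hyZ
  have hsub := subsingleton_stalk_quotMod I y (by
    intro h; apply hyZ; rw [← hIZ]; exact h)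
  obtain ⟨b⟩ := nonempty_basis_of_restrict_iso _ U n e y hyU
  obtain ⟨m, rfl⟩ := Nat.exists_eq_succ_of_ne_zero hn
  exact b.ne_zero 0 (Subsingleton.elim _ _)

open AlgebraicGeometry CategoryTheory in

open AlgebraicGeometry CategoryTheory in
/-- For a scheme X, every finite type flat quasi-coherent O_X-module is finite locally free if and only
if every closed subset of X that is stable under generalization is open. -/
theorem result (X : Scheme.{u}) :
    (∀ F : X.Modules, Coh.IsQCoh F → CohB1.IsFT F → FlatMod.IsFlat F → FlatMod.IsFinLocFree F) ↔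
      ∀ Z : Set ↑X, IsClosed Z → StableUnderGeneralization Z → IsOpen Z := by
  exact ⟨fun H Z hc hg => isOpen_of_hyp H Z hc hg,
    fun H F hq hft hfl => isFinLocFree_of_hyp H F hq hft hfl⟩

end Groth.Agent.S9352
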