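import Groth.Statements.S9353
import Groth.Agent.Lib.QCohStalk
import Mathlib.RingTheory.Flat.Localization

set_option autoImplicit false
set_option linter.style.haveILetI false
set_option linter.unusedVariables false
universe u
open FlatMod

namespace Groth.Agent.S9353

section helpers

open AlgebraicGeometry CategoryTheory Opposite Groth.Agent.Lib.QCohStalk

open TensorProduct in
theorem flat_of_isLocalizedModule_tower {A B M N : Type*} [CommRing A] [CommRing B] [Algebra A B]
    [AddCommGroup M] [Module A M] [Module B M] [IsScalarTower A B M]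
    [AddCommGroup N] [Module A N] [Module B N] [IsScalarTower A B N]
    (S : Submonoid B) (g : M →ₗ[B] N) [IsLocalizedModule S g] [Module.Flat A M] :
    Module.Flat A N := by
  rw [Module.Flat.iff_lTensor_injectiveₛ]
  intro P _ _ N'
  have hinj : Function.Injective (N'.subtype.lTensor M) :=
    Module.Flat.lTensor_preserves_injective_linearMap _ Subtype.val_injective
  rw [← AlgebraTensorModule.coe_lTensor (A := B)] at hinj ⊢
  have := IsLocalizedModule.map_injective S (AlgebraTensorModule.rTensor A N' g)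
    (AlgebraTensorModule.rTensor A P g) (AlgebraTensorModule.lTensor B M N'.subtype) hinj
  rwa [IsLocalizedModule.map_lTensor] at this

theorem flat_of_localized_maximal_tower {R B M : Type*} [CommRing R] [CommRing B] [Algebra R B]
    [AddCommGroup M] [Module R M] [Module B M] [IsScalarTower R B M]
    (h : ∀ (P : Ideal B) [P.IsMaximal], Module.Flat R (LocalizedModule P.primeCompl M)) :
    Module.Flat R M :=
  Module.flat_of_isLocalized_maximal B M (fun P _ => LocalizedModule P.primeCompl M)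
    (fun P _ => LocalizedModule.mkLinearMap _ _) h

variable {X S : Scheme.{u}}

theorem germ_appLE (f : X ⟶ S) {U : X.Opens} {V : S.Opens} (hUV : U ≤ f ⁻¹ᵁ V) (x : X)
    (hx : x ∈ U) (r : Γ(S, V)) :
    (f.stalkMap x).hom ((S.presheaf.germ V (f x) (hUV hx)).hom r) =
      (X.presheaf.germ U x hx).hom ((f.appLE V U hUV).hom r) := by
  have h1 := Scheme.Hom.germ_stalkMap_apply f V x (hUV hx) r
  rw [Scheme.Hom.appLE]
  have h2 := TopCat.Presheaf.germ_res_apply X.presheaf (homOfLE hUV) x hx (f.app V r)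
  exact h1.trans h2.symm

theorem key (f : X ⟶ S) (F : X.Modules) {U : X.Opens} {V : S.Opens} (hUV : U ≤ f ⁻¹ᵁ V)
    (hV : IsAffineOpen V) (x : X) (hx : x ∈ U) :
    FlatMod.IsFlatOverAt f F x ↔
      @Module.Flat Γ(S, V) (F.presheaf.stalk x) _ _
        (Module.compHom _ ((X.presheaf.germ U x hx).hom.comp (f.appLE V U hUV).hom)) := by
  letI modR : Module Γ(S, V) (F.presheaf.stalk x) :=
    Module.compHom _ ((X.presheaf.germ U x hx).hom.comp (f.appLE V U hUV).hom)
  letI modSx := FlatMod.moduleStalkOver f F x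
  letI algR : Algebra Γ(S, V) (S.presheaf.stalk (f x)) :=
    TopCat.Presheaf.algebra_section_stalk S.presheaf (⟨f x, hUV hx⟩ : V)
  haveI hloc : IsLocalization.AtPrime (S.presheaf.stalk (f x))
      (hV.primeIdealOf ⟨f x, hUV hx⟩).asIdeal := hV.isLocalization_stalk ⟨f x, hUV hx⟩
  haveI : IsScalarTower Γ(S, V) (S.presheaf.stalk (f x)) (F.presheaf.stalk x) := by
    refine .of_algebraMap_smul fun r n => ?_
    have e := germ_appLE f hUV x hx r
    exact congrArg (fun t : X.presheaf.stalk x => t • n) e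
  unfold FlatMod.IsFlatOverAt
  exact Module.flat_iff_of_isLocalization (S.presheaf.stalk (f x))
    (hV.primeIdealOf ⟨f x, hUV hx⟩).asIdeal.primeCompl _

theorem primeIdealOf_fromSpec {U : X.Opens} (hU : IsAffineOpen U) (y : PrimeSpectrum Γ(X, U))
    (hy : hU.fromSpec y ∈ U) : hU.primeIdealOf ⟨hU.fromSpec y, hy⟩ = y := by
  have h1 := hU.fromSpec_primeIdealOf ⟨hU.fromSpec y, hy⟩
  exact hU.fromSpec.isOpenEmbedding.injective h1

theorem fromSpec_mem {U : X.Opens} (hU : IsAffineOpen U) (y : PrimeSpectrum Γ(X, U)) :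
    hU.fromSpec y ∈ U := by
  have : hU.fromSpec y ∈ Set.range hU.fromSpec := ⟨y, rfl⟩
  rw [hU.range_fromSpec] at this
  exact this


end helpers


open AlgebraicGeometry CategoryTheory Opposite in
/-- Let f : X → S be a morphism of schemes and let F be an O_X-module that is quasi-coherent. Flatness
of F over S is equivalent to the following: for all affine opens U ⊆ X and V ⊆ S with U ⊆ f⁻¹V the
module F(U) is flat over O_S(V). -/
theorem result {X S : Scheme.{u}} (f : X ⟶ S) (F : X.Modules) (hF : Coh.IsQCoh F) :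
    FlatMod.IsFlatOver f F ↔
      ∀ (U : X.Opens) (V : S.Opens) (hUV : U ≤ f ⁻¹ᵁ V), IsAffineOpen U → IsAffineOpen V →
        @Module.Flat Γ(S, V) (F.val.obj (op U)) _ _ (Module.compHom (F.val.obj (op U)) (f.appLE V U hUV).hom) := by
  haveI : F.IsQuasicoherent := hF
  constructor
  · intro h U V hUV hU hV
    letI modRM : Module Γ(S, V) Γ(F, U) := Module.compHom _ (f.appLE V U hUV).hom
    letI algRB : Algebra Γ(S, V) Γ(X, U) := (f.appLE V U hUV).hom.toAlgebra
    haveI : IsScalarTower Γ(S, V) Γ(X, U) Γ(F, U) := .of_algebraMap_smul fun _ _ => rfl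
    show Module.Flat Γ(S, V) Γ(F, U)
    refine flat_of_localized_maximal_tower (B := Γ(X, U)) fun P hP => ?_
    let y : PrimeSpectrum Γ(X, U) := ⟨P, hP.isPrime⟩
    have hx : hU.fromSpec y ∈ U := fromSpec_mem hU y
    letI modB := Groth.Agent.Lib.QCohStalk.moduleSectionStalk F (⟨hU.fromSpec y, hx⟩ : U)
    letI modR : Module Γ(S, V) (F.presheaf.stalk (hU.fromSpec y)) :=
      Module.compHom _ ((X.presheaf.germ U _ hx).hom.comp (f.appLE V U hUV).hom)
    haveI : IsScalarTower Γ(S, V) Γ(X, U) (F.presheaf.stalk (hU.fromSpec y)) :=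
      .of_algebraMap_smul fun _ _ => rfl
    have hflat : Module.Flat Γ(S, V) (F.presheaf.stalk (hU.fromSpec y)) :=
      (key f F hUV hV _ hx).1 (h _)
    have hloc := Groth.Agent.Lib.QCohStalk.isLocalizedModule_germ F hU (⟨hU.fromSpec y, hx⟩ : U)
    rw [primeIdealOf_fromSpec hU y hx] at hloc
    haveI : IsLocalizedModule P.primeCompl (Groth.Agent.Lib.QCohStalk.germLinear F (⟨hU.fromSpec y, hx⟩ : U)) := hloc
    exact Module.Flat.of_linearEquiv
      ((IsLocalizedModule.iso P.primeCompl (Groth.Agent.Lib.QCohStalk.germLinear F (⟨hU.fromSpec y, hx⟩ : U))).restrictScalars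
        Γ(S, V))
  · intro h x
    obtain ⟨V, hV, hxV⟩ : ∃ V : S.Opens, IsAffineOpen V ∧ f x ∈ V := by
      obtain ⟨_, ⟨V, hV, rfl⟩, hxV, -⟩ :=
        S.isBasis_affineOpens.exists_subset_of_mem_open (Set.mem_univ (f x)) isOpen_univ
      exact ⟨V, hV, hxV⟩
    obtain ⟨U, hU, hxU, hUV⟩ : ∃ U : X.Opens, IsAffineOpen U ∧ x ∈ U ∧ U ≤ f ⁻¹ᵁ V := by
      obtain ⟨_, ⟨U, hU, rfl⟩, hxU, hUV⟩ :=
        X.isBasis_affineOpens.exists_subset_of_mem_open (show x ∈ (f ⁻¹ᵁ V : Set X) from hxV)
          (f ⁻¹ᵁ V).isOpen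
      exact ⟨U, hU, hxU, hUV⟩
    rw [key f F hUV hV x hxU]
    have hM := h U V hUV hU hV
    letI modRM : Module Γ(S, V) Γ(F, U) := Module.compHom _ (f.appLE V U hUV).hom
    letI algRB : Algebra Γ(S, V) Γ(X, U) := (f.appLE V U hUV).hom.toAlgebra
    haveI : IsScalarTower Γ(S, V) Γ(X, U) Γ(F, U) := .of_algebraMap_smul fun _ _ => rfl
    haveI : Module.Flat Γ(S, V) Γ(F, U) := hM
    letI modB := Groth.Agent.Lib.QCohStalk.moduleSectionStalk F (⟨x, hxU⟩ : U)
    letI modR : Module Γ(S, V) (F.presheaf.stalk x) :=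
      Module.compHom _ ((X.presheaf.germ U x hxU).hom.comp (f.appLE V U hUV).hom)
    haveI : IsScalarTower Γ(S, V) Γ(X, U) (F.presheaf.stalk x) :=
      .of_algebraMap_smul fun _ _ => rfl
    haveI := Groth.Agent.Lib.QCohStalk.isLocalizedModule_germ F hU (⟨x, hxU⟩ : U)
    exact flat_of_isLocalizedModule_tower (A := Γ(S, V)) (B := Γ(X, U))
      (hU.primeIdealOf ⟨x, hxU⟩).asIdeal.primeCompl (Groth.Agent.Lib.QCohStalk.germLinear F (⟨x, hxU⟩ : U))

end Groth.Agent.S9353
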