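import Groth.Prelude

universe u

namespace Groth.Agent.S9356

open AlgebraicGeometry CategoryTheory in
/-- Let f : X → S be locally of finite type and x ⤳ x' a nontrivial specialization of points of the
fibre X_s. Then dim_x(X_s) ≤ dim_{x'}(X_s) and dim O_{X_s,x} < dim O_{X_s,x'}. (The assertion on
transcendence degrees of residue fields is a separate statement.) -/
theorem result {X S : Scheme.{u}} (f : X ⟶ S) [LocallyOfFiniteType f] (s : S)
    (x x' : ↑(f.fiber s)) (hsp : x ⤳ x') (hne : x ≠ x') :
    FlatMor.localDim ↑(f.fiber s) x ≤ FlatMor.localDim ↑(f.fiber s) x' ∧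
      ringKrullDim ((f.fiber s).presheaf.stalk x) < ringKrullDim ((f.fiber s).presheaf.stalk x') := by
  constructor
  · unfold FlatMor.localDim
    refine le_iInf fun U => ?_
    exact iInf_le (fun U : {U : TopologicalSpace.Opens ↑(f.fiber s) // x ∈ U} =>
      topologicalKrullDim (U.1 : Set ↑(f.fiber s))) ⟨U.1, hsp.mem_open U.1.isOpen U.2⟩
  · have : LocallyOfFiniteType (f.fiberToSpecResidueField s) :=
      MorphismProperty.pullback_snd _ _ inferInstance
    have : IsLocallyNoetherian (f.fiber s) :=
      LocallyOfFiniteType.isLocallyNoetherian (f.fiberToSpecResidueField s)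
    rw [ringKrullDim_stalk_eq_coheight, ringKrullDim_stalk_eq_coheight, WithBot.coe_lt_coe]
    have hlt : x' < x := by
      refine lt_of_le_not_ge hsp ?_
      intro h'
      exact hne ((Specializes.antisymm hsp h').eq)
    apply Order.coheight_strictAnti hlt
    have h1 : ringKrullDim ((f.fiber s).presheaf.stalk x) < ⊤ := ringKrullDim_lt_top
    rw [ringKrullDim_stalk_eq_coheight, ← WithBot.coe_top, WithBot.coe_lt_coe] at h1
    exact h1

end Groth.Agent.S9356
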