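import Groth.Statements.S9360

set_option autoImplicit false
universe u
open SchDense

namespace Groth.Agent.S9360

open AlgebraicGeometry CategoryTheory TopologicalSpace

/-- kernel of a morphism from a reduced scheme is the vanishing ideal of the closure of its range -/
lemma ker_eq_vanishingIdeal {Y X : Scheme.{u}} [IsReduced Y] (f : Y ⟶ X) :
    f.ker = Scheme.IdealSheafData.vanishingIdeal (.closure (f '' (⊤ : Closeds Y))) := by
  rw [← Scheme.IdealSheafData.map_vanishingIdeal, Scheme.IdealSheafData.vanishingIdeal_top,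
    Scheme.nilradical_eq_bot, Scheme.IdealSheafData.map_bot]

lemma denseRange_of_ker_eq_bot {Y X : Scheme.{u}} [IsReduced Y] (f : Y ⟶ X) (h : f.ker = ⊥) :
    (Closeds.closure (f '' (⊤ : Closeds Y)) : Closeds X) = ⊤ := by
  have h1 := ker_eq_vanishingIdeal f
  rw [h] at h1
  have h2 := congrArg (fun I => (I.support : Set X)) h1
  simp only [Scheme.IdealSheafData.support_bot, Scheme.IdealSheafData.coe_support_vanishingIdeal]
    at h2
  exact (SetLike.coe_injective h2).symm

lemma nilradical_eq_bot_of_ker_eq_bot {Y X : Scheme.{u}} [IsReduced Y] (f : Y ⟶ X)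
    (h : f.ker = ⊥) : X.nilradical = ⊥ := by
  rw [← Scheme.IdealSheafData.vanishingIdeal_top, ← denseRange_of_ker_eq_bot f h,
    ← ker_eq_vanishingIdeal f, h]

lemma isReduced_of_nilradical_eq_bot (X : Scheme.{u}) (h : X.nilradical = ⊥) : IsReduced X := by
  have : ∀ x : X, _root_.IsReduced (X.presheaf.stalk x) := by
    intro x
    obtain ⟨_, ⟨U, hU, rfl⟩, hxU, -⟩ :=
      X.isBasis_affineOpens.exists_subset_of_mem_open (Set.mem_univ x) isOpen_univ
    replace hU : IsAffineOpen U := hU
    replace hxU : x ∈ U := hxU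
    have hred : _root_.IsReduced Γ(X, U) := by
      have h1 : X.nilradical.ideal ⟨U, hU⟩ = ⊥ := by rw [h]; rfl
      rw [Scheme.nilradical, Scheme.IdealSheafData.radical_ideal] at h1
      simp only [Scheme.IdealSheafData.ideal_bot, Pi.bot_apply] at h1
      rw [← nilradical_eq_bot_iff]
      exact h1
    let := TopCat.Presheaf.algebra_section_stalk X.presheaf (⟨x, hxU⟩ : U)
    have hloc : IsLocalization.AtPrime (X.presheaf.stalk x) (hU.primeIdealOf ⟨x, hxU⟩).asIdeal :=
      hU.isLocalization_stalk ⟨x, hxU⟩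
    exact isReduced_localizationPreserves (hU.primeIdealOf ⟨x, hxU⟩).asIdeal.primeCompl
      (X.presheaf.stalk x) hred
  exact isReduced_of_isReduced_stalk X

/-- Let U ⊆ X be a reduced open subscheme. Then the scheme-theoretic closure of U in X is X if and only
if U is scheme-theoretically dense in X (for every open W the scheme-theoretic closure of U ∩ W in W
is W); and in that case X is reduced. -/
theorem result (X : Scheme.{u}) (U : X.Opens) [IsReduced (↑U : Scheme.{u})] :
    (IsSchemeTheoreticallyDominant U.ι ↔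
        ∀ W : X.Opens, IsSchemeTheoreticallyDominant (X.homOfLE (inf_le_right : U ⊓ W ≤ W))) ∧
      (IsSchemeTheoreticallyDominant U.ι → IsReduced X) := by
  have hred : IsSchemeTheoreticallyDominant U.ι → IsReduced X := fun h =>
    isReduced_of_nilradical_eq_bot X (nilradical_eq_bot_of_ker_eq_bot U.ι h.ker_eq_bot)
  refine ⟨⟨fun h W => ?_, fun h => ?_⟩, hred⟩
  · have hX : IsReduced X := hred h
    have hdense : Dense (U : Set X) := by
      have h1 := denseRange_of_ker_eq_bot U.ι h.ker_eq_bot
      have h2 := congrArg (fun Z : Closeds X => (Z : Set X)) h1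
      simp only [Closeds.coe_closure, Closeds.coe_top, Set.image_univ, Scheme.Opens.range_ι] at h2
      exact dense_iff_closure_eq.mpr h2
    have : IsDominant (X.homOfLE (inf_le_right : U ⊓ W ≤ W)) := by
      constructor
      intro w
      rw [mem_closure_iff]
      intro O hO hwO
      -- O open in W; its image in X is open
      have hO' : IsOpen (Subtype.val '' O : Set X) := W.isOpen.isOpenMap_subtype_val O hO
      obtain ⟨z, hzO, hzU⟩ := hdense.inter_open_nonempty _ hO' ⟨w.1, w, hwO, rfl⟩
      obtain ⟨z', hz'O, rfl⟩ := hzO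
      refine ⟨z', hz'O, ⟨⟨z'.1, hzU, z'.2⟩, ?_⟩⟩
      apply Subtype.ext
      rw [Scheme.homOfLE_apply]
    exact IsSchemeTheoreticallyDominant.of_isDominant _
  · have h1 := h ⊤
    have hle : U ≤ U ⊓ ⊤ := le_inf le_rfl le_top
    have hiso : IsIso (X.homOfLE hle) :=
      ⟨X.homOfLE inf_le_left, by rw [Scheme.homOfLE_homOfLE, Scheme.homOfLE_rfl],
        by rw [Scheme.homOfLE_homOfLE, Scheme.homOfLE_rfl]⟩
    have heq : U.ι = X.homOfLE hle ≫ X.homOfLE (inf_le_right : U ⊓ ⊤ ≤ ⊤) ≫ (⊤ : X.Opens).ι := by
      rw [Scheme.homOfLE_ι, Scheme.homOfLE_ι]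
    rw [heq]
    have i1 : IsSchemeTheoreticallyDominant (X.homOfLE hle) := inferInstance
    have i3' : IsIso (⊤ : X.Opens).ι := X.topIso.isIso_hom
    have i3 : IsSchemeTheoreticallyDominant (⊤ : X.Opens).ι := inferInstance
    have i2 : IsSchemeTheoreticallyDominant
        (X.homOfLE (inf_le_right : U ⊓ ⊤ ≤ ⊤) ≫ (⊤ : X.Opens).ι) := inferInstance
    infer_instance

end Groth.Agent.S9360
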