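import Groth.Statements.S9361
-- import your own Groth.Agent.* helpers here
import Mathlib.AlgebraicGeometry.Morphisms.Immersion
import Mathlib.AlgebraicGeometry.Morphisms.IsIso
import Mathlib.AlgebraicGeometry.Morphisms.Separated

set_option autoImplicit false
universe u
open SchImage

namespace Groth.Agent.S9361

open AlgebraicGeometry CategoryTheory in
/-- Let f : X → Y be separated, V ⊆ Y a retrocompact open and s : V → X a section of f over V. If Y' ⊆ X
is the scheme-theoretic image of s, then Y' → Y is an isomorphism over V. -/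
theorem result {X Y : Scheme.{u}} (f : X ⟶ Y) [IsSeparated f] (V : Y.Opens) [QuasiCompact V.ι]
    (s : (↑V : Scheme.{u}) ⟶ X) (hs : s ≫ f = V.ι) :
    IsIso ((s.imageι ≫ f) ∣_ V) := by
  have hsqc : QuasiCompact s := by
    have : QuasiCompact (s ≫ f) := by rw [hs]; infer_instance
    exact QuasiCompact.of_comp s f
  have hsimm : IsImmersion s := by
    have : IsImmersion (s ≫ f) := by rw [hs]; infer_instance
    exact IsImmersion.of_comp s f
  have htp : s.toImage ≫ (s.imageι ≫ f) = V.ι := by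
    rw [← Category.assoc, Scheme.Hom.toImage_imageι, hs]
  have hr : Set.range s.toImage ⊆ Set.range ((s.imageι ≫ f) ⁻¹ᵁ V).ι := by
    rintro _ ⟨v, rfl⟩
    rw [Scheme.Opens.range_ι]
    change (s.imageι ≫ f) (s.toImage v) ∈ V
    rw [← Scheme.Hom.comp_apply, htp]
    exact v.2
  have ht' : IsOpenImmersion.lift ((s.imageι ≫ f) ⁻¹ᵁ V).ι s.toImage hr ≫
      ((s.imageι ≫ f) ⁻¹ᵁ V).ι = s.toImage := IsOpenImmersion.lift_fac _ _ _
  generalize IsOpenImmersion.lift ((s.imageι ≫ f) ⁻¹ᵁ V).ι s.toImage hr = t' at ht'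
  have hsec : t' ≫ ((s.imageι ≫ f) ∣_ V) = 𝟙 _ := by
    rw [← cancel_mono V.ι, Category.assoc, morphismRestrict_ι, ← Category.assoc, ht', htp,
      Category.id_comp]
  have hoi : IsOpenImmersion t' := by
    have : IsOpenImmersion (t' ≫ ((s.imageι ≫ f) ⁻¹ᵁ V).ι) := by rw [ht']; infer_instance
    exact IsOpenImmersion.of_comp t' ((s.imageι ≫ f) ⁻¹ᵁ V).ι
  have hci : IsClosedImmersion t' := by
    have : IsClosedImmersion (t' ≫ ((s.imageι ≫ f) ∣_ V)) := by rw [hsec]; infer_instance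
    exact IsClosedImmersion.of_comp t' ((s.imageι ≫ f) ∣_ V)
  have hd : IsDominant t' := by
    refine ⟨fun u => ?_⟩
    rw [mem_closure_iff]
    intro O hO huO
    have hO' : IsOpen (((s.imageι ≫ f) ⁻¹ᵁ V).ι '' O) :=
      ((s.imageι ≫ f) ⁻¹ᵁ V).ι.isOpenEmbedding.isOpenMap O hO
    obtain ⟨v, o, hoO, ho⟩ := s.toImage.denseRange.exists_mem_open hO'
      ⟨((s.imageι ≫ f) ⁻¹ᵁ V).ι u, u, huO, rfl⟩
    refine ⟨o, hoO, v, ((s.imageι ≫ f) ⁻¹ᵁ V).ι.isOpenEmbedding.injective ?_⟩
    rw [← Scheme.Hom.comp_apply, ht', ho]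
  have hsurj : Surjective t' :=
    surjective_of_isDominant_of_isClosed_range _ t'.isClosedEmbedding.isClosed_range
  have hiso : IsIso t' := (isIso_iff_isOpenImmersion_and_surjective t').mpr ⟨hoi, hsurj⟩
  have : (s.imageι ≫ f) ∣_ V = inv t' := by
    rw [← cancel_epi t', hsec, IsIso.hom_inv_id]
  rw [this]
  infer_instance

end Groth.Agent.S9361
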