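import Groth.Statements.S9366
import Mathlib
import Groth.Agent.Lib.GlobalCI
import Groth.Agent.Lib.H56FibDimSmooth2
import Groth.Agent.Lib.H56LocDimRing

set_option autoImplicit false
universe u
open Synt

namespace Groth.Agent.S9366

section Helpers

namespace C1

open Groth.Agent.Lib.H56LocDim Groth.Agent.Lib.GlobalCI PrimeSpectrum MvPolynomial

/-- Lower bound for the dimension of a principal localization of `k[x]/(r_1..r_c)`. -/
theorem le_ringKrullDim_away {k : Type u} [Field k] {T : Type u} [CommRing T] [Algebra k T]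
    {n c : ℕ} (P : Algebra.Presentation k T (Fin n) (Fin c)) (g : T)
    [Nontrivial (Localization.Away g)] :
    ((n - c : ℕ) : WithBot ℕ∞) ≤ ringKrullDim (Localization.Away g) := by
  classical
  let Q : Algebra.Presentation T (Localization.Away g) Unit Unit :=
    Algebra.Presentation.localizationAway (Localization.Away g) g
  let e : Fin (n + 1) ≃ Unit ⊕ Fin n := Fintype.equivOfCardEq (by simp [add_comm])
  let f : Fin (c + 1) ≃ Unit ⊕ Fin c := Fintype.equivOfCardEq (by simp [add_comm])
  let P' : Algebra.Presentation k (Localization.Away g) (Fin (n + 1)) (Fin (c + 1)) :=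
    (Q.comp P).reindex e f
  have hsurj : Function.Surjective (aeval (R := k) P'.val) := P'.aeval_val_surjective
  have hker' : RingHom.ker (aeval (R := k) P'.val).toRingHom =
      Ideal.span (Set.range P'.relation) := by
    rw [P'.span_range_relation_eq_ker, Algebra.Generators.ker_eq_ker_aeval_val]
    rfl
  obtain ⟨m, hm⟩ := Ideal.exists_maximal (Localization.Away g)
  have h1 := le_height_add_of_presentation (aeval (R := k) P'.val) P'.relation hsurj hker' m
  have h2 : (m.height : WithBot ℕ∞) ≤ ringKrullDim (Localization.Away g) :=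
    Ideal.height_le_ringKrullDim_of_ne_top Ideal.IsPrime.ne_top'
  refine le_trans ?_ h2
  have h3 : ((n - c : ℕ) : ℕ∞) ≤ m.height := by
    cases hh : m.height with
    | top => exact le_top
    | coe a =>
      rw [hh] at h1
      have : (n + 1 : ℕ) ≤ a + (c + 1) := by exact_mod_cast h1
      exact_mod_cast (by omega : n - c ≤ a)
  calc ((n - c : ℕ) : WithBot ℕ∞) = (((n - c : ℕ) : ℕ∞) : WithBot ℕ∞) := rfl
    _ ≤ _ := WithBot.coe_le_coe.mpr h3

/-- In a global complete intersection over a field all local dimensions are `n - c`. -/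
theorem localDim_eq {k : Type u} [Field k] {T : Type u} [CommRing T] [Algebra k T]
    {n c : ℕ} (P : Algebra.Presentation k T (Fin n) (Fin c))
    (hdim : ringKrullDim T = ((n - c : ℕ) : WithBot ℕ∞)) (z : PrimeSpectrum T) :
    FlatMor.localDim (PrimeSpectrum T) z = ((n - c : ℕ) : WithBot ℕ∞) := by
  apply le_antisymm
  · rw [← hdim]
    exact localDim_primeSpectrum_le z
  · apply le_localDim_primeSpectrum
    intro g hg
    haveI : Nontrivial (Localization.Away g) := by
      have hp : (Ideal.map (algebraMap T (Localization.Away g)) z.asIdeal).IsPrime :=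
        IsLocalization.isPrime_of_isPrime_disjoint (.powers g) _ _ z.2
          ((Ideal.disjoint_powers_iff_notMem_of_isPrime _).mpr hg)
      exact (⟨_, hp⟩ : PrimeSpectrum (Localization.Away g)).nontrivial
    exact le_ringKrullDim_away P g

end C1

namespace C2

open Groth.Agent.Lib.H56LocDim PrimeSpectrum MvPolynomial AlgebraicGeometry CategoryTheory

theorem fibLocDim_relGCI (R : Type u) [CommRing R] (n c : ℕ) (F : Fin c → MvPolynomial (Fin n) R)
    (hF : Synt.IsRelGCI R n c F) (x : PrimeSpectrum (Synt.RelGCIRing R n c F)) :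
    fibLocDim (comap (algebraMap R (Synt.RelGCIRing R n c F))) x = ((n - c : ℕ) : WithBot ℕ∞) := by
  obtain ⟨p, hp⟩ : ∃ p, comap (algebraMap R (Synt.RelGCIRing R n c F)) x = p := ⟨_, rfl⟩
  rw [← localDim_fibre_eq _ x p hp]
  let e := PrimeSpectrum.preimageHomeomorphFiber R (Synt.RelGCIRing R n c F) p
  rw [localDim_eq_of_homeomorph e ⟨x, hp⟩]
  have hnt : Nontrivial (p.asIdeal.Fiber (Synt.RelGCIRing R n c F)) := (e ⟨x, hp⟩).nontrivial
  obtain ⟨hcn, hfd⟩ := hF p hnt
  let P : Algebra.Presentation p.asIdeal.ResidueField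
      (p.asIdeal.Fiber (Synt.RelGCIRing R n c F)) (Fin n) (Fin c) :=
    (Algebra.Presentation.naive (v := F)).baseChange p.asIdeal.ResidueField
  exact C1.localDim_eq P hfd _

theorem main (R : Type u) [CommRing R] (n c : ℕ) (F : Fin c → MvPolynomial (Fin n) R)
    (hF : Synt.IsRelGCI R n c F) (x : ↑(Spec (CommRingCat.of (Synt.RelGCIRing R n c F)))) :
    FlatMor.fibreDimAt (Spec.map (CommRingCat.ofHom (algebraMap R (Synt.RelGCIRing R n c F)))) x =
      ((n - c : ℕ) : WithBot ℕ∞) := by
  rw [fibreDimAt_SpecMap]
  exact fibLocDim_relGCI R n c F hF x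

end C2

end Helpers

open AlgebraicGeometry CategoryTheory in
/-- For a relative global complete intersection R → A = R[x_1, …, x_n]/(F_1, …, F_c) and f : Spec A →
Spec R, the function x ↦ dim_x(X_{f x}) is constant with value n − c. -/
theorem result (R : Type u) [CommRing R] (n c : ℕ) (F : Fin c → MvPolynomial (Fin n) R)
    (hF : Synt.IsRelGCI R n c F) (x : ↑(Spec (CommRingCat.of (Synt.RelGCIRing R n c F)))) :
    FlatMor.fibreDimAt (Spec.map (CommRingCat.ofHom (algebraMap R (Synt.RelGCIRing R n c F)))) x =
      ((n - c : ℕ) : WithBot ℕ∞) := by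
  exact C2.main R n c F hF x

end Groth.Agent.S9366
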