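import Groth.Statements.S9368
import Groth.Agent.Lib.CIOverSch

set_option autoImplicit false
universe u
open Synt

namespace Groth.Agent.S9368

open AlgebraicGeometry CategoryTheory in
/-- For X locally of finite type over a field k with structure morphism p, the following are equivalent:
(1) p is syntomic; (2) every x ∈ X has an affine open neighbourhood whose coordinate ring is a
global complete intersection over k; (3) each stalk O_{X,x} is a complete intersection ring over k
(k-algebra structures induced by p). -/
theorem result (k : Type u) [Field k] (X : Scheme.{u}) (p : X ⟶ Spec (CommRingCat.of k)) [LocallyOfFiniteType p] :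
    [Synt.IsSyntomicMor p,
      ∀ x : ↑X, ∃ U : X.affineOpens, x ∈ U.1 ∧
        letI := ((Scheme.ΓSpecIso (CommRingCat.of k)).inv ≫ p.appLE ⊤ U.1 le_top).hom.toAlgebra
        Synt.IsGlobalCI k Γ(X, U.1),
      ∀ x : ↑X,
        letI := ((Scheme.ΓSpecIso (CommRingCat.of k)).inv ≫ p.appLE ⊤ ⊤ le_top ≫ X.presheaf.germ ⊤ x trivial).hom.toAlgebra
        Synt.IsCIOver k (X.presheaf.stalk x)].TFAE := by
  tfae_have 1 → 2 := fun h x =>
    Groth.Agent.Lib.CIOverSch.exists_isGlobalCI_of_isSyntomicMor k p h x
  tfae_have 2 → 3 := by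
    intro h x
    obtain ⟨U, hxU, hU⟩ := h x
    exact Groth.Agent.Lib.CIOverSch.isCIOver_stalk_of_isGlobalCI k p U.2 x hxU hU
  tfae_have 3 → 1 := fun h =>
    Groth.Agent.Lib.CIOverSch.isSyntomicMor_of_forall_isCIOver_stalk k p h
  tfae_finish

end Groth.Agent.S9368

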