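import Groth.Statements.S9373
import Groth.Agent.Lib.QCohStalk

set_option autoImplicit false
universe u
open QCohSub

namespace Groth.Agent.S9373

open Groth.Agent.Lib.QCohStalk

open AlgebraicGeometry CategoryTheory in
/-- The support of a quasi-coherent O_X-module is closed under specialization. -/
theorem result (X : Scheme.{u}) (F : X.Modules) (hF : Coh.IsQCoh F) :
    StableUnderSpecialization (CohB1.support F) := by
  have : F.IsQuasicoherent := hF
  intro x y hxy hx
  obtain ⟨_, ⟨U, hU, rfl⟩, hyU, -⟩ :=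
    X.isBasis_affineOpens.exists_subset_of_mem_open (Set.mem_univ y) isOpen_univ
  replace hU : IsAffineOpen U := hU
  replace hyU : y ∈ U := hyU
  have hxU : x ∈ U := hxy.mem_open U.isOpen hyU
  intro hsub
  apply hx
  suffices h : ∀ m : F.presheaf.stalk x, m = 0 from ⟨fun a b => by rw [h a, h b]⟩
  intro m
  obtain ⟨g, s, hg, hgs⟩ := exists_germ_smul_eq_germ F hU x hxU m
  have hs0 : F.presheaf.germ U y hyU s = 0 := Subsingleton.elim _ _
  obtain ⟨g', hg', hg's⟩ := exists_smul_eq_zero_of_germ_eq_zero F hU y hyU s hs0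
  have hg'x : IsUnit (X.presheaf.germ U x hxU g') := by
    have hy : y ∈ X.basicOpen g' := (X.mem_basicOpen _ _ hyU).mpr hg'
    have hx' : x ∈ X.basicOpen g' := hxy.mem_open (X.basicOpen g').isOpen hy
    exact (X.mem_basicOpen _ _ hxU).mp hx'
  have h1 : X.presheaf.germ U x hxU g' • F.presheaf.germ U x hxU s = 0 := by
    rw [← germ_smul, hg's, map_zero]
  have hsx : F.presheaf.germ U x hxU s = 0 := by
    obtain ⟨u, hu⟩ := hg'x
    have h2 : (↑u⁻¹ : X.presheaf.stalk x) •
        (X.presheaf.germ U x hxU g' • F.presheaf.germ U x hxU s) = 0 := by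
      rw [h1, smul_zero]
    rwa [← hu, smul_smul, Units.inv_mul, one_smul] at h2
  rw [hsx] at hgs
  obtain ⟨u, hu⟩ := hg
  have h3 : (↑u⁻¹ : X.presheaf.stalk x) • (X.presheaf.germ U x hxU g • m) = 0 := by
    rw [hgs, smul_zero]
  rwa [← hu, smul_smul, Units.inv_mul, one_smul] at h3

end Groth.Agent.S9373
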