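import Groth.Statements.S9379
import Groth.Agent.Lib.CILocusBC32

set_option autoImplicit false
universe u
open Synt

namespace Groth.Agent.S9379

open AlgebraicGeometry CategoryTheory in
/-- For f : X → S locally of finite type, the set of points x at which the local ring of the fibre X_{f
x} is a complete intersection over κ(f x) is compatible with arbitrary base change: in a cartesian
square with base change f' : X' → S', g' : X' → X, the corresponding set for f' is the inverse image
of the one for f. (The published statement adds that, for f flat and locally of finite presentation,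
the set of points at which f is syntomic is compatible with base change in the same way; this row
states only the first assertion.) -/
theorem result {X S X' S' : Scheme.{u}} (f : X ⟶ S) [LocallyOfFiniteType f] (g : S' ⟶ S)
    (g' : X' ⟶ X) (f' : X' ⟶ S') (hsq : IsPullback g' f' f g) :
    {x' : ↑X' |
        letI := ((Scheme.ΓSpecIso (S'.residueField (f'.base x'))).inv ≫
            (f'.fiberToSpecResidueField (f'.base x')).appLE ⊤ ⊤ le_top ≫
              (f'.fiber (f'.base x')).presheaf.germ ⊤ (f'.asFiber x') trivial).hom.toAlgebra
        Synt.IsCIOver (S'.residueField (f'.base x')) ((f'.fiber (f'.base x')).presheaf.stalk (f'.asFiber x'))} =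
      g'.base ⁻¹' {x : ↑X |
        letI := ((Scheme.ΓSpecIso (S.residueField (f.base x))).inv ≫
            (f.fiberToSpecResidueField (f.base x)).appLE ⊤ ⊤ le_top ≫
              (f.fiber (f.base x)).presheaf.germ ⊤ (f.asFiber x) trivial).hom.toAlgebra
        Synt.IsCIOver (S.residueField (f.base x)) ((f.fiber (f.base x)).presheaf.stalk (f.asFiber x))} := by
  -- fibre maps are locally of finite type, flat and locally of finite presentation
  have hlft : ∀ s : S, LocallyOfFiniteType (f.fiberToSpecResidueField s) := fun s =>
    MorphismProperty.pullback_snd (P := @LocallyOfFiniteType) _ _ inferInstance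
  have : LocallyOfFiniteType f' := MorphismProperty.of_isPullback (P := @LocallyOfFiniteType) hsq
    inferInstance
  have hlft' : ∀ s' : S', LocallyOfFiniteType (f'.fiberToSpecResidueField s') := fun s' =>
    MorphismProperty.pullback_snd (P := @LocallyOfFiniteType) _ _ inferInstance
  have hlfp : ∀ s : S, LocallyOfFinitePresentation (f.fiberToSpecResidueField s) := by
    intro s
    have := hlft s
    rw [HasRingHomProperty.iff_appLE (P := @LocallyOfFinitePresentation)]
    intro U V e
    have : IsNoetherianRing Γ(Spec (S.residueField s), U) :=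
      IsLocallyNoetherian.component_noetherian U
    exact RingHom.FinitePresentation.of_finiteType.mp
      ((f.fiberToSpecResidueField s).finiteType_appLE U.2 V.2 e)
  -- pointwise description of the two sets via Koszul loci of the fibre maps
  have hE : ∀ x : X, (letI := ((Scheme.ΓSpecIso (S.residueField (f.base x))).inv ≫
            (f.fiberToSpecResidueField (f.base x)).appLE ⊤ ⊤ le_top ≫
              (f.fiber (f.base x)).presheaf.germ ⊤ (f.asFiber x) trivial).hom.toAlgebra
        Synt.IsCIOver (S.residueField (f.base x)) ((f.fiber (f.base x)).presheaf.stalk (f.asFiber x))) ↔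
      f.asFiber x ∈ Groth.Agent.Lib.KoszulLocusBC.kLocus (f.fiberToSpecResidueField (f x)) := by
    intro x
    let p : f.fiber (f x) ⟶ Spec (CommRingCat.of (S.residueField (f x))) :=
      f.fiberToSpecResidueField (f x)
    have : LocallyOfFiniteType p := hlft (f x)
    exact Groth.Agent.Lib.CILocusBC32.isCIOver_stalk_iff_mem_kLocus (S.residueField (f x)) p
      (f.asFiber x)
  have hE' : ∀ x' : X', (letI := ((Scheme.ΓSpecIso (S'.residueField (f'.base x'))).inv ≫
            (f'.fiberToSpecResidueField (f'.base x')).appLE ⊤ ⊤ le_top ≫
              (f'.fiber (f'.base x')).presheaf.germ ⊤ (f'.asFiber x') trivial).hom.toAlgebra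
        Synt.IsCIOver (S'.residueField (f'.base x')) ((f'.fiber (f'.base x')).presheaf.stalk (f'.asFiber x'))) ↔
      f'.asFiber x' ∈ Groth.Agent.Lib.KoszulLocusBC.kLocus (f'.fiberToSpecResidueField (f' x')) := by
    intro x'
    let p : f'.fiber (f' x') ⟶ Spec (CommRingCat.of (S'.residueField (f' x'))) :=
      f'.fiberToSpecResidueField (f' x')
    have : LocallyOfFiniteType p := hlft' (f' x')
    exact Groth.Agent.Lib.CILocusBC32.isCIOver_stalk_iff_mem_kLocus (S'.residueField (f' x')) p
      (f'.asFiber x')
  ext x'
  rw [Set.mem_ofPred_eq, Set.mem_preimage, Set.mem_ofPred_eq]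
  rw [hE' x', hE (g' x')]
  -- base change of the Koszul locus along the map of fibres
  let y : S' := f' x'
  let φ : f'.fiber y ⟶ f.fiber (g y) :=
    Limits.pullback.map _ _ _ _ g' (Spec.map (g.residueFieldMap y)) g hsq.w.symm (by simp)
  have hfib : IsPullback φ (f'.fiberToSpecResidueField y) (f.fiberToSpecResidueField (g y))
      (Spec.map (g.residueFieldMap y)) := isPullback_fiberToSpecResidueField_of_isPullback hsq y
  have := hlfp (g y)
  have hkl := Groth.Agent.Lib.KoszulLocusBC.kLocus_baseChange (f.fiberToSpecResidueField (g y)) (𝟙 _)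
    (Spec.map (g.residueFieldMap y)) (Spec.map (g.residueFieldMap y)) (𝟙 _)
    (IsPullback.of_vert_isIso ⟨by simp⟩) φ (f'.fiberToSpecResidueField y)
    (by simpa using hfib) (by simpa using hfib.w)
  have hφι : φ ≫ f.fiberι (g y) = f'.fiberι y ≫ g' := Limits.pullback.lift_fst _ _ _
  have h1 : f'.asFiber x' ∈ Groth.Agent.Lib.KoszulLocusBC.kLocus (f'.fiberToSpecResidueField (f' x')) ↔
      φ (f'.asFiber x') ∈ Groth.Agent.Lib.KoszulLocusBC.kLocus (f.fiberToSpecResidueField (g y)) := by
    show f'.asFiber x' ∈ Groth.Agent.Lib.KoszulLocusBC.kLocus (f'.fiberToSpecResidueField y) ↔ _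
    rw [hkl, Set.mem_preimage]
  rw [h1]
  have h2 := Groth.Agent.Lib.CILocusBC32.fiber_transport f
    (fun s z => z ∈ Groth.Agent.Lib.KoszulLocusBC.kLocus (f.fiberToSpecResidueField s)) (g y)
    (φ (f'.asFiber x'))
  have h3 : f.fiberι (g y) (φ (f'.asFiber x')) = g' x' := by
    rw [← Scheme.Hom.comp_apply, hφι, Scheme.Hom.comp_apply, Scheme.Hom.fiberι_asFiber]
  rw [h3] at h2
  exact h2

end Groth.Agent.S9379
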