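import Groth.Statements.S9381
import Groth.Agent.Lib.DimIneqScheme

set_option autoImplicit false
universe u v
open FibDim

namespace Groth.Agent.S9381

open Cardinal Groth.Agent.Lib.DimIneqScheme

/-- Key step (generalising helper47's `trdeg_quotient_add_one_le`): a surjective, non-injective
`A`-algebra map `D₁ → D₂` from a domain, with `A → D₂` injective, drops `trdeg` by at least one. -/
theorem trdeg_add_one_le_of_surjective {A : Type u} {D₁ D₂ : Type v} [CommRing A] [CommRing D₁]
    [IsDomain D₁] [CommRing D₂] [IsDomain D₂] [Algebra A D₁] [Algebra A D₂] (π : D₁ →ₐ[A] D₂)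
    (hπ : Function.Surjective π) (zbar : D₁) (hz0 : zbar ≠ 0) (hπz : π zbar = 0)
    (hinj : Function.Injective (algebraMap A D₂)) :
    Algebra.trdeg A D₂ + 1 ≤ Algebra.trdeg A D₁ := by
  classical
  have : FaithfulSMul A D₂ := (faithfulSMul_iff_algebraMap_injective A _).mpr hinj
  have : Nontrivial A := by
    by_contra h
    rw [not_nontrivial_iff_subsingleton] at h
    have : (1 : D₂) = 0 := by
      rw [← map_one (algebraMap A D₂), ← map_zero (algebraMap A D₂)]
      exact congrArg _ (Subsingleton.elim _ _)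
    exact one_ne_zero this
  obtain ⟨ι, ybar, hy⟩ := exists_isTranscendenceBasis' A D₂
  choose y' hy' using fun i => hπ (ybar i)
  have hcomp : (π ∘ y') = ybar := funext hy'
  have hy'ind : AlgebraicIndependent A y' := by
    apply AlgebraicIndependent.of_comp π
    rw [hcomp]; exact hy.1
  have hinjadj : ∀ g : D₁, g ∈ Algebra.adjoin A (Set.range y') → π g = 0 → g = 0 := by
    intro g hg hπg
    rw [Algebra.adjoin_range_eq_range_aeval] at hg
    obtain ⟨P, rfl⟩ := hg
    change π (MvPolynomial.aeval y' P) = 0 at hπg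
    change MvPolynomial.aeval y' P = 0
    have h1 : π (MvPolynomial.aeval y' P) = MvPolynomial.aeval ybar P := by
      rw [← hcomp, ← AlgHom.comp_apply, MvPolynomial.comp_aeval]
      rfl
    rw [h1] at hπg
    have := hy.1
    rw [algebraicIndependent_iff_injective_aeval] at this
    have hP : P = 0 := this (by rw [hπg, map_zero])
    rw [hP, map_zero]
  have htrans : Transcendental (Algebra.adjoin A (Set.range y')) zbar := by
    rw [transcendental_iff]
    intro G hG
    induction hn : G.natDegree using Nat.strong_induction_on generalizing G with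
    | _ n ih =>
      have hdecomp := Polynomial.divX_mul_X_add G
      have h2 : Polynomial.aeval zbar G =
          Polynomial.aeval zbar G.divX * zbar +
            ((G.coeff 0 : Algebra.adjoin A (Set.range y')) : D₁) := by
        conv_lhs => rw [← hdecomp]
        simp [Polynomial.aeval_def]
      rw [hG] at h2
      have h3 : π ((G.coeff 0 : Algebra.adjoin A (Set.range y')) : D₁) = 0 := by
        have := congrArg π h2
        rw [map_zero, map_add, map_mul, hπz, mul_zero, zero_add] at this
        exact this.symm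
      have h4 : ((G.coeff 0 : Algebra.adjoin A (Set.range y')) : D₁) = 0 :=
        hinjadj _ (G.coeff 0).2 h3
      rw [h4, add_zero] at h2
      have h5 : Polynomial.aeval zbar G.divX = 0 := by
        rcases mul_eq_zero.mp h2.symm with h | h
        · exact h
        · exact absurd h hz0
      have hc0 : G.coeff 0 = 0 := Subtype.ext h4
      by_cases hdeg : G.natDegree = 0
      · rw [Polynomial.eq_C_of_natDegree_eq_zero hdeg, hc0, map_zero]
      · have hlt : G.divX.natDegree < n := by
          rw [Polynomial.natDegree_divX_eq_natDegree_tsub_one, ← hn]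
          omega
        have h6 := ih _ hlt _ h5 rfl
        rw [← hdecomp, h6, hc0, zero_mul, map_zero, add_zero]
  have hopt : AlgebraicIndependent A (fun o : Option ι => o.elim zbar y') :=
    AlgebraicIndependent.option_iff.mpr ⟨hy'ind, htrans⟩
  have hcard := hopt.cardinalMk_le_trdeg
  rw [Cardinal.mk_option, hy.cardinalMk_eq_trdeg] at hcard
  exact hcard

theorem trdeg_congr_under {R B : Type u} [CommRing R] [CommRing B] [Algebra R B]
    (q' : Ideal B) (p : Ideal R) [q'.LiesOver p] (hp : q'.under R = p) :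
    Algebra.trdeg (R ⧸ q'.under R) (B ⧸ q') = Algebra.trdeg (R ⧸ p) (B ⧸ q') := by
  subst hp; rfl

theorem alg_key {R B : Type u} [CommRing R] [CommRing B] [Algebra R B] [Algebra.FiniteType R B]
    (q q' : Ideal B) [q.IsPrime] [q'.IsPrime] (hlt : q < q') (hu : q'.under R = q.under R) :
    Algebra.trdeg (R ⧸ q'.under R) (B ⧸ q') < Algebra.trdeg (R ⧸ q.under R) (B ⧸ q) := by
  have : q'.LiesOver (q.under R) := ⟨hu.symm⟩
  rw [trdeg_congr_under q' (q.under R) hu]
  let π : (B ⧸ q) →ₐ[R ⧸ q.under R] (B ⧸ q') :=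
    { Ideal.Quotient.factor hlt.le with
      commutes' := by
        intro a
        obtain ⟨r, rfl⟩ := Ideal.Quotient.mk_surjective a
        rfl }
  have hπ : Function.Surjective π := Ideal.Quotient.factor_surjective hlt.le
  obtain ⟨z, hzq', hzq⟩ := SetLike.exists_of_lt hlt
  have hz0 : Ideal.Quotient.mk q z ≠ 0 := by
    rw [Ne, Ideal.Quotient.eq_zero_iff_mem]; exact hzq
  have hπz : π (Ideal.Quotient.mk q z) = 0 := by
    change Ideal.Quotient.factor hlt.le (Ideal.Quotient.mk q z) = 0
    rw [Ideal.Quotient.factor_mk, Ideal.Quotient.eq_zero_iff_mem]; exact hzq'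
  have hinj : Function.Injective (algebraMap (R ⧸ q.under R) (B ⧸ q')) :=
    FaithfulSMul.algebraMap_injective _ _
  have h1 := trdeg_add_one_le_of_surjective π hπ _ hz0 hπz hinj
  -- finiteness
  have hft : Algebra.FiniteType (R ⧸ q.under R) (B ⧸ q) := by
    have : Algebra.FiniteType R (B ⧸ q) :=
      Algebra.FiniteType.of_surjective (Ideal.Quotient.mkₐ R q) (Ideal.Quotient.mkₐ_surjective R q)
    exact Algebra.FiniteType.of_restrictScalars_finiteType R _ _
  obtain ⟨n, g, hg⟩ := Algebra.FiniteType.iff_quotient_mvPolynomial''.mp hft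
  have h2 : Algebra.trdeg (R ⧸ q.under R) (B ⧸ q) ≤ n := by
    refine (_root_.trdeg_le_of_surjective g hg).trans ?_
    rw [MvPolynomial.trdeg_of_isDomain]
    simp
  have h3 : Algebra.trdeg (R ⧸ q.under R) (B ⧸ q) < ℵ₀ :=
    lt_of_le_of_lt h2 (Cardinal.natCast_lt_aleph0)
  obtain ⟨b, hb⟩ := Cardinal.lt_aleph0.mp h3
  have h4 : Algebra.trdeg (R ⧸ q.under R) (B ⧸ q') < ℵ₀ :=
    lt_of_le_of_lt (le_trans (le_self_add) h1) h3
  obtain ⟨a, ha⟩ := Cardinal.lt_aleph0.mp h4
  rw [ha, hb] at h1 ⊢
  have h5 : (a : Cardinal) + 1 = ((a + 1 : ℕ) : Cardinal) := by push_cast; rfl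
  rw [h5, Nat.cast_le] at h1
  rw [Nat.cast_lt]
  omega


open AlgebraicGeometry CategoryTheory in
/-- Let f : X → S be locally of finite type and x ⤳ x' a nontrivial specialization of points of X in the
same fibre (f x = f x'). Then trdeg_{κ(f x)} κ(x) > trdeg_{κ(f x')} κ(x'). -/
theorem result {X S : Scheme.{u}} (f : X ⟶ S) [LocallyOfFiniteType f] (x x' : X)
    (hsp : x ⤳ x') (hne : x ≠ x') (hfx : f.base x = f.base x') :
    @Algebra.trdeg (S.residueField (f.base x')) (X.residueField x') _ _ (f.residueFieldMap x').hom.toAlgebra <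
      @Algebra.trdeg (S.residueField (f.base x)) (X.residueField x) _ _ (f.residueFieldMap x).hom.toAlgebra := by
  obtain ⟨_, ⟨V, hV : IsAffineOpen V, rfl⟩, hx'V, -⟩ :=
    (S.isBasis_affineOpens).exists_subset_of_mem_open (Set.mem_univ (f.base x')) isOpen_univ
  obtain ⟨_, ⟨U, hU : IsAffineOpen U, rfl⟩, hx'U, hUV⟩ :=
    (X.isBasis_affineOpens).exists_subset_of_mem_open (show x' ∈ (f ⁻¹ᵁ V : Set X) from hx'V)
      (f ⁻¹ᵁ V).2
  have hxU : x ∈ U := hsp.mem_open U.2 hx'U
  have e : U ≤ f ⁻¹ᵁ V := hUV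
  have h1 := trdeg_residueField_eq f hU hV e x hxU
  have h2 := trdeg_residueField_eq f hU hV e x' hx'U
  refine lt_of_eq_of_lt h2 (lt_of_lt_of_eq ?_ h1.symm)
  letI := (f.appLE V U e).hom.toAlgebra
  have hft : Algebra.FiniteType Γ(S, V) Γ(X, U) := f.finiteType_appLE hV hU e
  have hle : (hU.primeIdealOf ⟨x, hxU⟩).asIdeal ≤ (hU.primeIdealOf ⟨x', hx'U⟩).asIdeal := by
    intro s hs
    by_contra hs'
    have h3 : x' ∈ X.basicOpen s := (Groth.Agent.Lib.GenFin45.mem_basicOpen_iff hU s x' hx'U).mpr hs'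
    have h4 : x ∈ X.basicOpen s := hsp.mem_open (X.basicOpen s).2 h3
    exact (Groth.Agent.Lib.GenFin45.mem_basicOpen_iff hU s x hxU).mp h4 hs
  have hne' : (hU.primeIdealOf ⟨x, hxU⟩).asIdeal ≠ (hU.primeIdealOf ⟨x', hx'U⟩).asIdeal := by
    intro h
    have h3 : hU.primeIdealOf ⟨x, hxU⟩ = hU.primeIdealOf ⟨x', hx'U⟩ := PrimeSpectrum.ext h
    have h4 := congrArg hU.fromSpec h3
    rw [hU.fromSpec_primeIdealOf, hU.fromSpec_primeIdealOf] at h4
    exact hne h4
  have hunder : ∀ (y : X) (hy : y ∈ U), (hU.primeIdealOf ⟨y, hy⟩).asIdeal.under Γ(S, V) =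
      (hV.primeIdealOf ⟨f.base y, e hy⟩).asIdeal := by
    intro y hy
    ext r
    rw [Ideal.under_def, Ideal.mem_comap, ← ker_evaluation hU y hy, ← ker_evaluation hV (f.base y) (e hy),
      RingHom.mem_ker, RingHom.mem_ker]
    change (X.evaluation U y hy).hom ((f.appLE V U e).hom r) = 0 ↔ _
    rw [evaluation_appLE f e y hy r]
    exact map_eq_zero_iff _ (f.residueFieldMap y).hom.injective
  have hu : (hU.primeIdealOf ⟨x', hx'U⟩).asIdeal.under Γ(S, V) =
      (hU.primeIdealOf ⟨x, hxU⟩).asIdeal.under Γ(S, V) := by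
    rw [hunder x hxU, hunder x' hx'U]
    congr 2
    exact Subtype.ext hfx.symm
  exact alg_key _ _ (lt_of_le_of_ne hle hne') hu

end Groth.Agent.S9381
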