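import Groth.Statements.S9383
import Groth.Agent.Lib.RingFibreSq24
import Groth.Agent.Lib.SchemePushout24

set_option autoImplicit false
universe u
open QCohSub

namespace Groth.Agent.S9383


open AlgebraicGeometry CategoryTheory Limits Opposite TopologicalSpace
open Groth.Agent.Lib.RingFibreSq24 Groth.Agent.Lib.SchemePushout24

theorem app_app_eq_appLE {X P S : Scheme.{u}} (a : X ⟶ P) (ι : P ⟶ S) (U : S.Opens) (r : Γ(S, U)) :
    (a.app (ι ⁻¹ᵁ U)).hom ((ι.app U).hom r) =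
      ((a ≫ ι).appLE U (a ⁻¹ᵁ (ι ⁻¹ᵁ U)) (Scheme.Hom.comp_preimage a ι U).ge).hom r := by
  rw [Scheme.Hom.app_eq_appLE, Scheme.Hom.app_eq_appLE, ← CommRingCat.comp_apply,
    Scheme.Hom.appLE_comp_appLE]

theorem appLE_app_app {Z X P S : Scheme.{u}} (i : Z ⟶ X) (a : X ⟶ P) (ι : P ⟶ S) (U : S.Opens)
    (Z₀ : Z.Opens) (h : Z₀ ≤ i ⁻¹ᵁ (a ⁻¹ᵁ (ι ⁻¹ᵁ U))) (h' : Z₀ ≤ (i ≫ a ≫ ι) ⁻¹ᵁ U)
    (r : Γ(S, U)) :
    (i.appLE (a ⁻¹ᵁ (ι ⁻¹ᵁ U)) Z₀ h).hom
        (((a ≫ ι).appLE U (a ⁻¹ᵁ (ι ⁻¹ᵁ U)) (Scheme.Hom.comp_preimage a ι U).ge).hom r) =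
      ((i ≫ a ≫ ι).appLE U Z₀ h').hom r := by
  rw [← CommRingCat.comp_apply, Scheme.Hom.appLE_comp_appLE]

theorem appLE_congr {Z S : Scheme.{u}} {f g : Z ⟶ S} (e : f = g) (U : S.Opens) (Z₀ : Z.Opens)
    (h : Z₀ ≤ f ⁻¹ᵁ U) (h' : Z₀ ≤ g ⁻¹ᵁ U) : f.appLE U Z₀ h = g.appLE U Z₀ h' := by
  subst e; rfl

/-- kernel and surjectivity of `f.appLE U` for a morphism equal to a subscheme inclusion -/
theorem appLE_of_eq {S : Scheme.{u}} (K : S.IdealSheafData) (U : S.affineOpens)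
    (f : K.subscheme ⟶ S) (e : f = K.subschemeι) (Z₀ : K.subscheme.Opens) (hZ : Z₀ = f ⁻¹ᵁ U.1) :
    RingHom.ker (f.appLE U.1 Z₀ hZ.le).hom = K.ideal U ∧
      Function.Surjective (f.appLE U.1 Z₀ hZ.le).hom := by
  subst e
  subst hZ
  rw [← Scheme.Hom.app_eq_appLE]
  exact ⟨K.ker_subschemeι_app U, K.subschemeι_app_surjective U⟩

theorem support_inf_le {S : Scheme.{u}} (I J : S.IdealSheafData) (s : S)
    (hs : s ∈ (I ⊓ J).support) : s ∈ I.support ∨ s ∈ J.support := by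
  have hle : I * J ≤ I ⊓ J := by
    rw [Scheme.IdealSheafData.le_def]
    intro U
    show I.ideal U * J.ideal U ≤ I.ideal U ⊓ J.ideal U
    exact Ideal.mul_le_inf
  have := Scheme.IdealSheafData.support_antitone hle hs
  rw [Scheme.IdealSheafData.support_mul] at this
  exact this

open AlgebraicGeometry CategoryTheory in
/-- For closed subschemes X, Y ⊆ S with ideal sheaves I, J, the scheme-theoretic union (ideal sheaf I ⊓
J) is the pushout, in the category of schemes, of X and Y along the scheme-theoretic intersection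
(ideal sheaf I ⊔ J). The exact sequence 0 → O_{X∪Y} → O_X × O_Y → O_{X∩Y} → 0 is not stated. -/
theorem result (S : Scheme.{u}) (I J : S.IdealSheafData) :
    IsPushout (Scheme.IdealSheafData.inclusion (le_sup_left : I ≤ I ⊔ J))
      (Scheme.IdealSheafData.inclusion (le_sup_right : J ≤ I ⊔ J))
      (Scheme.IdealSheafData.inclusion (inf_le_left : I ⊓ J ≤ I))
      (Scheme.IdealSheafData.inclusion (inf_le_right : I ⊓ J ≤ J)) := by
  set i := Scheme.IdealSheafData.inclusion (le_sup_left : I ≤ I ⊔ J) with hi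
  set j := Scheme.IdealSheafData.inclusion (le_sup_right : J ≤ I ⊔ J) with hj
  set a := Scheme.IdealSheafData.inclusion (inf_le_left : I ⊓ J ≤ I) with ha
  set b := Scheme.IdealSheafData.inclusion (inf_le_right : I ⊓ J ≤ J) with hb
  have eaP : a ≫ (I ⊓ J).subschemeι = I.subschemeι := Scheme.IdealSheafData.inclusion_subschemeι _
  have ebP : b ≫ (I ⊓ J).subschemeι = J.subschemeι := Scheme.IdealSheafData.inclusion_subschemeι _
  have eiX : i ≫ I.subschemeι = (I ⊔ J).subschemeι := Scheme.IdealSheafData.inclusion_subschemeι _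
  have ejY : j ≫ J.subschemeι = (I ⊔ J).subschemeι := Scheme.IdealSheafData.inclusion_subschemeι _
  have w : i ≫ a = j ≫ b := by
    rw [← cancel_mono (I ⊓ J).subschemeι, Category.assoc, Category.assoc, eaP, ebP, eiX, ejY]
  have hinjP : Function.Injective (I ⊓ J).subschemeι := (I ⊓ J).subschemeι.isClosedEmbedding.injective
  have hinjX : Function.Injective I.subschemeι := I.subschemeι.isClosedEmbedding.injective
  have hinjY : Function.Injective J.subschemeι := J.subschemeι.isClosedEmbedding.injective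
  have haP : ∀ x, (I ⊓ J).subschemeι (a x) = I.subschemeι x := fun x => congr($eaP x)
  have hbP : ∀ y, (I ⊓ J).subschemeι (b y) = J.subschemeι y := fun y => congr($ebP y)
  have hiX : ∀ z, I.subschemeι (i z) = (I ⊔ J).subschemeι z := fun z => congr($eiX z)
  have hjY : ∀ z, J.subschemeι (j z) = (I ⊔ J).subschemeι z := fun z => congr($ejY z)
  -- fibre squares of sections over preimages of affine opens
  have hsq : ∀ U : S.affineOpens, IsFibreSq
      (a.app ((I ⊓ J).subschemeι ⁻¹ᵁ U.1)).hom (b.app ((I ⊓ J).subschemeι ⁻¹ᵁ U.1)).hom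
      (i.appLE (a ⁻¹ᵁ ((I ⊓ J).subschemeι ⁻¹ᵁ U.1))
        ((i ≫ a) ⁻¹ᵁ ((I ⊓ J).subschemeι ⁻¹ᵁ U.1)) le_rfl).hom
      (j.appLE (b ⁻¹ᵁ ((I ⊓ J).subschemeι ⁻¹ᵁ U.1))
        ((i ≫ a) ⁻¹ᵁ ((I ⊓ J).subschemeι ⁻¹ᵁ U.1)) (le_of_eq (by rw [w]; rfl))).hom := by
    intro U
    have hZeq : (i ≫ a) ⁻¹ᵁ ((I ⊓ J).subschemeι ⁻¹ᵁ U.1) =
        (i ≫ a ≫ (I ⊓ J).subschemeι) ⁻¹ᵁ U.1 := by
      simp only [Scheme.Hom.comp_preimage]
    obtain ⟨kX, sX⟩ := appLE_of_eq I U (a ≫ (I ⊓ J).subschemeι) eaP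
      (a ⁻¹ᵁ ((I ⊓ J).subschemeι ⁻¹ᵁ U.1)) (Scheme.Hom.comp_preimage _ _ _).symm
    obtain ⟨kY, sY⟩ := appLE_of_eq J U (b ≫ (I ⊓ J).subschemeι) ebP
      (b ⁻¹ᵁ ((I ⊓ J).subschemeι ⁻¹ᵁ U.1)) (Scheme.Hom.comp_preimage _ _ _).symm
    obtain ⟨kZ, sZ⟩ := appLE_of_eq (I ⊔ J) U (i ≫ a ≫ (I ⊓ J).subschemeι) (by rw [eaP, eiX])
      ((i ≫ a) ⁻¹ᵁ ((I ⊓ J).subschemeι ⁻¹ᵁ U.1)) hZeq
    have ejb : j ≫ b ≫ (I ⊓ J).subschemeι = i ≫ a ≫ (I ⊓ J).subschemeι := by
      rw [← Category.assoc, ← w, Category.assoc]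
    refine IsFibreSq.of_surjective ((I ⊓ J).subschemeι.app U.1).hom
      ((a ≫ (I ⊓ J).subschemeι).appLE U.1 (a ⁻¹ᵁ ((I ⊓ J).subschemeι ⁻¹ᵁ U.1))
        (Scheme.Hom.comp_preimage _ _ _).symm.le).hom
      ((b ≫ (I ⊓ J).subschemeι).appLE U.1 (b ⁻¹ᵁ ((I ⊓ J).subschemeι ⁻¹ᵁ U.1))
        (Scheme.Hom.comp_preimage _ _ _).symm.le).hom
      ((i ≫ a ≫ (I ⊓ J).subschemeι).appLE U.1 ((i ≫ a) ⁻¹ᵁ ((I ⊓ J).subschemeι ⁻¹ᵁ U.1))
        hZeq.le).hom
      ((I ⊓ J).subschemeι_app_surjective U) sX sY ?_ ?_ ?_ ?_ ?_ ?_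
    · rw [kX, kY, (I ⊓ J).ker_subschemeι_app U]
      exact le_rfl
    · rw [kX, kY, kZ]
      exact le_rfl
    · intro r; exact app_app_eq_appLE a _ U.1 r
    · intro r; exact app_app_eq_appLE b _ U.1 r
    · intro r
      exact appLE_app_app i a _ U.1 _ _ hZeq.le r
    · intro r
      refine (appLE_app_app j b _ U.1 _ _ (hZeq.le.trans (le_of_eq (by rw [ejb]))) r).trans ?_
      rw [appLE_congr ejb U.1 _ _ hZeq.le]
  refine isPushout_of_basis i j a b w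
    {V | ∃ U : S.affineOpens, V = (I ⊓ J).subschemeι ⁻¹ᵁ U.1} ?_ ?_ ?_ ?_
  · intro t
    have ht : (I ⊓ J).subschemeι t ∈ (I ⊓ J).support := by
      rw [← SetLike.mem_coe, ← Scheme.IdealSheafData.range_subschemeι]; exact ⟨t, rfl⟩
    rcases support_inf_le I J _ ht with h | h
    · rw [← SetLike.mem_coe, ← Scheme.IdealSheafData.range_subschemeι] at h
      obtain ⟨x, hx⟩ := h
      exact Or.inl ⟨x, hinjP (by rw [haP, hx])⟩
    · rw [← SetLike.mem_coe, ← Scheme.IdealSheafData.range_subschemeι] at h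
      obtain ⟨y, hy⟩ := h
      exact Or.inr ⟨y, hinjP (by rw [hbP, hy])⟩
  · rintro _ ⟨U, rfl⟩ s hs₁ hs₂
    exact (hsq U).inj s hs₁ hs₂
  · rintro _ ⟨U, rfl⟩ s t hst
    exact (hsq U).surj s t hst
  · intro G H hGH t ht
    obtain ⟨G', hG'o, hG'⟩ := I.subschemeι.isClosedEmbedding.isInducing.isOpen_iff.mp G.2
    obtain ⟨H', hH'o, hH'⟩ := J.subschemeι.isClosedEmbedding.isInducing.isOpen_iff.mp H.2
    have hmemG : ∀ x, x ∈ G ↔ I.subschemeι x ∈ G' := fun x =>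
      (Set.ext_iff.mp hG' x).symm
    have hmemH : ∀ y, y ∈ H ↔ J.subschemeι y ∈ H' := fun y =>
      (Set.ext_iff.mp hH' y).symm
    have hGHz : ∀ z, i z ∈ G ↔ j z ∈ H := fun z =>
      (congrArg (fun O : (I ⊔ J).subscheme.Opens => z ∈ O) hGH).to_iff
    have hsupp : ∀ s : S, s ∈ I.support → s ∈ J.support → ∃ z, (I ⊔ J).subschemeι z = s := by
      intro s h1 h2
      have : s ∈ (I ⊔ J).support := by
        rw [Scheme.IdealSheafData.support_sup]; exact ⟨h1, h2⟩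
      rw [← SetLike.mem_coe, ← Scheme.IdealSheafData.range_subschemeι] at this
      exact this
    have hrX : ∀ x, I.subschemeι x ∈ I.support := fun x => by
      rw [← SetLike.mem_coe, ← Scheme.IdealSheafData.range_subschemeι]; exact ⟨x, rfl⟩
    have hrY : ∀ y, J.subschemeι y ∈ J.support := fun y => by
      rw [← SetLike.mem_coe, ← Scheme.IdealSheafData.range_subschemeι]; exact ⟨y, rfl⟩
    set s₀ := (I ⊓ J).subschemeι t with hs₀
    have hclaim : (s₀ ∈ G' ∨ s₀ ∉ I.support) ∧ (s₀ ∈ H' ∨ s₀ ∉ J.support) := by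
      rcases ht with ⟨x, hxG, rfl⟩ | ⟨y, hyH, rfl⟩
      · have e0 : s₀ = I.subschemeι x := haP x
        refine ⟨Or.inl (by rw [e0]; exact (hmemG x).mp hxG), ?_⟩
        by_cases hJ : s₀ ∈ J.support
        · left
          obtain ⟨z, hz⟩ := hsupp s₀ (by rw [e0]; exact hrX x) hJ
          have hix : i z = x := hinjX (by rw [hiX, hz, e0])
          have : j z ∈ H := (hGHz z).mp (by rw [hix]; exact hxG)
          have := (hmemH _).mp this
          rwa [hjY, hz] at this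
        · exact Or.inr hJ
      · have e0 : s₀ = J.subschemeι y := hbP y
        refine ⟨?_, Or.inl (by rw [e0]; exact (hmemH y).mp hyH)⟩
        by_cases hI : s₀ ∈ I.support
        · left
          obtain ⟨z, hz⟩ := hsupp s₀ hI (by rw [e0]; exact hrY y)
          have hjy : j z = y := hinjY (by rw [hjY, hz, e0])
          have : i z ∈ G := (hGHz z).mpr (by rw [hjy]; exact hyH)
          have := (hmemG _).mp this
          rwa [hiX, hz] at this
        · exact Or.inr hI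
    let O : S.Opens := (⟨G', hG'o⟩ ⊔ ⟨(I.support : Set S)ᶜ, I.support.isClosed.isOpen_compl⟩) ⊓
      (⟨H', hH'o⟩ ⊔ ⟨(J.support : Set S)ᶜ, J.support.isClosed.isOpen_compl⟩)
    have hs₀O : s₀ ∈ O := ⟨hclaim.1, hclaim.2⟩
    obtain ⟨_, ⟨U, hU, rfl⟩, hs₀U, hUO⟩ :=
      S.isBasis_affineOpens.exists_subset_of_mem_open hs₀O O.2
    refine ⟨(I ⊓ J).subschemeι ⁻¹ᵁ U, ⟨⟨U, hU⟩, rfl⟩, hs₀U, ?_, ?_⟩
    · intro x hx
      have hx' : I.subschemeι x ∈ U := by rw [← haP]; exact hx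
      rcases (hUO hx').1 with h | h
      · exact (hmemG x).mpr h
      · exact absurd (hrX x) h
    · intro y hy
      have hy' : J.subschemeι y ∈ U := by rw [← hbP]; exact hy
      rcases (hUO hy').2 with h | h
      · exact (hmemH y).mpr h
      · exact absurd (hrY y) h

end Groth.Agent.S9383
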