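import Groth.Statements.S9385
-- import your own Groth.Agent.* helpers here
import Groth.Agent.Lib.ImmImageH52

set_option autoImplicit false
universe u
open SchDense

namespace Groth.Agent.S9385

open AlgebraicGeometry CategoryTheory in
/-- Let h : Z → X be an immersion, and suppose that either Z is reduced or h is quasi-compact. Write Z̄
⊆ X for the scheme-theoretic image of h. Then Z → Z̄ is an open immersion identifying Z with a
scheme-theoretically dense (in the for-every-open sense) and topologically dense open subscheme of
Z̄. -/
theorem result {Z X : Scheme.{u}} (h : Z ⟶ X) [IsImmersion h]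
    (hyp : QuasiCompact h ∨ IsReduced Z) :
    ∃ hI : IsOpenImmersion h.toImage,
      (∀ W : h.image.Opens, IsSchemeTheoreticallyDominant
          (h.image.homOfLE (inf_le_right : @Scheme.Hom.opensRange _ _ h.toImage hI ⊓ W ≤ W))) ∧
        DenseRange h.toImage.base := by
  rcases hyp with hqc | hred
  · have hI : IsOpenImmersion h.toImage := inferInstance
    refine ⟨hI, fun W => ?_, h.toImage.denseRange⟩
    have hdom := Groth.Agent.Lib.UHImageH52.isSchemeTheoreticallyDominant_toImage h
    have h1 : IsSchemeTheoreticallyDominant h.toImage.opensRange.ι := by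
      rw [← Scheme.Hom.isoOpensRange_inv_comp]; infer_instance
    have h2 : QuasiCompact h.toImage.opensRange.ι := by
      rw [← Scheme.Hom.isoOpensRange_inv_comp]; infer_instance
    exact IsSchemeTheoreticallyDominant.of_isPullback
      (isPullback_opens_inf h.toImage.opensRange W)
  · have hI := Groth.Agent.Lib.ImmImageH52.isOpenImmersion_toImage h
    have hdense := Groth.Agent.Lib.ImmImageH52.denseRange_toImage h
    refine ⟨hI, fun W => ?_, hdense⟩
    have : IsReduced h.image := Groth.Agent.Lib.ImmImageH52.isReduced_image h
    have hd : IsDominant (h.image.homOfLE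
        (inf_le_right : @Scheme.Hom.opensRange _ _ h.toImage hI ⊓ W ≤ W)) := by
      refine ⟨fun w => ?_⟩
      rw [mem_closure_iff]
      intro O hO hwO
      have hO' : IsOpen (W.ι '' O) := W.ι.isOpenEmbedding.isOpenMap O hO
      obtain ⟨z, o, hoO, ho⟩ := hdense.exists_mem_open hO' ⟨W.ι w, w, hwO, rfl⟩
      have hoR : o.1 ∈ @Scheme.Hom.opensRange _ _ h.toImage hI := ⟨z, ho.symm⟩
      refine ⟨o, hoO, ⟨⟨o.1, hoR, o.2⟩, ?_⟩⟩
      apply Subtype.ext
      exact Scheme.homOfLE_apply _ _
    exact IsSchemeTheoreticallyDominant.of_isDominant _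

end Groth.Agent.S9385
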