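import Groth.Statements.S9388
import Groth.Agent.Lib.OmegaDer81D
import Groth.Agent.Lib.H90OXModAffine

set_option autoImplicit false
universe u
open OmegaSh

namespace Groth.Agent.S9388

open AlgebraicGeometry CategoryTheory in

open AlgebraicGeometry CategoryTheory in
/-- For f : X → S locally of finite presentation, every receptacle Ω of a universal S-derivation of O_X
is a finitely presented O_X-module. -/
theorem result {X S : Scheme.{u}} (f : X ⟶ S) [LocallyOfFinitePresentation f]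
    (Ω : X.Modules) (d : OmegaSh.Der f Ω) (hd : OmegaSh.IsUniversal d) : CohB1.IsFP Ω := by
  haveI : Ω.IsQuasicoherent := Groth.Agent.Lib.OmegaDer81.isQuasicoherent_of_isUniversal f d hd
  let ι : Type u := {U : X.affineOpens // ∃ V : S.affineOpens, U.1 ≤ f ⁻¹ᵁ V.1}
  have hU : ⨆ i : ι, i.1.1 = ⊤ := by
    rw [eq_top_iff]
    intro x _
    obtain ⟨_, ⟨V, hV, rfl⟩, hxV, -⟩ :=
      S.isBasis_affineOpens.exists_subset_of_mem_open (Set.mem_univ (f x)) isOpen_univ
    obtain ⟨_, ⟨W, hW, rfl⟩, hxW, hWV⟩ :=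
      X.isBasis_affineOpens.exists_subset_of_mem_open (show x ∈ f ⁻¹ᵁ V from hxV)
        (f ⁻¹ᵁ V).isOpen
    exact TopologicalSpace.Opens.mem_iSup.mpr ⟨⟨⟨W, hW⟩, ⟨V, hV⟩, hWV⟩, hxW⟩
  refine Groth.Agent.Lib.H90OXModAffine.isFinitePresentation_of_affine_cover Ω
    (fun i : ι => i.1.1) hU (fun i => i.1.2) fun i => ?_
  obtain ⟨V, hle⟩ := i.2
  letI : Algebra Γ(S, V.1) Γ(X, i.1.1) := (f.appLE V.1 i.1.1 hle).hom.toAlgebra
  obtain ⟨ε, -⟩ := Groth.Agent.Lib.OmegaDer81.exists_linearEquiv_sections f d i.1.2 V.2 hle hd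
  haveI : Algebra.FinitePresentation Γ(S, V.1) Γ(X, i.1.1) :=
    LocallyOfFinitePresentation.finitePresentation_appLE f V.2 i.1.2 hle
  exact Module.FinitePresentation.of_equiv ε

end Groth.Agent.S9388
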