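import Groth.Statements.S9390
import Groth.Agent.Lib.QCohStalk

set_option autoImplicit false
universe u
open QCohSub

namespace Groth.Agent.S9390

open AlgebraicGeometry CategoryTheory in
theorem notMem_primeIdealOf_iff {X : Scheme.{u}} {U : X.Opens} (hU : IsAffineOpen U) (x : U)
    (g : Γ(X, U)) :
    g ∉ (hU.primeIdealOf x).asIdeal ↔ IsUnit (X.presheaf.germ U x.1 x.2 g) := by
  have := hU.isLocalization_stalk x
  exact (IsLocalization.AtPrime.isUnit_to_map_iff (X.presheaf.stalk (x : X))
      (hU.primeIdealOf x).asIdeal g).symm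

open AlgebraicGeometry CategoryTheory in
/-- For a quasi-coherent O_X-module F, an affine open U = Spec A of X, M = F(U) and x ∈ U with prime p ⊆
A, the prime p is in Supp(M) if and only if x is in Supp(F). -/
theorem result (X : Scheme.{u}) (F : X.Modules) (hF : Coh.IsQCoh F)
    (U : X.affineOpens) (x : X) (hx : x ∈ U.1) :
    U.2.primeIdealOf ⟨x, hx⟩ ∈ Module.support Γ(X, U.1) Γ(F, U.1) ↔ x ∈ CohB1.support F := by
  have : F.IsQuasicoherent := hF
  have hunit : ∀ g : Γ(X, U.1), g ∉ (U.2.primeIdealOf ⟨x, hx⟩).asIdeal ↔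
      IsUnit (X.presheaf.germ U.1 x hx g) := by
    intro g
    exact notMem_primeIdealOf_iff U.2 ⟨x, hx⟩ g
  rw [Module.mem_support_iff']
  constructor
  · rintro ⟨m, hm⟩
    change ¬ Subsingleton (F.presheaf.stalk x)
    intro hsub
    have h0 : F.presheaf.germ U.1 x hx m = 0 := Subsingleton.elim _ _
    obtain ⟨g, hg, hgm⟩ :=
      Groth.Agent.Lib.QCohStalk.exists_smul_eq_zero_of_germ_eq_zero F U.2 x hx m h0
    exact hm g ((hunit g).mpr hg) hgm
  · intro hsupp
    have hns : ¬ Subsingleton (F.presheaf.stalk x) := hsupp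
    rw [not_subsingleton_iff_nontrivial] at hns
    obtain ⟨ξ, hξ⟩ := exists_ne (0 : F.presheaf.stalk x)
    obtain ⟨g, s, hg, hgs⟩ :=
      Groth.Agent.Lib.QCohStalk.exists_germ_smul_eq_germ F U.2 x hx ξ
    have hs : F.presheaf.germ U.1 x hx s ≠ 0 := by
      rw [← hgs]
      intro h0
      apply hξ
      exact (hg.smul_left_cancel (x := ξ) (y := 0)).mp (by rw [h0, smul_zero])
    refine ⟨s, fun r hr hrs => hs ?_⟩
    have h1 := Groth.Agent.Lib.QCohStalk.germ_smul F U.1 x hx r s
    rw [hrs, map_zero] at h1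
    have hru := (hunit r).mp hr
    exact (hru.smul_left_cancel (x := F.presheaf.germ U.1 x hx s) (y := 0)).mp
      (by rw [← h1, smul_zero])

end Groth.Agent.S9390
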