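import Groth.Statements.S9391
import Mathlib.RingTheory.Localization.Integral
import Mathlib.RingTheory.Localization.Ideal
import Mathlib.RingTheory.Localization.FractionRing

set_option autoImplicit false
universe u
open CAlg

namespace Groth.Agent.S9391

theorem finite_integralClosure_of_isLocalization (R : Type u) [CommRing R] (M : Submonoid R)
    (S : Type u) [CommRing S] [Algebra R S] [IsLocalization M S]
    (L : Type u) [CommRing L] [Algebra R L] [Algebra S L] [IsScalarTower R S L]
    (hC : Module.Finite R (integralClosure R L)) : Module.Finite S (integralClosure S L) := by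
  have hfg : (Subalgebra.toSubmodule (integralClosure R L)).FG := Module.Finite.iff_fg.mp hC
  obtain ⟨T, hT⟩ := hfg
  refine (Module.Finite.iff_fg (N := Subalgebra.toSubmodule (integralClosure S L))).mpr ?_
  refine ⟨T, le_antisymm ?_ ?_⟩
  · rw [Submodule.span_le]
    intro t ht
    have h1 : t ∈ Subalgebra.toSubmodule (integralClosure R L) := by
      rw [← hT]; exact Submodule.subset_span ht
    have h2 : IsIntegral R t := h1
    exact h2.tower_top
  · intro x hx
    have hx' : IsIntegral S x := hx
    obtain ⟨m, hm⟩ := IsIntegral.exists_multiple_integral_of_isLocalization M x hx'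
    have h1 : (m • x) ∈ Subalgebra.toSubmodule (integralClosure R L) := hm
    rw [← hT] at h1
    have h2 : (m • x) ∈ Submodule.span S (T : Set L) :=
      Submodule.span_subset_span R S (T : Set L) h1
    obtain ⟨u, hu⟩ := IsLocalization.map_units S m
    have h3 : x = (↑u⁻¹ : S) • (m • x) := by
      rw [Submonoid.smul_def, ← algebraMap_smul S (m : R) x, ← hu, smul_smul,
        Units.inv_mul, one_smul]
    rw [h3]
    exact Submodule.smul_mem _ _ h2

theorem finite_integralClosure_of_isFractionRing (R : Type u) [CommRing R] [IsDomain R]
    (L L' : Type u) [Field L] [Algebra R L] [IsFractionRing R L]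
    [Field L'] [Algebra R L'] [IsFractionRing R L']
    (h : Module.Finite R (integralClosure R L)) :
    Module.Finite R (integralClosure R L') := by
  let e : L ≃ₐ[R] L' := IsLocalization.algEquiv (nonZeroDivisors R) L L'
  have hmap : (integralClosure R L).map (e : L →ₐ[R] L')
      = integralClosure R L' := integralClosure_map_algEquiv e
  rw [← hmap]
  exact Module.Finite.equiv
    ((integralClosure R L).equivMapOfInjective (e : L →ₐ[R] L')
      e.injective).toLinearEquiv

/-- A localization of an N-1 domain which is again a domain is N-1. -/
theorem result (R : Type u) [CommRing R] [IsDomain R] (M : Submonoid R)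
    (S : Type u) [CommRing S] [IsDomain S] [Algebra R S] [IsLocalization M S]
    (h : CAlg.IsN1 R) : CAlg.IsN1 S := by
  have hM : M ≤ nonZeroDivisors R := by
    intro m hm
    rw [mem_nonZeroDivisors_iff_ne_zero]
    rintro rfl
    have hu := IsLocalization.map_units S (⟨0, hm⟩ : M)
    rw [map_zero] at hu
    exact not_isUnit_zero hu
  have hunits : ∀ y : M, IsUnit (algebraMap R (FractionRing R) y) := fun y =>
    IsLocalization.map_units (FractionRing R) (⟨y.1, hM y.2⟩ : nonZeroDivisors R)
  let _ : Algebra S (FractionRing R) := (IsLocalization.lift (M := M) hunits).toAlgebra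
  have : IsScalarTower R S (FractionRing R) :=
    IsScalarTower.of_algebraMap_eq (fun x => (IsLocalization.lift_eq hunits x).symm)
  have h1 : Module.Finite S (integralClosure S (FractionRing R)) :=
    finite_integralClosure_of_isLocalization R M S (FractionRing R) h
  have : IsFractionRing S (FractionRing R) :=
    IsFractionRing.isFractionRing_of_isDomain_of_isLocalization M S (FractionRing R)
  exact finite_integralClosure_of_isFractionRing S (FractionRing R) (FractionRing S) h1

end Groth.Agent.S9391
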