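import Groth.Statements.S9395
import Groth.Agent.S0570

set_option autoImplicit false
universe u
open CAlg

namespace Groth.Agent.S9395

open Polynomial
open Groth.Agent.S0570 (fracSubring mem_fracSubring mem_range_of_isIntegral aeval_algebraMap_X
  evalHom)

theorem div_mem_fracSubring {T Ω : Type*} [CommRing T] [Field Ω] (φ : T →+* Ω) {z₁ z₂ : Ω}
    (h₁ : z₁ ∈ fracSubring φ) (h₂ : z₂ ∈ fracSubring φ) (hz₂ : z₂ ≠ 0) :
    z₁ / z₂ ∈ fracSubring φ := by
  obtain ⟨a₁, b₁, hb₁, e₁⟩ := h₁
  obtain ⟨a₂, b₂, hb₂, e₂⟩ := h₂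
  have ha₂ : φ a₂ ≠ 0 := by rw [← e₂]; exact mul_ne_zero hz₂ hb₂
  refine ⟨a₁ * b₂, b₁ * a₂, by rw [map_mul]; exact mul_ne_zero hb₁ ha₂, ?_⟩
  rw [map_mul, map_mul, ← e₁, ← e₂]
  field_simp

theorem laurent_core (R : Type u) [CommRing R] [IsDomain R] [IsNoetherianRing R]
    (S : Type u) [CommRing S] [IsDomain S] [Algebra R[X] S]
    [IsLocalization.Away (X : R[X]) S]
    (F : Type u) [Field F] [Algebra S F] [IsFractionRing S F] [Algebra R[X] F]
    [IsScalarTower R[X] S F] [Algebra R F] [IsScalarTower R R[X] F]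
    (K : Type u) [Field K] [Algebra R K] [IsFractionRing R K] [Algebra K F] [IsScalarTower R K F]
    (h : Module.Finite S (integralClosure S F)) : Module.Finite R (integralClosure R K) := by
  classical
  have hXnzd : Submonoid.powers (X : R[X]) ≤ nonZeroDivisors R[X] :=
    powers_le_nonZeroDivisors_of_noZeroDivisors X_ne_zero
  have hinjS : Function.Injective (algebraMap R[X] S) := IsLocalization.injective S hXnzd
  have hinjF : Function.Injective (algebraMap R[X] F) := by
    rw [IsScalarTower.algebraMap_eq R[X] S F]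
    exact (IsFractionRing.injective S F).comp hinjS
  obtain ⟨x₀, hx₀⟩ : ∃ x₀, x₀ = algebraMap R[X] F X := ⟨_, rfl⟩
  -- transcendence
  have h1 : Transcendental R x₀ := by
    intro halg
    obtain ⟨P, hP0, hP⟩ := halg
    apply hP0
    apply hinjF
    rw [map_zero, ← hP, hx₀, aeval_algebraMap_X]
  have h2 : Transcendental K x₀ := fun h => h1 ((IsFractionRing.isAlgebraic_iff R K F).mpr h)
  have hε : Function.Injective (aeval x₀ : K[X] →ₐ[K] F) := transcendental_iff_injective.mp h2
  have key : ∀ f : R[X], aeval x₀ (f.map (algebraMap R K)) = algebraMap R[X] F f := fun f => by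
    rw [aeval_map_algebraMap, hx₀, aeval_algebraMap_X]
  -- all of `F` consists of fractions
  have hP : ∀ f : R[X], algebraMap R[X] F f ∈ fracSubring (evalHom K x₀) := fun f =>
    (mem_fracSubring _).mpr ⟨f.map (algebraMap R K), 1, by simp, by
      show _ * aeval x₀ 1 = aeval x₀ _
      rw [key, map_one, mul_one]⟩
  have hS : ∀ s : S, algebraMap S F s ∈ fracSubring (evalHom K x₀) := by
    intro s
    obtain ⟨⟨f, m⟩, hf⟩ := IsLocalization.surj (Submonoid.powers (X : R[X])) s
    obtain ⟨k, hk⟩ := (Submonoid.mem_powers_iff _ _).mp m.2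
    dsimp only at hf
    have hne : algebraMap R[X] F (m : R[X]) ≠ 0 := by
      rw [← hk, map_pow, ← hx₀]
      exact pow_ne_zero _ (fun h0 => h1 (h0 ▸ isAlgebraic_zero))
    have : algebraMap S F s = algebraMap R[X] F f / algebraMap R[X] F (m : R[X]) := by
      rw [eq_div_iff hne, IsScalarTower.algebraMap_apply R[X] S F f, ← hf, map_mul,
        ← IsScalarTower.algebraMap_apply R[X] S F]
    rw [this]
    exact div_mem_fracSubring _ (hP f) (hP _) hne
  have hall : ∀ z : F, z ∈ fracSubring (evalHom K x₀) := by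
    intro z
    obtain ⟨s₁, s₂, hs₂, rfl⟩ := IsFractionRing.div_surjective (A := S) z
    exact div_mem_fracSubring _ (hS s₁) (hS s₂)
      (IsFractionRing.to_map_ne_zero_of_mem_nonZeroDivisors hs₂)
  have hcomp : (evalHom K x₀).comp (mapRingHom (algebraMap R K)) = algebraMap R[X] F :=
    RingHom.ext key
  -- integral elements have numerators in `K[X]`
  have hstep : ∀ t : F, IsIntegral S t → ∃ (n : ℕ) (Q : K[X]), x₀ ^ n * t = aeval x₀ Q := by
    intro t ht
    obtain ⟨⟨m, hm⟩, hmt⟩ :=
      IsIntegral.exists_multiple_integral_of_isLocalization (Submonoid.powers (X : R[X])) t ht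
    obtain ⟨n, hn⟩ := (Submonoid.mem_powers_iff _ _).mp hm
    have hmt' : IsIntegral R[X] (x₀ ^ n * t) := by
      have : (⟨m, hm⟩ : Submonoid.powers (X : R[X])) • t = x₀ ^ n * t := by
        rw [Submonoid.mk_smul, Algebra.smul_def, ← hn, map_pow, ← hx₀]
      rwa [this] at hmt
    have hz : (evalHom K x₀).IsIntegralElem (x₀ ^ n * t) := by
      obtain ⟨P, hPm, hPz⟩ := hmt'
      refine ⟨P.map (mapRingHom (algebraMap R K)), hPm.map _, ?_⟩
      rw [eval₂_map, hcomp]; exact hPz
    obtain ⟨Q, hQ⟩ := mem_range_of_isIntegral (evalHom K x₀) (fun a b hab => hε hab) hz (hall _)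
    exact ⟨n, Q, hQ.symm⟩
  obtain ⟨ts, hts⟩ := (Module.Finite.fg_top : (⊤ : Submodule S (integralClosure S F)).FG)
  choose n Q hQ using (fun t : integralClosure S F => hstep t.1 t.2)
  obtain ⟨A, hAdef⟩ : ∃ A : Submodule R K, A = Submodule.span R
      ((ts.biUnion (fun t => (Q t).coeffs) : Finset K) : Set K) := ⟨_, rfl⟩
  have hA_mul : ∀ (f : R[X]) (P : K[X]), (∀ k, P.coeff k ∈ A) →
      ∀ k, ((f.map (algebraMap R K)) * P).coeff k ∈ A := by
    intro f P hP k
    rw [coeff_mul]
    refine sum_mem (fun ij _ => ?_)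
    rw [coeff_map, ← Algebra.smul_def]
    exact A.smul_mem _ (hP _)
  have hA_X : ∀ (j : ℕ) (P : K[X]), (∀ k, P.coeff k ∈ A) → ∀ k, (X ^ j * P).coeff k ∈ A := by
    intro j P hP k
    have := hA_mul (X ^ j) P hP k
    rwa [Polynomial.map_pow, map_X] at this
  let W : Submodule S F :=
    { carrier := {w | ∃ (n : ℕ) (P : K[X]), (∀ k, P.coeff k ∈ A) ∧ x₀ ^ n * w = aeval x₀ P}
      zero_mem' := ⟨0, 0, fun k => by rw [coeff_zero]; exact A.zero_mem, by simp⟩
      add_mem' := by
        rintro w₁ w₂ ⟨n₁, P₁, hP₁, e₁⟩ ⟨n₂, P₂, hP₂, e₂⟩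
        refine ⟨n₁ + n₂, X ^ n₂ * P₁ + X ^ n₁ * P₂, fun k => ?_, ?_⟩
        · rw [coeff_add]
          exact A.add_mem (hA_X _ _ hP₁ k) (hA_X _ _ hP₂ k)
        · rw [map_add, map_mul, map_mul, map_pow, map_pow, aeval_X, ← e₁, ← e₂]; ring
      smul_mem' := by
        rintro s w ⟨n, P, hP, hw⟩
        obtain ⟨⟨f, m⟩, hf⟩ := IsLocalization.surj (Submonoid.powers (X : R[X])) s
        obtain ⟨k, hk⟩ := (Submonoid.mem_powers_iff _ _).mp m.2
        dsimp only at hf
        refine ⟨k + n, f.map (algebraMap R K) * P, hA_mul f P hP, ?_⟩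
        rw [map_mul, key f, ← hw, Algebra.smul_def, IsScalarTower.algebraMap_apply R[X] S F f,
          ← hf, map_mul, ← IsScalarTower.algebraMap_apply R[X] S F, ← hk, map_pow, ← hx₀]
        ring }
  have hts_mem : ∀ t ∈ ts, (t : F) ∈ W := fun t ht => ⟨n t, Q t, fun k => by
    by_cases h0 : (Q t).coeff k = 0
    · rw [h0]; exact A.zero_mem
    · rw [hAdef]
      exact Submodule.subset_span (Finset.mem_coe.mpr
        (Finset.mem_biUnion.mpr ⟨t, ht, coeff_mem_coeffs h0⟩)), hQ t⟩
  have hS'W : ∀ w : integralClosure S F, (w : F) ∈ W := by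
    intro w
    have hw : w ∈ Submodule.span S (ts : Set (integralClosure S F)) := by rw [hts]; trivial
    induction hw using Submodule.span_induction with
    | mem t ht => exact hts_mem t ht
    | zero => exact W.zero_mem
    | add a b _ _ ha hb => exact W.add_mem ha hb
    | smul s a _ ha => exact W.smul_mem s ha
  have hle : Subalgebra.toSubmodule (integralClosure R K) ≤ A := by
    intro x hx
    have hx' : IsIntegral R x := hx
    have hκ : IsIntegral S (algebraMap K F x) := by
      obtain ⟨P, hPm, hPx⟩ := hx'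
      refine ⟨P.map ((algebraMap R[X] S).comp (algebraMap R R[X])), hPm.map _, ?_⟩
      rw [eval₂_map]
      have : (algebraMap S F).comp ((algebraMap R[X] S).comp (algebraMap R R[X])) =
          (algebraMap K F).comp (algebraMap R K) := by
        ext r
        simp only [RingHom.comp_apply]
        rw [← IsScalarTower.algebraMap_apply R[X] S F, ← IsScalarTower.algebraMap_apply R R[X] F,
          ← IsScalarTower.algebraMap_apply R K F]
      rw [this, ← hom_eval₂, hPx, map_zero]
    obtain ⟨m, P, hP, hm⟩ := hS'W ⟨algebraMap K F x, hκ⟩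
    have heq : (X ^ m * C x : K[X]) = P :=
      hε (by rw [map_mul, map_pow, aeval_X, aeval_C]; exact hm)
    have hc := coeff_X_pow_mul (C x) m 0
    rw [zero_add, coeff_C_zero, heq] at hc
    rw [← hc]
    exact hP m
  have hAfg : A.FG := ⟨_, hAdef.symm⟩
  have : IsNoetherian R A := isNoetherian_of_fg_of_noetherian A hAfg
  show Module.Finite R (Subalgebra.toSubmodule (integralClosure R K))
  exact Module.Finite.of_injective (Submodule.inclusion hle) (Submodule.inclusion_injective hle)


/-- For a Noetherian domain R, if the Laurent polynomial ring R[X, 1/X] (the localization of R[X] away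
from X) is N-1, then R is N-1. -/
theorem result (R : Type u) [CommRing R] [IsDomain R] [IsNoetherianRing R]
    (S : Type u) [CommRing S] [IsDomain S] [Algebra (Polynomial R) S]
    [IsLocalization.Away (Polynomial.X : Polynomial R) S] (h : CAlg.IsN1 S) : CAlg.IsN1 R := by
  unfold CAlg.IsN1 at h ⊢
  letI : Algebra R (FractionRing S) :=
    ((algebraMap (Polynomial R) (FractionRing S)).comp (algebraMap R (Polynomial R))).toAlgebra
  have : IsScalarTower R (Polynomial R) (FractionRing S) :=
    IsScalarTower.of_algebraMap_eq (fun _ => rfl)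
  have hinjR : Function.Injective (algebraMap R (FractionRing S)) := by
    rw [IsScalarTower.algebraMap_eq R (Polynomial R) (FractionRing S),
      IsScalarTower.algebraMap_eq (Polynomial R) S (FractionRing S)]
    exact ((IsFractionRing.injective S (FractionRing S)).comp
      (IsLocalization.injective S (powers_le_nonZeroDivisors_of_noZeroDivisors
        (Polynomial.X_ne_zero (R := R))))).comp Polynomial.C_injective
  letI : Algebra (FractionRing R) (FractionRing S) := (IsFractionRing.lift hinjR).toAlgebra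
  have : IsScalarTower R (FractionRing R) (FractionRing S) :=
    IsScalarTower.of_algebraMap_eq (fun r => (IsFractionRing.lift_algebraMap hinjR r).symm)
  exact laurent_core R S (FractionRing S) (FractionRing R) h

end Groth.Agent.S9395
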