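import Groth.Statements.S9399
import Groth.Agent.Lib.H87Japanese
import Mathlib.RingTheory.RingHom.FiniteType

set_option autoImplicit false
universe u
open CAlg

namespace Groth.Agent.S9399

/-- Being universally Japanese can be checked on a finite cover of Spec R by principal opens. -/
theorem result (R : Type u) [CommRing R]
    {ι : Type u} [Finite ι] (f : ι → R) (hf : Ideal.span (Set.range f) = ⊤)
    (h : ∀ i, CAlg.IsUniversallyJapanese (Localization.Away (f i))) :
    CAlg.IsUniversallyJapanese R := by
  intro S _ _ _ hft
  have hg : Ideal.span (Set.range (fun i => algebraMap R S (f i))) = ⊤ := by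
    have h1 := congrArg (Ideal.map (algebraMap R S)) hf
    rw [Ideal.map_span, Ideal.map_top, ← Set.range_comp] at h1
    exact h1
  refine Groth.Agent.Lib.H87Japanese.isN2_of_span_eq_top' S (fun i => algebraMap R S (f i)) hg
    (fun i => Localization.Away (algebraMap R S (f i))) ?_
  intro i hi
  have hd : IsDomain (Localization.Away (algebraMap R S (f i))) :=
    IsLocalization.isDomain_localization (powers_le_nonZeroDivisors_of_noZeroDivisors hi)
  refine ⟨hd, ?_⟩
  let φ : Localization.Away (f i) →+* Localization.Away (algebraMap R S (f i)) :=
    IsLocalization.Away.map (Localization.Away (f i))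
      (Localization.Away (algebraMap R S (f i))) (algebraMap R S) (f i)
  let _ : Algebra (Localization.Away (f i)) (Localization.Away (algebraMap R S (f i))) :=
    φ.toAlgebra
  have hφ : φ.FiniteType :=
    RingHom.localization_away_map_finiteType R S _ _ (algebraMap R S) (f i)
      (by rwa [RingHom.finiteType_algebraMap])
  exact h i _ hφ

end Groth.Agent.S9399
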