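import Groth.Statements.S9400
import Groth.Agent.Lib.H87Japanese
import Mathlib.AlgebraicGeometry.Noetherian

set_option autoImplicit false
universe u
open CAlg

namespace Groth.Agent.S9400

/-- Being a Nagata ring can be checked on a finite cover of Spec R by principal opens. -/
theorem result (R : Type u) [CommRing R]
    {ι : Type u} [Finite ι] (f : ι → R) (hf : Ideal.span (Set.range f) = ⊤)
    (h : ∀ i, CAlg.IsNagata (Localization.Away (f i))) : CAlg.IsNagata R := by
  constructor
  · classical
    have := Fintype.ofFinite ι
    have hs : Ideal.span ((Finset.univ.image f : Finset R) : Set R) = ⊤ := by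
      rw [Finset.coe_image, Finset.coe_univ, Set.image_univ]; exact hf
    refine AlgebraicGeometry.isNoetherianRing_of_away (Finset.univ.image f) hs ?_
    rintro ⟨r, hr⟩
    rw [Finset.mem_image] at hr
    obtain ⟨i, -, rfl⟩ := hr
    exact (h i).1
  · intro p hp
    have hg : Ideal.span (Set.range (fun i => algebraMap R (R ⧸ p) (f i))) = ⊤ := by
      have h1 := congrArg (Ideal.map (algebraMap R (R ⧸ p))) hf
      rw [Ideal.map_span, Ideal.map_top, ← Set.range_comp] at h1
      exact h1
    have inst : ∀ i, IsLocalization.Away (algebraMap R (R ⧸ p) (f i))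
        (Localization.Away (f i) ⧸ p.map (algebraMap R (Localization.Away (f i)))) := fun i => by
      have h2 : IsLocalization (Algebra.algebraMapSubmonoid (R ⧸ p) (Submonoid.powers (f i)))
        (Localization.Away (f i) ⧸ p.map (algebraMap R (Localization.Away (f i)))) := inferInstance
      rwa [Algebra.algebraMapSubmonoid_powers] at h2
    refine Groth.Agent.Lib.H87Japanese.isN2_of_span_eq_top' (R ⧸ p)
      (fun i => algebraMap R (R ⧸ p) (f i)) hg
      (fun i => Localization.Away (f i) ⧸ p.map (algebraMap R (Localization.Away (f i)))) ?_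
    intro i hi
    have hfi : f i ∉ p := by
      intro hmem
      exact hi (Ideal.Quotient.eq_zero_iff_mem.mpr hmem)
    have hdisj : Disjoint (Submonoid.powers (f i) : Set R) (p : Set R) := by
      rw [Set.disjoint_left]
      rintro _ ⟨n, rfl⟩ hn
      exact hfi (hp.mem_of_pow_mem n hn)
    have hq : (p.map (algebraMap R (Localization.Away (f i)))).IsPrime :=
      IsLocalization.isPrime_of_isPrime_disjoint (Submonoid.powers (f i)) _ p hp hdisj
    exact ⟨Ideal.Quotient.isDomain _, (h i).2 _⟩

end Groth.Agent.S9400
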