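import Groth.Statements.S9403
import Mathlib.RingTheory.Filtration
import Mathlib.RingTheory.Ideal.Span

set_option autoImplicit false
universe u
open CAlg

namespace Groth.Agent.S9403

/-- Let R → S be a ring map with S a Noetherian local ring which is an algebra over the rationals, and f
∈ S such that some S-linear form on the module of differentials of S over R sends df to 1 (df spans
a free direct summand of rank one). Then f is a nonzerodivisor of S. (The published statement asks
only that S·df be a direct summand of the module of differentials, which also holds for the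
rationals with a square-zero element adjoined, where f is a zero divisor; this row asks for an
S-linear form on the differentials sending df to 1, as the published proof uses.) -/
theorem result (R : Type u) [CommRing R]
    (S : Type u) [CommRing S] [IsLocalRing S] [IsNoetherianRing S] [Algebra R S] [Algebra ℚ S]
    (f : S) (θ : Ω[S⁄R] →ₗ[S] S) (hθ : θ (KaehlerDifferential.D R S f) = 1) : f ∈ nonZeroDivisors S := by
  have hunit : ∀ k : ℕ, IsUnit ((k + 1 : ℕ) : S) := by
    intro k
    have : ((k + 1 : ℕ) : S) = algebraMap ℚ S ((k + 1 : ℕ) : ℚ) := by simp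
    rw [this]
    exact (IsUnit.mk0 _ (by exact_mod_cast Nat.succ_ne_zero k)).map (algebraMap ℚ S)
  -- the derivation D = θ ∘ d
  have hD : ∀ x y : S, θ (KaehlerDifferential.D R S (x * y))
      = x * θ (KaehlerDifferential.D R S y) + y * θ (KaehlerDifferential.D R S x) := by
    intro x y
    rw [Derivation.leibniz, map_add, map_smul, map_smul, smul_eq_mul, smul_eq_mul]
  have hDpow : ∀ n : ℕ, θ (KaehlerDifferential.D R S (f ^ (n + 1))) = ((n + 1 : ℕ) : S) * f ^ n := by
    intro n
    rw [Derivation.leibniz_pow, map_nsmul, map_smul, hθ, add_tsub_cancel_right, nsmul_eq_mul,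
      smul_eq_mul, mul_one]
  have claimA : ∀ (n : ℕ) (g : S), f ^ n * g = 0 → ∃ g', g = f * g' := by
    intro n
    induction n with
    | zero =>
      intro g hg
      rw [pow_zero, one_mul] at hg
      exact ⟨0, by rw [hg, mul_zero]⟩
    | succ n ih =>
      intro g hg
      have h1 : θ (KaehlerDifferential.D R S (f ^ (n + 1) * g)) = 0 := by
        rw [hg, map_zero, map_zero]
      rw [hD, hDpow] at h1
      have h2 : f ^ n * (f * θ (KaehlerDifferential.D R S g) + ((n + 1 : ℕ) : S) * g) = 0 := by
        rw [← h1]; ring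
      obtain ⟨g', hg'⟩ := ih _ h2
      obtain ⟨u, hu⟩ := hunit n
      refine ⟨↑u⁻¹ * (g' - θ (KaehlerDifferential.D R S g)), ?_⟩
      have h3 : (u : S) * g = f * (g' - θ (KaehlerDifferential.D R S g)) := by
        rw [hu, mul_sub, ← hg']; ring
      calc g = ↑u⁻¹ * ((u : S) * g) := by rw [← mul_assoc, Units.inv_mul, one_mul]
        _ = f * (↑u⁻¹ * (g' - θ (KaehlerDifferential.D R S g))) := by rw [h3]; ring
  by_cases hfu : IsUnit f
  · exact hfu.mem_nonZeroDivisors
  rw [mem_nonZeroDivisors_iff_right]
  intro g hg
  have claimB : ∀ n : ℕ, ∃ gn : S, g = f ^ n * gn ∧ f ^ (n + 1) * gn = 0 := by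
    intro n
    induction n with
    | zero => exact ⟨g, by rw [pow_zero, one_mul], by rw [zero_add, pow_one, mul_comm]; exact hg⟩
    | succ n ih =>
      obtain ⟨gn, h1, h2⟩ := ih
      obtain ⟨g', hg'⟩ := claimA _ _ h2
      refine ⟨g', ?_, ?_⟩
      · rw [h1, hg']; ring
      · rw [← h2, hg']; ring
  have hne : Ideal.span {f} ≠ ⊤ := by
    rw [Ne, Ideal.span_singleton_eq_top]
    exact hfu
  have hk := Ideal.iInf_pow_eq_bot_of_isLocalRing (Ideal.span {f}) hne
  have hmem : g ∈ ⨅ i : ℕ, Ideal.span {f} ^ i := by
    rw [Ideal.mem_iInf]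
    intro n
    obtain ⟨gn, h1, -⟩ := claimB n
    rw [Ideal.span_singleton_pow, Ideal.mem_span_singleton']
    exact ⟨gn, by rw [h1, mul_comm]⟩
  rw [hk] at hmem
  exact hmem

end Groth.Agent.S9403
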