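import Groth.Statements.S9404
import Groth.Agent.Lib.H87TensorLocal

set_option autoImplicit false
universe u
open CAlg

namespace Groth.Agent.S9404

open TensorProduct in
/-- For local homomorphisms of local rings A → B and A → C with A → C integral, if the residue field of
C or that of B is purely inseparable over the residue field of A, then B ⊗_A C is local and both
structure maps into it are local. -/
theorem result (A : Type u) [CommRing A]
    [IsLocalRing A] (B : Type u) [CommRing B] [IsLocalRing B] [Algebra A B]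
    [IsLocalHom (algebraMap A B)] (C : Type u) [CommRing C] [IsLocalRing C] [Algebra A C]
    [IsLocalHom (algebraMap A C)] [Algebra.IsIntegral A C]
    (h : IsPurelyInseparable (IsLocalRing.ResidueField A) (IsLocalRing.ResidueField C) ∨
      IsPurelyInseparable (IsLocalRing.ResidueField A) (IsLocalRing.ResidueField B)) :
    IsLocalRing (B ⊗[A] C) ∧
      IsLocalHom (Algebra.TensorProduct.includeLeft : B →ₐ[A] B ⊗[A] C).toRingHom ∧
      IsLocalHom (Algebra.TensorProduct.includeRight : C →ₐ[A] B ⊗[A] C).toRingHom := by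
  rcases h with h | h
  · haveI := h
    obtain ⟨hloc, hL, hR⟩ := Groth.Agent.Lib.H87TensorLocal.isLocalRing_tensor'
      (Groth.Agent.Lib.H87TensorLocal.contractsToMax_of_isIntegral_left A C B)
    let e : B ⊗[A] C ≃ₐ[A] C ⊗[A] B := Algebra.TensorProduct.comm A B C
    refine ⟨e.symm.toRingEquiv.isLocalRing, ⟨fun b hb => ?_⟩, ⟨fun c hc => ?_⟩⟩
    · have h1 : IsUnit (e (b ⊗ₜ[A] (1 : C))) := hb.map e
      have h2 : e (b ⊗ₜ[A] (1 : C)) = (1 : C) ⊗ₜ[A] b := Algebra.TensorProduct.comm_tmul A b 1
      rw [h2] at h1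
      exact hR.map_nonunit b h1
    · have h1 : IsUnit (e ((1 : B) ⊗ₜ[A] c)) := hc.map e
      have h2 : e ((1 : B) ⊗ₜ[A] c) = c ⊗ₜ[A] (1 : B) := Algebra.TensorProduct.comm_tmul A 1 c
      rw [h2] at h1
      exact hL.map_nonunit c h1
  · haveI := h
    exact Groth.Agent.Lib.H87TensorLocal.isLocalRing_tensor'
      (Groth.Agent.Lib.H87TensorLocal.contractsToMax_of_isIntegral_right A B C)

end Groth.Agent.S9404
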