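import Groth.Statements.S9409
import Groth.Agent.Lib.H14FieldDescent
import Groth.Agent.Lib.H14GeomP

set_option autoImplicit false
universe u
open CAlg

namespace Groth.Agent.S9409

/-- Let k be a field written as a directed union of subfields k_i (given as fields mapping to k whose
images form a directed family covering k) and A a Noetherian k-algebra. Geometric regularity of A
over every one of the k_i implies that A is also geometrically regular as a k-algebra. -/
theorem result (k : Type u) [Field k] {ι : Type u}
    (K : ι → Type u) [∀ i, Field (K i)] [∀ i, Algebra (K i) k]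
    (hdir : ∀ i j, ∃ l, Set.range (algebraMap (K i) k) ⊆ Set.range (algebraMap (K l) k) ∧
      Set.range (algebraMap (K j) k) ⊆ Set.range (algebraMap (K l) k))
    (hcov : ∀ x : k, ∃ i, x ∈ Set.range (algebraMap (K i) k))
    (A : Type u) [CommRing A] [Algebra k A] [IsNoetherianRing A] [∀ i, Algebra (K i) A]
    [∀ i, IsScalarTower (K i) k A] (h : ∀ i, CAlg.IsGeometricallyRegular (K i) A) :
    CAlg.IsGeometricallyRegular k A := by
  intro k' _ _ hfin
  obtain ⟨i, L, _, _, hLfin, ⟨e⟩⟩ :=
    Groth.Agent.Lib.H14FieldDescent.exists_descent_directed k K hdir hcov k'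
  have h1 : IsRegularRing (TensorProduct (K i) L A) := h i L hLfin
  have e1 : TensorProduct (K i) L A ≃ₐ[K i] TensorProduct (K i) A L :=
    Algebra.TensorProduct.comm (K i) L A
  have e2 : TensorProduct k A (TensorProduct (K i) k L) ≃ₐ[A] TensorProduct (K i) A L :=
    Algebra.TensorProduct.cancelBaseChange (K i) k A A L
  have e3 : TensorProduct k A (TensorProduct (K i) k L) ≃ₐ[k] TensorProduct k A k' :=
    Algebra.TensorProduct.congr AlgEquiv.refl e
  have e4 : TensorProduct k A k' ≃ₐ[k] TensorProduct k k' A := Algebra.TensorProduct.comm k A k'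
  exact Groth.Agent.Lib.H14GeomP.good_regular.of_equiv
    (e1.toRingEquiv.trans (e2.symm.toRingEquiv.trans (e3.toRingEquiv.trans e4.toRingEquiv))) h1

end Groth.Agent.S9409
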