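import Groth.Statements.S9410
import Groth.Agent.S9409
import Groth.Agent.Lib.H14GeomP10
import Groth.Agent.Lib.H14GeomP6
import Groth.Agent.Lib.H14GeomP9
import Groth.Agent.Lib.H30GeomNormalPt

set_option autoImplicit false
universe u
open CAlg

namespace Groth.Agent.S9410

open TensorProduct Groth.Agent.Lib.H14GeomP

theorem mp_dir (k : Type u) [Field k] (k' : Type u)
    [Field k'] [Algebra k k'] [Algebra.IsSeparable k k'] (A : Type u) [CommRing A] [Algebra k' A]
    [Algebra k A] [IsScalarTower k k' A] [IsNoetherianRing A]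
    (hA : CAlg.IsGeometricallyRegular k A) : CAlg.IsGeometricallyRegular k' A := by
  classical
  let ι := {F : IntermediateField k k' // FiniteDimensional k F}
  let K : ι → Type u := fun i => ↥i.1
  have hdir : ∀ i j : ι, ∃ l : ι, Set.range (algebraMap (K i) k') ⊆ Set.range (algebraMap (K l) k') ∧
      Set.range (algebraMap (K j) k') ⊆ Set.range (algebraMap (K l) k') := by
    intro i j
    haveI := i.2
    haveI := j.2
    refine ⟨⟨i.1 ⊔ j.1, inferInstance⟩, ?_, ?_⟩
    · rintro _ ⟨x, rfl⟩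
      exact ⟨⟨x.1, (le_sup_left : i.1 ≤ i.1 ⊔ j.1) x.2⟩, rfl⟩
    · rintro _ ⟨x, rfl⟩
      exact ⟨⟨x.1, (le_sup_right : j.1 ≤ i.1 ⊔ j.1) x.2⟩, rfl⟩
  have hcov : ∀ x : k', ∃ i : ι, x ∈ Set.range (algebraMap (K i) k') := by
    intro x
    have hx : IsIntegral k x := Algebra.IsIntegral.isIntegral x
    refine ⟨⟨IntermediateField.adjoin k {x}, IntermediateField.adjoin.finiteDimensional hx⟩,
      ⟨⟨x, IntermediateField.mem_adjoin_simple_self k x⟩, rfl⟩⟩
  refine Groth.Agent.S9409.result k' K hdir hcov A (fun i => ?_)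
  haveI := i.2
  exact g0_regular_of_finite_separable k (K i) A hA

theorem mpr_dir (k : Type u) [Field k] (k' : Type u)
    [Field k'] [Algebra k k'] [Algebra.IsSeparable k k'] (A : Type u) [CommRing A] [Algebra k' A]
    [Algebra k A] [IsScalarTower k k' A] [IsNoetherianRing A]
    (hA : CAlg.IsGeometricallyRegular k' A) : CAlg.IsGeometricallyRegular k A := by
  intro l _ _ hfin
  haveI : Algebra.IsGeometricallyReduced k k' :=
    Groth.Agent.Lib.H30GeomNormalPt.isGeometricallyReduced_of_isSeparable k k'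
  -- `B' = k' ⊗_k l` is regular, of finite type over `k'`
  have hB1 : IsRegularRing (l ⊗[k] k') := g0_regular_of_isGeometricallyReduced k k' l hfin
  have hB' : IsRegularRing (k' ⊗[k] l) :=
    good_regular.of_equiv (Algebra.TensorProduct.comm k l k').toRingEquiv hB1
  haveI : IsNoetherianRing (k' ⊗[k] l) := IsNoetherianRing.of_finite k' _
  have e1 : (k' ⊗[k] l) ⊗[k'] A ≃ₐ[k'] A ⊗[k'] (k' ⊗[k] l) := Algebra.TensorProduct.comm k' _ _
  have e2 : A ⊗[k'] (k' ⊗[k] l) ≃ₐ[A] A ⊗[k] l := Algebra.TensorProduct.cancelBaseChange k k' A A l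
  have e3 : A ⊗[k] l ≃ₐ[k] l ⊗[k] A := Algebra.TensorProduct.comm k A l
  have e : (k' ⊗[k] l) ⊗[k'] A ≃+* l ⊗[k] A :=
    e1.toRingEquiv.trans (e2.toRingEquiv.trans e3.toRingEquiv)
  haveI : IsNoetherianRing (A ⊗[k] l) := IsNoetherianRing.of_finite A _
  haveI : IsNoetherianRing ((k' ⊗[k] l) ⊗[k'] A) :=
    isNoetherianRing_of_ringEquiv _ (e1.toRingEquiv.trans e2.toRingEquiv).symm
  have h1 : IsRegularRing ((k' ⊗[k] l) ⊗[k'] A) :=
    isRegularRing_tensor_of_regular_of_g0 k' (k' ⊗[k] l) A (Or.inl inferInstance) hB' hA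
  exact good_regular.of_equiv e h1


/-- Given a separable algebraic field extension k'/k and a Noetherian k'-algebra A, geometric regularity
of A over k' is equivalent to geometric regularity of A over k. -/
theorem result (k : Type u) [Field k] (k' : Type u)
    [Field k'] [Algebra k k'] [Algebra.IsSeparable k k'] (A : Type u) [CommRing A] [Algebra k' A]
    [Algebra k A] [IsScalarTower k k' A] [IsNoetherianRing A] :
    CAlg.IsGeometricallyRegular k A ↔ CAlg.IsGeometricallyRegular k' A := by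
  exact ⟨mp_dir k k' A, mpr_dir k k' A⟩

end Groth.Agent.S9410
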