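-- Statement S9411.
import Groth.Statements.S9411
import Groth.Agent.Lib.H30GeomNormal
import Mathlib

set_option autoImplicit false
universe u
open EGA4

namespace Groth.Agent.S9411

section Helpers

open TensorProduct
open Groth.Agent.Lib.H30GeomNormal

/-- `(k' ⊗[k] F) ⊗[k'] A ≃ F ⊗[k] A`. -/
noncomputable def tensorIso (k k' F A : Type u) [Field k] [Field k'] [Field F] [Algebra k k']
    [Algebra k F] [CommRing A] [Algebra k' A] [Algebra k A] [IsScalarTower k k' A] :
    (k' ⊗[k] F) ⊗[k'] A ≃+* F ⊗[k] A :=
  (Algebra.TensorProduct.comm k' (k' ⊗[k] F) A).toRingEquiv.trans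
    ((Algebra.TensorProduct.cancelBaseChange k k' k' A F).toRingEquiv.trans
      (Algebra.TensorProduct.comm k A F).toRingEquiv)

/-- `k' ⊗[k] F` satisfies the hypotheses of `isNormalRing_tensor_iff`. -/
theorem tensor_iff (k k' F A : Type u) [Field k] [Field k'] [Field F] [Algebra k k']
    [Algebra.IsSeparable k k'] [Algebra k F] [Algebra.IsIntegral k F] [CommRing A] [Algebra k' A] :
    EGA4.IsNormalRing ((k' ⊗[k] F) ⊗[k'] A) ↔
      ∀ m : Ideal (k' ⊗[k] F), m.IsMaximal → EGA4.IsNormalRing (((k' ⊗[k] F) ⧸ m) ⊗[k'] A) := by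
  have hred : IsReduced (k' ⊗[k] F) := by
    have := isReduced_tensor_of_isSeparable k k' F
    exact isReduced_of_injective (Algebra.TensorProduct.comm k k' F)
      (Algebra.TensorProduct.comm k k' F).injective
  have hprime := isMaximal_of_isPrime_tensor k k' F
  exact isNormalRing_tensor_iff k' (k' ⊗[k] F) A hprime
    (fun m hm x hx => exists_mul_eq_zero_of_reduced_zeroDim _ hprime m hm x hx)

/-- Descent step: if `K'` is generated over `k'` by the image of a field `F` finite over `k` and
`F ⊗[k] A` is normal, then `K' ⊗[k'] A` is normal. -/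
theorem normal_of_generated (k k' F K' A : Type u) [Field k] [Field k'] [Field F] [Field K']
    [Algebra k k'] [Algebra.IsSeparable k k'] [Algebra k F] [Algebra.IsIntegral k F]
    [Algebra k' K'] [Algebra k K'] [IsScalarTower k k' K'] [Algebra F K'] [IsScalarTower k F K']
    [CommRing A] [Algebra k' A] [Algebra k A] [IsScalarTower k k' A]
    (s : Set K') (hsF : s ⊆ Set.range (algebraMap F K')) (hs : Submodule.span k' s = ⊤)
    (hF : EGA4.IsNormalRing (F ⊗[k] A)) : EGA4.IsNormalRing (K' ⊗[k'] A) := by
  let ψ : (k' ⊗[k] F) →ₐ[k'] K' :=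
    Algebra.TensorProduct.productLeftAlgHom (Algebra.ofId k' K') (IsScalarTower.toAlgHom k F K')
  have hψ : Function.Surjective ψ := by
    have hrange : (⊤ : Submodule k' K') ≤ LinearMap.range ψ.toLinearMap := by
      rw [← hs, Submodule.span_le]
      intro x hx
      obtain ⟨f, rfl⟩ := hsF hx
      refine ⟨1 ⊗ₜ f, ?_⟩
      simp [ψ]
    intro y
    obtain ⟨z, hz⟩ := hrange (Submodule.mem_top : y ∈ ⊤)
    exact ⟨z, hz⟩
  let m : Ideal (k' ⊗[k] F) := RingHom.ker ψ
  have hm : m.IsMaximal := RingHom.ker_isMaximal_of_surjective ψ hψ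
  let e : ((k' ⊗[k] F) ⧸ m) ≃ₐ[k'] K' := Ideal.quotientKerAlgEquivOfSurjective hψ
  have hT : EGA4.IsNormalRing ((k' ⊗[k] F) ⊗[k'] A) :=
    isNormalRing_of_ringEquiv (tensorIso k k' F A).symm hF
  have h2 := (tensor_iff k k' F A).mp hT m hm
  exact isNormalRing_of_ringEquiv
    (Algebra.TensorProduct.congr e (AlgEquiv.refl : A ≃ₐ[k'] A)).toRingEquiv h2

end Helpers

/-- Let k'/k be a separable algebraic field extension and A a k'-algebra. Geometric normality of A over
k' is equivalent to geometric normality of A over k. -/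
theorem result (k : Type u) [Field k] (k' : Type u) [Field k']
    [Algebra k k'] [Algebra.IsSeparable k k'] (A : Type u) [CommRing A] [Algebra k' A]
    [Algebra k A] [IsScalarTower k k' A] :
    EGA4.IsGeomNormal k A ↔ EGA4.IsGeomNormal k' A := by
  open TensorProduct Groth.Agent.Lib.H30GeomNormal in
  constructor
  · intro h K' _ _ hfin
    let _ : Algebra k K' := ((algebraMap k' K').comp (algebraMap k k')).toAlgebra
    have hst : IsScalarTower k k' K' := IsScalarTower.of_algebraMap_eq' rfl
    have halg : Algebra.IsAlgebraic k K' := Algebra.IsAlgebraic.trans k k' K'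
    obtain ⟨s, hs⟩ := hfin.fg_top
    let F := IntermediateField.adjoin k (s : Set K')
    have hF : FiniteDimensional k F :=
      IntermediateField.finiteDimensional_adjoin (fun x _ => (halg.isIntegral).isIntegral x)
    have hFint : Algebra.IsIntegral k F := Algebra.IsIntegral.of_finite k F
    refine normal_of_generated k k' F K' A (s : Set K') ?_ hs (h F inferInstance)
    intro x hx
    exact ⟨⟨x, IntermediateField.subset_adjoin k _ hx⟩, rfl⟩
  · intro h K _ _ hfin
    have hint : Algebra.IsIntegral k K := Algebra.IsIntegral.of_finite k K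
    have hT : EGA4.IsNormalRing ((k' ⊗[k] K) ⊗[k'] A) := by
      refine (tensor_iff k k' K A).mpr fun m hm => ?_
      let _ := Ideal.Quotient.field m
      exact h ((k' ⊗[k] K) ⧸ m) inferInstance
    exact isNormalRing_of_ringEquiv (tensorIso k k' K A) hT

end Groth.Agent.S9411
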