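import Groth.Statements.S9414
import Mathlib.RingTheory.Jacobson.Ring
import Mathlib.RingTheory.Smooth.Kaehler
import Mathlib.FieldTheory.IsAlgClosed.Basic

set_option autoImplicit false
universe u
open CAlg

namespace Groth.Agent.S9414

open TensorProduct in
/-- For an algebraically closed field k, a finite type k-algebra S and a maximal ideal m of S with
residue field κ = S/m, the κ-vector spaces κ ⊗_S Ω_{S/k} and m/m² have the same dimension. -/
theorem result (k : Type u) [Field k]
    [IsAlgClosed k] (S : Type u) [CommRing S] [Algebra k S] [Algebra.FiniteType k S]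
    (m : Ideal S) [m.IsMaximal] :
    Module.finrank (S ⧸ m) ((S ⧸ m) ⊗[S] Ω[S⁄k]) = Module.finrank (S ⧸ m) m.Cotangent := by
  let _ : Field (S ⧸ m) := Ideal.Quotient.field m
  have hsurj : Function.Surjective (algebraMap S (S ⧸ m)) := Ideal.Quotient.mk_surjective
  have hft : Algebra.FiniteType k (S ⧸ m) :=
    Algebra.FiniteType.of_surjective (Ideal.Quotient.mkₐ k m) Ideal.Quotient.mk_surjective
  have hfin : Module.Finite k (S ⧸ m) := finite_of_finite_type_of_isJacobsonRing k (S ⧸ m)
  have hbij : Function.Bijective (algebraMap k (S ⧸ m)) :=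
    IsAlgClosed.algebraMap_bijective_of_isIntegral
  let e : k ≃ₐ[k] (S ⧸ m) := AlgEquiv.ofBijective (Algebra.ofId k (S ⧸ m)) hbij
  let g : (S ⧸ m) →ₐ[k] S ⧸ (RingHom.ker (algebraMap S (S ⧸ m)) ^ 2) :=
    (Algebra.ofId k _).comp e.symm.toAlgHom
  have hg : (IsScalarTower.toAlgHom k S (S ⧸ m)).kerSquareLift.comp g = AlgHom.id k (S ⧸ m) := by
    ext b
    obtain ⟨c, rfl⟩ := hbij.2 b
    simp
  obtain ⟨l, hl⟩ :=
    (retractionKerCotangentToTensorEquivSection (R := k) hsurj).symm ⟨g, hg⟩
  have hinj : Function.Injective (KaehlerDifferential.kerCotangentToTensor k S (S ⧸ m)) :=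
    Function.LeftInverse.injective (g := l) (fun x => LinearMap.congr_fun hl x)
  have hsub : Subsingleton Ω[(S ⧸ m)⁄k] :=
    KaehlerDifferential.subsingleton_of_surjective _ _ hbij.2
  have hsurj' : Function.Surjective (KaehlerDifferential.kerCotangentToTensor k S (S ⧸ m)) := by
    intro y
    exact (KaehlerDifferential.exact_kerCotangentToTensor_mapBaseChange k S (S ⧸ m) hsurj y).mp
      (Subsingleton.elim _ _)
  let c : (RingHom.ker (algebraMap S (S ⧸ m))).Cotangent ≃ₗ[S] (S ⧸ m) ⊗[S] Ω[S⁄k] :=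
    LinearEquiv.ofBijective _ ⟨hinj, hsurj'⟩
  have hker : RingHom.ker (algebraMap S (S ⧸ m)) = m := Ideal.mk_ker
  let c' : m.Cotangent ≃ₗ[S] (S ⧸ m) ⊗[S] Ω[S⁄k] :=
    (Ideal.Cotangent.equivOfEq _ _ hker).symm.trans c
  exact (LinearEquiv.finrank_eq (c'.extendScalarsOfSurjective hsurj)).symm

end Groth.Agent.S9414
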