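import Groth.Statements.S9415
import Mathlib.RingTheory.Smooth.Field
import Mathlib.RingTheory.Smooth.Kaehler
import Mathlib.RingTheory.Nilpotent.GeometricallyReduced
import Mathlib.FieldTheory.IsAlgClosed.AlgebraicClosure

set_option autoImplicit false
universe u
open CAlg

namespace Groth.Agent.S9415

open TensorProduct

/-- In characteristic `p`, over a geometrically reduced field extension, `p`-th powers of linearly
independent elements stay linearly independent. -/
theorem linearIndepOn_pow_of_isGeometricallyReduced (k K : Type u) [Field k] [Field K] [Algebra k K]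
    [Algebra.IsGeometricallyReduced k K] (p : ℕ) (hp : p.Prime) [ExpChar k p] (s : Finset K)
    (hs : LinearIndepOn k _root_.id (s : Set K)) : LinearIndepOn k (· ^ p) (s : Set K) := by
  classical
  rw [linearIndepOn_finset_iff]
  intro c hc x hx
  have hinj : Function.Injective (algebraMap (AlgebraicClosure k) (AlgebraicClosure k ⊗[k] K)) :=
    Algebra.TensorProduct.includeLeft_injective (S := AlgebraicClosure k)
      (FaithfulSMul.algebraMap_injective k K)
  have : ExpChar (AlgebraicClosure k) p :=
    expChar_of_injective_algebraMap (FaithfulSMul.algebraMap_injective k (AlgebraicClosure k)) p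
  have : ExpChar (AlgebraicClosure k ⊗[k] K) p := expChar_of_injective_algebraMap hinj p
  choose d hd using fun y : K =>
    IsAlgClosed.exists_pow_nat_eq (algebraMap k (AlgebraicClosure k) (c y)) hp.pos
  have hz : (∑ y ∈ s, d y ⊗ₜ[k] y) ^ p = 0 := by
    rw [sum_pow_char]
    have : ∀ y ∈ s, (d y ⊗ₜ[k] y) ^ p = (1 : AlgebraicClosure k) ⊗ₜ[k] (c y • y ^ p) := by
      intro y _
      rw [Algebra.TensorProduct.tmul_pow, hd, TensorProduct.tmul_smul, Algebra.algebraMap_eq_smul_one,
        TensorProduct.smul_tmul']
    rw [Finset.sum_congr rfl this, ← TensorProduct.tmul_sum, hc, TensorProduct.tmul_zero]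
  have hz0 : ∑ y ∈ s, d y ⊗ₜ[k] y = 0 := IsNilpotent.eq_zero ⟨p, hz⟩
  have hli : LinearIndependent (AlgebraicClosure k)
      (fun y : (s : Set K) => (1 : AlgebraicClosure k) ⊗ₜ[k] (y : K)) :=
    Module.Flat.linearIndependent_one_tmul hs
  have hli' : LinearIndepOn (AlgebraicClosure k)
      (fun y : K => (1 : AlgebraicClosure k) ⊗ₜ[k] y) (s : Set K) := hli
  rw [linearIndepOn_finset_iff] at hli'
  have hdx : d x = 0 := by
    apply hli' d _ x hx
    rw [← hz0]
    refine Finset.sum_congr rfl fun y _ => ?_
    rw [TensorProduct.smul_tmul', smul_eq_mul, mul_one]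
  have : algebraMap k (AlgebraicClosure k) (c x) = 0 := by
    rw [← hd, hdx, zero_pow hp.ne_zero]
  exact (map_eq_zero _).mp this

/-- A finitely generated geometrically reduced field extension is formally smooth. -/
theorem formallySmooth_of_isGeometricallyReduced (k K : Type u) [Field k] [Field K] [Algebra k K]
    [Algebra.EssFiniteType k K] [Algebra.IsGeometricallyReduced k K] :
    Algebra.FormallySmooth k K := by
  obtain _ | ⟨p, hp, hpk⟩ := CharP.exists' k
  · infer_instance
  · have : ExpChar k p := .prime hp.out
    obtain ⟨s, hs, H⟩ :=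
      exists_isTranscendenceBasis_and_isSeparable_of_linearIndepOn_pow_of_essFiniteType
        (k := k) (K := K) p hp.out
        (fun s hs => linearIndepOn_pow_of_isGeometricallyReduced k K p hp.out s hs)
    have : Algebra.IsSeparable (↥(IntermediateField.adjoin k (Set.range ((↑) : s → K)))) K := by
      convert! H <;> simp
    exact .of_algebraicIndependent_of_isSeparable hs.1

/-- Let R be a Noetherian local algebra over a field k whose residue field κ is a finitely generated,
separable (that is, geometrically reduced) field extension of k. Then the map from m/m² (m the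
maximal ideal, realised as the kernel of R → κ) to κ ⊗_R Ω_{R/k} sending the class of x to 1 ⊗ dx is
injective. -/
theorem result (k : Type u) [Field k] (R : Type u)
    [CommRing R] [IsLocalRing R] [IsNoetherianRing R] [Algebra k R]
    [Algebra.EssFiniteType k (IsLocalRing.ResidueField R)]
    [Algebra.IsGeometricallyReduced k (IsLocalRing.ResidueField R)] :
    Function.Injective
      (KaehlerDifferential.kerCotangentToTensor k R (IsLocalRing.ResidueField R)) := by
  have hsm : Algebra.FormallySmooth k (IsLocalRing.ResidueField R) :=
    formallySmooth_of_isGeometricallyReduced k _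
  have hsurj : Function.Surjective (algebraMap R (IsLocalRing.ResidueField R)) :=
    IsLocalRing.residue_surjective
  have hsurj' : Function.Surjective
      (IsScalarTower.toAlgHom k R (IsLocalRing.ResidueField R)).kerSquareLift := by
    intro y
    obtain ⟨r, rfl⟩ := hsurj y
    exact ⟨Ideal.Quotient.mk _ r, rfl⟩
  have hnil : IsNilpotent (RingHom.ker
      (IsScalarTower.toAlgHom k R (IsLocalRing.ResidueField R)).kerSquareLift.toRingHom) := by
    refine ⟨2, ?_⟩
    rw [AlgHom.ker_kerSquareLift, Ideal.cotangentIdeal_square]
    rfl
  let g := Algebra.FormallySmooth.liftOfSurjective (AlgHom.id k (IsLocalRing.ResidueField R))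
    (IsScalarTower.toAlgHom k R (IsLocalRing.ResidueField R)).kerSquareLift hsurj' hnil
  have hg : (IsScalarTower.toAlgHom k R (IsLocalRing.ResidueField R)).kerSquareLift.comp g =
      AlgHom.id k (IsLocalRing.ResidueField R) :=
    Algebra.FormallySmooth.comp_liftOfSurjective _ _ hsurj' hnil
  obtain ⟨l, hl⟩ :=
    (retractionKerCotangentToTensorEquivSection (R := k) hsurj).symm ⟨g, hg⟩
  exact Function.LeftInverse.injective (g := l) (fun x => LinearMap.congr_fun hl x)

end Groth.Agent.S9415
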