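import Groth.Statements.S9425
-- import your own Groth.Agent.* helpers here

set_option autoImplicit false
universe u
open CAlg

namespace Groth.Agent.S9425

section Lift

variable {ι : Type u} [Preorder ι] [IsDirected ι (· ≤ ·)] [Nonempty ι]
    {R : Type u} [CommRing R] {G : ι → Type u} [∀ i, CommRing (G i)] [∀ i, Algebra R (G i)]
    (f : ∀ i j, i ≤ j → (G i →ₐ[R] G j)) {S : Type u} [CommRing S] [Algebra R S]
    (g : ∀ i, G i →ₐ[R] S) (hg : ∀ i j (h : i ≤ j), (g j).comp (f i j h) = g i)
    (hsurj : ∀ s : S, ∃ i, ∃ x : G i, g i x = s)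
    (hker : ∀ i (x : G i), g i x = 0 → ∃ j, ∃ h : i ≤ j, f i j h x = 0)
    {B : Type u} [CommRing B] [Algebra R B] (φ : ∀ i, G i →ₐ[R] B)
    (hφ : ∀ i j (h : i ≤ j), (φ j).comp (f i j h) = φ i)

include hg hker hφ in
theorem key (i j : ι) (x : G i) (y : G j) (hxy : g i x = g j y) : φ i x = φ j y := by
  obtain ⟨l, hil, hjl⟩ := exists_ge_ge i j
  have h0 : g l (f i l hil x - f j l hjl y) = 0 := by
    rw [map_sub, ← AlgHom.comp_apply, ← AlgHom.comp_apply, hg, hg, hxy, sub_self]
  obtain ⟨m, hlm, hm⟩ := hker l _ h0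
  have h1 := congrArg (φ m) hm
  rw [map_zero, map_sub, map_sub, sub_eq_zero, ← AlgHom.comp_apply, ← AlgHom.comp_apply, hφ,
    ← AlgHom.comp_apply, ← AlgHom.comp_apply, hφ, hφ] at h1
  rw [h1, hφ]

/-- The underlying function of the lift. -/
noncomputable def liftFun (s : S) : B := φ (hsurj s).choose ((hsurj s).choose_spec.choose)

include hg hker hφ in
theorem liftFun_apply (i : ι) (x : G i) : liftFun g hsurj φ (g i x) = φ i x :=
  key f g hg hker φ hφ _ _ _ _ (hsurj (g i x)).choose_spec.choose_spec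

/-- The lift of a compatible family of algebra maps to the (weak) colimit. -/
noncomputable def lift : S →ₐ[R] B where
  toFun := liftFun g hsurj φ
  map_one' := by
    obtain ⟨i⟩ := ‹Nonempty ι›
    rw [← map_one (g i), liftFun_apply f g hg hsurj hker φ hφ, map_one]
  map_zero' := by
    obtain ⟨i⟩ := ‹Nonempty ι›
    rw [← map_zero (g i), liftFun_apply f g hg hsurj hker φ hφ, map_zero]
  map_mul' s t := by
    obtain ⟨i, x, rfl⟩ := hsurj s
    obtain ⟨j, y, rfl⟩ := hsurj t
    obtain ⟨l, hil, hjl⟩ := exists_ge_ge i j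
    rw [← hg i l hil, ← hg j l hjl, AlgHom.comp_apply, AlgHom.comp_apply, ← map_mul,
      liftFun_apply f g hg hsurj hker φ hφ, liftFun_apply f g hg hsurj hker φ hφ,
      liftFun_apply f g hg hsurj hker φ hφ, map_mul]
  map_add' s t := by
    obtain ⟨i, x, rfl⟩ := hsurj s
    obtain ⟨j, y, rfl⟩ := hsurj t
    obtain ⟨l, hil, hjl⟩ := exists_ge_ge i j
    rw [← hg i l hil, ← hg j l hjl, AlgHom.comp_apply, AlgHom.comp_apply, ← map_add,
      liftFun_apply f g hg hsurj hker φ hφ, liftFun_apply f g hg hsurj hker φ hφ,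
      liftFun_apply f g hg hsurj hker φ hφ, map_add]
  commutes' r := by
    obtain ⟨i⟩ := ‹Nonempty ι›
    rw [← (g i).commutes r]
    rw [liftFun_apply f g hg hsurj hker φ hφ, (φ i).commutes]

include hg hker hφ in
theorem lift_apply (i : ι) (x : G i) : lift f g hg hsurj hker φ hφ (g i x) = φ i x :=
  liftFun_apply f g hg hsurj hker φ hφ i x

end Lift

/-- A directed colimit of formally étale R-algebras is formally étale over R. The colimit is encoded by
compatible R-algebra maps S_i → S which are jointly surjective and whose kernels die further along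
the system. -/
theorem result {ι : Type u} [Preorder ι] [IsDirected ι (· ≤ ·)] [Nonempty ι]
    (R : Type u) [CommRing R] (G : ι → Type u) [∀ i, CommRing (G i)] [∀ i, Algebra R (G i)]
    (f : ∀ i j, i ≤ j → (G i →ₐ[R] G j)) (S : Type u) [CommRing S] [Algebra R S]
    (g : ∀ i, G i →ₐ[R] S) (hg : ∀ i j (h : i ≤ j), (g j).comp (f i j h) = g i)
    (hsurj : ∀ s : S, ∃ i, ∃ x : G i, g i x = s)
    (hker : ∀ i (x : G i), g i x = 0 → ∃ j, ∃ h : i ≤ j, f i j h x = 0)
    (h : ∀ i, Algebra.FormallyEtale R (G i)) : Algebra.FormallyEtale R S := by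
  rw [Algebra.FormallyEtale.iff_comp_bijective]
  intro B _ _ I hI
  refine ⟨?_, ?_⟩
  · intro φ₁ φ₂ e
    ext s
    obtain ⟨i, x, rfl⟩ := hsurj s
    have : φ₁.comp (g i) = φ₂.comp (g i) := by
      apply Algebra.FormallyUnramified.comp_injective I hI
      rw [← AlgHom.comp_assoc, ← AlgHom.comp_assoc, e]
    exact AlgHom.congr_fun this x
  · intro ψ
    have hbij := fun i => Algebra.FormallyEtale.comp_bijective R (G i) I hI
    choose φ hφ using fun i => (hbij i).2 (ψ.comp (g i))
    have hcompat : ∀ i j (h : i ≤ j), (φ j).comp (f i j h) = φ i := by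
      intro i j h
      apply (hbij i).1
      rw [hφ, ← AlgHom.comp_assoc, hφ, AlgHom.comp_assoc, hg]
    refine ⟨lift f g hg hsurj hker φ hcompat, ?_⟩
    ext s
    obtain ⟨i, x, rfl⟩ := hsurj s
    rw [AlgHom.comp_apply, lift_apply]
    exact AlgHom.congr_fun (hφ i) x

end Groth.Agent.S9425
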