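import Mathlib
import Groth.Statements.S9427
import Groth.Prelude.Def_Exal2

set_option autoImplicit false
set_option linter.unusedSectionVars false
set_option linter.style.haveILetI false
universe u
open OmegaSh

namespace Groth.Agent.S9427

attribute [local instance] Exal.opModule Exal.isCentralScalar_opModule
open Exal.Ext TensorProduct KaehlerDifferential

section Twist

variable {R A B B' N : Type u} [CommRing R] [CommRing A] [CommRing B] [CommRing B']
  [Algebra R A] [Algebra A B'] [Algebra R B'] [IsScalarTower R A B'] [Algebra A B] [Algebra B' B]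
  [IsScalarTower A B' B]
  [AddCommGroup N] [Module B' N] [Module A N]
  [IsScalarTower A B' N] [Module R N] [IsScalarTower R A N] (D₀ : Derivation R A N)

theorem algebraMap_C (a : A) : algebraMap A (DerCarrier (C := B') D₀) a =
    (TrivSqZeroExt.inl (algebraMap A B' a) + TrivSqZeroExt.inr (D₀ a) : TrivSqZeroExt B' N) := rfl

variable (B B')

/-- the projection `C → B'`. -/
noncomputable def fstC : DerCarrier (C := B') D₀ →ₐ[A] B' := (Exal.Ext.ofDerivation (C := B') D₀).proj

theorem fstC_apply (x : DerCarrier (C := B') D₀) : fstC B' D₀ x = TrivSqZeroExt.fst x := rfl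

/-- the ideal `{x | fst x ∈ ker (B' → B)}`. -/
noncomputable def I' : Ideal (DerCarrier (C := B') D₀) :=
  (RingHom.ker (algebraMap B' B)).comap (fstC B' D₀ : DerCarrier (C := B') D₀ →+* B')

theorem mem_I' (x : DerCarrier (C := B') D₀) :
    x ∈ I' B B' D₀ ↔ algebraMap B' B (TrivSqZeroExt.fst x) = 0 := Iff.rfl

variable {B B'}

theorem I'_sq (hN : ∀ x : B', algebraMap B' B x = 0 → ∀ n : N, x • n = 0)
    (hsq : RingHom.ker (algebraMap B' B) ^ 2 = ⊥) : I' B B' D₀ ^ 2 = ⊥ := by
  rw [eq_bot_iff, pow_two, Ideal.mul_le]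
  intro x hx y hy
  rw [mem_I'] at hx hy
  rw [Ideal.mem_bot]
  apply TrivSqZeroExt.ext
  · change TrivSqZeroExt.fst x * TrivSqZeroExt.fst y = 0
    have : TrivSqZeroExt.fst x * TrivSqZeroExt.fst y ∈ RingHom.ker (algebraMap B' B) ^ 2 := by
      rw [pow_two]; exact Ideal.mul_mem_mul hx hy
    rwa [hsq] at this
  · change TrivSqZeroExt.fst x • TrivSqZeroExt.snd y +
      MulOpposite.op (TrivSqZeroExt.fst y) • TrivSqZeroExt.snd x = 0
    rw [op_smul_eq_smul, hN _ hx, hN _ hy, add_zero]

/-- the ring map `x ↦ (x, D' x)` attached to an additive map with the Leibniz rule. -/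
noncomputable def ringHomT (D' : B' →+ N) (hl : ∀ x y, D' (x * y) = x • D' y + y • D' x) :
    B' →+* TrivSqZeroExt B' N where
  toFun x := TrivSqZeroExt.inl x + TrivSqZeroExt.inr (D' x)
  map_one' := by
    have h1 : D' 1 = 0 := by
      have := hl 1 1
      rw [mul_one, one_smul] at this
      exact add_eq_left.mp this.symm
    rw [h1, TrivSqZeroExt.inr_zero, add_zero, TrivSqZeroExt.inl_one]
  map_mul' x y := by
    apply TrivSqZeroExt.ext
    · simp
    · simp only [TrivSqZeroExt.snd_add, TrivSqZeroExt.snd_inl, TrivSqZeroExt.snd_inr, zero_add,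
        TrivSqZeroExt.snd_mul, TrivSqZeroExt.fst_add, TrivSqZeroExt.fst_inl, TrivSqZeroExt.fst_inr,
        add_zero, op_smul_eq_smul]
      exact hl x y
  map_zero' := by
    rw [map_zero, TrivSqZeroExt.inl_zero, TrivSqZeroExt.inr_zero, add_zero]
  map_add' x y := by
    rw [map_add, TrivSqZeroExt.inl_add, TrivSqZeroExt.inr_add]; abel

variable (B) in
/-- `B' → C / I'`, `x ↦ [(x, 0)]`; an `A`-algebra map although `inl` is not. -/
noncomputable def gHom : B' →ₐ[A] DerCarrier (C := B') D₀ ⧸ I' B B' D₀ :=
  { (Ideal.Quotient.mk (I' B B' D₀)).comp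
      (show B' →+* DerCarrier (C := B') D₀ from TrivSqZeroExt.inlHom B' N) with
    commutes' := fun a => by
      refine Ideal.Quotient.eq.mpr ?_
      rw [mem_I']
      change algebraMap B' B (TrivSqZeroExt.fst ((TrivSqZeroExt.inl (algebraMap A B' a) -
        (TrivSqZeroExt.inl (algebraMap A B' a) + TrivSqZeroExt.inr (D₀ a)) : TrivSqZeroExt B' N))) = 0
      simp }

theorem gHom_apply (x : B') :
    gHom B D₀ x = Ideal.Quotient.mk (I' B B' D₀)
      (show DerCarrier (C := B') D₀ from (TrivSqZeroExt.inl x : TrivSqZeroExt B' N)) := rfl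

/-- an additive map with the Leibniz rule and prescribed values on `A`. -/
structure IsDer (D' : B' →+ N) : Prop where
  leibniz : ∀ x y, D' (x * y) = x • D' y + y • D' x
  compat : ∀ a, D' (algebraMap A B' a) = D₀ a

/-- the algebra map `x ↦ (x, D' x)`. -/
noncomputable def algHomOf (D' : B' →+ N) (hD : IsDer D₀ D') : B' →ₐ[A] DerCarrier (C := B') D₀ :=
  { (show B' →+* DerCarrier (C := B') D₀ from ringHomT D' hD.leibniz) with
    commutes' := fun a => by
      change (TrivSqZeroExt.inl (algebraMap A B' a) + TrivSqZeroExt.inr (D' (algebraMap A B' a)) :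
        TrivSqZeroExt B' N) = TrivSqZeroExt.inl (algebraMap A B' a) + TrivSqZeroExt.inr (D₀ a)
      rw [hD.compat] }

theorem algHomOf_apply (D' : B' →+ N) (hD : IsDer D₀ D') (x : B') :
    algHomOf D₀ D' hD x = (TrivSqZeroExt.inl x + TrivSqZeroExt.inr (D' x) : TrivSqZeroExt B' N) := rfl

theorem snd_algHomOf (D' : B' →+ N) (hD : IsDer D₀ D') (x : B') :
    TrivSqZeroExt.snd (algHomOf D₀ D' hD x) = D' x := by
  rw [algHomOf_apply]; simp

theorem mk_algHomOf (D' : B' →+ N) (hD : IsDer D₀ D') :
    (Ideal.Quotient.mkₐ A (I' B B' D₀)).comp (algHomOf D₀ D' hD) = gHom B D₀ := by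
  ext x
  change Ideal.Quotient.mk (I' B B' D₀) (algHomOf D₀ D' hD x) = gHom B D₀ x
  rw [gHom_apply]
  refine Ideal.Quotient.eq.mpr ?_
  rw [mem_I']
  change algebraMap B' B (TrivSqZeroExt.fst ((TrivSqZeroExt.inl x + TrivSqZeroExt.inr (D' x) -
    TrivSqZeroExt.inl x : TrivSqZeroExt B' N))) = 0
  simp

theorem smul_eq_of_algebraMap_eq (hN : ∀ x : B', algebraMap B' B x = 0 → ∀ n : N, x • n = 0)
    {x y : B'} (hxy : algebraMap B' B x = algebraMap B' B y) (n : N) : x • n = y • n := by
  have := hN (x - y) (by rw [map_sub, hxy, sub_self]) n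
  rwa [sub_smul, sub_eq_zero] at this

theorem existsUnique_isDer (hN : ∀ x : B', algebraMap B' B x = 0 → ∀ n : N, x • n = 0)
    (h : OmegaSh.IsUnivThickeningRing A B B' (IsScalarTower.toAlgHom A B' B)) :
    ∃! D' : B' →+ N, IsDer D₀ D' := by
  obtain ⟨hπ, hsq, huniv⟩ := h
  have hsq' : RingHom.ker (algebraMap B' B) ^ 2 = ⊥ := hsq
  have hker : RingHom.ker (IsScalarTower.toAlgHom A B' B) ≤ RingHom.ker (gHom B D₀) := by
    intro x hx
    rw [RingHom.mem_ker] at hx ⊢
    rw [gHom_apply]
    refine Ideal.Quotient.eq_zero_iff_mem.mpr ?_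
    rw [mem_I']
    exact hx
  have habar := AlgHom.liftOfSurjective_comp (IsScalarTower.toAlgHom A B' B) hπ (gHom B D₀) hker
  obtain ⟨a', ha', huniq⟩ := huniv (DerCarrier (C := B') D₀) (I' B B' D₀) (I'_sq D₀ hN hsq')
    (AlgHom.liftOfSurjective (IsScalarTower.toAlgHom A B' B) hπ (gHom B D₀) hker)
  simp only [habar] at ha' huniq
  have hfst : ∀ x, algebraMap B' B (TrivSqZeroExt.fst (a' x)) = algebraMap B' B x := by
    intro x
    have h1 : Ideal.Quotient.mk (I' B B' D₀) (a' x) = gHom B D₀ x := AlgHom.congr_fun ha' x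
    rw [gHom_apply] at h1
    have h2 := Ideal.Quotient.eq.mp h1
    rw [mem_I'] at h2
    have h3 : TrivSqZeroExt.fst (a' x - (show DerCarrier (C := B') D₀ from
      (TrivSqZeroExt.inl x : TrivSqZeroExt B' N))) = TrivSqZeroExt.fst (a' x) - x := rfl
    rw [h3, map_sub, sub_eq_zero] at h2
    exact h2
  let D' : B' →+ N :=
    { toFun := fun x => TrivSqZeroExt.snd (a' x)
      map_zero' := by rw [map_zero]; rfl
      map_add' := fun x y => by rw [map_add]; rfl }
  have hD' : IsDer D₀ D' := by
    constructor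
    · intro x y
      change TrivSqZeroExt.snd (a' (x * y)) = x • TrivSqZeroExt.snd (a' y) + y • TrivSqZeroExt.snd (a' x)
      rw [map_mul]
      change TrivSqZeroExt.fst (a' x) • TrivSqZeroExt.snd (a' y) +
        MulOpposite.op (TrivSqZeroExt.fst (a' y)) • TrivSqZeroExt.snd (a' x) = _
      rw [op_smul_eq_smul, smul_eq_of_algebraMap_eq hN (hfst x), smul_eq_of_algebraMap_eq hN (hfst y)]
    · intro a
      change TrivSqZeroExt.snd (a' (algebraMap A B' a)) = D₀ a
      rw [a'.commutes, algebraMap_C]
      simp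
  refine ⟨D', hD', fun D'' hD'' => ?_⟩
  have := huniq (algHomOf D₀ D'' hD'') (mk_algHomOf D₀ D'' hD'')
  ext x
  change D'' x = TrivSqZeroExt.snd (a' x)
  rw [← this, snd_algHomOf]

end Twist


section Main

variable (R A B B' : Type u) [CommRing R] [CommRing A] [Algebra R A] [CommRing B] [Algebra A B]
  [CommRing B'] [Algebra A B'] [Algebra R B'] [IsScalarTower R A B'] [Algebra B' B]
  [IsScalarTower A B' B]

theorem formallyUnramified
    (h : OmegaSh.IsUnivThickeningRing A B B' (IsScalarTower.toAlgHom A B' B)) :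
    Algebra.FormallyUnramified A B' := by
  have hsq : RingHom.ker (algebraMap B' B) ^ 2 = ⊥ := h.2.1
  constructor
  set J : Ideal B' := RingHom.ker (algebraMap B' B) with hJ
  set P : Submodule B' Ω[B'⁄A] := J • ⊤ with hP
  have hN : ∀ x : B', algebraMap B' B x = 0 → ∀ n : Ω[B'⁄A] ⧸ P, x • n = 0 := by
    intro x hx n
    obtain ⟨m, rfl⟩ := Submodule.Quotient.mk_surjective _ n
    rw [← Submodule.Quotient.mk_smul, Submodule.Quotient.mk_eq_zero]
    exact Submodule.smul_mem_smul hx Submodule.mem_top
  obtain ⟨D', -, huniq⟩ := existsUnique_isDer (R := A) (0 : Derivation A A (Ω[B'⁄A] ⧸ P)) hN h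
  have h0 : IsDer (0 : Derivation A A (Ω[B'⁄A] ⧸ P)) (0 : B' →+ Ω[B'⁄A] ⧸ P) :=
    ⟨fun x y => by simp, fun a => by simp⟩
  have h1 : IsDer (0 : Derivation A A (Ω[B'⁄A] ⧸ P))
      (P.mkQ.toAddMonoidHom.comp (KaehlerDifferential.D A B').toLinearMap.toAddMonoidHom) := by
    constructor
    · intro x y
      change P.mkQ (KaehlerDifferential.D A B' (x * y)) =
        x • P.mkQ (KaehlerDifferential.D A B' y) + y • P.mkQ (KaehlerDifferential.D A B' x)
      rw [Derivation.leibniz, map_add, map_smul, map_smul]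
    · intro a
      change P.mkQ (KaehlerDifferential.D A B' (algebraMap A B' a)) = 0
      rw [Derivation.map_algebraMap, map_zero]
  have h2 := (huniq _ h1).trans (huniq _ h0).symm
  have h3 : ∀ x, KaehlerDifferential.D A B' x ∈ P := by
    intro x
    have := DFunLike.congr_fun h2 x
    change P.mkQ (KaehlerDifferential.D A B' x) = 0 at this
    rwa [Submodule.mkQ_apply, Submodule.Quotient.mk_eq_zero] at this
  have h4 : (⊤ : Submodule B' Ω[B'⁄A]) ≤ P := by
    rw [← KaehlerDifferential.span_range_derivation, Submodule.span_le]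
    rintro _ ⟨x, rfl⟩
    exact h3 x
  have h5 : P = ⊤ := top_le_iff.mp h4
  have h6 : (⊤ : Submodule B' Ω[B'⁄A]) = ⊥ := by
    calc (⊤ : Submodule B' Ω[B'⁄A]) = J • (J • ⊤) := by rw [← hP, h5, ← hP, h5]
      _ = (J * J) • ⊤ := by rw [Submodule.mul_smul]
      _ = ⊥ := by rw [← pow_two, hsq, Submodule.bot_smul]
  refine subsingleton_of_forall_eq 0 fun m => ?_
  have : m ∈ (⊤ : Submodule B' Ω[B'⁄A]) := Submodule.mem_top
  rw [h6] at this
  exact this

theorem bijective [Algebra.FormallyUnramified A B']
    (h : OmegaSh.IsUnivThickeningRing A B B' (IsScalarTower.toAlgHom A B' B)) :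
    Function.Bijective ((KaehlerDifferential.mapBaseChange R A B').baseChange B) := by
  constructor
  · letI instR : Module R (B ⊗[A] Ω[A⁄R]) := Module.compHom _ (algebraMap R A)
    haveI tow : IsScalarTower R A (B ⊗[A] Ω[A⁄R]) :=
      IsScalarTower.of_algebraMap_smul fun r n => rfl
    haveI towB' : IsScalarTower R B' (B ⊗[A] Ω[A⁄R]) :=
      IsScalarTower.of_algebraMap_smul fun r n => by
        rw [IsScalarTower.algebraMap_apply R A B', algebraMap_smul]; rfl
    let D₀ : Derivation R A (B ⊗[A] Ω[A⁄R]) :=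
      (TensorProduct.mk A B Ω[A⁄R] 1).compDer (KaehlerDifferential.D R A)
    have hD₀ : ∀ a, D₀ a = 1 ⊗ₜ KaehlerDifferential.D R A a := fun a => rfl
    have hN : ∀ x : B', algebraMap B' B x = 0 → ∀ n : B ⊗[A] Ω[A⁄R], x • n = 0 := fun x hx n => by
      rw [← algebraMap_smul B x n, hx, zero_smul]
    obtain ⟨D', hD', -⟩ := existsUnique_isDer D₀ hN h
    let lin : B' →ₗ[R] B ⊗[A] Ω[A⁄R] :=
      { toFun := D'
        map_add' := D'.map_add
        map_smul' := fun r x => by
          rw [RingHom.id_apply, Algebra.smul_def, hD'.leibniz, IsScalarTower.algebraMap_apply R A B',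
            hD'.compat, Derivation.map_algebraMap, smul_zero, add_zero, algebraMap_smul]
          rfl }
    let Dd : Derivation R B' (B ⊗[A] Ω[A⁄R]) := Derivation.mk' lin hD'.leibniz
    have hDd : ∀ x, Dd x = D' x := fun x => rfl
    let L : B ⊗[B'] Ω[B'⁄R] →ₗ[B] B ⊗[A] Ω[A⁄R] := Dd.liftKaehlerDifferential.liftBaseChange B
    have hlin : (Dd.liftKaehlerDifferential.restrictScalars A).comp (KaehlerDifferential.map R R A B') =
        TensorProduct.mk A B Ω[A⁄R] 1 := by
      apply Derivation.liftKaehlerDifferential_unique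
      ext a
      change Dd.liftKaehlerDifferential (KaehlerDifferential.map R R A B' (KaehlerDifferential.D R A a)) =
        1 ⊗ₜ KaehlerDifferential.D R A a
      rw [KaehlerDifferential.map_D, Derivation.liftKaehlerDifferential_comp_D, hDd, hD'.compat, hD₀]
    have key : ∀ z, L ((KaehlerDifferential.mapBaseChange R A B').baseChange B z) =
        TensorProduct.AlgebraTensorModule.cancelBaseChange A B' B B Ω[A⁄R] z := by
      intro z
      induction z using TensorProduct.induction_on with
      | zero => simp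
      | add x y hx hy => rw [map_add, map_add, map_add, hx, hy]
      | tmul b w =>
        induction w using TensorProduct.induction_on with
        | zero => simp
        | add x y hx hy => rw [TensorProduct.tmul_add, map_add, map_add, map_add, hx, hy]
        | tmul b' ω =>
          rw [LinearMap.baseChange_tmul, KaehlerDifferential.mapBaseChange_tmul,
            TensorProduct.AlgebraTensorModule.cancelBaseChange_tmul]
          change b • Dd.liftKaehlerDifferential (b' • KaehlerDifferential.map R R A B' ω) = _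
          have := LinearMap.congr_fun hlin ω
          change Dd.liftKaehlerDifferential (KaehlerDifferential.map R R A B' ω) = 1 ⊗ₜ ω at this
          rw [map_smul, this, TensorProduct.smul_tmul', TensorProduct.smul_tmul', smul_eq_mul,
            Algebra.smul_def b' (1 : B), mul_one, Algebra.smul_def, mul_comm]
    intro z₁ z₂ hz
    apply (TensorProduct.AlgebraTensorModule.cancelBaseChange A B' B B Ω[A⁄R]).injective
    rw [← key, ← key, hz]
  · apply LinearMap.baseChange_surjective
    intro y
    have := (KaehlerDifferential.exact_mapBaseChange_map R A B' y).mp (Subsingleton.elim _ _)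
    exact this

end Main



/-- Let R → A → B be ring maps with A → B formally unramified, and let B' → B be a universal first order
thickening of B relative to A (B a B'-algebra through it). Then A → B' is formally unramified, and
base changing to B the natural B'-linear map B' ⊗_A Ω_{A/R} → Ω_{B'/R} gives a bijection B ⊗_{B'}
(B' ⊗_A Ω_{A/R}) → B ⊗_{B'} Ω_{B'/R}. -/
theorem result
    (R : Type u) [CommRing R] (A : Type u) [CommRing A] [Algebra R A] (B : Type u) [CommRing B]
    [Algebra A B] [Algebra.FormallyUnramified A B] (B' : Type u) [CommRing B'] [Algebra A B']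
    [Algebra R B'] [IsScalarTower R A B'] [Algebra B' B] [IsScalarTower A B' B]
    (h : OmegaSh.IsUnivThickeningRing A B B' (IsScalarTower.toAlgHom A B' B)) :
    Algebra.FormallyUnramified A B' ∧
      Function.Bijective ((KaehlerDifferential.mapBaseChange R A B').baseChange B) := by
  haveI := formallyUnramified A B B' h
  exact ⟨inferInstance, bijective R A B B' h⟩

end Groth.Agent.S9427
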