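import Groth.Statements.S9428
import Mathlib.RingTheory.Ideal.Quotient.PowTransition

set_option autoImplicit false
universe u
open CAlg

namespace Groth.Agent.S9428

/-- If R → S is formally étale and J ⊆ S is an ideal with R → S/J surjective, I ⊆ R its kernel (the
preimage of J), then R/I^n → S/J^n is bijective for all n. (The published statement adds that the
associated graded rings are then isomorphic, which follows from these bijections.) -/
theorem result (R : Type u) [CommRing R] (S : Type u)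
    [CommRing S] [Algebra R S] [Algebra.FormallyEtale R S] (J : Ideal S)
    (hJ : Function.Surjective (algebraMap R (S ⧸ J))) (n : ℕ) :
    Function.Bijective (Ideal.quotientMap (J ^ n) (algebraMap R S)
      (le_of_le_of_eq (Ideal.le_comap_pow (algebraMap R S) n) rfl :
        (J.comap (algebraMap R S)) ^ n ≤ (J ^ n).comap (algebraMap R S))) := by
  set I : Ideal R := J.comap (algebraMap R S) with hIdef
  rcases Nat.eq_zero_or_pos n with rfl | hn
  · have h1 : Subsingleton (S ⧸ J ^ 0) := by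
      rw [pow_zero, Ideal.one_eq_top]; infer_instance
    have h2 : Subsingleton (R ⧸ I ^ 0) := by
      rw [pow_zero, Ideal.one_eq_top]; infer_instance
    exact ⟨fun a b _ => Subsingleton.elim _ _, fun b => ⟨0, Subsingleton.elim _ _⟩⟩
  · have hIn : I ^ n ≤ I := Ideal.pow_le_self hn.ne'
    have hJn : J ^ n ≤ J := Ideal.pow_le_self hn.ne'
    let ι₁ : R ⧸ I →ₐ[R] S ⧸ J := Ideal.quotientMapₐ J (Algebra.ofId R S) le_rfl
    have hι₁ : Function.Bijective ι₁ := by
      refine ⟨Ideal.quotientMap_injective, fun y => ?_⟩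
      obtain ⟨r, rfl⟩ := hJ y
      exact ⟨Ideal.Quotient.mk I r, rfl⟩
    let e₁ : (R ⧸ I) ≃ₐ[R] (S ⧸ J) := AlgEquiv.ofBijective ι₁ hι₁
    let τ : S →ₐ[R] R ⧸ I := e₁.symm.toAlgHom.comp (Ideal.Quotient.mkₐ R J)
    let pR : (R ⧸ I ^ n) →ₐ[R] R ⧸ I := Ideal.Quotient.factorₐ R hIn
    have hpR : Function.Surjective pR := Ideal.Quotient.factor_surjective hIn
    have hkerR : RingHom.ker (pR : (R ⧸ I ^ n) →+* R ⧸ I) = I.map (Ideal.Quotient.mk (I ^ n)) :=
      Ideal.Quotient.factor_ker hIn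
    have hnilR : IsNilpotent (RingHom.ker (pR : (R ⧸ I ^ n) →+* R ⧸ I)) :=
      ⟨n, by rw [hkerR, ← Ideal.map_pow, Ideal.map_quotient_self]; rfl⟩
    let L : S →ₐ[R] R ⧸ I ^ n := Algebra.FormallySmooth.liftOfSurjective τ pR hpR hnilR
    have hL : ∀ x, pR (L x) = τ x :=
      Algebra.FormallySmooth.liftOfSurjective_apply τ pR hpR hnilR
    have hLJ : J ≤ (RingHom.ker (pR : (R ⧸ I ^ n) →+* R ⧸ I)).comap (L : S →+* R ⧸ I ^ n) := by
      intro x hx
      rw [Ideal.mem_comap, RingHom.mem_ker]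
      change pR (L x) = 0
      rw [hL]
      change e₁.symm (Ideal.Quotient.mk J x) = 0
      rw [Ideal.Quotient.eq_zero_iff_mem.mpr hx, map_zero]
    have hLJn : ∀ x ∈ J ^ n, L x = 0 := by
      intro x hx
      have h3 : J ^ n ≤
          ((RingHom.ker (pR : (R ⧸ I ^ n) →+* R ⧸ I)) ^ n).comap (L : S →+* R ⧸ I ^ n) :=
        (Ideal.pow_right_mono hLJ n).trans (Ideal.le_comap_pow _ n)
      have h4 := h3 hx
      rw [Ideal.mem_comap, hkerR, ← Ideal.map_pow, Ideal.map_quotient_self] at h4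
      exact h4
    let Lbar : (S ⧸ J ^ n) →ₐ[R] R ⧸ I ^ n := Ideal.Quotient.liftₐ (J ^ n) L hLJn
    have hle : I ^ n ≤ (J ^ n).comap (algebraMap R S) :=
      le_of_le_of_eq (Ideal.le_comap_pow (algebraMap R S) n) rfl
    let Qa : (R ⧸ I ^ n) →ₐ[R] S ⧸ J ^ n := Ideal.quotientMapₐ (J ^ n) (Algebra.ofId R S) hle
    have hQ : ∀ a, Ideal.quotientMap (J ^ n) (algebraMap R S) hle a = Qa a := fun a => rfl
    let pS : (S ⧸ J ^ n) →ₐ[R] S ⧸ J := Ideal.Quotient.factorₐ R hJn
    have hkerS : RingHom.ker (pS : (S ⧸ J ^ n) →+* S ⧸ J) = J.map (Ideal.Quotient.mk (J ^ n)) :=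
      Ideal.Quotient.factor_ker hJn
    have hnilS : IsNilpotent (RingHom.ker (pS : (S ⧸ J ^ n) →+* S ⧸ J)) :=
      ⟨n, by rw [hkerS, ← Ideal.map_pow, Ideal.map_quotient_self]; rfl⟩
    have hsq : pS.comp Qa = ι₁.comp pR := by
      apply Ideal.Quotient.algHom_ext
      ext
    have hψ : Qa.comp L = Ideal.Quotient.mkₐ R (J ^ n) := by
      apply Algebra.FormallyUnramified.lift_unique' pS hnilS
      ext x
      rw [← AlgHom.comp_assoc, hsq]
      change ι₁ (pR (L x)) = Ideal.Quotient.mk J x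
      rw [hL]
      exact e₁.apply_symm_apply _
    have hleft : Function.LeftInverse Lbar Qa := by
      intro a
      obtain ⟨r, rfl⟩ := Ideal.Quotient.mk_surjective a
      change L (algebraMap R S r) = _
      rw [L.commutes]; rfl
    have hright : Function.RightInverse Lbar Qa := by
      intro b
      obtain ⟨x, rfl⟩ := Ideal.Quotient.mk_surjective b
      exact AlgHom.congr_fun hψ x
    exact ⟨hleft.injective, hright.surjective⟩

end Groth.Agent.S9428
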