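import Groth.Statements.S9431
import Groth.Agent.S9415
import Mathlib.RingTheory.Smooth.Locus

set_option autoImplicit false
universe u
open CAlg

namespace Groth.Agent.S9431

/-- For a separable (geometrically reduced) field extension K/k, every finite subset of K lies in a
k-subalgebra of K which is smooth over k; in particular K is a filtered colimit of smooth
k-algebras. -/
theorem result (k : Type u) [Field k]
    (K : Type u) [Field K] [Algebra k K] [Algebra.IsGeometricallyReduced k K] (E : Finset K) :
    ∃ A : Subalgebra k K, (↑E : Set K) ⊆ (A : Set K) ∧ Algebra.Smooth k A := by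
  classical
  let A₀ : Subalgebra k K := Algebra.adjoin k (E : Set K)
  have hfg : A₀.FG := Subalgebra.fg_adjoin_finset E
  have hft : Algebra.FiniteType k A₀ := (Subalgebra.fg_iff_finiteType A₀).mp hfg
  have hfp : Algebra.FinitePresentation k A₀ := Algebra.FinitePresentation.of_finiteType.mp hft
  have hfr : IsFractionRing A₀ (Localization.AtPrime (⊥ : Ideal A₀)) := by
    simpa [Ideal.primeCompl_bot] using Localization.isLocalization (M := (⊥ : Ideal A₀).primeCompl)
  let _ : Field (Localization.AtPrime (⊥ : Ideal A₀)) := IsFractionRing.toField A₀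
  let ψ : Localization.AtPrime (⊥ : Ideal A₀) →ₐ[k] K :=
    IsLocalization.liftAlgHom (M := (⊥ : Ideal A₀).primeCompl) (f := A₀.val) (by
      rintro ⟨y, hy⟩
      have hy0 : y ≠ 0 := by simpa using hy
      exact IsUnit.mk0 _ (by simpa using hy0))
  have hψ : Function.Injective ψ := ψ.toRingHom.injective
  have hgr : Algebra.IsGeometricallyReduced k (Localization.AtPrime (⊥ : Ideal A₀)) :=
    Algebra.IsGeometricallyReduced.of_injective ψ hψ
  have hsm : Algebra.IsSmoothAt k (⊥ : Ideal A₀) :=
    Groth.Agent.S9415.formallySmooth_of_isGeometricallyReduced k _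
  obtain ⟨f, hf, hfs⟩ := Algebra.IsSmoothAt.exists_notMem_smooth k (⊥ : Ideal A₀)
  have hf0 : f ≠ 0 := by simpa using hf
  let φ : Localization.Away f →ₐ[k] K :=
    IsLocalization.liftAlgHom (M := Submonoid.powers f) (f := A₀.val) (by
      rintro ⟨y, n, rfl⟩
      refine IsUnit.mk0 _ ?_
      change ((f ^ n : A₀) : K) ≠ 0
      rw [Subalgebra.coe_pow]
      exact pow_ne_zero n (by simpa using hf0))
  have hφ : Function.Injective φ := by
    have hle : Submonoid.powers f ≤ nonZeroDivisors A₀ :=
      Submonoid.powers_le.mpr (mem_nonZeroDivisors_of_ne_zero hf0)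
    change Function.Injective (IsLocalization.lift (M := Submonoid.powers f) _)
    rw [IsLocalization.lift_injective_iff]
    intro x y
    rw [(IsLocalization.injective (Localization.Away f) hle).eq_iff]
    exact (Subtype.val_injective.eq_iff).symm
  refine ⟨φ.range, ?_, ?_⟩
  · intro e he
    exact ⟨algebraMap A₀ (Localization.Away f) ⟨e, Algebra.subset_adjoin he⟩, by simp [φ]⟩
  · exact Algebra.Smooth.of_equiv (AlgEquiv.ofInjective φ hφ)

end Groth.Agent.S9431
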