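import Groth.Statements.S9433
import Mathlib

set_option autoImplicit false
universe u
open CAlg

namespace Groth.Agent.S9433

open Polynomial IsLocalRing in
/-- Key congruence: every element of `S` is congruent to an element of `R` modulo `t`. -/
theorem main (R : Type u) [CommRing R] [IsLocalRing R] (T : Type u) [CommRing T] [Algebra R T]
    [Algebra.Etale R T] (q : Ideal T) [q.IsPrime] (S : Type u) [CommRing S] [IsLocalRing S]
    [Algebra T S] [IsLocalization.AtPrime S q] [Algebra R S] [IsScalarTower R T S]
    [IsLocalHom (algebraMap R S)]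
    (hres : Function.Bijective (IsLocalRing.ResidueField.map (algebraMap R S))) :
    ∃ t ∈ IsLocalRing.maximalIdeal R, ∀ s : S, ∃ ρ : R,
      s - algebraMap R S ρ ∈ Ideal.span {algebraMap R S t} := by
  classical
  obtain ⟨f₀, hf₀, hstd⟩ := Algebra.IsEtaleAt.exists_isStandardEtale (R := R) q
  obtain ⟨P⟩ := hstd.nonempty_standardEtalePresentation
  -- the map `T' = T[1/f₀] → S`
  have hu : IsUnit (algebraMap T S f₀) :=
    IsLocalization.map_units S (⟨f₀, hf₀⟩ : q.primeCompl)
  let ψ₀ : Localization.Away f₀ →+* S := IsLocalization.Away.lift f₀ hu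
  have hψ₀ : ∀ y : T, ψ₀ (algebraMap T _ y) = algebraMap T S y := fun y =>
    IsLocalization.Away.lift_eq f₀ hu y
  let ψ : Localization.Away f₀ →ₐ[R] S :=
    { ψ₀ with
      commutes' := fun r => by
        change ψ₀ (algebraMap R (Localization.Away f₀) r) = _
        rw [IsScalarTower.algebraMap_apply R T (Localization.Away f₀), hψ₀,
          ← IsScalarTower.algebraMap_apply] }
  have hψ : ∀ y : T, ψ (algebraMap T _ y) = algebraMap T S y := hψ₀
  set x : S := ψ P.x with hx
  have hmap : P.HasMap x := P.hasMap.map ψ
  -- choose `a`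
  obtain ⟨abar, habar⟩ := hres.2 (residue S x)
  obtain ⟨a, rfl⟩ := residue_surjective abar
  have hδ : x - algebraMap R S a ∈ maximalIdeal S := by
    rw [← Ideal.Quotient.eq_zero_iff_mem]
    have : residue S (x - algebraMap R S a) = 0 := by
      rw [map_sub, ← habar]; simp [ResidueField.map_residue]
    exact this
  set δ : S := x - algebraMap R S a with hδdef
  set aS : S := algebraMap R S a with haS
  have hxa : x = aS + δ := by rw [hδdef]; ring
  -- derivative is a unit at `aS`
  have hder : IsUnit ((P.f.map (algebraMap R S)).derivative.eval aS) := by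
    have h1 : IsUnit ((P.f.map (algebraMap R S)).derivative.eval x) := by
      have := hmap.isUnit_derivative_f
      rwa [Polynomial.aeval_def, ← Polynomial.eval_map, ← Polynomial.derivative_map] at this
    have h2 : (P.f.map (algebraMap R S)).derivative.eval x -
        (P.f.map (algebraMap R S)).derivative.eval aS ∈ maximalIdeal S := by
      obtain ⟨c, hc⟩ := Polynomial.sub_dvd_eval_sub x aS (P.f.map (algebraMap R S)).derivative
      rw [hc]; exact Ideal.mul_mem_right _ _ hδ
    by_contra hnu
    have h3 : (P.f.map (algebraMap R S)).derivative.eval aS ∈ maximalIdeal S := hnu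
    have : (P.f.map (algebraMap R S)).derivative.eval x ∈ maximalIdeal S := by
      have := add_mem h2 h3
      simpa using this
    exact this h1
  -- t
  have hevalS : ∀ p : R[X], (p.map (algebraMap R S)).eval aS = algebraMap R S (p.eval a) := by
    intro p; rw [haS, Polynomial.eval_map_algebraMap, Polynomial.aeval_algebraMap_apply]
    simp
  have hfx : (P.f.map (algebraMap R S)).eval x = 0 := by
    have := hmap.1
    rwa [Polynomial.aeval_def, ← Polynomial.eval_map] at this
  refine ⟨P.f.eval a, ?_, ?_⟩
  · by_contra hnot
    have hunit : IsUnit (P.f.eval a) := by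
      by_contra h; exact hnot h
    have h1 : IsUnit ((P.f.map (algebraMap R S)).eval aS) := by
      rw [hevalS]; exact hunit.map _
    have h2 : (P.f.map (algebraMap R S)).eval x - (P.f.map (algebraMap R S)).eval aS
        ∈ maximalIdeal S := by
      obtain ⟨c, hc⟩ := Polynomial.sub_dvd_eval_sub x aS (P.f.map (algebraMap R S))
      rw [hc]; exact Ideal.mul_mem_right _ _ hδ
    rw [hfx, zero_sub, neg_mem_iff] at h2
    exact h2 h1
  · set tS : S := algebraMap R S (P.f.eval a) with htS
    set J : Ideal S := Ideal.span {tS} with hJ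
    have htJ : tS ∈ J := Ideal.subset_span rfl
    -- δ ∈ J
    have hδJ : δ ∈ J := by
      obtain ⟨k, hk⟩ := Polynomial.binomExpansion (P.f.map (algebraMap R S)) aS δ
      rw [← hxa, hfx, hevalS] at hk
      set w : S := (P.f.map (algebraMap R S)).derivative.eval aS + k * δ with hw
      have hwu : IsUnit w := by
        by_contra hnu
        have h3 : w ∈ maximalIdeal S := hnu
        have h4 : k * δ ∈ maximalIdeal S := Ideal.mul_mem_left _ _ hδ
        have : (P.f.map (algebraMap R S)).derivative.eval aS ∈ maximalIdeal S := by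
          have := sub_mem h3 h4
          simpa [hw] using this
        exact this hder
      obtain ⟨w', hw'⟩ := hwu.exists_right_inv
      have h5 : δ * w = - tS := by
        rw [hw, htS]; linear_combination -hk
      have h6 : δ = - tS * w' := by
        calc δ = δ * (w * w') := by rw [hw', mul_one]
          _ = (δ * w) * w' := by ring
          _ = - tS * w' := by rw [h5]
      rw [h6]
      exact Ideal.mul_mem_right _ _ (neg_mem htJ)
    have hJm : J ≤ maximalIdeal S := by
      rw [hJ, Ideal.span_le, Set.singleton_subset_iff]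
      by_contra hnu
      have h1 : IsUnit tS := by
        by_contra h; exact hnu h
      have h2 : δ * ((P.f.map (algebraMap R S)).derivative.eval aS) ∈ maximalIdeal S :=
        Ideal.mul_mem_right _ _ hδ
      -- tS ∈ m_S since f(x)=0 and f(x) - f(aS) ∈ (δ)
      have h3 : (P.f.map (algebraMap R S)).eval x - (P.f.map (algebraMap R S)).eval aS
          ∈ maximalIdeal S := by
        obtain ⟨c, hc⟩ := Polynomial.sub_dvd_eval_sub x aS (P.f.map (algebraMap R S))
        rw [hc]; exact Ideal.mul_mem_right _ _ hδ
      rw [hfx, zero_sub, neg_mem_iff, hevalS] at h3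
      exact h3 h1
    -- polynomial expressions in x are congruent to elements of R
    have hpoly : ∀ p : R[X], Polynomial.aeval x p - algebraMap R S (p.eval a) ∈ J := by
      intro p
      rw [← hevalS, Polynomial.aeval_def, ← Polynomial.eval_map]
      obtain ⟨c, hc⟩ := Polynomial.sub_dvd_eval_sub x aS (p.map (algebraMap R S))
      rw [hc]; exact Ideal.mul_mem_right _ _ hδJ
    have hG : IsUnit (Polynomial.aeval x P.g) := hmap.2
    have hT' : ∀ z : Localization.Away f₀, ∃ (p : R[X]) (n : ℕ),
        ψ z * (Polynomial.aeval x P.g) ^ n = Polynomial.aeval x p := by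
      intro z
      obtain ⟨p, n, hpn⟩ := P.exists_mul_aeval_x_g_pow_eq_aeval_x z
      refine ⟨p, n, ?_⟩
      have := congrArg ψ hpn
      rwa [map_mul, map_pow, ← Polynomial.aeval_algHom_apply, ← Polynomial.aeval_algHom_apply]
        at this
    intro s
    obtain ⟨⟨y, u⟩, hyu⟩ := IsLocalization.surj q.primeCompl s
    have huS : IsUnit (algebraMap T S u) := IsLocalization.map_units S u
    simp only at hyu
    obtain ⟨p₁, n, h1⟩ := hT' (algebraMap T _ (u : T))
    obtain ⟨p₂, m, h2⟩ := hT' (algebraMap T _ y)
    rw [hψ] at h1 h2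
    set G : S := Polynomial.aeval x P.g with hGdef
    -- b = aeval x (p₁ * g^m), b * s = aeval x (p₂ * g^n)
    set b : S := Polynomial.aeval x (p₁ * P.g ^ m) with hb
    have hbval : b = algebraMap T S u * G ^ n * G ^ m := by
      rw [hb, map_mul, map_pow, ← h1]
    have hbs : b * s = Polynomial.aeval x (p₂ * P.g ^ n) := by
      rw [hbval, map_mul, map_pow, ← h2, ← hyu]; ring
    have hbu : IsUnit b := by
      rw [hbval]; exact (huS.mul (hG.pow n)).mul (hG.pow m)
    set β : R := (p₁ * P.g ^ m).eval a with hβ
    set α : R := (p₂ * P.g ^ n).eval a with hα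
    have hbβ : b - algebraMap R S β ∈ J := hpoly _
    have hbsα : b * s - algebraMap R S α ∈ J := by rw [hbs]; exact hpoly _
    have hβS : IsUnit (algebraMap R S β) := by
      by_contra hnu
      have h3 : algebraMap R S β ∈ maximalIdeal S := hnu
      have h4 : b ∈ maximalIdeal S := by
        have := add_mem (hJm hbβ) h3
        simpa using this
      exact h4 hbu
    have hβu : IsUnit β := isUnit_of_map_unit (algebraMap R S) β hβS
    obtain ⟨β', hβ'⟩ := hβu.exists_right_inv
    refine ⟨β' * α, ?_⟩
    obtain ⟨v, hv⟩ := hβS.exists_left_inv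
    have h7 : algebraMap R S β * (s - algebraMap R S (β' * α)) ∈ J := by
      have : algebraMap R S β * (s - algebraMap R S (β' * α))
          = -(b - algebraMap R S β) * s + (b * s - algebraMap R S α) := by
        rw [map_mul]
        have : algebraMap R S β * algebraMap R S β' = 1 := by
          rw [← map_mul, hβ', map_one]
        linear_combination (-(algebraMap R S α)) * this
      rw [this]
      exact add_mem (Ideal.mul_mem_right _ _ (neg_mem hbβ)) hbsα
    have h8 : s - algebraMap R S (β' * α)
        = v * (algebraMap R S β * (s - algebraMap R S (β' * α))) := by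
      rw [← mul_assoc, hv, one_mul]
    rw [h8]
    exact Ideal.mul_mem_left _ _ h7


/-- Let R → S be a local homomorphism of local rings with S the localization of an étale R-algebra at a
prime, inducing an isomorphism of residue fields. Then for some t in the maximal ideal of R the maps
R/t^nR → S/t^nS are bijective for all n ≥ 1. -/
theorem result (R : Type u) [CommRing R] [IsLocalRing R] (T : Type u) [CommRing T] [Algebra R T]
    [Algebra.Etale R T] (q : Ideal T) [q.IsPrime] (S : Type u) [CommRing S] [IsLocalRing S]
    [Algebra T S] [IsLocalization.AtPrime S q] [Algebra R S] [IsScalarTower R T S]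
    [IsLocalHom (algebraMap R S)]
    (hres : Function.Bijective (IsLocalRing.ResidueField.map (algebraMap R S))) :
    ∃ t ∈ IsLocalRing.maximalIdeal R, ∀ n : ℕ, 1 ≤ n →
      Function.Bijective (Ideal.quotientMap ((Ideal.span {t ^ n}).map (algebraMap R S))
        (algebraMap R S) Ideal.le_comap_map) := by
  classical
  obtain ⟨t, htm, ht⟩ := main R T q S hres
  refine ⟨t, htm, fun n hn => ?_⟩
  haveI : Module.Flat T S := IsLocalization.flat S q.primeCompl
  haveI : Module.Flat R S := Module.Flat.trans R T S
  haveI : Module.FaithfullyFlat R S := Module.FaithfullyFlat.of_flat_of_isLocalHom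
  -- iterate the congruence
  have hiter : ∀ k : ℕ, ∀ s : S, ∃ ρ : R,
      s - algebraMap R S ρ ∈ Ideal.span {algebraMap R S t ^ k} := by
    intro k
    induction k with
    | zero => intro s; exact ⟨0, by simp⟩
    | succ k ih =>
      intro s
      obtain ⟨ρ, hρ⟩ := ih s
      obtain ⟨s', hs'⟩ := Ideal.mem_span_singleton'.mp hρ
      obtain ⟨ρ', hρ'⟩ := ht s'
      obtain ⟨s'', hs''⟩ := Ideal.mem_span_singleton'.mp hρ'
      refine ⟨ρ + t ^ k * ρ', Ideal.mem_span_singleton'.mpr ⟨s'', ?_⟩⟩
      rw [map_add, map_mul, map_pow, pow_succ]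
      linear_combination (algebraMap R S t ^ k) * hs'' + hs'
  constructor
  · apply Ideal.quotientMap_injective'
    rw [Ideal.comap_map_eq_self_of_faithfullyFlat]
  · intro y
    obtain ⟨s, rfl⟩ := Ideal.Quotient.mk_surjective y
    obtain ⟨ρ, hρ⟩ := hiter n s
    refine ⟨Ideal.Quotient.mk _ ρ, ?_⟩
    rw [Ideal.quotientMap_mk]
    symm
    rw [Ideal.Quotient.eq, Ideal.map_span, Set.image_singleton, map_pow]
    exact hρ

end Groth.Agent.S9433
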