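import Groth.Statements.S9453
import Groth.Agent.Lib.SplitAlg6
-- import your own Groth.Agent.* helpers here

set_option autoImplicit false
universe u
open CAlg

namespace Groth.Agent.S9453

open Polynomial TensorProduct

section Split

variable {R : Type u} [CommRing R] (f : R[X])

/-- the coefficients `a_k = (-1)^(k+1) f_{n-1-k}`. -/
noncomputable def coeffs : Fin f.natDegree → R :=
  fun k => (-1) ^ ((k : ℕ) + 1) * f.coeff (f.natDegree - 1 - k)

/-- the universal splitting algebra of `f`. -/
abbrev SplitRing : Type u :=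
  MvPolynomial (Fin f.natDegree) R ⧸ Ideal.span (Set.range fun i : Fin f.natDegree =>
    MvPolynomial.esymm (Fin f.natDegree) R ((i : ℕ) + 1) - MvPolynomial.C (coeffs f i))

/-- the universal roots. -/
noncomputable def rt (i : Fin f.natDegree) : SplitRing f := Ideal.Quotient.mk _ (MvPolynomial.X i)

lemma esymm_rt (j : ℕ) :
    (Finset.univ.val.map (rt f)).esymm j =
      Ideal.Quotient.mk _ (MvPolynomial.esymm (Fin f.natDegree) R j) := by
  have h := MvPolynomial.aeval_esymm_eq_multiset_esymm (σ := Fin f.natDegree) (R := R) j (rt f)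
  rw [← h]
  have : (MvPolynomial.aeval (rt f) : MvPolynomial (Fin f.natDegree) R →ₐ[R] SplitRing f) =
      Ideal.Quotient.mkₐ R _ := by
    apply MvPolynomial.algHom_ext
    intro i
    rw [MvPolynomial.aeval_X]
    rfl
  rw [this]
  rfl

lemma map_eq_prod_aux {B : Type*} [CommRing B] (φ : R →+* B) (hf : f.Monic)
    (r : Fin f.natDegree → B)
    (h : ∀ (k : ℕ) (hk : k < f.natDegree),
      (Finset.univ.val.map r).esymm (k + 1) = φ (coeffs f ⟨k, hk⟩)) :
    f.map φ = ∏ i, (X - C (r i)) := by
  have h1 : ∏ i, (X - C (r i)) = ((Finset.univ.val.map r).map fun t => X - C t).prod := by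
    rw [Multiset.map_map]
    rfl
  rw [h1, Multiset.prod_X_sub_X_eq_sum_esymm, Multiset.card_map, Finset.card_val,
    Finset.card_univ, Fintype.card_fin]
  conv_lhs => rw [f.as_sum_range_C_mul_X_pow, Polynomial.map_sum]
  rw [← Finset.sum_range_reflect]
  refine Finset.sum_congr rfl fun j hj => ?_
  have hj' : j ≤ f.natDegree := by
    have := Finset.mem_range.1 hj
    omega
  rw [Nat.add_sub_cancel, Polynomial.map_mul, Polynomial.map_C, Polynomial.map_pow,
    Polynomial.map_X]
  rcases Nat.eq_zero_or_pos j with rfl | hpos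
  · rw [Nat.sub_zero, Multiset.esymm, Multiset.powersetCard_zero_left, Multiset.map_singleton,
      Multiset.prod_zero, Multiset.sum_singleton, pow_zero, one_mul]
    have : f.coeff f.natDegree = 1 := hf
    rw [this, map_one]
  · obtain ⟨k, rfl⟩ : ∃ k, j = k + 1 := ⟨j - 1, by omega⟩
    have hk : k < f.natDegree := by omega
    rw [h k hk, coeffs, map_mul, map_pow, map_neg, map_one, show f.natDegree - 1 - k =
      f.natDegree - (k + 1) by omega, C_mul, C_pow, C_neg, C_1, ← mul_assoc, ← mul_assoc,
      ← pow_add, ← two_mul, pow_mul, neg_one_sq, one_pow, one_mul]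

lemma map_eq_prod (hf : f.Monic) :
    f.map (algebraMap R (SplitRing f)) = ∏ i, (X - C (rt f i)) := by
  refine map_eq_prod_aux f (algebraMap R (SplitRing f)) hf (rt f) fun k hk => ?_
  rw [esymm_rt]
  change _ = Ideal.Quotient.mk _ (MvPolynomial.C (coeffs f ⟨k, hk⟩))
  rw [Ideal.Quotient.eq]
  exact Ideal.subset_span ⟨⟨k, hk⟩, rfl⟩

lemma aeval_rt (hf : f.Monic) (i : Fin f.natDegree) : aeval (rt f i) f = 0 := by
  rw [← Polynomial.eval_map_algebraMap, map_eq_prod f hf, Polynomial.eval_prod]
  exact Finset.prod_eq_zero (Finset.mem_univ i) (by simp)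

end Split

section Key

variable {R : Type u} [CommRing R] {S : Type u} [CommRing S] [Algebra R S]

/-- two primes over the same prime of `R` can be seen in a common field. -/
lemma exists_common_field {S' : Type u} [CommRing S'] [Algebra R S'] (q : Ideal S) [q.IsPrime]
    (q' : Ideal S') [q'.IsPrime] (hqq' : q'.under R = q.under R) :
    ∃ (Ω : Type u) (_ : Field Ω) (e₁ : S →+* Ω) (e₂ : S' →+* Ω),
      RingHom.ker e₁ = q ∧ RingHom.ker e₂ = q' ∧
      e₁.comp (algebraMap R S) = e₂.comp (algebraMap R S') := by
  let p : Ideal R := q.under R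
  haveI : p.IsPrime := Ideal.IsPrime.under R q
  have hp : p = q.comap (algebraMap R S) := rfl
  have hp' : p = q'.comap (algebraMap R S') := hqq'.symm
  let ι : p.ResidueField →+* q.ResidueField := Ideal.ResidueField.map p q (algebraMap R S) hp
  let ι' : p.ResidueField →+* q'.ResidueField := Ideal.ResidueField.map p q' (algebraMap R S') hp'
  letI : Algebra p.ResidueField q.ResidueField := ι.toAlgebra
  letI : Algebra p.ResidueField q'.ResidueField := ι'.toAlgebra
  obtain ⟨𝔪, h𝔪⟩ := Ideal.exists_maximal (q.ResidueField ⊗[p.ResidueField] q'.ResidueField)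
  letI : Field ((q.ResidueField ⊗[p.ResidueField] q'.ResidueField) ⧸ 𝔪) :=
    Ideal.Quotient.field 𝔪
  let j₁ : q.ResidueField →+* (q.ResidueField ⊗[p.ResidueField] q'.ResidueField) ⧸ 𝔪 :=
    (Ideal.Quotient.mk 𝔪).comp Algebra.TensorProduct.includeLeftRingHom
  let j₂ : q'.ResidueField →+* (q.ResidueField ⊗[p.ResidueField] q'.ResidueField) ⧸ 𝔪 :=
    (Ideal.Quotient.mk 𝔪).comp
      (Algebra.TensorProduct.includeRight (R := p.ResidueField) (A := q.ResidueField)
        (B := q'.ResidueField)).toRingHom
  refine ⟨_, inferInstance, j₁.comp (algebraMap S q.ResidueField),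
    j₂.comp (algebraMap S' q'.ResidueField), ?_, ?_, ?_⟩
  · rw [← RingHom.comap_ker, (RingHom.injective_iff_ker_eq_bot j₁).1 j₁.injective,
      ← RingHom.ker_eq_comap_bot, Ideal.ker_algebraMap_residueField]
  · rw [← RingHom.comap_ker, (RingHom.injective_iff_ker_eq_bot j₂).1 j₂.injective,
      ← RingHom.ker_eq_comap_bot, Ideal.ker_algebraMap_residueField]
  · ext r
    simp only [RingHom.comp_apply]
    have h1 : algebraMap S q.ResidueField (algebraMap R S r) =
        ι (algebraMap R p.ResidueField r) :=
      (Ideal.ResidueField.map_algebraMap p q (algebraMap R S) hp r).symm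
    have h2 : algebraMap S' q'.ResidueField (algebraMap R S' r) =
        ι' (algebraMap R p.ResidueField r) :=
      (Ideal.ResidueField.map_algebraMap p q' (algebraMap R S') hp' r).symm
    rw [h1, h2]
    have h3 := RingHom.congr_fun (Algebra.TensorProduct.includeLeftRingHom_comp_algebraMap
      (R := p.ResidueField) (A := q.ResidueField) (B := q'.ResidueField))
      (algebraMap R p.ResidueField r)
    simp only [RingHom.comp_apply] at h3
    change Ideal.Quotient.mk 𝔪 (Algebra.TensorProduct.includeLeftRingHom
      (algebraMap p.ResidueField q.ResidueField (algebraMap R p.ResidueField r))) =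
      Ideal.Quotient.mk 𝔪 ((Algebra.TensorProduct.includeRight (R := p.ResidueField)
        (A := q.ResidueField) (B := q'.ResidueField)).toRingHom
        (algebraMap p.ResidueField q'.ResidueField (algebraMap R p.ResidueField r)))
    rw [h3]

lemma key (Pres : StandardEtalePresentation R S) {S' : Type u} [CommRing S'] [Algebra R S']
    {ι : Type*} [Fintype ι] (r : ι → S')
    (hr : Pres.f.map (algebraMap R S') = ∏ i, (X - C (r i)))
    (q : Ideal S) [q.IsPrime] (q' : Ideal S') [q'.IsPrime] (hqq' : q'.under R = q.under R) :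
    ∃ (g' : S') (_ : g' ∉ q') (φ : S →ₐ[R] Localization.Away g'),
      (q'.map (algebraMap S' (Localization.Away g'))).comap φ = q := by
  classical
  obtain ⟨Ω, _, e₁, e₂, hk₁, hk₂, hcomp⟩ := exists_common_field q q' hqq'
  -- evaluation in `Ω`
  have hev₁ : ∀ P : R[X], e₁ (aeval Pres.x P) =
      P.eval₂ (e₁.comp (algebraMap R S)) (e₁ Pres.x) := by
    intro P
    rw [aeval_def, Polynomial.hom_eval₂]
  have hev₂ : ∀ (y : S') (P : R[X]), e₂ (aeval y P) =
      P.eval₂ (e₂.comp (algebraMap R S')) (e₂ y) := by
    intro y P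
    rw [aeval_def, Polynomial.hom_eval₂]
  -- `α` is one of the `β_i`
  have hroot : ∃ i, e₁ Pres.x = e₂ (r i) := by
    have h0 : e₁ (aeval Pres.x Pres.f) = 0 := by rw [Pres.hasMap.1, map_zero]
    rw [hev₁, hcomp, ← Polynomial.eval_map, ← Polynomial.map_map, hr, Polynomial.map_prod,
      Polynomial.eval_prod, Finset.prod_eq_zero_iff] at h0
    obtain ⟨i, -, hi⟩ := h0
    refine ⟨i, ?_⟩
    rw [Polynomial.map_sub, Polynomial.map_X, Polynomial.map_C, Polynomial.eval_sub,
      Polynomial.eval_X, Polynomial.eval_C, sub_eq_zero] at hi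
    exact hi
  obtain ⟨i, hi⟩ := hroot
  have hstar : ∀ P : R[X], aeval Pres.x P ∈ q ↔ aeval (r i) P ∈ q' := by
    intro P
    rw [← hk₁, ← hk₂, RingHom.mem_ker, RingHom.mem_ker, hev₁, hev₂, hcomp, hi]
  have hunit : IsUnit (aeval Pres.x Pres.g) := Pres.hasMap.2
  have hg' : aeval (r i) Pres.g ∉ q' := by
    rw [← hstar]
    intro h
    exact (Ideal.IsPrime.ne_top ‹q.IsPrime›) (Ideal.eq_top_of_isUnit_mem _ h hunit)
  refine ⟨aeval (r i) Pres.g, hg', ?_⟩
  set g' := aeval (r i) Pres.g with hg'def
  set y : Localization.Away g' := algebraMap S' (Localization.Away g') (r i) with hy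
  have hfr : aeval (r i) Pres.f = 0 := by
    rw [← Polynomial.eval_map_algebraMap, hr, Polynomial.eval_prod]
    exact Finset.prod_eq_zero (Finset.mem_univ i) (by simp)
  have hymap : Pres.HasMap y := by
    refine ⟨?_, ?_⟩
    · rw [hy, Polynomial.aeval_algebraMap_apply, hfr, map_zero]
    · rw [hy, Polynomial.aeval_algebraMap_apply]
      exact IsLocalization.Away.algebraMap_isUnit g'
  let φ : S →ₐ[R] Localization.Away g' := (Pres.lift y hymap).comp Pres.equivRing.toAlgHom
  have hφx : φ Pres.x = y := by
    change Pres.lift y hymap (Pres.equivRing Pres.x) = y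
    rw [Pres.equivRing_x, StandardEtalePair.lift_X]
  have hφP : ∀ P : R[X], φ (aeval Pres.x P) = algebraMap S' (Localization.Away g') (aeval (r i) P) := by
    intro P
    rw [← Polynomial.aeval_algHom_apply, hφx, hy, Polynomial.aeval_algebraMap_apply]
  have hdisj : Disjoint (Submonoid.powers g' : Set S') (q' : Set S') :=
    (Ideal.disjoint_powers_iff_notMem_of_isPrime g').2 hg'
  have hcomap : ∀ z : S', algebraMap S' (Localization.Away g') z ∈
      q'.map (algebraMap S' (Localization.Away g')) ↔ z ∈ q' := by
    intro z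
    have h := IsLocalization.under_map_of_isPrime_disjoint (Submonoid.powers g')
      (Localization.Away g') ‹q'.IsPrime› hdisj
    constructor
    · intro hz
      have : z ∈ (q'.map (algebraMap S' (Localization.Away g'))).under S' := hz
      rwa [h] at this
    · intro hz
      exact Ideal.mem_map_of_mem _ hz
  refine ⟨φ, ?_⟩
  ext s
  obtain ⟨P, m, hs⟩ := Pres.exists_mul_aeval_x_g_pow_eq_aeval_x s
  have hu : IsUnit (aeval Pres.x Pres.g ^ m) := hunit.pow m
  have h1 : s ∈ q ↔ aeval Pres.x P ∈ q := by
    rw [← hs]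
    constructor
    · intro h
      exact Ideal.mul_mem_right _ _ h
    · intro h
      rcases (‹q.IsPrime›.mem_or_mem h) with h | h
      · exact h
      · exact absurd (Ideal.eq_top_of_isUnit_mem _ h hu) (Ideal.IsPrime.ne_top ‹q.IsPrime›)
  have hu' : IsUnit (φ (aeval Pres.x Pres.g ^ m)) := hu.map φ
  have h2 : φ s ∈ q'.map (algebraMap S' (Localization.Away g')) ↔
      φ (aeval Pres.x P) ∈ q'.map (algebraMap S' (Localization.Away g')) := by
    rw [← hs, map_mul]
    constructor
    · intro h
      exact Ideal.mul_mem_right _ _ h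
    · intro h
      obtain ⟨v, hv⟩ := hu'
      have : φ s = φ s * φ (aeval Pres.x Pres.g ^ m) * (v⁻¹ : _ˣ) := by
        rw [← hv, mul_assoc, Units.mul_inv, mul_one]
      rw [this]
      exact Ideal.mul_mem_right _ _ h
  rw [Ideal.mem_comap, h2, hφP, hcomap, ← hstar, ← h1]

end Key


/-- For a standard étale R-algebra S there is an R-algebra S' which is finite, finitely presented and
flat over R, with Spec S' → Spec R surjective, and such that for every prime q of S and every prime
q' of S' lying over the same prime of R there are g' ∉ q' and an R-algebra map φ : S → S'_{g'} under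
which the extension of q' pulls back to q. -/
theorem result (R : Type u) [CommRing R] (S : Type u)
    [CommRing S] [Algebra R S] [Algebra.IsStandardEtale R S] :
    ∃ (S' : Type u) (_ : CommRing S') (_ : Algebra R S'),
      Module.Finite R S' ∧ Algebra.FinitePresentation R S' ∧ Module.Flat R S' ∧
        Function.Surjective (PrimeSpectrum.comap (algebraMap R S')) ∧
        ∀ (q : Ideal S) [q.IsPrime] (q' : Ideal S') [q'.IsPrime], q'.under R = q.under R →
          ∃ (g' : S') (_ : g' ∉ q') (φ : S →ₐ[R] Localization.Away g'),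
            (q'.map (algebraMap S' (Localization.Away g'))).comap φ = q := by
  classical
  obtain ⟨Pres⟩ := (inferInstance : Algebra.IsStandardEtale R S).nonempty_standardEtalePresentation
  obtain ⟨b⟩ := Groth.Agent.Lib.SplitAlg6.exists_basis Pres.f.natDegree R (coeffs Pres.f)
  refine ⟨SplitRing Pres.f, inferInstance, inferInstance, Module.Finite.of_basis b, ?_, ?_, ?_, ?_⟩
  · exact Algebra.FinitePresentation.quotient (Submodule.fg_span (Set.finite_range _))
  · haveI : Module.Free R (SplitRing Pres.f) := Module.Free.of_basis b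
    infer_instance
  · rcases subsingleton_or_nontrivial R with hR | hR
    · intro x
      refine (x.isPrime.ne_top ((Ideal.eq_top_iff_one _).2 ?_)).elim
      rw [Subsingleton.elim (1 : R) 0]
      exact zero_mem _
    · haveI : Module.Free R (SplitRing Pres.f) := Module.Free.of_basis b
      haveI : Nontrivial (SplitRing Pres.f) := by
        have hpos : 0 < Pres.f.natDegree.factorial := Nat.factorial_pos _
        haveI : Nonempty (Fin Pres.f.natDegree.factorial) := ⟨⟨0, hpos⟩⟩
        exact b.repr.symm.injective.nontrivial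
      exact PrimeSpectrum.comap_surjective_of_faithfullyFlat
  · intro q _ q' _ hqq'
    exact key Pres (rt Pres.f) (map_eq_prod Pres.f Pres.monic_f) q q' hqq'

end Groth.Agent.S9453
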