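import Groth.Statements.S9434
import Groth.Agent.S9453
-- import your own Groth.Agent.* helpers here

set_option autoImplicit false
universe u
open CAlg

namespace Groth.Agent.S9434

/-- Let R → S be a local homomorphism of local rings with S the localization of an étale R-algebra at a
prime. Then there is a finite, finitely presented, faithfully flat R-algebra S' such that for every
maximal ideal m' of S' the structure map R → S'_{m'} factors through some R-algebra map S → S'_{m'}. -/
theorem result (R : Type u) [CommRing R] [IsLocalRing R] (T : Type u) [CommRing T] [Algebra R T]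
    [Algebra.Etale R T] (q : Ideal T) [q.IsPrime] (S : Type u) [CommRing S] [IsLocalRing S]
    [Algebra T S] [IsLocalization.AtPrime S q] [Algebra R S] [IsScalarTower R T S]
    [IsLocalHom (algebraMap R S)] :
    ∃ (S' : Type u) (_ : CommRing S') (_ : Algebra R S'),
      Module.Finite R S' ∧ Algebra.FinitePresentation R S' ∧ Module.FaithfullyFlat R S' ∧
        ∀ (m' : Ideal S') [m'.IsMaximal], Nonempty (S →ₐ[R] Localization.AtPrime m') := by
  classical
  obtain ⟨f, hfq, hf⟩ := Algebra.IsEtaleAt.exists_isStandardEtale (R := R) q
  obtain ⟨S', _, _, h1, h2, h3, h4, h5⟩ := Groth.Agent.S9453.result R (Localization.Away f)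
  haveI : Module.FaithfullyFlat R S' := .of_comap_surjective h4
  refine ⟨S', inferInstance, inferInstance, h1, h2, inferInstance, ?_⟩
  intro m' _
  -- `q` lies over the maximal ideal of `R`
  have hq : q.under R = IsLocalRing.maximalIdeal R := by
    ext x
    rw [Ideal.under, Ideal.mem_comap, ← IsLocalization.AtPrime.to_map_mem_maximal_iff S q,
      ← IsScalarTower.algebraMap_apply, IsLocalRing.mem_maximalIdeal, IsLocalRing.mem_maximalIdeal,
      mem_nonunits_iff, mem_nonunits_iff, not_iff_not]
    exact isUnit_map_iff (algebraMap R S) x
  -- so does `m'`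
  have hm : m'.under R = IsLocalRing.maximalIdeal R := by
    haveI : Algebra.IsIntegral R S' := inferInstance
    have := Ideal.isMaximal_comap_of_isIntegral_of_isMaximal (R := R) m'
    exact IsLocalRing.eq_maximalIdeal this
  -- the prime of `T_f` corresponding to `q`
  have hdisj : Disjoint (Submonoid.powers f : Set T) (q : Set T) :=
    (Ideal.disjoint_powers_iff_notMem_of_isPrime _).mpr hfq
  haveI : (q.map (algebraMap T (Localization.Away f))).IsPrime :=
    IsLocalization.isPrime_of_isPrime_disjoint (.powers f) _ _ inferInstance hdisj
  have hc : (q.map (algebraMap T (Localization.Away f))).under T = q :=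
    IsLocalization.under_map_of_isPrime_disjoint (.powers f) _ inferInstance hdisj
  have hu : (q.map (algebraMap T (Localization.Away f))).under R = q.under R := by
    conv_rhs => rw [← hc]
    ext x
    simp only [Ideal.under, Ideal.mem_comap, ← IsScalarTower.algebraMap_apply]
  obtain ⟨g', hg', φ, hφ⟩ := h5 (q.map (algebraMap T (Localization.Away f))) m'
    (by rw [hu, hq, hm])
  -- the map `S'_{g'} → S'_{m'}`
  have hgu : ∀ y : Submonoid.powers g',
      IsUnit ((Algebra.ofId S' (Localization.AtPrime m')) y) := by
    rintro ⟨_, n, rfl⟩
    rw [map_pow]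
    refine IsUnit.pow _ ?_
    exact IsLocalization.map_units (M := m'.primeCompl) _ ⟨g', hg'⟩
  let L : Localization.Away g' →ₐ[S'] Localization.AtPrime m' :=
    IsLocalization.liftAlgHom (M := Submonoid.powers g') (f := Algebra.ofId S' _) hgu
  let L' : Localization.Away g' →ₐ[R] Localization.AtPrime m' := L.restrictScalars R
  let ψ : T →ₐ[R] Localization.AtPrime m' :=
    L'.comp (φ.comp (IsScalarTower.toAlgHom R T (Localization.Away f)))
  -- the comap of the maximal ideal along `L` is `m' S'_{g'}`
  have hL : (IsLocalRing.maximalIdeal (Localization.AtPrime m')).comap L.toRingHom =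
      m'.map (algebraMap S' (Localization.Away g')) := by
    rw [← IsLocalization.map_under (Submonoid.powers g') (Localization.Away g')
      ((IsLocalRing.maximalIdeal (Localization.AtPrime m')).comap L.toRingHom)]
    congr 1
    rw [Ideal.under, Ideal.comap_comap]
    have : L.toRingHom.comp (algebraMap S' (Localization.Away g')) =
        algebraMap S' (Localization.AtPrime m') := L.comp_algebraMap
    rw [this]
    exact Localization.AtPrime.under_maximalIdeal
  have hunit : ∀ y : q.primeCompl, IsUnit (ψ y) := by
    rintro ⟨t, ht⟩
    by_contra hnu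
    apply ht
    have h1 : ψ t ∈ IsLocalRing.maximalIdeal (Localization.AtPrime m') := hnu
    have h2 : φ (algebraMap T (Localization.Away f) t) ∈
        (IsLocalRing.maximalIdeal (Localization.AtPrime m')).comap L.toRingHom := h1
    rw [hL] at h2
    have h3 : algebraMap T (Localization.Away f) t ∈
        (m'.map (algebraMap S' (Localization.Away g'))).comap φ := h2
    rw [hφ] at h3
    have h4 : t ∈ (q.map (algebraMap T (Localization.Away f))).under T := h3
    rwa [hc] at h4
  exact ⟨IsLocalization.liftAlgHom (M := q.primeCompl) (f := ψ) hunit⟩

end Groth.Agent.S9434
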