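import Groth.Statements.S9435
import Mathlib.RingTheory.Etale.StandardEtale
import Mathlib.FieldTheory.PrimitiveElement
import Mathlib.FieldTheory.Minpoly.IsIntegrallyClosed
import Mathlib.RingTheory.Polynomial.ScaleRoots
import Mathlib.RingTheory.LocalRing.ResidueField.Ideal
import Mathlib.RingTheory.Localization.Integer

set_option autoImplicit false
universe u
open CAlg

namespace Groth.Agent.S9435

open Polynomial IntermediateField

/-- common denominator in `R \ p` for finitely many elements of `κ(p)`. -/
theorem exists_common_denominator (R : Type u) [CommRing R] (p : Ideal R) [p.IsPrime]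
    (F : Finset p.ResidueField) :
    ∃ s : R, s ∉ p ∧ ∀ c ∈ F, algebraMap R p.ResidueField s * c ∈
      (algebraMap R p.ResidueField).range := by
  obtain ⟨⟨b, hb⟩, hF⟩ := IsLocalization.exist_integer_multiples_of_finset
    (nonZeroDivisors (R ⧸ p)) F
  obtain ⟨s, rfl⟩ := Ideal.Quotient.mk_surjective b
  refine ⟨s, ?_, ?_⟩
  · intro hs
    have : (Ideal.Quotient.mk p s) = 0 := Ideal.Quotient.eq_zero_iff_mem.mpr hs
    exact nonZeroDivisors.ne_zero hb this
  · intro c hc
    obtain ⟨a, ha⟩ := hF c hc
    obtain ⟨a, rfl⟩ := Ideal.Quotient.mk_surjective a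
    refine ⟨a, ?_⟩
    rw [Algebra.smul_def] at ha
    change algebraMap (R ⧸ p) p.ResidueField (Ideal.Quotient.mk p a) =
      algebraMap (R ⧸ p) p.ResidueField (Ideal.Quotient.mk p s) * c at ha
    rw [Ideal.algebraMap_quotient_residueField_mk, Ideal.algebraMap_quotient_residueField_mk] at ha
    exact ha



/-- Given a prime p of a ring R and a finite separable extension L of κ(p), there is an étale R-algebra
R' with a prime p' over p whose residue field is κ(p)-isomorphic to L. Stated through an R-algebra
map ψ : R' → L whose image generates the field L: its kernel is such a prime p' and the induced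
κ(p') → L is then an isomorphism over κ(p). -/
theorem result (R : Type u) [CommRing R]
    (p : Ideal R) [p.IsPrime] (L : Type u) [Field L] [Algebra p.ResidueField L] [Algebra R L]
    [IsScalarTower R p.ResidueField L] [Module.Finite p.ResidueField L]
    [Algebra.IsSeparable p.ResidueField L] :
    ∃ (R' : Type u) (_ : CommRing R') (_ : Algebra R R') (_ : Algebra.Etale R R') (ψ : R' →ₐ[R] L),
      Subfield.closure (Set.range ψ) = ⊤ := by
  classical
  obtain ⟨θ, hθ⟩ := Field.exists_primitive_element p.ResidueField L
  have hint : IsIntegral p.ResidueField θ := Algebra.IsIntegral.isIntegral θ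
  set m := minpoly p.ResidueField θ with hm
  obtain ⟨s, hs, hF⟩ := exists_common_denominator R p (m.support.image m.coeff)
  set sb : p.ResidueField := algebraMap R p.ResidueField s with hsb
  have hsb0 : sb ≠ 0 := by
    rw [hsb, Ne, Ideal.algebraMap_residueField_eq_zero]
    exact hs
  set θ' : L := sb • θ with hθ'
  have hm' : minpoly p.ResidueField θ' = m.scaleRoots sb :=
    IsIntegrallyClosed.minpoly_smul hsb0 hint
  have hlift : minpoly p.ResidueField θ' ∈ Polynomial.lifts (algebraMap R p.ResidueField) := by
    rw [hm', Polynomial.lifts_iff_coeff_lifts]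
    intro i
    rw [coeff_scaleRoots]
    change _ ∈ (algebraMap R p.ResidueField).range
    by_cases hi : i < m.natDegree
    · have hc : m.coeff i ≠ 0 ∨ m.coeff i = 0 := (em _).symm
      rcases hc with hc | hc
      · have h1 := hF (m.coeff i) (Finset.mem_image_of_mem _ (Polynomial.mem_support_iff.mpr hc))
        have : m.natDegree - i = (m.natDegree - i - 1) + 1 := by omega
        rw [this, pow_succ, mul_comm (sb ^ _) sb, ← mul_assoc, mul_comm (m.coeff i) sb]
        exact Subring.mul_mem _ h1 (Subring.pow_mem _ (RingHom.mem_range_self _ s) _)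
      · rw [hc, zero_mul]; exact Subring.zero_mem _
    · rcases (not_lt.mp hi).eq_or_lt with h | h
      · rw [← h, Nat.sub_self, pow_zero, mul_one]
        have : m.coeff m.natDegree = 1 := (minpoly.monic hint).coeff_natDegree
        rw [this]; exact Subring.one_mem _
      · rw [Polynomial.coeff_eq_zero_of_natDegree_lt h, zero_mul]; exact Subring.zero_mem _
  have hint' : IsIntegral p.ResidueField θ' := Algebra.IsIntegral.isIntegral θ'
  obtain ⟨f, hf, -, hfm⟩ := Polynomial.lifts_and_natDegree_eq_and_monic hlift (minpoly.monic hint')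
  have hfθ : aeval θ' f = 0 := by
    rw [← Polynomial.aeval_map_algebraMap p.ResidueField, hf, minpoly.aeval]
  have hfθ' : aeval θ' (derivative f) ≠ 0 := by
    rw [← Polynomial.aeval_map_algebraMap p.ResidueField, ← Polynomial.derivative_map, hf]
    exact (Algebra.IsSeparable.isSeparable p.ResidueField θ').aeval_derivative_ne_zero
      (minpoly.aeval _ _)
  let P : StandardEtalePair R :=
    { f := f, monic_f := hfm, g := derivative f, cond := ⟨1, 0, 1, by simp⟩ }
  have hP : P.HasMap θ' := ⟨hfθ, IsUnit.mk0 _ hfθ'⟩
  refine ⟨P.Ring, inferInstance, inferInstance, inferInstance, P.lift θ' hP, ?_⟩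
  rw [eq_top_iff]
  have hθ'mem : θ' ∈ Subfield.closure (Set.range (P.lift θ' hP)) :=
    Subfield.subset_closure ⟨P.X, P.lift_X θ' hP⟩
  have hR : ∀ r : R, algebraMap R L r ∈ Subfield.closure (Set.range (P.lift θ' hP)) := fun r =>
    Subfield.subset_closure ⟨algebraMap R P.Ring r, (P.lift θ' hP).commutes r⟩
  have hK : ∀ c : p.ResidueField, algebraMap p.ResidueField L c ∈
      Subfield.closure (Set.range (P.lift θ' hP)) := by
    intro c
    obtain ⟨a, b, hb, rfl⟩ := IsFractionRing.div_surjective (A := R ⧸ p) c
    obtain ⟨a, rfl⟩ := Ideal.Quotient.mk_surjective a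
    obtain ⟨b, rfl⟩ := Ideal.Quotient.mk_surjective b
    rw [Ideal.algebraMap_quotient_residueField_mk, Ideal.algebraMap_quotient_residueField_mk,
      map_div₀, ← IsScalarTower.algebraMap_apply, ← IsScalarTower.algebraMap_apply]
    exact Subfield.div_mem _ (hR a) (hR b)
  have hθmem : θ ∈ Subfield.closure (Set.range (P.lift θ' hP)) := by
    have : θ = (algebraMap p.ResidueField L sb)⁻¹ * θ' := by
      rw [hθ', Algebra.smul_def, ← mul_assoc, inv_mul_cancel₀, one_mul]
      simpa using hsb0
    rw [this]
    exact Subfield.mul_mem _ (Subfield.inv_mem _ (hK sb)) hθ'mem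
  intro x _
  have hx : x ∈ (p.ResidueField⟮θ⟯ : IntermediateField p.ResidueField L) := by rw [hθ]; trivial
  have hle : (p.ResidueField⟮θ⟯ : IntermediateField p.ResidueField L).toSubfield ≤
      Subfield.closure (Set.range (P.lift θ' hP)) := by
    rw [IntermediateField.adjoin, Subfield.closure_le]
    rintro y (⟨c, rfl⟩ | hy)
    · exact hK c
    · rw [Set.mem_singleton_iff.mp hy]; exact hθmem
  exact hle hx

end Groth.Agent.S9435
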