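import Groth.Statements.S9437
import Groth.Agent.Lib.H56SerreFlat
import Groth.Agent.Lib.HenselizationNoeth

set_option autoImplicit false
universe u
open CAlg

namespace Groth.Agent.S9437

/-- Serre's condition (S_k) descends along faithfully flat ring maps: if S is faithfully flat over R,
Noetherian and (S_k), then R is Noetherian and (S_k). -/
theorem result (k : ℕ) (R : Type u) [CommRing R] (S : Type u) [CommRing S]
    [Algebra R S] [Module.FaithfullyFlat R S] [IsNoetherianRing S] (hS : LocCoh.HasSk k S S) :
    IsNoetherianRing R ∧ LocCoh.HasSk k R R := by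
  have hR : IsNoetherianRing R :=
    Groth.Agent.Lib.HenselizationNoeth.isNoetherianRing_of_faithfullyFlat R S
  refine ⟨hR, ?_⟩
  rw [Groth.Agent.Lib.H56SerreFlat.hasSk_self_iff] at hS ⊢
  intro p hp
  have hne : p.map (algebraMap R S) ≠ ⊤ := by
    intro h
    have := Ideal.comap_map_eq_self_of_faithfullyFlat (B := S) p
    rw [h, Ideal.comap_top] at this
    exact hp.ne_top this.symm
  obtain ⟨q, hq⟩ := Ideal.nonempty_minimalPrimes hne
  have hqprime : q.IsPrime := hq.isPrime
  have hover : q.LiesOver p := by
    have hle : p ≤ q.under R := by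
      rw [Ideal.under, ← Ideal.map_le_iff_le_comap]; exact hq.1.2
    have : q.LiesOver (q.under R) := ⟨rfl⟩
    obtain ⟨P, hPq, hPprime, hPover⟩ :=
      Ideal.exists_ideal_le_liesOver_of_le (p := p) (q := q.under R) q hle
    have hpP : p.map (algebraMap R S) ≤ P := by
      rw [Ideal.map_le_iff_le_comap]; exact (hPover.over).le
    have hqP : q ≤ P := hq.2 ⟨hPprime, hpP⟩ hPq
    have hPq' : P = q := le_antisymm hPq hqP
    rw [← hPq']; exact hPover
  obtain ⟨hdim, hdepth⟩ := Groth.Agent.Lib.H56SerreFlat.dim_depth_eq_of_mem_minimalPrimes p q hq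
  have := hS q
  rw [hdim, ← hdepth] at this
  exact this

end Groth.Agent.S9437
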