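import Groth.Statements.S9439
import Groth.Agent.S9262
import Groth.Agent.Lib.AdicNoeth

set_option autoImplicit false
universe u
open CAlg

namespace Groth.Agent.S9439

open IsLocalRing TensorProduct

set_option maxHeartbeats 400000

/-- flatness step: for flat `S` over `R`, prime `p`, `a ∉ p`, `a x ∈ pS ⇒ x ∈ pS`. -/
theorem mem_map_of_mul_mem {R S : Type*} [CommRing R] [CommRing S] [Algebra R S] [Module.Flat R S]
    (p : Ideal R) [hpp : p.IsPrime] (a : R) (ha : a ∉ p) (x : S)
    (hx : algebraMap R S a * x ∈ p.map (algebraMap R S)) : x ∈ p.map (algebraMap R S) := by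
  set J := p.map (algebraMap R S) with hJ
  have hle : p ≤ LinearMap.ker ((Ideal.Quotient.mkₐ R J).toLinearMap ∘ₗ Algebra.linearMap R S) := by
    intro r hr
    rw [LinearMap.mem_ker]
    show Ideal.Quotient.mk J (algebraMap R S r) = 0
    rw [Ideal.Quotient.eq_zero_iff_mem]
    exact Ideal.mem_map_of_mem _ hr
  let f : (R ⧸ p) →ₗ[R] (S ⧸ J) := Submodule.liftQ p _ hle
  have hf : ∀ r : R, f (Ideal.Quotient.mk p r) = Ideal.Quotient.mk J (algebraMap R S r) :=
    fun r => rfl
  have hbc : IsBaseChange S f := by
    refine IsBaseChange.of_equiv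
      (Algebra.TensorProduct.quotIdealMapEquivTensorQuot S p).symm.toLinearEquiv ?_
    intro y
    obtain ⟨r, rfl⟩ := Ideal.Quotient.mk_surjective y
    show (Algebra.TensorProduct.quotIdealMapEquivTensorQuot S p).symm
      ((1 : S) ⊗ₜ[R] Ideal.Quotient.mk p r) = f (Ideal.Quotient.mk p r)
    rw [hf]
    have h1 : (Algebra.TensorProduct.quotIdealMapEquivTensorQuot S p).symm
      ((1 : S) ⊗ₜ[R] Ideal.Quotient.mk p r) = Ideal.Quotient.mk J (r • (1 : S)) := rfl
    rw [h1, Algebra.smul_def, mul_one]
  have hreg : IsSMulRegular (R ⧸ p) a := by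
    intro y₁ y₂ h
    obtain ⟨r₁, rfl⟩ := Ideal.Quotient.mk_surjective y₁
    obtain ⟨r₂, rfl⟩ := Ideal.Quotient.mk_surjective y₂
    have h' : Ideal.Quotient.mk p (a * r₁) = Ideal.Quotient.mk p (a * r₂) := h
    rw [Ideal.Quotient.eq, ← mul_sub] at h'
    exact Ideal.Quotient.eq.mpr ((hpp.mem_or_mem h').resolve_left ha)
  have hreg' : IsSMulRegular (S ⧸ J) (algebraMap R S a) := hreg.of_flat_of_isBaseChange hbc
  have h0 : Ideal.Quotient.mk J x = 0 := by
    apply hreg'
    show algebraMap R S a • Ideal.Quotient.mk J x = algebraMap R S a • (0 : S ⧸ J)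
    rw [smul_zero]
    show Ideal.Quotient.mk J (algebraMap R S a * x) = 0
    exact Ideal.Quotient.eq_zero_iff_mem.mpr hx
  exact Ideal.Quotient.eq_zero_iff_mem.mp h0

theorem dvr_of_assoc {R S : Type u} [CommRing R] [IsNoetherianRing R] [CommRing S]
    [IsNoetherianRing S] [Algebra R S] [Module.Flat R S]
    (p : Ideal R) [hpp : p.IsPrime] [IsDomain (Localization.AtPrime p)]
    [IsDiscreteValuationRing (Localization.AtPrime p)]
    (hp : IsReduced (S ⧸ p.map (algebraMap R S)))
    (q : Ideal S) [hqp : q.IsPrime]
    (hq : q ∈ associatedPrimes S (S ⧸ p.map (algebraMap R S))) :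
    ∃ _ : IsDomain (Localization.AtPrime q), IsDiscreteValuationRing (Localization.AtPrime q) := by
  set J := p.map (algebraMap R S) with hJ
  obtain ⟨-, xbar, hqx⟩ := isAssociatedPrime_iff.mp hq
  obtain ⟨x, rfl⟩ := Ideal.Quotient.mk_surjective xbar
  have hmem : ∀ r : S, r ∈ q ↔ r * x ∈ J := by
    intro r
    rw [hqx, Submodule.mem_colon_singleton, Submodule.mem_bot]
    show Ideal.Quotient.mk J (r * x) = 0 ↔ _
    exact Ideal.Quotient.eq_zero_iff_mem
  have hxJ : x ∉ J := by
    intro hxJ
    have h1 : (1 : S) ∈ q := (hmem 1).mpr (by rw [one_mul]; exact hxJ)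
    exact hqp.ne_top ((Ideal.eq_top_iff_one q).mpr h1)
  have hxq : x ∉ q := by
    intro hxq
    have h2 : x * x ∈ J := (hmem x).mp hxq
    have h3 : (Ideal.Quotient.mk J x) ^ 2 = 0 := by
      rw [← map_pow, Ideal.Quotient.eq_zero_iff_mem, sq]; exact h2
    have h4 : Ideal.Quotient.mk J x = 0 := IsReduced.eq_zero _ ⟨2, h3⟩
    exact hxJ (Ideal.Quotient.eq_zero_iff_mem.mp h4)
  have hJq : J ≤ q := fun j hj => (hmem j).mpr (J.mul_mem_right _ hj)
  have hcomap : p = q.comap (algebraMap R S) := by
    apply le_antisymm
    · intro a ha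
      exact hJq (Ideal.mem_map_of_mem _ ha)
    · intro a ha
      by_contra hap
      have h5 : algebraMap R S a * x ∈ J := (hmem _).mp ha
      exact hxJ (mem_map_of_mul_mem p a hap x h5)
  letI : Algebra (Localization.AtPrime p) (Localization.AtPrime q) :=
    (Localization.localRingHom p q (algebraMap R S) hcomap).toAlgebra
  haveI : IsLocalHom (algebraMap (Localization.AtPrime p) (Localization.AtPrime q)) :=
    Localization.isLocalHom_localRingHom p q (algebraMap R S) hcomap
  haveI : Module.Flat (Localization.AtPrime p) (Localization.AtPrime q) :=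
    RingHom.Flat.localRingHom (f := algebraMap R S)
      (RingHom.flat_algebraMap_iff.mpr inferInstance) q p hcomap
  haveI : IsNoetherianRing (Localization.AtPrime p) :=
    IsLocalization.isNoetherianRing p.primeCompl _ inferInstance
  haveI : IsNoetherianRing (Localization.AtPrime q) :=
    IsLocalization.isNoetherianRing q.primeCompl _ inferInstance
  have hmap : (maximalIdeal (Localization.AtPrime p)).map
      (algebraMap (Localization.AtPrime p) (Localization.AtPrime q)) =
      maximalIdeal (Localization.AtPrime q) := by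
    rw [← IsLocalization.AtPrime.map_eq_maximalIdeal p (Localization.AtPrime p),
      ← IsLocalization.AtPrime.map_eq_maximalIdeal q (Localization.AtPrime q), Ideal.map_map]
    have hcompeq : (algebraMap (Localization.AtPrime p) (Localization.AtPrime q)).comp
        (algebraMap R (Localization.AtPrime p)) =
        (algebraMap S (Localization.AtPrime q)).comp (algebraMap R S) := by
      ext r
      exact Localization.localRingHom_to_map p q (algebraMap R S) hcomap r
    rw [hcompeq, ← Ideal.map_map]
    apply le_antisymm (Ideal.map_mono hJq)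
    rw [Ideal.map_le_iff_le_comap]
    intro y hy
    rw [Ideal.mem_comap]
    have h6 : algebraMap S (Localization.AtPrime q) (y * x) ∈
        J.map (algebraMap S (Localization.AtPrime q)) :=
      Ideal.mem_map_of_mem _ ((hmem y).mp hy)
    rw [map_mul] at h6
    have hunit : IsUnit (algebraMap S (Localization.AtPrime q) x) :=
      IsLocalization.map_units (Localization.AtPrime q) (⟨x, hxq⟩ : q.primeCompl)
    exact (Ideal.mul_unit_mem_iff_mem _ hunit).mp h6
  exact (Groth.Agent.S9262.dvr_iff_of_flat hmap).mp ⟨inferInstance, inferInstance⟩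


/-- Let R be a Noetherian local ring, R^ its completion and p a prime with R_p a discrete valuation ring
and with R^/pR^ reduced (p analytically unramified: the completion of R/p, which is R^/pR^, is
reduced). Then the localization of R^ at any associated prime of R^/pR^ is a discrete valuation
ring. -/
theorem result
    (R : Type u) [CommRing R] [IsLocalRing R] [IsNoetherianRing R] (p : Ideal R) [p.IsPrime]
    [IsDomain (Localization.AtPrime p)] [IsDiscreteValuationRing (Localization.AtPrime p)]
    (hp : IsReduced (AdicCompletion (IsLocalRing.maximalIdeal R) R ⧸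
      p.map (algebraMap R (AdicCompletion (IsLocalRing.maximalIdeal R) R))))
    (q : Ideal (AdicCompletion (IsLocalRing.maximalIdeal R) R)) [q.IsPrime]
    (hq : q ∈ associatedPrimes (AdicCompletion (IsLocalRing.maximalIdeal R) R)
      (AdicCompletion (IsLocalRing.maximalIdeal R) R ⧸
        p.map (algebraMap R (AdicCompletion (IsLocalRing.maximalIdeal R) R)))) :
    ∃ _ : IsDomain (Localization.AtPrime q), IsDiscreteValuationRing (Localization.AtPrime q) := by
  haveI : IsNoetherianRing (AdicCompletion (IsLocalRing.maximalIdeal R) R) :=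
    Groth.Agent.Lib.AdicNoeth.isNoetherianRing_adicCompletion _
  haveI : Module.Flat R (AdicCompletion (IsLocalRing.maximalIdeal R) R) :=
    AdicCompletion.flat_of_isNoetherian (IsLocalRing.maximalIdeal R)
  exact dvr_of_assoc p hp q hq

end Groth.Agent.S9439
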