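import Groth.Statements.S9444
import Groth.Agent.S9443
import Groth.Agent.S2452
import Mathlib

set_option autoImplicit false
universe u
open CAlg

namespace Groth.Agent.S9444

section helpers

open Groth.Agent.Lib.MacLaneH44 Groth.Agent.Lib.MacLane4H44

/-- MacLane's condition holds over a perfect field. -/
lemma LD_of_perfect (p : ℕ) [hp : Fact p.Prime] (k K : Type u) [Field k] [Field K] [Algebra k K]
    [CharP k p] [PerfectRing k p] : LD p k K := by
  have hK : CharP K p := charP_of_injective_algebraMap (algebraMap k K).injective p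
  intro n s hs
  rw [Fintype.linearIndependent_iff] at hs ⊢
  intro c hc i
  have hd : ∀ j, ∃ d : k, d ^ p = c j := fun j => by
    obtain ⟨d, hd⟩ := (PerfectRing.bijective_frobenius (R := k) (p := p)).2 (c j)
    exact ⟨d, hd⟩
  choose d hd using hd
  have h1 : (∑ j, d j • s j) ^ p = 0 := by
    rw [sum_pow_char]
    rw [← hc]
    apply Finset.sum_congr rfl
    intro j _
    rw [Algebra.smul_def, mul_pow, ← map_pow, hd, ← Algebra.smul_def]
  have h2 : ∑ j, d j • s j = 0 := pow_eq_zero_iff (hp.out.ne_zero) |>.mp h1
  have h3 := hs d h2 i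
  rw [← hd, h3, zero_pow hp.out.ne_zero]

/-- existence of a coefficient field (as a ring section of the residue map). -/
lemma exists_section (R : Type u) [CommRing R] [IsLocalRing R]
    [IsAdicComplete (IsLocalRing.maximalIdeal R) R] (k₀ : Type u) [Field k₀] [Algebra k₀ R] :
    ∃ σ : IsLocalRing.ResidueField R →+* R, ∀ x, IsLocalRing.residue R (σ x) = x := by
  obtain h0 | ⟨p, hp, hchar⟩ := CharP.exists' k₀
  · have := isGeometricallyReduced_of_charZero k₀ (IsLocalRing.ResidueField R)
    obtain ⟨σ, hσ⟩ := Groth.Agent.S2452.result (k := k₀) (A := R)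
    exact ⟨σ.toRingHom, hσ⟩
  · have hpf : Fact p.Prime := hp
    let _ : Algebra (PF.{u} p) R := ((algebraMap k₀ R).comp (toField p k₀)).toAlgebra
    have hLD := LD_of_perfect p (PF.{u} p) (IsLocalRing.ResidueField R)
    have hgr : Algebra.IsGeometricallyReduced (PF.{u} p) (IsLocalRing.ResidueField R) :=
      (charP_main p (PF.{u} p) (IsLocalRing.ResidueField R)).1.mpr hLD
    obtain ⟨σ, hσ⟩ := Groth.Agent.S2452.result (k := PF.{u} p) (A := R)
    exact ⟨σ.toRingHom, hσ⟩

end helpers

/-- A complete regular local ring containing a field (that is, containing the prime field F_p or ℚ) is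
isomorphic to a power series ring in finitely many variables over its residue field (existence of an
isomorphism only). -/
theorem result (R : Type u)
    [CommRing R] [IsRegularLocalRing R] [IsAdicComplete (IsLocalRing.maximalIdeal R) R]
    (k₀ : Type u) [Field k₀] [Algebra k₀ R] :
    ∃ d : ℕ, Nonempty (R ≃+* MvPowerSeries (Fin d) (IsLocalRing.ResidueField R)) := by
  classical
  obtain ⟨σ, hσ⟩ := exists_section R k₀
  let algK : Algebra (IsLocalRing.ResidueField R) R := σ.toAlgebra
  have hk' : Function.Bijective (@algebraMap (IsLocalRing.ResidueField R) (IsLocalRing.ResidueField R) _ _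
      (IsLocalRing.ResidueField.algebra (R := R) (R₀ := IsLocalRing.ResidueField R))) := by
    have h1 : ∀ y, (@algebraMap (IsLocalRing.ResidueField R) (IsLocalRing.ResidueField R) _ _
      (IsLocalRing.ResidueField.algebra (R := R) (R₀ := IsLocalRing.ResidueField R))) y = y := fun y => hσ y
    exact ⟨fun a b h => by rw [h1, h1] at h; exact h, fun y => ⟨y, h1 y⟩⟩
  obtain ⟨d, ⟨e⟩⟩ := Groth.Agent.S9443.result R (IsLocalRing.ResidueField R) hk'
  exact ⟨d, ⟨e.toRingEquiv⟩⟩

end Groth.Agent.S9444
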