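import Groth.Statements.S9445
import Mathlib.RingTheory.Etale.Basic
import Mathlib.RingTheory.Kaehler.Basic

set_option autoImplicit false
universe u
open CAlg

namespace Groth.Agent.S9445

open TensorProduct

noncomputable section

variable (R : Type u) [CommRing R]
    (S : Type u) [CommRing S] [Algebra R S] (S' : Type u) [CommRing S'] [Algebra R S']
    [Algebra S S'] [IsScalarTower R S S']

/-- the map `S' ⊗ S → S' ⊗ S'`. -/
abbrev fmap : S' ⊗[R] S →ₐ[S'] S' ⊗[R] S' :=
  Algebra.TensorProduct.map (AlgHom.id S' S') (IsScalarTower.toAlgHom R S S')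

/-- the kernel of `S' ⊗ S → S'`. -/
abbrev II : Ideal (S' ⊗[R] S) :=
  (KaehlerDifferential.ideal R S').comap (fmap R S S').toRingHom

/-- multiplication `S' ⊗ S' → S'`. -/
abbrev μ : S' ⊗[R] S' →ₐ[R] S' := Algebra.TensorProduct.lmul' R

theorem mem_ideal_iff (y : S' ⊗[R] S') : y ∈ KaehlerDifferential.ideal R S' ↔ μ R S' y = 0 :=
  Iff.rfl

variable (k : ℕ)

/-- `(S' ⊗ S)/I^(k+1)`. -/
abbrev T := (S' ⊗[R] S) ⧸ (II R S S') ^ (k + 1)

/-- `(S' ⊗ S')/J'^(k+1)`. -/
abbrev T' := (S' ⊗[R] S') ⧸ (KaehlerDifferential.ideal R S') ^ (k + 1)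

/-- the map in question. -/
abbrev φ : T R S S' k →+* T' R S' k :=
  Ideal.quotientMap (KaehlerDifferential.ideal R S' ^ (k + 1)) (fmap R S S').toRingHom
    (Ideal.le_comap_pow (fmap R S S').toRingHom (K := KaehlerDifferential.ideal R S') (k + 1))

/-- `T → S'`. -/
def g₀ : T R S S' k →+* S' :=
  Ideal.Quotient.lift _ ((μ R S').toRingHom.comp (fmap R S S').toRingHom) (fun x hx => by
    have : x ∈ II R S S' := Ideal.pow_le_self (Nat.succ_ne_zero k) hx
    exact this)

theorem g₀_mk (x : S' ⊗[R] S) : g₀ R S S' k (Ideal.Quotient.mk _ x) = μ R S' (fmap R S S' x) := rfl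

theorem ker_g₀ : RingHom.ker (g₀ R S S' k) = (II R S S').map (Ideal.Quotient.mk _) := by
  apply le_antisymm
  · intro t ht
    obtain ⟨x, rfl⟩ := Ideal.Quotient.mk_surjective t
    exact Ideal.mem_map_of_mem _ ht
  · rw [Ideal.map_le_iff_le_comap]
    intro x hx
    exact hx

theorem isNilpotent_ker_g₀ : IsNilpotent (RingHom.ker (g₀ R S S' k)) := by
  refine ⟨k + 1, ?_⟩
  rw [ker_g₀, ← Ideal.map_pow, Ideal.zero_eq_bot, Ideal.map_quotient_self]

/-- `T' → S'`. -/
def q₀ : T' R S' k →+* S' :=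
  Ideal.Quotient.lift _ (μ R S').toRingHom (fun x hx => by
    have : x ∈ KaehlerDifferential.ideal R S' := Ideal.pow_le_self (Nat.succ_ne_zero k) hx
    exact this)

theorem q₀_mk (y : S' ⊗[R] S') : q₀ R S' k (Ideal.Quotient.mk _ y) = μ R S' y := rfl

theorem ker_q₀ : RingHom.ker (q₀ R S' k) =
    (KaehlerDifferential.ideal R S').map (Ideal.Quotient.mk _) := by
  apply le_antisymm
  · intro t ht
    obtain ⟨x, rfl⟩ := Ideal.Quotient.mk_surjective t
    exact Ideal.mem_map_of_mem _ ht
  · rw [Ideal.map_le_iff_le_comap]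
    intro x hx
    exact hx

theorem isNilpotent_ker_q₀ : IsNilpotent (RingHom.ker (q₀ R S' k)) := by
  refine ⟨k + 1, ?_⟩
  rw [ker_q₀, ← Ideal.map_pow, Ideal.zero_eq_bot, Ideal.map_quotient_self]

theorem q₀_φ (t : T R S S' k) : q₀ R S' k (φ R S S' k t) = g₀ R S S' k t := by
  obtain ⟨x, rfl⟩ := Ideal.Quotient.mk_surjective t
  rfl



/-- a copy of `T` carrying the `S`-algebra structure through the right factor. -/
def Tc : Type u := T R S S' k

instance : CommRing (Tc R S S' k) := inferInstanceAs (CommRing (T R S S' k))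

/-- identity. -/
def ofT : T R S S' k →+* Tc R S S' k := RingHom.id _

/-- identity. -/
def toT : Tc R S S' k →+* T R S S' k := RingHom.id _

theorem toT_ofT (t : T R S S' k) : toT R S S' k (ofT R S S' k t) = t := rfl

theorem ofT_toT (t : Tc R S S' k) : ofT R S S' k (toT R S S' k t) = t := rfl

/-- `[x]` in the copy. -/
def mkc : S' ⊗[R] S →+* Tc R S S' k := (ofT R S S' k).comp (Ideal.Quotient.mk _)

theorem toT_mkc (x : S' ⊗[R] S) : toT R S S' k (mkc R S S' k x) = Ideal.Quotient.mk _ x := rfl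

instance algTc : Algebra S (Tc R S S' k) :=
  ((mkc R S S' k).comp
    (Algebra.TensorProduct.includeRight (R := R) (A := S') (B := S)).toRingHom).toAlgebra

theorem algebraMap_Tc (s : S) :
    algebraMap S (Tc R S S' k) s = mkc R S S' k ((1 : S') ⊗ₜ[R] s) := rfl

instance algRTc : Algebra R (Tc R S S' k) :=
  ((algebraMap S (Tc R S S' k)).comp (algebraMap R S)).toAlgebra

instance : IsScalarTower R S (Tc R S S' k) := IsScalarTower.of_algebraMap_eq (fun _ => rfl)

theorem algebraMap_R_Tc (r : R) :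
    algebraMap R (Tc R S S' k) r = mkc R S S' k ((1 : S') ⊗ₜ[R] (algebraMap R S r)) := rfl

/-- a copy of `T'` carrying the `S`-algebra structure through the right factor. -/
def T'c : Type u := T' R S' k

instance : CommRing (T'c R S' k) := inferInstanceAs (CommRing (T' R S' k))

/-- identity. -/
def ofT' : T' R S' k →+* T'c R S' k := RingHom.id _

/-- identity. -/
def toT' : T'c R S' k →+* T' R S' k := RingHom.id _

/-- `[y]` in the copy. -/
def mkc' : S' ⊗[R] S' →+* T'c R S' k := (ofT' R S' k).comp (Ideal.Quotient.mk _)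

theorem toT'_mkc' (x : S' ⊗[R] S') : toT' R S' k (mkc' R S' k x) = Ideal.Quotient.mk _ x := rfl

instance algT'c : Algebra S (T'c R S' k) :=
  ((mkc' R S' k).comp
    ((Algebra.TensorProduct.includeRight (R := R) (A := S') (B := S')).toRingHom.comp
      (algebraMap S S'))).toAlgebra

omit [Algebra R S] [IsScalarTower R S S'] in
theorem algebraMap_T'c (s : S) :
    algebraMap S (T'c R S' k) s = mkc' R S' k ((1 : S') ⊗ₜ[R] (algebraMap S S' s)) := rfl

/-- `g₀` as an `S`-algebra map. -/
def g : Tc R S S' k →ₐ[S] S' :=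
  { (g₀ R S S' k).comp (toT R S S' k) with
    commutes' := fun s => by
      change g₀ R S S' k (toT R S S' k (algebraMap S (Tc R S S' k) s)) = _
      rw [algebraMap_Tc, toT_mkc, g₀_mk]
      simp }

theorem g_apply (t : Tc R S S' k) : g R S S' k t = g₀ R S S' k (toT R S S' k t) := rfl

theorem g_surjective : Function.Surjective (g R S S' k) := fun b =>
  ⟨mkc R S S' k (b ⊗ₜ[R] (1 : S)), by rw [g_apply, toT_mkc, g₀_mk]; simp⟩

theorem ker_g : RingHom.ker (g R S S' k : Tc R S S' k →+* S') = RingHom.ker (g₀ R S S' k) := rfl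

/-- `φ` as an `S`-algebra map. -/
def φS : Tc R S S' k →ₐ[S] T'c R S' k :=
  { ((ofT' R S' k).comp (φ R S S' k)).comp (toT R S S' k) with
    commutes' := fun s => by
      change ofT' R S' k (φ R S S' k (toT R S S' k (algebraMap S (Tc R S S' k) s))) = _
      rw [algebraMap_Tc, toT_mkc, algebraMap_T'c, Ideal.quotientMap_mk]
      simp [mkc'] }

theorem toT'_φS (t : Tc R S S' k) :
    toT' R S' k (φS R S S' k t) = φ R S S' k (toT R S S' k t) := rfl

/-- `b ↦ [1 ⊗ b]` as an `S`-algebra map. -/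
def inrS : S' →ₐ[S] T'c R S' k :=
  { (mkc' R S' k).comp
      (Algebra.TensorProduct.includeRight (R := R) (A := S') (B := S')).toRingHom with
    commutes' := fun _ => rfl }

omit [Algebra R S] [IsScalarTower R S S'] in
theorem toT'_inrS (b : S') :
    toT' R S' k (inrS R S S' k b) = Ideal.Quotient.mk _ ((1 : S') ⊗ₜ[R] b) := rfl

variable [Algebra.FormallyEtale S S']

/-- the lift `S' → T`. -/
def σ : S' →ₐ[S] Tc R S S' k :=
  Algebra.FormallySmooth.liftOfSurjective (AlgHom.id S S') (g R S S' k) (g_surjective R S S' k)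
    (isNilpotent_ker_g₀ R S S' k)

theorem g₀_σ (b : S') : g₀ R S S' k (toT R S S' k (σ R S S' k b)) = b :=
  Algebra.FormallySmooth.liftOfSurjective_apply (AlgHom.id S S') (g R S S' k)
    (g_surjective R S S' k) (isNilpotent_ker_g₀ R S S' k) b

theorem φ_σ (b : S') : φ R S S' k (toT R S S' k (σ R S S' k b)) =
    Ideal.Quotient.mk _ ((1 : S') ⊗ₜ[R] b) := by
  have := Algebra.FormallyUnramified.ext' ((q₀ R S' k).comp (toT' R S' k))
    (isNilpotent_ker_q₀ R S' k)
    ((φS R S S' k).comp (σ R S S' k)) (inrS R S S' k) (fun x => by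
      rw [AlgHom.comp_apply, RingHom.comp_apply, RingHom.comp_apply, toT'_φS, q₀_φ, g₀_σ,
        toT'_inrS, q₀_mk]
      simp)
  have h2 := AlgHom.congr_fun this b
  rw [← toT'_φS, ← toT'_inrS R S S' k b]
  exact congrArg (toT' R S' k) h2


omit [Algebra.FormallyEtale S S'] in
theorem mkc_algebraMap (r : R) :
    mkc R S S' k (algebraMap R S' r ⊗ₜ[R] (1 : S)) = algebraMap R (Tc R S S' k) r := by
  rw [algebraMap_R_Tc, Algebra.algebraMap_eq_smul_one r (A := S),
    Algebra.algebraMap_eq_smul_one r (A := S'), TensorProduct.smul_tmul]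

/-- `a ↦ [a ⊗ 1]`. -/
def ι₁ : S' →ₐ[R] Tc R S S' k :=
  { (mkc R S S' k).comp
      (Algebra.TensorProduct.includeLeft (R := R) (S := R) (A := S') (B := S)).toRingHom with
    commutes' := fun r => mkc_algebraMap R S S' k r }

omit [Algebra.FormallyEtale S S'] in
theorem ι₁_apply (a : S') : ι₁ R S S' k a = mkc R S S' k (a ⊗ₜ[R] (1 : S)) := rfl

/-- the inverse map before passing to the quotient. -/
def h : S' ⊗[R] S' →ₐ[R] Tc R S S' k :=
  Algebra.TensorProduct.productMap (ι₁ R S S' k) ((σ R S S' k).restrictScalars R)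

theorem h_tmul (a b : S') : h R S S' k (a ⊗ₜ[R] b) = ι₁ R S S' k a * σ R S S' k b := by
  rw [h, Algebra.TensorProduct.productMap_apply_tmul]
  rfl

theorem h_fmap (x : S' ⊗[R] S) : h R S S' k (fmap R S S' x) = mkc R S S' k x := by
  induction x using TensorProduct.induction_on with
  | zero => simp
  | tmul a s =>
    rw [Algebra.TensorProduct.map_tmul, h_tmul, AlgHom.id_apply, IsScalarTower.coe_toAlgHom',
      AlgHom.commutes, algebraMap_Tc, ι₁_apply, ← map_mul, Algebra.TensorProduct.tmul_mul_tmul,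
      mul_one, one_mul]
  | add x y hx hy => rw [map_add, map_add, hx, hy, map_add]

theorem g₀_h (y : S' ⊗[R] S') : g₀ R S S' k (toT R S S' k (h R S S' k y)) = μ R S' y := by
  induction y using TensorProduct.induction_on with
  | zero => simp
  | tmul a b =>
    rw [h_tmul, map_mul, map_mul, g₀_σ, ι₁_apply, toT_mkc, g₀_mk]
    simp
  | add x y hx hy => rw [map_add, map_add, map_add, hx, hy, map_add]

theorem h_mem (y : S' ⊗[R] S') (hy : y ∈ KaehlerDifferential.ideal R S' ^ (k + 1)) :
    toT R S S' k (h R S S' k y) = 0 := by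
  have h1 : (KaehlerDifferential.ideal R S').map
      ((toT R S S' k).comp (h R S S' k : S' ⊗[R] S' →+* Tc R S S' k)) ≤
      RingHom.ker (g₀ R S S' k) := by
    rw [Ideal.map_le_iff_le_comap]
    intro z hz
    rw [Ideal.mem_comap, RingHom.mem_ker]
    exact (g₀_h R S S' k z).trans hz
  have h2 := Ideal.pow_right_mono h1 (k + 1)
  rw [← Ideal.map_pow] at h2
  have h3 := h2 (Ideal.mem_map_of_mem _ hy)
  obtain ⟨n, hn⟩ := isNilpotent_ker_g₀ R S S' k
  have : RingHom.ker (g₀ R S S' k) ^ (k + 1) = ⊥ := by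
    rw [ker_g₀, ← Ideal.map_pow, Ideal.map_quotient_self]
  rw [this] at h3
  exact h3

/-- the inverse. -/
def hbar : T' R S' k →+* T R S S' k :=
  Ideal.Quotient.lift _ ((toT R S S' k).comp (h R S S' k : S' ⊗[R] S' →+* Tc R S S' k))
    (fun y hy => h_mem R S S' k y hy)

theorem hbar_mk (y : S' ⊗[R] S') :
    hbar R S S' k (Ideal.Quotient.mk _ y) = toT R S S' k (h R S S' k y) := rfl

theorem hbar_φ (t : T R S S' k) : hbar R S S' k (φ R S S' k t) = t := by
  obtain ⟨x, rfl⟩ := Ideal.Quotient.mk_surjective t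
  rw [Ideal.quotientMap_mk, hbar_mk]
  change toT R S S' k (h R S S' k (fmap R S S' x)) = _
  rw [h_fmap, toT_mkc]

theorem φ_h (y : S' ⊗[R] S') :
    φ R S S' k (toT R S S' k (h R S S' k y)) = Ideal.Quotient.mk _ y := by
  induction y using TensorProduct.induction_on with
  | zero => simp
  | tmul a b =>
    rw [h_tmul, map_mul, map_mul, φ_σ, ι₁_apply, toT_mkc, Ideal.quotientMap_mk, ← map_mul]
    change Ideal.Quotient.mk _ (fmap R S S' (a ⊗ₜ[R] (1 : S)) * _) = _
    rw [Algebra.TensorProduct.map_tmul, map_one, AlgHom.id_apply,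
      Algebra.TensorProduct.tmul_mul_tmul, mul_one, one_mul]
  | add x y hx hy => rw [map_add, map_add, map_add, hx, hy, map_add]

theorem φ_hbar (t : T' R S' k) : φ R S S' k (hbar R S S' k t) = t := by
  obtain ⟨y, rfl⟩ := Ideal.Quotient.mk_surjective t
  rw [hbar_mk, φ_h]

theorem φ_bijective : Function.Bijective (φ R S S' k) :=
  ⟨Function.LeftInverse.injective (hbar_φ R S S' k),
    Function.RightInverse.surjective (φ_hbar R S S' k)⟩

end


open TensorProduct in
/-- For ring maps R → S → S' with S → S' formally étale and k ≥ 0, let J' ⊆ S' ⊗_R S' be the kernel of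
multiplication and I ⊆ S' ⊗_R S its preimage under the map induced by S → S' (I is the kernel of S'
⊗_R S → S', and (S' ⊗_R S)/I^{k+1} is S' ⊗_S P^k_{S/R}); then (S' ⊗_R S)/I^{k+1} → (S' ⊗_R
S')/J'^{k+1} is bijective. (The consequence S' ⊗_S Ω_{S/R} ≅ Ω_{S'/R} is Mathlib's
KaehlerDifferential.isBaseChange_of_formallyEtale.) -/
theorem result (R : Type u) [CommRing R]
    (S : Type u) [CommRing S] [Algebra R S] (S' : Type u) [CommRing S'] [Algebra R S']
    [Algebra S S'] [IsScalarTower R S S'] [Algebra.FormallyEtale S S'] (k : ℕ) :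
    Function.Bijective (Ideal.quotientMap (KaehlerDifferential.ideal R S' ^ (k + 1))
      (Algebra.TensorProduct.map (AlgHom.id S' S') (IsScalarTower.toAlgHom R S S')).toRingHom
      (Ideal.le_comap_pow
        (Algebra.TensorProduct.map (AlgHom.id S' S') (IsScalarTower.toAlgHom R S S')).toRingHom
        (K := KaehlerDifferential.ideal R S') (k + 1))) := by
  exact φ_bijective R S S' k

end Groth.Agent.S9445
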