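import Groth.Statements.S9446
import Mathlib.RingTheory.Smooth.IntegralClosure
import Mathlib.RingTheory.Flat.EquationalCriterion
import Mathlib.RingTheory.Smooth.Flat

set_option autoImplicit false
universe u
open CAlg

namespace Groth.Agent.S9446

open TensorProduct MvPolynomial

/-- ind-smooth algebras are flat. -/
theorem flat_of_indSmooth (R : Type u) [CommRing R] (S : Type u) [CommRing S] [Algebra R S]
    (hS : Smoothing.IndSmooth R S) : Module.Flat R S := by
  rw [Module.Flat.iff_forall_isTrivialRelation]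
  intro l f x hfx
  let rel : MvPolynomial (Fin l) R := ∑ i, C (f i) * X i
  let A₁ := MvPolynomial (Fin l) R ⧸ Ideal.span {rel}
  have hfp : Algebra.FinitePresentation R A₁ :=
    Algebra.FinitePresentation.quotient (Submodule.fg_span_singleton rel)
  let φ : A₁ →ₐ[R] S := Ideal.Quotient.liftₐ _ (aeval x) (by
    intro a ha
    have h1 : Ideal.span {rel} ≤ RingHom.ker (aeval (R := R) x) := by
      rw [Ideal.span_le, Set.singleton_subset_iff]
      change aeval x rel = 0
      simp only [rel, map_sum, map_mul, aeval_C, aeval_X]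
      simpa [Algebra.smul_def] using hfx
    exact h1 ha)
  obtain ⟨T, _, _, hT, g, h, hgh⟩ := hS A₁ hfp φ
  have : Module.Flat R T := inferInstance
  let y : Fin l → T := fun i => g (Ideal.Quotient.mk _ (X i))
  have hy : ∑ i, f i • y i = 0 := by
    have : (Ideal.Quotient.mk (Ideal.span {rel}) rel : A₁) = 0 :=
      Ideal.Quotient.eq_zero_iff_mem.mpr (Ideal.subset_span rfl)
    have h2 := congrArg g this
    simp only [rel, map_sum, map_mul, map_zero] at h2
    rw [← h2]
    refine Finset.sum_congr rfl (fun i _ => ?_)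
    rw [Algebra.smul_def]
    congr 1
    exact (g.commutes (f i)).symm
  obtain ⟨k, a, z, hz1, hz2⟩ := Module.Flat.iff_forall_isTrivialRelation.mp ‹Module.Flat R T› hy
  refine ⟨k, a, fun j => h (z j), fun i => ?_, hz2⟩
  have : x i = h (y i) := by
    have := AlgHom.congr_fun hgh (Ideal.Quotient.mk _ (X i))
    simp only [AlgHom.comp_apply] at this
    rw [this]
    change _ = aeval x (X i)
    rw [aeval_X]
  rw [this, hz1 i, map_sum]
  refine Finset.sum_congr rfl (fun j _ => ?_)
  rw [map_smul]


/-- finitely presented approximation killing a given tensor. -/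
theorem fp_approx {R : Type u} [CommRing R] {S : Type u} [CommRing S] [Algebra R S]
    [Module.Flat R S] {B : Type u} [CommRing B] [Algebra R B] {σ : Type} [Finite σ]
    (φ₀ : MvPolynomial σ R →ₐ[R] S) (w : MvPolynomial σ R ⊗[R] B)
    (hw : Algebra.TensorProduct.map φ₀ (AlgHom.id R B) w = 0) :
    ∃ (A₁ : Type u) (_ : CommRing A₁) (_ : Algebra R A₁) (_ : Algebra.FinitePresentation R A₁)
      (π : MvPolynomial σ R →ₐ[R] A₁) (φ₁ : A₁ →ₐ[R] S),
      φ₁.comp π = φ₀ ∧ Algebra.TensorProduct.map π (AlgHom.id R B) w = 0 := by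
  obtain ⟨L, α, β, rfl⟩ := TensorProduct.exists_sum_tmul_eq w
  have h0 : ∑ l, β l ⊗ₜ[R] φ₀ (α l) = (0 : B ⊗[R] S) := by
    have := congrArg (TensorProduct.comm R S B) hw
    simpa using this
  have hinj : Function.Injective
      (LinearMap.rTensor S (Submodule.span R (Set.range β)).subtype) :=
    Module.Flat.rTensor_preserves_injective_linearMap _ Subtype.val_injective
  obtain ⟨k, a, y, hy1, hy2⟩ :=
    TensorProduct.vanishesTrivially_of_sum_tmul_eq_zero_of_rTensor_injective R hinj h0
  let gen : Fin L → MvPolynomial (σ ⊕ Fin k) R := fun l =>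
    rename Sum.inl (α l) - ∑ j, C (a l j) * X (Sum.inr j)
  let A₁ := MvPolynomial (σ ⊕ Fin k) R ⧸ Ideal.span (Set.range gen)
  have hfp : Algebra.FinitePresentation R A₁ :=
    Algebra.FinitePresentation.quotient (Submodule.fg_span (Set.finite_range gen))
  let π : MvPolynomial σ R →ₐ[R] A₁ := (Ideal.Quotient.mkₐ R _).comp (rename Sum.inl)
  let v : σ ⊕ Fin k → S := Sum.elim (fun i => φ₀ (X i)) y
  have hφ₀ : ∀ q : MvPolynomial σ R, aeval v (rename Sum.inl q) = φ₀ q := by
    intro q
    rw [aeval_rename]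
    have : (aeval (R := R) (v ∘ Sum.inl)) = φ₀ := by
      apply MvPolynomial.algHom_ext
      intro i
      simp [v]
    rw [this]
  have hgen : ∀ l, aeval v (gen l) = 0 := by
    intro l
    simp only [gen, map_sub, hφ₀, map_sum, map_mul, aeval_C, aeval_X, v, Sum.elim_inr]
    have h1 : φ₀ (α l) = ∑ j, a l j • y j := hy1 l
    rw [h1, sub_eq_zero]
    refine Finset.sum_congr rfl (fun j _ => ?_)
    rw [Algebra.smul_def]
  let φ₁ : A₁ →ₐ[R] S := Ideal.Quotient.liftₐ _ (aeval v) (by
    intro q hq
    have h1 : Ideal.span (Set.range gen) ≤ RingHom.ker (aeval (R := R) v) := by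
      rw [Ideal.span_le]
      rintro _ ⟨l, rfl⟩
      exact hgen l
    exact h1 hq)
  refine ⟨A₁, inferInstance, inferInstance, hfp, π, φ₁, ?_, ?_⟩
  · apply MvPolynomial.algHom_ext
    intro i
    change aeval v (rename Sum.inl (X i)) = φ₀ (X i)
    rw [hφ₀]
  · have hπ : ∀ l, π (α l) = ∑ j, a l j • (Ideal.Quotient.mk (Ideal.span (Set.range gen))
        (X (Sum.inr j)) : A₁) := by
      intro l
      have : (Ideal.Quotient.mk (Ideal.span (Set.range gen)) (gen l) : A₁) = 0 :=
        Ideal.Quotient.eq_zero_iff_mem.mpr (Ideal.subset_span ⟨l, rfl⟩)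
      simp only [gen, map_sub, map_sum, map_mul, sub_eq_zero] at this
      change Ideal.Quotient.mk _ (rename Sum.inl (α l)) = _
      rw [this]
      refine Finset.sum_congr rfl (fun j _ => ?_)
      rw [← map_mul, MvPolynomial.C_mul']
      exact map_smul (Ideal.Quotient.mkₐ R (Ideal.span (Set.range gen))) (a l j) (X (Sum.inr j))
    simp only [map_sum, Algebra.TensorProduct.map_tmul, AlgHom.id_apply, hπ,
      TensorProduct.sum_tmul, TensorProduct.smul_tmul]
    rw [Finset.sum_comm]
    refine Finset.sum_eq_zero (fun j _ => ?_)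
    rw [← TensorProduct.tmul_sum, hy2 j, TensorProduct.tmul_zero]


theorem map_eval₂ {R : Type u} [CommRing R] {B : Type u} [CommRing B] [Algebra R B]
    {A A' : Type u} [CommRing A] [CommRing A'] [Algebra R A] [Algebra R A'] (θ : A →ₐ[R] A')
    (q : Polynomial A) (z : A ⊗[R] B) :
    Algebra.TensorProduct.map θ (AlgHom.id R B)
        (Polynomial.eval₂ (algebraMap A (A ⊗[R] B)) z q) =
      Polynomial.eval₂ (algebraMap A' (A' ⊗[R] B))
        (Algebra.TensorProduct.map θ (AlgHom.id R B) z) (q.map (θ : A →+* A')) := by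
  rw [Polynomial.eval₂_map]
  have := Polynomial.hom_eval₂ q (algebraMap A (A ⊗[R] B))
    (Algebra.TensorProduct.map θ (AlgHom.id R B) : A ⊗[R] B →+* A' ⊗[R] B) z
  refine this.trans ?_
  congr 1


theorem exists_model {R : Type u} [CommRing R] {S : Type u} [CommRing S] [Algebra R S]
    [Module.Flat R S] {B : Type u} [CommRing B] [Algebra R B]
    (x : S ⊗[R] B) (hx : IsIntegral S x) :
    ∃ (A₁ : Type u) (_ : CommRing A₁) (_ : Algebra R A₁) (_ : Algebra.FinitePresentation R A₁)
      (φ₁ : A₁ →ₐ[R] S) (x₁ : A₁ ⊗[R] B), IsIntegral A₁ x₁ ∧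
        Algebra.TensorProduct.map φ₁ (AlgHom.id R B) x₁ = x := by
  obtain ⟨n, s, b, rfl⟩ := TensorProduct.exists_sum_tmul_eq x
  obtain ⟨p, hpm, hp⟩ := hx
  set d := p.natDegree with hd
  let A₀ := MvPolynomial (Fin n ⊕ Fin d) R
  let φ₀ : A₀ →ₐ[R] S := aeval (Sum.elim s (fun k : Fin d => p.coeff k))
  let x₀ : A₀ ⊗[R] B := ∑ i, (X (Sum.inl i) : A₀) ⊗ₜ[R] b i
  let p₀ : Polynomial A₀ :=
    Polynomial.X ^ d + ∑ k : Fin d, Polynomial.C (X (Sum.inr k) : A₀) * Polynomial.X ^ (k : ℕ)
  have hp₀m : p₀.Monic := Polynomial.monic_X_pow_add (Polynomial.degree_sum_fin_lt _)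
  have hp₀ : p₀.map (φ₀ : A₀ →+* S) = p := by
    conv_rhs => rw [hpm.as_sum]
    simp only [p₀, Polynomial.map_add, Polynomial.map_pow, Polynomial.map_X, Polynomial.map_sum,
      Polynomial.map_mul, Polynomial.map_C]
    congr 1
    rw [← Fin.sum_univ_eq_sum_range (fun i => Polynomial.C (p.coeff i) * Polynomial.X ^ i) d]
    refine Finset.sum_congr rfl (fun k _ => ?_)
    congr 2
    exact aeval_X (R := R) _ (Sum.inr k)
  have hx₀ : Algebra.TensorProduct.map φ₀ (AlgHom.id R B) x₀ = ∑ j, s j ⊗ₜ[R] b j := by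
    simp only [x₀, map_sum, Algebra.TensorProduct.map_tmul, AlgHom.id_apply]
    refine Finset.sum_congr rfl (fun i _ => ?_)
    congr 1
    exact aeval_X (R := R) _ (Sum.inl i)
  let w : A₀ ⊗[R] B := Polynomial.eval₂ (algebraMap A₀ (A₀ ⊗[R] B)) x₀ p₀
  have hw : Algebra.TensorProduct.map φ₀ (AlgHom.id R B) w = 0 := by
    rw [map_eval₂, hx₀, hp₀]
    exact hp
  obtain ⟨A₁, _, _, hfp, π, φ₁, hφπ, hπw⟩ := fp_approx φ₀ w hw
  refine ⟨A₁, inferInstance, inferInstance, hfp, φ₁,
    Algebra.TensorProduct.map π (AlgHom.id R B) x₀, ?_, ?_⟩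
  · refine ⟨p₀.map (π : A₀ →+* A₁), hp₀m.map _, ?_⟩
    rw [← map_eval₂]
    exact hπw
  · rw [← hx₀, ← hφπ]
    simp [x₀]

/-- the statement. -/
theorem main (R : Type u) [CommRing R] (S : Type u)
    [CommRing S] [Algebra R S] (hS : Smoothing.IndSmooth R S) (B : Type u) [CommRing B]
    [Algebra R B] : Function.Bijective (TensorProduct.toIntegralClosure R S B) := by
  have hflat : Module.Flat R S := flat_of_indSmooth R S hS
  refine ⟨TensorProduct.toIntegralClosure_injective_of_flat, ?_⟩
  rintro ⟨x, hx⟩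
  obtain ⟨A₁, _, _, hfp, φ₁, x₁, hx₁, rfl⟩ := exists_model x hx
  obtain ⟨T, _, _, hT, g, h, hgh⟩ := hS A₁ hfp φ₁
  have hxT : IsIntegral T (Algebra.TensorProduct.map g (AlgHom.id R B) x₁) :=
    IsIntegral.map_of_comp_eq (g : A₁ →+* T)
      (Algebra.TensorProduct.map g (AlgHom.id R B) : A₁ ⊗[R] B →+* T ⊗[R] B) (by
        ext a
        simp [Algebra.TensorProduct.algebraMap_apply]) hx₁
  obtain ⟨zT, hzT⟩ := (TensorProduct.toIntegralClosure_bijective_of_smooth (R := R) (S := T)
    (B := B)).2 ⟨_, hxT⟩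
  refine ⟨Algebra.TensorProduct.map h (AlgHom.id R (integralClosure R B)) zT, ?_⟩
  apply Subtype.ext
  have h1 := congrArg Subtype.val hzT
  change Algebra.TensorProduct.map (AlgHom.id T T) (integralClosure R B).val zT =
    Algebra.TensorProduct.map g (AlgHom.id R B) x₁ at h1
  change Algebra.TensorProduct.map (AlgHom.id S S) (integralClosure R B).val
    (Algebra.TensorProduct.map h (AlgHom.id R (integralClosure R B)) zT) =
    Algebra.TensorProduct.map φ₁ (AlgHom.id R B) x₁
  rw [← hgh]
  have h2 : ∀ t : A₁ ⊗[R] B, Algebra.TensorProduct.map (h.comp g) (AlgHom.id R B) t =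
      Algebra.TensorProduct.map h (AlgHom.id R B)
        (Algebra.TensorProduct.map g (AlgHom.id R B) t) := by
    intro t
    induction t using TensorProduct.induction_on with
    | zero => simp
    | tmul a b => simp
    | add a b ha hb => simp only [map_add, ha, hb]
  have h3 : ∀ t : T ⊗[R] integralClosure R B,
      Algebra.TensorProduct.map (AlgHom.id S S) (integralClosure R B).val
        (Algebra.TensorProduct.map h (AlgHom.id R (integralClosure R B)) t) =
      Algebra.TensorProduct.map h (AlgHom.id R B)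
        (Algebra.TensorProduct.map (AlgHom.id T T) (integralClosure R B).val t) := by
    intro t
    induction t using TensorProduct.induction_on with
    | zero => simp
    | tmul a b => simp
    | add a b ha hb => simp only [map_add, ha, hb]
  rw [h2, ← h1, h3]


/-- If S is ind-smooth over R (every R-algebra map into S from a finitely presented R-algebra factors
through a smooth R-algebra) then for every R-algebra B the canonical map S ⊗_R A → A', from the base
change of the integral closure A of R in B to the integral closure A' of S in S ⊗_R B, is bijective. -/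
theorem result (R : Type u) [CommRing R] (S : Type u)
    [CommRing S] [Algebra R S] (hS : Smoothing.IndSmooth R S) (B : Type u) [CommRing B]
    [Algebra R B] : Function.Bijective (TensorProduct.toIntegralClosure R S B) := by
  exact main R S hS B

end Groth.Agent.S9446
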