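import Groth.Statements.S9447
import Groth.Agent.S0585
import Mathlib.RingTheory.Etale.Descent

set_option autoImplicit false
universe u
open CAlg

namespace Groth.Agent.S9447

open TensorProduct Algebra in
/-- Formally smooth algebras descend along faithfully flat base change (no finiteness). -/
lemma formallySmooth_of_tensorProduct {R S : Type u} [CommRing R] [CommRing S] [Algebra R S]
    (T : Type u) [CommRing T] [Algebra R T] [Module.FaithfullyFlat R T]
    [FormallySmooth T (T ⊗[R] S)] : FormallySmooth R S := by
  rw [formallySmooth_iff]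
  constructor
  · let _ : Algebra T (S ⊗[R] T) := TensorProduct.rightAlgebra
    let e : S ⊗[R] T ≃ₐ[T] T ⊗[R] S :=
      .ofRingEquiv (f := Algebra.TensorProduct.comm R S T) <| by simp [RingHom.algebraMap_toAlgebra]
    have : FormallySmooth T (S ⊗[R] T) := .of_equiv e.symm
    let e' : (S ⊗[R] T) ⊗[S] Ω[S⁄R] ≃ₗ[S ⊗[R] T] Ω[S ⊗[R] T⁄T] :=
      KaehlerDifferential.tensorKaehlerEquiv R T S (S ⊗[R] T)
    have : Module.Projective (S ⊗[R] T) ((S ⊗[R] T) ⊗[S] Ω[S⁄R]) :=
      Module.Projective.of_equiv' e'.symm
    exact Groth.Agent.S0585.result S (S ⊗[R] T) Ω[S⁄R]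
  · have : Subsingleton (T ⊗[R] H1Cotangent R S) := (tensorH1CotangentOfFlat R S T).subsingleton
    exact Module.FaithfullyFlat.lTensor_reflects_triviality R T (H1Cotangent R S)

open TensorProduct in
/-- Formal smoothness descends along faithfully flat base change: for R → S arbitrary and R → R'
faithfully flat, the R-algebra S is formally smooth exactly when the R'-algebra R' ⊗_R S is formally
smooth. No finiteness hypothesis on S. -/
theorem result (R : Type u) [CommRing R]
    (S : Type u) [CommRing S] [Algebra R S] (R' : Type u) [CommRing R'] [Algebra R R']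
    [Module.FaithfullyFlat R R'] :
    Algebra.FormallySmooth R S ↔ Algebra.FormallySmooth R' (R' ⊗[R] S) := by
  constructor
  · intro h
    infer_instance
  · intro h
    exact formallySmooth_of_tensorProduct R'

end Groth.Agent.S9447
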