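import Groth.Statements.S9450
import Mathlib.RingTheory.Derivation.ToSquareZero
import Mathlib.RingTheory.Smooth.Basic

set_option autoImplicit false
universe u
open CAlg

namespace Groth.Agent.S9450

open TensorProduct

section

variable (A : Type u) [CommRing A] (B : Type u) [CommRing B] [Algebra A B]
  (C : Type u) [CommRing C] [Algebra B C] [Algebra A C] [IsScalarTower A B C]

/-- `A ⧸ I² → C` where `I = ker (A → C)`. -/
noncomputable def π₁ : (A ⧸ RingHom.ker (algebraMap A C) ^ 2) →ₐ[A] C :=
  Ideal.Quotient.liftₐ (RingHom.ker (algebraMap A C) ^ 2) (Algebra.ofId A C)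
    (fun _ ha => Ideal.pow_le_self two_ne_zero ha)

theorem π₁_mk (a : A) : π₁ A C (Ideal.Quotient.mk _ a) = algebraMap A C a := rfl

variable {A C} in
theorem π₁_surjective (hC : Function.Surjective (algebraMap A C)) :
    Function.Surjective (π₁ A C) := fun c => by
  obtain ⟨a, rfl⟩ := hC c
  exact ⟨Ideal.Quotient.mk _ a, rfl⟩

theorem ker_π₁ : RingHom.ker (π₁ A C) = (RingHom.ker (algebraMap A C)).cotangentIdeal := by
  apply le_antisymm
  · intro x hx
    obtain ⟨x, rfl⟩ := Ideal.Quotient.mk_surjective x
    exact ⟨x, hx, rfl⟩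
  · rintro _ ⟨x, hx, rfl⟩
    exact hx

theorem isNilpotent_ker_π₁ :
    IsNilpotent (RingHom.ker ((π₁ A C : (A ⧸ RingHom.ker (algebraMap A C) ^ 2) →ₐ[A] C) :
      (A ⧸ RingHom.ker (algebraMap A C) ^ 2) →+* C)) :=
  ⟨2, by
    change RingHom.ker (π₁ A C) ^ 2 = ⊥
    rw [ker_π₁, Ideal.cotangentIdeal_square]⟩

variable [Algebra.FormallySmooth A B]

/-- The lift `B → A ⧸ I²` given by formal smoothness. -/
noncomputable def σ (hC : Function.Surjective (algebraMap A C)) :
    B →ₐ[A] (A ⧸ RingHom.ker (algebraMap A C) ^ 2) :=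
  Algebra.FormallySmooth.liftOfSurjective (IsScalarTower.toAlgHom A B C) (π₁ A C)
    (π₁_surjective hC) (isNilpotent_ker_π₁ A C)

theorem π₁_σ (hC : Function.Surjective (algebraMap A C)) (b : B) :
    π₁ A C (σ A B C hC b) = algebraMap B C b :=
  Algebra.FormallySmooth.liftOfSurjective_apply _ _ _ _ b

theorem σ_mem (hC : Function.Surjective (algebraMap A C)) (x : B)
    (hx : x ∈ RingHom.ker (algebraMap B C)) :
    σ A B C hC x ∈ (RingHom.ker (algebraMap A C)).cotangentIdeal := by
  rw [← ker_π₁, RingHom.mem_ker, π₁_σ]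
  exact hx

/-- The restriction of `σ` to `J = ker (B → C)`, valued in `I/I²` seen inside `A ⧸ I²`. -/
noncomputable def σJ (hC : Function.Surjective (algebraMap A C)) :
    (RingHom.ker (algebraMap B C)) →ₗ[A] (RingHom.ker (algebraMap A C)).cotangentIdeal :=
  LinearMap.codRestrict ((RingHom.ker (algebraMap A C)).cotangentIdeal.restrictScalars A)
    ((σ A B C hC).toLinearMap.comp ((Submodule.subtype _).restrictScalars A))
    (fun x => σ_mem A B C hC x x.2)

theorem σJ_coe (hC : Function.Surjective (algebraMap A C)) (x : RingHom.ker (algebraMap B C)) :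
    ((σJ A B C hC x : (RingHom.ker (algebraMap A C)).cotangentIdeal) :
      A ⧸ RingHom.ker (algebraMap A C) ^ 2) = σ A B C hC x := rfl

theorem σJ_mul (hC : Function.Surjective (algebraMap A C)) (x y : RingHom.ker (algebraMap B C)) :
    σJ A B C hC (x * y) = 0 := by
  apply Subtype.ext
  rw [σJ_coe]
  change σ A B C hC ((x : B) * (y : B)) = 0
  rw [map_mul]
  have h := Ideal.mul_mem_mul (σ_mem A B C hC x x.2) (σ_mem A B C hC y y.2)
  rw [← pow_two, Ideal.cotangentIdeal_square] at h
  exact Ideal.mem_bot.mp h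

/-- The retraction `J/J² → I/I²`. -/
noncomputable def ρ (hC : Function.Surjective (algebraMap A C)) :
    (RingHom.ker (algebraMap B C)).Cotangent →ₗ[A] (RingHom.ker (algebraMap A C)).Cotangent :=
  Ideal.Cotangent.lift
    ((RingHom.ker (algebraMap A C)).cotangentEquivIdeal.symm.toLinearMap.comp (σJ A B C hC))
    (fun x y => by rw [LinearMap.comp_apply, σJ_mul, map_zero])

theorem ρ_toCotangent (hC : Function.Surjective (algebraMap A C))
    (x : RingHom.ker (algebraMap B C)) :
    ρ A B C hC (Ideal.toCotangent _ x) =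
      (RingHom.ker (algebraMap A C)).cotangentEquivIdeal.symm (σJ A B C hC x) := rfl

/-- The map `I/I² → J/J²`. -/
noncomputable abbrev α : (RingHom.ker (algebraMap A C)).Cotangent →ₗ[A]
    (RingHom.ker (algebraMap B C)).Cotangent :=
  Ideal.mapCotangent (RingHom.ker (algebraMap A C)) (RingHom.ker (algebraMap B C)) (Algebra.ofId A B)
    (le_of_eq (congrArg RingHom.ker (IsScalarTower.algebraMap_eq A B C)))

theorem ρ_comp_α (hC : Function.Surjective (algebraMap A C)) :
    ρ A B C hC ∘ₗ α A B C = LinearMap.id := by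
  apply LinearMap.ext
  intro x
  obtain ⟨⟨a, ha⟩, rfl⟩ := Ideal.toCotangent_surjective _ x
  rw [LinearMap.comp_apply, Ideal.mapCotangent_toCotangent, ρ_toCotangent, LinearMap.id_apply,
    ← Ideal.cotangentEquivIdeal_symm_apply _ a ha]
  congr 1
  apply Subtype.ext
  rw [σJ_coe]
  exact (σ A B C hC).commutes a


omit [Algebra.FormallySmooth A B] in
theorem algebraMap_BC_surjective (hC : Function.Surjective (algebraMap A C)) :
    Function.Surjective (algebraMap B C) := fun c => by
  obtain ⟨a, rfl⟩ := hC c
  exact ⟨algebraMap A B a, (IsScalarTower.algebraMap_apply A B C a).symm⟩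

omit [Algebra.FormallySmooth A B] in
theorem β_surjective (hC : Function.Surjective (algebraMap A C)) :
    Function.Surjective (KaehlerDifferential.kerCotangentToTensor A B C) := by
  have hBC := algebraMap_BC_surjective A B C hC
  have : Subsingleton (Ω[C⁄A]) := KaehlerDifferential.subsingleton_of_surjective A C hC
  rw [← LinearMap.range_eq_top, KaehlerDifferential.range_kerCotangentToTensor A B C hBC]
  ext x
  simp only [Submodule.restrictScalars_mem, LinearMap.mem_ker, Submodule.mem_top, iff_true]
  exact Subsingleton.elim _ _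

omit [Algebra.FormallySmooth A B] in
theorem I_sq_le : RingHom.ker (algebraMap A C) ^ 2 ≤
    (RingHom.ker (algebraMap B C) ^ 2).comap (Algebra.ofId A B) := by
  refine (Ideal.pow_right_mono (?_ : RingHom.ker (algebraMap A C) ≤
    (RingHom.ker (algebraMap B C)).comap (Algebra.ofId A B)) 2).trans
    (Ideal.le_comap_pow _ 2)
  intro a ha
  rw [Ideal.mem_comap, RingHom.mem_ker]
  change algebraMap B C (algebraMap A B a) = 0
  rw [← IsScalarTower.algebraMap_apply]
  exact ha

/-- `f₂ : B → A ⧸ I² → B ⧸ J²`. -/
noncomputable def f₂ (hC : Function.Surjective (algebraMap A C)) :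
    B →ₐ[A] (B ⧸ RingHom.ker (algebraMap B C) ^ 2) :=
  (Ideal.quotientMapₐ (RingHom.ker (algebraMap B C) ^ 2) (Algebra.ofId A B)
    (I_sq_le A B C)).comp (σ A B C hC)

theorem f₂_of_mk (hC : Function.Surjective (algebraMap A C)) (b : B) (a : A)
    (ha : Ideal.Quotient.mk _ a = σ A B C hC b) :
    f₂ A B C hC b = Ideal.Quotient.mk _ (algebraMap A B a) := by
  change Ideal.quotientMapₐ _ _ (I_sq_le A B C) (σ A B C hC b) = _
  rw [← ha]
  rfl

theorem π₂_f₂ (hC : Function.Surjective (algebraMap A C)) (b : B) :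
    π₁ B C (f₂ A B C hC b) = algebraMap B C b := by
  obtain ⟨a, ha⟩ := Ideal.Quotient.mk_surjective (σ A B C hC b)
  rw [f₂_of_mk A B C hC b a ha, π₁_mk, ← IsScalarTower.algebraMap_apply, ← π₁_mk, ha, π₁_σ]


theorem f₂_sub_mem (hC : Function.Surjective (algebraMap A C)) (b : B) :
    f₂ A B C hC b - algebraMap B (B ⧸ RingHom.ker (algebraMap B C) ^ 2) b ∈
      (RingHom.ker (algebraMap B C)).cotangentIdeal := by
  rw [← ker_π₁, RingHom.mem_ker, map_sub, π₂_f₂]
  change _ - π₁ B C (Ideal.Quotient.mk _ b) = 0
  rw [π₁_mk, sub_self]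

/-- The derivation `B → J/J²`, `b ↦ f₂ b - b`. -/
noncomputable def D₀ (hC : Function.Surjective (algebraMap A C)) :
    Derivation A B (RingHom.ker (algebraMap B C)).cotangentIdeal :=
  derivationToSquareZeroOfLift (RingHom.ker (algebraMap B C)).cotangentIdeal
    (Ideal.cotangentIdeal_square _) (f₂ A B C hC) (by
      apply AlgHom.ext
      intro b
      change Ideal.Quotient.mk _ (f₂ A B C hC b) = Ideal.Quotient.mk _ (algebraMap B _ b)
      rw [Ideal.Quotient.eq]
      exact f₂_sub_mem A B C hC b)

theorem D₀_apply (hC : Function.Surjective (algebraMap A C)) (b : B) :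
    (D₀ A B C hC b : B ⧸ RingHom.ker (algebraMap B C) ^ 2) =
      f₂ A B C hC b - algebraMap B _ b := rfl

omit [Algebra.FormallySmooth A B] in
theorem smul_cotangentIdeal (j : B) (hj : j ∈ RingHom.ker (algebraMap B C))
    (k : (RingHom.ker (algebraMap B C)).cotangentIdeal) : j • k = 0 := by
  apply Subtype.ext
  change j • (k : B ⧸ RingHom.ker (algebraMap B C) ^ 2) = 0
  rw [Algebra.smul_def]
  have h := Ideal.mul_mem_mul (I := (RingHom.ker (algebraMap B C)).cotangentIdeal)
    (J := (RingHom.ker (algebraMap B C)).cotangentIdeal)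
    (r := algebraMap B (B ⧸ RingHom.ker (algebraMap B C) ^ 2) j) (s := k) ⟨j, hj, rfl⟩ k.2
  rw [← pow_two, Ideal.cotangentIdeal_square] at h
  exact Ideal.mem_bot.mp h

theorem lift_eq_zero_of_mem (hC : Function.Surjective (algebraMap A C)) (ω : Ω[B⁄A])
    (hω : ω ∈ RingHom.ker (algebraMap B C) • (⊤ : Submodule B (Ω[B⁄A]))) :
    (D₀ A B C hC).liftKaehlerDifferential ω = 0 := by
  induction hω using Submodule.smul_induction_on' with
  | smul j hj ω _ => rw [map_smul, smul_cotangentIdeal B C j hj]
  | add x _ y _ hx hy => rw [map_add, hx, hy, add_zero]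


omit [Algebra.FormallySmooth A B] in
theorem mem_smul_top_of_one_tmul_eq_zero (hBC : Function.Surjective (algebraMap B C))
    {M : Type u} [AddCommGroup M] [Module B M] (m : M)
    (hm : (1 : C) ⊗ₜ[B] m = 0) :
    m ∈ RingHom.ker (algebraMap B C) • (⊤ : Submodule B M) := by
  let e : (B ⧸ RingHom.ker (algebraMap B C)) ≃ₐ[B] C :=
    Ideal.quotientKerAlgEquivOfSurjective (f := Algebra.ofId B C) hBC
  rw [← LinearMap.ker_tensorProductMk, LinearMap.mem_ker, TensorProduct.mk_apply]
  have h := congrArg (LinearMap.rTensor M e.symm.toLinearMap) hm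
  rw [LinearMap.rTensor_tmul, map_zero] at h
  rw [← h]
  congr 1
  exact (map_one e.symm).symm


theorem range_α (hC : Function.Surjective (algebraMap A C)) :
    LinearMap.range (α A B C) =
      LinearMap.ker ((KaehlerDifferential.kerCotangentToTensor A B C).restrictScalars A) := by
  apply le_antisymm
  · rintro _ ⟨x, rfl⟩
    obtain ⟨⟨a, ha⟩, rfl⟩ := Ideal.toCotangent_surjective _ x
    rw [LinearMap.mem_ker, LinearMap.restrictScalars_apply, Ideal.mapCotangent_toCotangent,
      KaehlerDifferential.kerCotangentToTensor_toCotangent]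
    change (1 : C) ⊗ₜ[B] KaehlerDifferential.D A B (algebraMap A B a) = 0
    rw [Derivation.map_algebraMap, TensorProduct.tmul_zero]
  · intro y hy
    obtain ⟨x, rfl⟩ := Ideal.toCotangent_surjective _ y
    rw [LinearMap.mem_ker, LinearMap.restrictScalars_apply,
      KaehlerDifferential.kerCotangentToTensor_toCotangent] at hy
    have h1 := mem_smul_top_of_one_tmul_eq_zero B C (algebraMap_BC_surjective A B C hC) _ hy
    have h2 := lift_eq_zero_of_mem A B C hC _ h1
    rw [Derivation.liftKaehlerDifferential_comp_D] at h2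
    have h3 : f₂ A B C hC x = algebraMap B _ (x : B) := by
      have := congrArg Subtype.val h2
      rw [D₀_apply] at this
      exact sub_eq_zero.mp this
    obtain ⟨a, ha, haσ⟩ := σ_mem A B C hC x x.2
    change Ideal.Quotient.mk _ a = σ A B C hC x at haσ
    rw [f₂_of_mk A B C hC x a haσ] at h3
    refine ⟨Ideal.toCotangent _ ⟨a, ha⟩, ?_⟩
    rw [Ideal.mapCotangent_toCotangent, Ideal.toCotangent_eq]
    rw [← Ideal.Quotient.eq]
    exact h3

end


/-- For ring maps A → B → C with A → C surjective and A → B formally smooth, writing I = ker(A → C) and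
J = ker(B → C), the sequence 0 → I/I² → J/J² → C ⊗_B Ω_{B/A} → 0 is split exact: the first map is
injective and admits an A-linear retraction, its range is the kernel of the second map (class of x ↦
1 ⊗ dx), and the second map is surjective. -/
theorem result (A : Type u) [CommRing A]
    (B : Type u) [CommRing B] [Algebra A B] [Algebra.FormallySmooth A B] (C : Type u) [CommRing C]
    [Algebra B C] [Algebra A C] [IsScalarTower A B C] (hC : Function.Surjective (algebraMap A C)) :
    Function.Injective (Ideal.mapCotangent (RingHom.ker (algebraMap A C))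
        (RingHom.ker (algebraMap B C)) (Algebra.ofId A B)
        (le_of_eq (congrArg RingHom.ker (IsScalarTower.algebraMap_eq A B C)))) ∧
      (∃ r : (RingHom.ker (algebraMap B C)).Cotangent →ₗ[A] (RingHom.ker (algebraMap A C)).Cotangent,
        r ∘ₗ (Ideal.mapCotangent (RingHom.ker (algebraMap A C)) (RingHom.ker (algebraMap B C))
          (Algebra.ofId A B)
          (le_of_eq (congrArg RingHom.ker (IsScalarTower.algebraMap_eq A B C)))) = LinearMap.id) ∧
      LinearMap.range (Ideal.mapCotangent (RingHom.ker (algebraMap A C))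
          (RingHom.ker (algebraMap B C)) (Algebra.ofId A B)
          (le_of_eq (congrArg RingHom.ker (IsScalarTower.algebraMap_eq A B C)))) =
        LinearMap.ker ((KaehlerDifferential.kerCotangentToTensor A B C).restrictScalars A) ∧
      Function.Surjective (KaehlerDifferential.kerCotangentToTensor A B C) := by
  refine ⟨?_, ⟨ρ A B C hC, ρ_comp_α A B C hC⟩, range_α A B C hC, β_surjective A B C hC⟩
  intro x y hxy
  have := congrArg (ρ A B C hC) hxy
  have h := ρ_comp_α A B C hC
  have hx := LinearMap.congr_fun h x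
  have hy := LinearMap.congr_fun h y
  rw [LinearMap.comp_apply, LinearMap.id_apply] at hx hy
  rw [← hx, ← hy]
  exact this

end Groth.Agent.S9450
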