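import Groth.Statements.S9451
import Mathlib.Algebra.Category.Ring.FinitePresentation
import Mathlib.RingTheory.Smooth.NoetherianDescent

set_option autoImplicit false
universe u
open CategoryTheory CategoryTheory.Limits TensorProduct
open CAlg

namespace Groth.Agent.S9451

/-- ring homs out of `ULift ℤ` are unique. -/
theorem ulift_int_hom_ext {X : Type u} [Ring X] (f g : ULift.{u} ℤ →+* X) : f = g := by
  have h : f.comp (ULift.ringEquiv.symm : ℤ ≃+* ULift.{u} ℤ).toRingHom =
      g.comp (ULift.ringEquiv.symm : ℤ ≃+* ULift.{u} ℤ).toRingHom := RingHom.ext_int _ _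
  ext x
  exact RingHom.congr_fun h x.down

/-- a finitely generated ring maps to a filtered colimit through a stage. -/
theorem exists_factor {I : Type u} [SmallCategory I] [IsFiltered I]
    (D : I ⥤ CommRingCat.{u}) (c : Cocone D) (hc : IsColimit c)
    (S : Type u) [CommRing S] [Algebra.FiniteType ℤ S] (g : S →+* c.pt) :
    ∃ (i : I) (g' : S →+* D.obj i), (c.ι.app i).hom.comp g' = g := by
  let Z : CommRingCat.{u} := CommRingCat.of (ULift.{u} ℤ)
  let α : (Functor.const I).obj Z ⟶ D :=
    { app := fun i => CommRingCat.ofHom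
        ((Int.castRingHom (D.obj i)).comp (ULift.ringEquiv : ULift.{u} ℤ ≃+* ℤ).toRingHom)
      naturality := fun i j φ => by
        ext1
        exact ulift_int_hom_ext _ _ }
  let f : Z ⟶ CommRingCat.of S := CommRingCat.ofHom
    ((Int.castRingHom S).comp (ULift.ringEquiv : ULift.{u} ℤ ≃+* ℤ).toRingHom)
  have hf : f.hom.FinitePresentation := by
    let _ : Algebra (ULift.{u} ℤ) S := f.hom.toAlgebra
    have : Algebra.FinitePresentation ℤ S :=
      (Algebra.FinitePresentation.of_finiteType).mp inferInstance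
    have : Algebra.FiniteType ℤ (ULift.{u} ℤ) :=
      Algebra.FiniteType.of_surjective (Algebra.ofId ℤ (ULift.{u} ℤ))
        (fun x => ⟨x.down, by ext; simp⟩)
    have h1 : algebraMap ℤ S = (algebraMap (ULift.{u} ℤ) S).comp (algebraMap ℤ (ULift.{u} ℤ)) :=
      RingHom.ext_int _ _
    have := IsScalarTower.of_algebraMap_eq (R := ℤ) (S := ULift.{u} ℤ) (A := S)
        (fun n => RingHom.congr_fun h1 n)
    exact Algebra.FinitePresentation.of_restrict_scalars_finitePresentation ℤ (ULift.{u} ℤ) S
  obtain ⟨i, g', -, hg'⟩ := RingHom.EssFiniteType.exists_eq_comp_ι_app_of_isColimit Z D α f c hc hf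
    (CommRingCat.ofHom g) (fun i => by ext1; exact ulift_int_hom_ext _ _)
  refine ⟨i, g'.hom, ?_⟩
  have := congrArg CommRingCat.Hom.hom hg'
  simpa using this.symm



/-- Let (A_i) be a filtered system of rings with colimit A and B a smooth A-algebra. Then some stage A_i
carries a smooth A_i-algebra B_i with B isomorphic to A ⊗_{A_i} B_i as A-algebras (the base change
along the colimit map A_i → A; existence of an isomorphism). -/
theorem result {I : Type u} [SmallCategory I] [IsFiltered I]
    (D : I ⥤ CommRingCat.{u}) (c : Cocone D) (hc : IsColimit c) (B : Type u) [CommRing B]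
    [Algebra c.pt B] [Algebra.Smooth c.pt B] :
    ∃ (i : I) (Bi : Type u) (_ : CommRing Bi) (_ : Algebra (D.obj i) Bi),
      Algebra.Smooth (D.obj i) Bi ∧
      (letI : Algebra (D.obj i) c.pt := (c.ι.app i).hom.toAlgebra
       Nonempty (B ≃ₐ[c.pt] (c.pt ⊗[D.obj i] Bi))) := by
  obtain ⟨A₀, B₀, _, _, hfg, hsm, ⟨e⟩⟩ := Algebra.Smooth.exists_subalgebra_fg ℤ c.pt B
  have : Algebra.FiniteType ℤ A₀ := (Subalgebra.fg_iff_finiteType A₀).mp hfg
  obtain ⟨i, g', hg'⟩ := exists_factor D c hc A₀ (algebraMap A₀ c.pt)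
  letI : Algebra A₀ (D.obj i) := g'.toAlgebra
  letI : Algebra (D.obj i) c.pt := (c.ι.app i).hom.toAlgebra
  haveI : IsScalarTower A₀ (D.obj i) c.pt := IsScalarTower.of_algebraMap_eq (fun x =>
    (RingHom.congr_fun hg' x).symm)
  refine ⟨i, (D.obj i) ⊗[A₀] B₀, inferInstance, inferInstance, inferInstance, ?_⟩
  exact ⟨e.trans (Algebra.TensorProduct.cancelBaseChange A₀ (D.obj i) c.pt c.pt B₀).symm⟩

end Groth.Agent.S9451
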