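import Groth.Statements.S9454
import Groth.Agent.S9453
-- import your own Groth.Agent.* helpers here

set_option autoImplicit false
universe u
open CAlg

namespace Groth.Agent.S9454

open TensorProduct

/-- The covering predicate over a set `V` of primes of `R`. -/
def Cov (R : Type u) [CommRing R] (S : Type u) [CommRing S] [Algebra R S]
    (V : Set (Ideal R)) : Prop :=
  ∃ (S' : Type u) (_ : CommRing S') (_ : Algebra R S'),
    Module.Finite R S' ∧ Algebra.FinitePresentation R S' ∧ Module.FaithfullyFlat R S' ∧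
      ∀ (q' : Ideal S') [q'.IsPrime], q'.under R ∈ V → ∃ (g' : S') (_ : g' ∉ q'),
        Nonempty (S →ₐ[R] Localization.Away g')

variable (R : Type u) [CommRing R] (S : Type u) [CommRing S] [Algebra R S]

lemma cov_empty : Cov R S ∅ :=
  ⟨R, inferInstance, inferInstance, inferInstance, inferInstance, inferInstance,
    fun _ _ h => (Set.notMem_empty _ h).elim⟩

variable {R S}

lemma cov_mono {V W : Set (Ideal R)} (h : V ⊆ W) (hW : Cov R S W) : Cov R S V := by
  obtain ⟨S', i1, i2, h1, h2, h3, h4⟩ := hW
  exact ⟨S', i1, i2, h1, h2, h3, fun q' _ hq' => h4 q' (h hq')⟩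

lemma cov_union {V W : Set (Ideal R)} (hV : Cov R S V) (hW : Cov R S W) : Cov R S (V ∪ W) := by
  obtain ⟨S₁, _, _, h1, h2, h3, h4⟩ := hV
  obtain ⟨S₂, _, _, k1, k2, k3, k4⟩ := hW
  refine ⟨S₁ ⊗[R] S₂, inferInstance, inferInstance, inferInstance, ?_, ?_, ?_⟩
  · haveI : Algebra.FinitePresentation S₁ (S₁ ⊗[R] S₂) := inferInstance
    exact Algebra.FinitePresentation.trans R S₁ (S₁ ⊗[R] S₂)
  · haveI : Module.FaithfullyFlat S₁ (S₁ ⊗[R] S₂) := inferInstance
    exact Module.FaithfullyFlat.trans R S₁ (S₁ ⊗[R] S₂)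
  · intro q' _ hq'
    rcases hq' with hq' | hq'
    · -- use the left factor
      let ι : S₁ →ₐ[R] S₁ ⊗[R] S₂ := Algebra.TensorProduct.includeLeft
      haveI : (q'.comap ι).IsPrime := Ideal.comap_isPrime _ _
      have hu : (q'.comap ι).under R = q'.under R := by
        ext x
        simp only [Ideal.under, Ideal.mem_comap, AlgHom.commutes]
      obtain ⟨g, hg, ⟨φ⟩⟩ := h4 (q'.comap ι) (hu ▸ hq')
      exact ⟨ι g, hg, ⟨(Localization.awayMapₐ ι g).comp φ⟩⟩
    · let ι : S₂ →ₐ[R] S₁ ⊗[R] S₂ := Algebra.TensorProduct.includeRight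
      haveI : (q'.comap ι).IsPrime := Ideal.comap_isPrime _ _
      have hu : (q'.comap ι).under R = q'.under R := by
        ext x
        simp only [Ideal.under, Ideal.mem_comap, AlgHom.commutes]
      obtain ⟨g, hg, ⟨φ⟩⟩ := k4 (q'.comap ι) (hu ▸ hq')
      exact ⟨ι g, hg, ⟨(Localization.awayMapₐ ι g).comp φ⟩⟩

/-- The image in `Spec R` of the basic open `D(f)` of `Spec S`. -/
def imageBasic (R : Type u) [CommRing R] {S : Type u} [CommRing S] [Algebra R S] (f : S) :
    Set (Ideal R) :=
  {p | ∃ (Q : Ideal S), Q.IsPrime ∧ f ∉ Q ∧ Q.under R = p}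

lemma cov_imageBasic (f : S) [Algebra.IsStandardEtale R (Localization.Away f)] :
    Cov R S (imageBasic R f) := by
  obtain ⟨S', _, _, h1, h2, h3, h4, h5⟩ := Groth.Agent.S9453.result R (Localization.Away f)
  haveI : Module.FaithfullyFlat R S' := Module.FaithfullyFlat.of_comap_surjective h4
  refine ⟨S', inferInstance, inferInstance, h1, h2, inferInstance, ?_⟩
  intro q' _ hq'
  obtain ⟨Q, hQ, hfQ, hQu⟩ := hq'
  have hdisj : Disjoint (Submonoid.powers f : Set S) (Q : Set S) :=
    (Ideal.disjoint_powers_iff_notMem_of_isPrime _).mpr hfQ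
  haveI : (Q.map (algebraMap S (Localization.Away f))).IsPrime :=
    IsLocalization.isPrime_of_isPrime_disjoint (.powers f) _ _ hQ hdisj
  have hc : (Q.map (algebraMap S (Localization.Away f))).comap (algebraMap S (Localization.Away f))
      = Q := IsLocalization.comap_map_of_isPrime_disjoint (.powers f) _ hQ hdisj
  have hu : (Q.map (algebraMap S (Localization.Away f))).under R = Q.under R := by
    conv_rhs => rw [← hc]
    ext x
    simp only [Ideal.under, Ideal.mem_comap, ← IsScalarTower.algebraMap_apply]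
  obtain ⟨g', hg', φ, -⟩ := h5 (Q.map (algebraMap S (Localization.Away f))) q'
    (by rw [hu, hQu])
  exact ⟨g', hg', ⟨φ.comp (IsScalarTower.toAlgHom R S (Localization.Away f))⟩⟩

lemma cov_finset (F : Finset S)
    (hF : ∀ f ∈ F, Algebra.IsStandardEtale R (Localization.Away f)) :
    Cov R S (⋃ f ∈ F, imageBasic R f) := by
  classical
  induction F using Finset.induction_on with
  | empty => simpa using cov_empty R S
  | insert a F ha ih =>
    haveI := hF a (Finset.mem_insert_self a F)
    have h1 := cov_imageBasic (R := R) a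
    have h2 := ih (fun f hf => hF f (Finset.mem_insert_of_mem hf))
    refine cov_mono ?_ (cov_union h1 h2)
    intro p hp
    simp only [Finset.mem_insert, Set.mem_iUnion, exists_prop] at hp
    obtain ⟨f, hf | hf, hpf⟩ := hp
    · exact Or.inl (hf ▸ hpf)
    · exact Or.inr (by simp only [Set.mem_iUnion, exists_prop]; exact ⟨f, hf, hpf⟩)

/-- For an étale ring map R → S which is surjective on spectra there is a finite, finitely presented,
flat R-algebra S' with Spec S' → Spec R surjective such that, Zariski locally on S', the structure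
map factors through S: every prime q' of S' has some g' ∉ q' and an R-algebra map S → S'_{g'}. -/
theorem result (R : Type u) [CommRing R]
    (S : Type u) [CommRing S] [Algebra R S] [Algebra.Etale R S]
    (hs : Function.Surjective (PrimeSpectrum.comap (algebraMap R S))) :
    ∃ (S' : Type u) (_ : CommRing S') (_ : Algebra R S'),
      Module.Finite R S' ∧ Algebra.FinitePresentation R S' ∧ Module.Flat R S' ∧
        Function.Surjective (PrimeSpectrum.comap (algebraMap R S')) ∧
        ∀ (q' : Ideal S') [q'.IsPrime], ∃ (g' : S') (_ : g' ∉ q'),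
          Nonempty (S →ₐ[R] Localization.Away g') := by
  classical
  -- the set of `f` with `S_f` standard étale generates the unit ideal
  let T : Set S := {f | Algebra.IsStandardEtale R (Localization.Away f)}
  have hT : Ideal.span T = ⊤ := by
    by_contra hne
    obtain ⟨M, hM, hle⟩ := Ideal.exists_le_maximal _ hne
    haveI := hM.isPrime
    obtain ⟨f, hfM, hf⟩ := Algebra.IsEtaleAt.exists_isStandardEtale (R := R) M
    exact hfM (hle (Ideal.subset_span hf))
  obtain ⟨F, hFT, hF⟩ := (Ideal.span_eq_top_iff_finite T).mp hT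
  have hcov := cov_finset (R := R) F (fun f hf => hFT hf)
  obtain ⟨S', i1, i2, h1, h2, h3, h4⟩ := hcov
  refine ⟨S', i1, i2, h1, h2, inferInstance, PrimeSpectrum.comap_surjective_of_faithfullyFlat, ?_⟩
  intro q' _
  apply h4 q'
  -- `q'.under R` is in the image of some `D(f)`
  haveI : (q'.under R).IsPrime := Ideal.comap_isPrime _ _
  obtain ⟨Q, hQ⟩ := hs ⟨q'.under R, inferInstance⟩
  have hQ' : Q.asIdeal.under R = q'.under R := congrArg PrimeSpectrum.asIdeal hQ
  have : ∃ f ∈ F, f ∉ Q.asIdeal := by
    by_contra hcon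
    push Not at hcon
    have : Ideal.span (F : Set S) ≤ Q.asIdeal := Ideal.span_le.mpr hcon
    rw [hF] at this
    exact Q.isPrime.ne_top (top_le_iff.mp this)
  obtain ⟨f, hfF, hfQ⟩ := this
  simp only [Set.mem_iUnion, exists_prop]
  exact ⟨f, hfF, Q.asIdeal, Q.isPrime, hfQ, hQ'⟩

end Groth.Agent.S9454
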