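import Groth.Statements.S9455
import Groth.Agent.Lib.CohenRing
import Mathlib.RingTheory.Smooth.Basic

set_option autoImplicit false
universe u
open CAlg

namespace Groth.Agent.S9455

open Groth.Agent.Lib.CohenRing Groth.Agent.Lib.CohenSmooth

/-- If Λ is a Cohen ring (a complete discrete valuation ring with maximal ideal generated by a prime
number p) then Λ/p^nΛ is formally smooth over ℤ/p^nℤ for every n ≥ 1; the ℤ/p^nℤ-algebra structure
on Λ/p^nΛ is the unique one and is taken as a hypothesis. -/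
theorem result (Λ : Type u) [CommRing Λ] [IsDomain Λ]
    [IsDiscreteValuationRing Λ] [IsAdicComplete (IsLocalRing.maximalIdeal Λ) Λ] (p : ℕ)
    (hp : p.Prime) (hm : IsLocalRing.maximalIdeal Λ = Ideal.span {(p : Λ)}) (n : ℕ) (hn : 1 ≤ n)
    [Algebra (ZMod (p ^ n)) (Λ ⧸ Ideal.span {((p : Λ) ^ n)})] :
    Algebra.FormallySmooth (ZMod (p ^ n)) (Λ ⧸ Ideal.span {((p : Λ) ^ n)}) := by
  apply Algebra.FormallySmooth.of_comp_surjective
  intro B _ _ I hI ubar
  -- `p ^ n = 0` in `B`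
  have hpB : ((p : B) ^ n) = 0 := by
    have h1 : algebraMap (ZMod (p ^ n)) B ((p ^ n : ℕ) : ZMod (p ^ n)) = 0 := by
      rw [ZMod.natCast_self, map_zero]
    rwa [map_natCast, Nat.cast_pow] at h1
  let algΛ : Algebra ZU.{u} Λ := zuAlgebra Λ
  let algB : Algebra ZU.{u} B := zuAlgebra B
  have hflat : Module.Flat ZU.{u} Λ := flat_ulift_int hp hm
  have hK := liftKilled_ulift_int (W := Λ) hp hm
  let u₀ : Λ →ₐ[ZU.{u}] B ⧸ I := toZAlgHom (ubar.toRingHom.comp (Ideal.Quotient.mk _))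
  have hu₀ : ∀ x, u₀ x = ubar (Ideal.Quotient.mk _ x) := fun x => rfl
  have hkill : ∀ a ∈ (Ideal.span {((p : ℕ) : ZU.{u})}) ^ n, ∀ j ∈ I, algebraMap ZU.{u} B a * j = 0 := by
    intro a ha j _
    rw [Ideal.span_singleton_pow, Ideal.mem_span_singleton] at ha
    obtain ⟨c, rfl⟩ := ha
    rw [map_mul, map_pow, map_natCast, hpB, zero_mul, zero_mul]
  obtain ⟨v, hv⟩ := exists_lift_of_pow_smul_eq_zero hK n I hI hkill u₀
  have hvx : ∀ x, Ideal.Quotient.mk I (v x) = ubar (Ideal.Quotient.mk _ x) := fun x =>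
    AlgHom.congr_fun hv x
  have hvker : ∀ x ∈ Ideal.span {((p : Λ) ^ n)}, v.toRingHom x = 0 := by
    intro x hx
    obtain ⟨c, rfl⟩ := Ideal.mem_span_singleton.mp hx
    show v ((p : Λ) ^ n * c) = 0
    rw [map_mul, map_pow, map_natCast, hpB, zero_mul]
  let vbar₀ : Λ ⧸ Ideal.span {((p : Λ) ^ n)} →+* B := Ideal.Quotient.lift _ v.toRingHom hvker
  have hvbar₀ : ∀ x, vbar₀ (Ideal.Quotient.mk _ x) = v x := fun x => rfl
  let vbar : Λ ⧸ Ideal.span {((p : Λ) ^ n)} →ₐ[ZMod (p ^ n)] B :=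
    { vbar₀ with
      commutes' := fun r => RingHom.congr_fun (Subsingleton.elim
        (vbar₀.comp (algebraMap (ZMod (p ^ n)) (Λ ⧸ Ideal.span {((p : Λ) ^ n)})))
        (algebraMap (ZMod (p ^ n)) B)) r }
  refine ⟨vbar, AlgHom.ext fun y => ?_⟩
  obtain ⟨x, rfl⟩ := Ideal.Quotient.mk_surjective y
  show Ideal.Quotient.mk I (vbar₀ (Ideal.Quotient.mk _ x)) = ubar (Ideal.Quotient.mk _ x)
  rw [hvbar₀, hvx]

end Groth.Agent.S9455
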