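import Groth.Statements.S9457
import Groth.Agent.Lib.H56QFSplit

set_option autoImplicit false
universe u
open CAlg

namespace Groth.Agent.S9457

open TensorProduct in
/-- For a finite type ring map R → S and a prime p of R there are an étale R-algebra R', a prime p' of
R' over p with trivial residue field extension κ(p) = κ(p') (the image of R generates κ(p') as a
field), and a decomposition R' ⊗_R S ≅ A_1 × ⋯ × A_n × B of R'-algebras in which every A_i is finite
over R' with exactly one prime lying over p' and R' → B is quasi-finite at no prime of B lying over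
p'. -/
theorem result (R : Type u) [CommRing R]
    (S : Type u) [CommRing S] [Algebra R S] [Algebra.FiniteType R S] (p : Ideal R) [p.IsPrime] :
    ∃ (R' : Type u) (_ : CommRing R') (_ : Algebra R R') (_ : Algebra.Etale R R') (p' : Ideal R')
      (_ : p'.IsPrime) (_ : p'.LiesOver p) (n : ℕ) (A : Fin n → Type u) (_ : ∀ i, CommRing (A i))
      (_ : ∀ i, Algebra R' (A i)) (B : Type u) (_ : CommRing B) (_ : Algebra R' B),
      Subfield.closure (Set.range (algebraMap R p'.ResidueField)) = ⊤ ∧
      Nonempty ((R' ⊗[R] S) ≃ₐ[R'] ((∀ i, A i) × B)) ∧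
        (∀ i, Module.Finite R' (A i) ∧
          ∃! r : Ideal (A i), r.IsPrime ∧ r.comap (algebraMap R' (A i)) = p') ∧
        ∀ (q : Ideal B) [q.IsPrime], q.comap (algebraMap R' B) = p' →
          ¬ Algebra.QuasiFiniteAt R' q := by
  classical
  obtain ⟨R1, _, _, _, P1, _, _, A, B, _, _, _, _, hκ1, ⟨iso0⟩, hfinA, hB⟩ :=
    Groth.Agent.Lib.H56QFSplit.exists_split_aux _ R S p rfl
  have hftB : Algebra.FiniteType R1 B :=
    Algebra.FiniteType.of_surjective ((AlgHom.snd R1 A B).comp iso0.toAlgHom)
      (Prod.snd_surjective.comp iso0.surjective)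
  obtain ⟨R2, _, _, _, Q, _, _, n, e, he, P', _, _, hκ2, hP', H⟩ :=
    Algebra.exists_etale_completeOrthogonalIdempotents_forall_liesOver_eq (R := R1) (S := A) P1
  let : Algebra R R2 := .compHom _ (algebraMap R R1)
  have : IsScalarTower R R1 R2 := .of_algebraMap_eq' rfl
  have hQp : Q.LiesOver p := .trans _ P1 _
  have hκ : Function.Bijective (Ideal.ResidueField.mapₐ p Q (Algebra.ofId _ _)
      (Q.over_def p)) := by
    convert hκ2.comp hκ1
    rw [← @AlgHom.coe_restrictScalars' R R1, ← AlgHom.coe_comp]; congr 1; ext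
  -- the splitting of `R2 ⊗ A`
  have hbij : Function.Bijective ((AlgHom.prod
      (Pi.algHom R2 (fun i : Fin n => (R2 ⊗[R1] A) ⧸ Ideal.span {1 - e i.castSucc})
        (fun i => Ideal.Quotient.mkₐ R2 (Ideal.span {1 - e i.castSucc})))
      (Ideal.Quotient.mkₐ R2 (Ideal.span {1 - e (Fin.last n)}))) :
      (R2 ⊗[R1] A) →ₐ[R2] ((∀ i : Fin n, (R2 ⊗[R1] A) ⧸ Ideal.span {1 - e i.castSucc}) ×
        ((R2 ⊗[R1] A) ⧸ Ideal.span {1 - e (Fin.last n)}))) := by
    have hpi := he.bijective_pi
    constructor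
    · intro x y hxy
      apply hpi.1
      funext j
      refine Fin.lastCases ?_ (fun i => ?_) j
      · exact congrArg Prod.snd hxy
      · exact congrFun (congrArg Prod.fst hxy) i
    · rintro ⟨a, b⟩
      obtain ⟨x, hx⟩ := hpi.2 (Fin.lastCases (motive := fun j =>
        (R2 ⊗[R1] A) ⧸ Ideal.span {1 - e j}) b a)
      refine ⟨x, Prod.ext (funext fun i => ?_) ?_⟩
      · have := congrFun hx i.castSucc
        rw [Fin.lastCases_castSucc] at this
        exact this
      · have := congrFun hx (Fin.last n)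
        rw [Fin.lastCases_last] at this
        exact this
  let isoA := AlgEquiv.ofBijective _ hbij
  let iso : (R2 ⊗[R] S) ≃ₐ[R2]
      ((∀ i : Fin n, (R2 ⊗[R1] A) ⧸ Ideal.span {1 - e i.castSucc}) ×
        (((R2 ⊗[R1] A) ⧸ Ideal.span {1 - e (Fin.last n)}) × (R2 ⊗[R1] B))) :=
    ((Algebra.TensorProduct.cancelBaseChange R R1 R2 R2 S).symm.trans
      ((Algebra.TensorProduct.congr AlgEquiv.refl iso0).trans
        ((Algebra.TensorProduct.prodRight R1 R2 R2 A B).trans
          (AlgEquiv.prodCongr isoA AlgEquiv.refl)))).trans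
      (Groth.Agent.Lib.H56QFSplit.prodAssocAlg R2 _ _ _).symm
  refine ⟨R2, inferInstance, inferInstance, .comp R R1 R2, Q, inferInstance, hQp, n,
    fun i => (R2 ⊗[R1] A) ⧸ Ideal.span {1 - e i.castSucc}, fun i => inferInstance,
    fun i => inferInstance,
    ((R2 ⊗[R1] A) ⧸ Ideal.span {1 - e (Fin.last n)}) × (R2 ⊗[R1] B), inferInstance, inferInstance,
    Groth.Agent.Lib.H56QFSplit.closure_range_algebraMap_eq_top p Q hκ, ⟨iso⟩, ?_, ?_⟩
  · intro i
    refine ⟨Module.Finite.of_surjective
      (Ideal.Quotient.mkₐ R2 (Ideal.span {1 - e i.castSucc})).toLinearMap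
      Ideal.Quotient.mk_surjective, ?_⟩
    have hann : e i.castSucc * (1 - e i.castSucc) = 0 := by
      rw [mul_sub, mul_one, (he.idem i.castSucc).eq, sub_self]
    have h1 : 1 - e i.castSucc ∈ P' i := by
      have := (P' i).zero_mem
      rw [← hann] at this
      exact (Ideal.IsPrime.mem_or_mem inferInstance this).resolve_left (hP' i)
    have hle : Ideal.span {1 - e i.castSucc} ≤ P' i :=
      (Ideal.span_singleton_le_iff_mem _).mpr h1
    have halg : algebraMap R2 ((R2 ⊗[R1] A) ⧸ Ideal.span {1 - e i.castSucc}) =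
        (Ideal.Quotient.mk (Ideal.span {1 - e i.castSucc})).comp
          (algebraMap R2 (R2 ⊗[R1] A)) := rfl
    refine ⟨(P' i).map (Ideal.Quotient.mk (Ideal.span {1 - e i.castSucc})), ⟨?_, ?_⟩, ?_⟩
    · exact Ideal.map_isPrime_of_surjective Ideal.Quotient.mk_surjective
        (by rwa [Ideal.mk_ker])
    · rw [halg, ← Ideal.comap_comap, Ideal.comap_map_of_surjective _ Ideal.Quotient.mk_surjective,
        ← RingHom.ker_eq_comap_bot, Ideal.mk_ker, sup_eq_left.mpr hle]
      exact ((P' i).over_def Q).symm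
    · rintro r' ⟨hr'prime, hr'Q⟩
      have hP''over : (r'.comap (Ideal.Quotient.mk (Ideal.span {1 - e i.castSucc}))).LiesOver Q :=
        ⟨by rw [Ideal.under, Ideal.comap_comap, ← halg, hr'Q]⟩
      have hmem : 1 - e i.castSucc ∈
          r'.comap (Ideal.Quotient.mk (Ideal.span {1 - e i.castSucc})) := by
        rw [Ideal.mem_comap, Ideal.Quotient.eq_zero_iff_mem.mpr (Ideal.mem_span_singleton_self _)]
        exact r'.zero_mem
      have hne : e i.castSucc ∉
          r'.comap (Ideal.Quotient.mk (Ideal.span {1 - e i.castSucc})) := by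
        intro hmem'
        have h1' := Ideal.add_mem _ hmem' hmem
        rw [add_sub_cancel] at h1'
        exact (Ideal.IsPrime.ne_top inferInstance) ((Ideal.eq_top_iff_one _).mpr h1')
      have := (H _ inferInstance hP''over).2 i hne
      rw [← this, Ideal.map_comap_of_surjective _ Ideal.Quotient.mk_surjective]
  · intro q hq hqQ hqf
    rcases (Ideal.ideal_prod_prime q).mp hq with ⟨qX, hqX, rfl⟩ | ⟨qY, hqY, rfl⟩
    · have halg : algebraMap R2 ((R2 ⊗[R1] A) ⧸ Ideal.span {1 - e (Fin.last n)}) =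
          (Ideal.Quotient.mk (Ideal.span {1 - e (Fin.last n)})).comp
            (algebraMap R2 (R2 ⊗[R1] A)) := rfl
      have hX : qX.comap (algebraMap R2 ((R2 ⊗[R1] A) ⧸ Ideal.span {1 - e (Fin.last n)})) = Q := by
        rw [← hqQ]
        ext r
        simp [Ideal.mem_prod]
      have hP''over : (qX.comap (Ideal.Quotient.mk (Ideal.span {1 - e (Fin.last n)}))).LiesOver Q :=
        ⟨by rw [Ideal.under, Ideal.comap_comap, ← halg, hX]⟩
      have hmem : 1 - e (Fin.last n) ∈
          qX.comap (Ideal.Quotient.mk (Ideal.span {1 - e (Fin.last n)})) := by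
        rw [Ideal.mem_comap, Ideal.Quotient.eq_zero_iff_mem.mpr (Ideal.mem_span_singleton_self _)]
        exact qX.zero_mem
      have hmem' := (H _ inferInstance hP''over).1
      have h1' := Ideal.add_mem _ hmem' hmem
      rw [add_sub_cancel] at h1'
      exact (Ideal.IsPrime.ne_top inferInstance) ((Ideal.eq_top_iff_one _).mpr h1')
    · have hY : qY.comap (algebraMap R2 (R2 ⊗[R1] B)) = Q := by
        rw [← hqQ]
        ext r
        simp [Ideal.mem_prod]
      have hYover : qY.LiesOver Q := ⟨hY.symm⟩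
      have hqfY : Algebra.QuasiFiniteAt R2 qY :=
        Algebra.QuasiFiniteAt.of_surjectiveOnStalks (Ideal.prod ⊤ qY)
          (AlgHom.snd R2 ((R2 ⊗[R1] A) ⧸ Ideal.span {1 - e (Fin.last n)}) (R2 ⊗[R1] B))
          (RingHom.surjectiveOnStalks_of_surjective Prod.snd_surjective) qY
          (by ext ⟨a, b⟩; simp [Ideal.mem_prod])
      have h3 := Groth.Agent.Lib.H56QFSplit.liesOver_comap_includeRight (p := P1) (q := Q) qY
      have h4 := Groth.Agent.Lib.H56QFSplit.quasiFiniteAt_comap_includeRight hκ2 qY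
      exact hB _ h3 h4

end Groth.Agent.S9457
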