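import Groth.Statements.S9462
import Groth.Agent.S9436
import Mathlib.LinearAlgebra.TensorProduct.RightExactness
import Mathlib.LinearAlgebra.TensorProduct.Quotient
-- import your own Groth.Agent.* helpers here

set_option autoImplicit false
universe u
open CAlg

namespace Groth.Agent.S9462

section Helpers

open TensorProduct Algebra MvPolynomial Groth.Agent.S9436

/-- Étale algebras lift along surjective ring maps (general form of S9436). -/
theorem exists_etale_lift_of_surjective (R R₀ : Type u) [CommRing R] [CommRing R₀] [Algebra R R₀]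
    (h : Function.Surjective (algebraMap R R₀)) (Sb : Type u) [CommRing Sb] [Algebra R₀ Sb]
    [Algebra R Sb] [IsScalarTower R R₀ Sb] [Algebra.Etale R₀ Sb] :
    ∃ (S : Type u) (_ : CommRing S) (_ : Algebra R S), Algebra.Etale R S ∧
      Nonempty ((R₀ ⊗[R] S) ≃ₐ[R₀] Sb) := by
  obtain ⟨ι, σ, _, _, Pb, h0⟩ :=
    (Etale.iff_isStandardSmoothOfRelativeDimension_zero.mp
      (inferInstance : Algebra.Etale R₀ Sb)).out
  have hsurj : Function.Surjective (MvPolynomial.map (σ := ι) (algebraMap R R₀)) :=
    MvPolynomial.map_surjective _ h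
  choose rel hrel using fun j => hsurj (Pb.relation j)
  exact ⟨SS Pb rel, inferInstance, inferInstance, etale_SS Pb rel h0, nonempty_equiv Pb rel hrel⟩

section Key

variable {R : Type*} [CommRing R] (I : Ideal R) (hI : I ^ 2 = ⊥)
  {M N : Type*} [AddCommGroup M] [Module R M] [AddCommGroup N] [Module R N]

/-- multiplication `M ⊗ I → M`. -/
noncomputable def mulMap (M : Type*) [AddCommGroup M] [Module R M] : M ⊗[R] I →ₗ[R] M :=
  (TensorProduct.rid R M).toLinearMap ∘ₗ (I.subtype.lTensor M)

@[simp] lemma mulMap_tmul (m : M) (i : I) : mulMap I M (m ⊗ₜ[R] i) = (i : R) • m := by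
  simp [mulMap]

include hI in
lemma tmul_eq_zero_of_mem_smul_top (m : M) (hm : m ∈ I • (⊤ : Submodule R M)) (i : I) :
    m ⊗ₜ[R] i = (0 : M ⊗[R] I) := by
  refine Submodule.smul_induction_on hm (fun r hr n _ => ?_) (fun x y hx hy => ?_)
  · have : (r • n) ⊗ₜ[R] i = n ⊗ₜ[R] (r • i) := by rw [TensorProduct.smul_tmul]
    rw [this]
    have h0 : r • i = 0 := by
      apply Subtype.ext
      have : r * (i : R) ∈ I ^ 2 := by
        rw [pow_two]
        exact Ideal.mul_mem_mul hr i.2
      rw [hI] at this
      simpa using this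
    rw [h0, tmul_zero]
  · rw [add_tmul, hx, hy, add_zero]

include hI in
/-- If `f : M → N` is surjective with kernel inside `I M` and `I² = 0`, then `f ⊗ I` is
injective. -/
lemma rTensor_injective_of_ker_le (f : M →ₗ[R] N) (hf : Function.Surjective f)
    (hker : LinearMap.ker f ≤ I • (⊤ : Submodule R M)) :
    Function.Injective (f.rTensor I) := by
  -- left inverse
  let β₀ : (M ⧸ LinearMap.ker f) →ₗ[R] (I →ₗ[R] M ⊗[R] I) :=
    (LinearMap.ker f).liftQ (TensorProduct.mk R M I) (by
      intro m hm
      rw [LinearMap.mem_ker]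
      ext i
      exact tmul_eq_zero_of_mem_smul_top I hI m (hker hm) i)
  let β : N →ₗ[R] (I →ₗ[R] M ⊗[R] I) :=
    β₀ ∘ₗ (f.quotKerEquivOfSurjective hf).symm.toLinearMap
  let α : N ⊗[R] I →ₗ[R] M ⊗[R] I := TensorProduct.lift β
  have hα : α ∘ₗ (f.rTensor I) = LinearMap.id := by
    ext m i
    simp only [AlgebraTensorModule.curry_apply, curry_apply, LinearMap.coe_restrictScalars,
      LinearMap.coe_comp, Function.comp_apply, LinearMap.rTensor_tmul, LinearMap.id_coe, id_eq]
    change β (f m) i = m ⊗ₜ[R] i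
    have : (f.quotKerEquivOfSurjective hf).symm (f m) = Submodule.Quotient.mk m := by
      rw [LinearEquiv.symm_apply_eq]
      rfl
    change β₀ ((f.quotKerEquivOfSurjective hf).symm (f m)) i = _
    rw [this]
    rfl
  exact Function.LeftInverse.injective (g := α) (fun t => by
    have := congrArg (fun l => l t) hα
    simpa using this)

end Key


end Helpers


open TensorProduct in
/-- Consider surjections A' → A and B' → B with square-zero kernels I and J and a commutative square A'
→ B', A → B. If A → B is étale and J = I ⊗_A B — that is, J = IB' and the multiplication map B'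
⊗_{A'} I → B' is injective — then A' → B' is étale. -/
theorem result (A' : Type u) [CommRing A'] (A : Type u) [CommRing A]
    [Algebra A' A] (hA : Function.Surjective (algebraMap A' A))
    (hI : RingHom.ker (algebraMap A' A) ^ 2 = ⊥)
    (B' : Type u) [CommRing B'] [Algebra A' B'] (B : Type u) [CommRing B] [Algebra B' B]
    [Algebra A B] [Algebra A' B] [IsScalarTower A' A B] [IsScalarTower A' B' B]
    (hB : Function.Surjective (algebraMap B' B)) (hJ : RingHom.ker (algebraMap B' B) ^ 2 = ⊥)
    [Algebra.Etale A B]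
    (hJI : RingHom.ker (algebraMap B' B) = (RingHom.ker (algebraMap A' A)).map (algebraMap A' B'))
    (hinj : Function.Injective ((RingHom.ker (algebraMap A' A)).subtype.baseChange B')) :
    Algebra.Etale A' B' := by
  classical
  set I : Ideal A' := RingHom.ker (algebraMap A' A) with hIdef
  obtain ⟨C, _, _, hEtC, ⟨e⟩⟩ := exists_etale_lift_of_surjective A' A hA B
  -- the map `ψ : C → B`
  let ψ : C →ₐ[A'] B := (e.toAlgHom.restrictScalars A').comp
    (Algebra.TensorProduct.includeRight : C →ₐ[A'] A ⊗[A'] C)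
  have hψ : ∀ c, ψ c = e ((1 : A) ⊗ₜ[A'] c) := fun c => rfl
  have hψsurj : Function.Surjective ψ := by
    intro b
    obtain ⟨t, rfl⟩ := e.surjective b
    suffices h : ∃ c : C, (1 : A) ⊗ₜ[A'] c = t by
      obtain ⟨c, rfl⟩ := h
      exact ⟨c, rfl⟩
    induction t using TensorProduct.induction_on with
    | zero => exact ⟨0, by rw [tmul_zero]⟩
    | tmul a c =>
      obtain ⟨a', rfl⟩ := hA a
      refine ⟨a' • c, ?_⟩
      rw [TensorProduct.tmul_smul, TensorProduct.smul_tmul', Algebra.smul_def, mul_one]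
    | add x y hx hy =>
      obtain ⟨c₁, rfl⟩ := hx
      obtain ⟨c₂, rfl⟩ := hy
      exact ⟨c₁ + c₂, by rw [tmul_add]⟩
  -- the kernel of `ψ` is inside `I C`
  have hψker : LinearMap.ker ψ.toLinearMap ≤ I • (⊤ : Submodule A' C) := by
    intro x hx
    have h1 : (1 : A) ⊗ₜ[A'] x = (0 : A ⊗[A'] C) := by
      apply e.injective
      rw [map_zero]
      exact hx
    -- transport to `(A' ⧸ I) ⊗ C ≃ C ⧸ I C`
    let eA : (A' ⧸ I) ≃ₗ[A'] A := (Ideal.quotientKerAlgEquivOfSurjective
      (f := Algebra.ofId A' A) hA).toLinearEquiv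
    have h2 : (TensorProduct.congr eA.symm (LinearEquiv.refl A' C)) ((1 : A) ⊗ₜ[A'] x) = 0 := by
      rw [h1, map_zero]
    rw [TensorProduct.congr_tmul] at h2
    have h3 : eA.symm (1 : A) = (1 : A' ⧸ I) := by
      rw [LinearEquiv.symm_apply_eq]
      exact (map_one (Ideal.quotientKerAlgEquivOfSurjective (f := Algebra.ofId A' A) hA)).symm
    rw [h3, LinearEquiv.refl_apply] at h2
    have h4 := congrArg (TensorProduct.quotTensorEquivQuotSMul C I) h2
    rw [map_zero] at h4
    have h5 : TensorProduct.quotTensorEquivQuotSMul C I ((1 : A' ⧸ I) ⊗ₜ[A'] x) =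
        Submodule.Quotient.mk x := by
      have := TensorProduct.quotTensorEquivQuotSMul_mk_tmul (M := C) I (1 : A') x
      rw [one_smul] at this
      exact this
    rw [h5, Submodule.Quotient.mk_eq_zero] at h4
    exact h4
  -- lift `ψ` to `φ : C → B'`
  have hnil : IsNilpotent (RingHom.ker ((IsScalarTower.toAlgHom A' B' B : B' →ₐ[A'] B) : B' →+* B)) :=
    ⟨2, hJ⟩
  let φ : C →ₐ[A'] B' := Algebra.FormallySmooth.liftOfSurjective ψ
    (IsScalarTower.toAlgHom A' B' B) hB hnil
  have hφ : ∀ c, algebraMap B' B (φ c) = ψ c := fun c =>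
    Algebra.FormallySmooth.liftOfSurjective_apply ψ (IsScalarTower.toAlgHom A' B' B) hB hnil c
  -- surjectivity of `φ`
  have hJmem : ∀ x ∈ RingHom.ker (algebraMap B' B), x ∈ Set.range φ := by
    intro x hx
    rw [hJI, Ideal.map] at hx
    refine Submodule.span_induction ?_ ?_ ?_ ?_ hx
    · rintro _ ⟨i, _, rfl⟩
      exact ⟨algebraMap A' C i, by rw [AlgHom.commutes]⟩
    · exact ⟨0, map_zero _⟩
    · rintro x y _ _ ⟨c₁, rfl⟩ ⟨c₂, rfl⟩
      exact ⟨c₁ + c₂, map_add _ _ _⟩
    · rintro b x hx' ⟨c, rfl⟩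
      obtain ⟨c₀, hc₀⟩ := hψsurj (algebraMap B' B b)
      have hb : b - φ c₀ ∈ RingHom.ker (algebraMap B' B) := by
        rw [RingHom.mem_ker, map_sub, hφ, hc₀, sub_self]
      have hprod : (b - φ c₀) * φ c = 0 := by
        have hc : φ c ∈ RingHom.ker (algebraMap B' B) := by
          rw [hJI, Ideal.map]
          exact hx'
        have : (b - φ c₀) * φ c ∈ RingHom.ker (algebraMap B' B) ^ 2 := by
          rw [pow_two]
          exact Ideal.mul_mem_mul hb hc
        rw [hJ] at this
        exact this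
      refine ⟨c₀ * c, ?_⟩
      rw [map_mul, smul_eq_mul]
      rw [sub_mul, sub_eq_zero] at hprod
      exact hprod.symm
  have hφsurj : Function.Surjective φ := by
    intro b
    obtain ⟨c₀, hc₀⟩ := hψsurj (algebraMap B' B b)
    have hb : b - φ c₀ ∈ RingHom.ker (algebraMap B' B) := by
      rw [RingHom.mem_ker, map_sub, hφ, hc₀, sub_self]
    obtain ⟨c₁, hc₁⟩ := hJmem _ hb
    exact ⟨c₁ + c₀, by rw [map_add, hc₁, sub_add_cancel]⟩
  -- injectivity of `φ`
  have hψI : Function.Injective (ψ.toLinearMap.rTensor I) :=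
    rTensor_injective_of_ker_le I hI ψ.toLinearMap hψsurj hψker
  have hφI : Function.Injective (φ.toLinearMap.rTensor I) := by
    have hcomp : ψ.toLinearMap.rTensor I =
        ((IsScalarTower.toAlgHom A' B' B).toLinearMap.rTensor I) ∘ₗ (φ.toLinearMap.rTensor I) := by
      rw [← LinearMap.rTensor_comp]
      congr 1
      ext c
      exact (hφ c).symm
    intro x y hxy
    apply hψI
    rw [hcomp, LinearMap.comp_apply, LinearMap.comp_apply, hxy]
  have hmulB : Function.Injective (mulMap I B') := by
    have h1 : Function.Injective (I.subtype.lTensor B') := by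
      intro x y hxy
      apply hinj
      rw [LinearMap.baseChange_eq_ltensor]
      exact hxy
    exact (TensorProduct.rid A' B').injective.comp h1
  have hnat : ∀ t : C ⊗[A'] I, φ (mulMap I C t) = mulMap I B' (φ.toLinearMap.rTensor I t) := by
    intro t
    induction t using TensorProduct.induction_on with
    | zero => simp
    | tmul c i => simp [mulMap_tmul]
    | add x y hx hy => simp only [map_add, hx, hy]
  have hrange : ∀ x ∈ I • (⊤ : Submodule A' C), ∃ t : C ⊗[A'] I, mulMap I C t = x := by
    intro x hx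
    refine Submodule.smul_induction_on hx (fun r hr n _ => ?_) (fun x y hx hy => ?_)
    · exact ⟨n ⊗ₜ[A'] ⟨r, hr⟩, by rw [mulMap_tmul]⟩
    · obtain ⟨t₁, rfl⟩ := hx
      obtain ⟨t₂, rfl⟩ := hy
      exact ⟨t₁ + t₂, map_add _ _ _⟩
  have hφinj : Function.Injective φ := by
    rw [injective_iff_map_eq_zero]
    intro x hx
    have hxψ : x ∈ LinearMap.ker ψ.toLinearMap := by
      rw [LinearMap.mem_ker]
      change ψ x = 0
      rw [← hφ, hx, map_zero]
    obtain ⟨t, rfl⟩ := hrange x (hψker hxψ)
    rw [hnat] at hx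
    have h1 : φ.toLinearMap.rTensor I t = 0 := hmulB (by rw [hx, map_zero])
    have h2 : t = 0 := hφI (by rw [h1, map_zero])
    rw [h2, map_zero]
  exact Algebra.Etale.of_equiv (AlgEquiv.ofBijective φ ⟨hφinj, hφsurj⟩)

end Groth.Agent.S9462
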