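import Groth.Statements.S9463
-- import your own Groth.Agent.* helpers here

set_option autoImplicit false
universe u
open OmegaSh

namespace Groth.Agent.S9463

/-- Let A → B be formally unramified, π : B' → B a universal first order thickening of B relative to A,
and S ⊆ A a multiplicative subset. Localizing everything at S (A_S, B_S and B'_S with compatible
algebra structures, π_S : B'_S → B_S the A_S-algebra map induced by π), the map π_S is a universal
first order thickening of B_S relative to A_S. (The published statement adds the consequence that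
the conormal module localizes accordingly.) -/
theorem result (A B B' : Type u) [CommRing A] [CommRing B]
    [CommRing B'] [Algebra A B] [Algebra.FormallyUnramified A B] [Algebra A B'] (π : B' →ₐ[A] B)
    (hπ : OmegaSh.IsUnivThickeningRing A B B' π) (S : Submonoid A)
    (AS BS B'S : Type u) [CommRing AS] [CommRing BS] [CommRing B'S]
    [Algebra A AS] [IsLocalization S AS]
    [Algebra B BS] [IsLocalization (Algebra.algebraMapSubmonoid B S) BS]
    [Algebra B' B'S] [IsLocalization (Algebra.algebraMapSubmonoid B' S) B'S]
    [Algebra AS BS] [Algebra A BS] [IsScalarTower A AS BS] [IsScalarTower A B BS]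
    [Algebra AS B'S] [Algebra A B'S] [IsScalarTower A AS B'S] [IsScalarTower A B' B'S]
    (πS : B'S →ₐ[AS] BS) (hπS : ∀ x : B', πS (algebraMap B' B'S x) = algebraMap B BS (π x)) :
    OmegaSh.IsUnivThickeningRing AS BS B'S πS := by
  classical
  obtain ⟨hsurj, hker, huniv⟩ := hπ
  -- basic facts on units
  have hunitAS : ∀ s ∈ S, IsUnit (algebraMap A AS s) := fun s hs =>
    IsLocalization.map_units AS ⟨s, hs⟩
  have hB'S_A : ∀ r : A, algebraMap B' B'S (algebraMap A B' r) = algebraMap AS B'S (algebraMap A AS r) := by
    intro r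
    rw [← IsScalarTower.algebraMap_apply A B' B'S, ← IsScalarTower.algebraMap_apply A AS B'S]
  have hBS_A : ∀ r : A, algebraMap B BS (algebraMap A B r) = algebraMap AS BS (algebraMap A AS r) := by
    intro r
    rw [← IsScalarTower.algebraMap_apply A B BS, ← IsScalarTower.algebraMap_apply A AS BS]
  have hunitB'S : ∀ s ∈ S, IsUnit (algebraMap B' B'S (algebraMap A B' s)) := fun s hs => by
    rw [hB'S_A]; exact (hunitAS s hs).map _
  refine ⟨?_, ?_, ?_⟩
  · -- surjectivity
    intro y
    obtain ⟨⟨b, t⟩, hbt⟩ := IsLocalization.surj (Algebra.algebraMapSubmonoid B S) y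
    obtain ⟨s, hs, hst⟩ := t.2
    obtain ⟨b', rfl⟩ := hsurj b
    obtain ⟨u, hu⟩ := hunitAS s hs
    refine ⟨algebraMap B' B'S b' * algebraMap AS B'S (↑u⁻¹ : AS), ?_⟩
    rw [map_mul, hπS, AlgHom.commutes]
    simp only at hbt
    rw [← hbt, ← hst, hBS_A, ← hu, mul_assoc, ← map_mul]
    simp
  · -- kernel of square zero
    have key : ∀ x ∈ RingHom.ker πS.toRingHom, ∃ s ∈ S, ∃ k ∈ RingHom.ker π.toRingHom,
        x * algebraMap B' B'S (algebraMap A B' s) = algebraMap B' B'S k := by
      intro x hx
      obtain ⟨⟨b', t⟩, hbt⟩ := IsLocalization.surj (Algebra.algebraMapSubmonoid B' S) x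
      obtain ⟨s₁, hs₁, hst⟩ := t.2
      simp only at hbt
      have h0 : algebraMap B BS (π b') = 0 := by
        rw [← hπS, ← hbt, map_mul]
        have : πS x = 0 := hx
        rw [this, zero_mul]
      obtain ⟨⟨_, s₂, hs₂, rfl⟩, hm⟩ :=
        (IsLocalization.map_eq_zero_iff (Algebra.algebraMapSubmonoid B S) BS (π b')).mp h0
      simp only at hm
      refine ⟨s₁ * s₂, S.mul_mem hs₁ hs₂, algebraMap A B' s₂ * b', ?_, ?_⟩
      · change π (algebraMap A B' s₂ * b') = 0
        rw [map_mul, AlgHom.commutes, hm]
      · rw [map_mul (algebraMap A B'), map_mul (algebraMap B' B'S), ← mul_assoc, hst, hbt, map_mul]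
        ring
    rw [sq, eq_bot_iff, Ideal.mul_le]
    intro x hx y hy
    obtain ⟨s, hs, k, hk, hxk⟩ := key x hx
    obtain ⟨s', hs', k', hk', hyk⟩ := key y hy
    have hkk : k * k' = 0 := by
      have : k * k' ∈ RingHom.ker π.toRingHom ^ 2 := by
        rw [sq]; exact Ideal.mul_mem_mul hk hk'
      rw [hker] at this
      exact this
    have h1 : (x * y) * (algebraMap B' B'S (algebraMap A B' s) * algebraMap B' B'S (algebraMap A B' s')) = 0 := by
      calc (x * y) * (algebraMap B' B'S (algebraMap A B' s) * algebraMap B' B'S (algebraMap A B' s'))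
          = (x * algebraMap B' B'S (algebraMap A B' s)) * (y * algebraMap B' B'S (algebraMap A B' s')) := by ring
        _ = 0 := by rw [hxk, hyk, ← map_mul, hkk, map_zero]
    have hu := (hunitB'S s hs).mul (hunitB'S s' hs')
    rw [Ideal.mem_bot]
    exact (hu.mul_left_eq_zero).mp h1
  · -- universal property
    intro T _ _ I hI a
    letI : Algebra A T := ((algebraMap AS T).comp (algebraMap A AS)).toAlgebra
    haveI : IsScalarTower A AS T := IsScalarTower.of_algebraMap_eq (fun _ => rfl)
    let a₀ : B →ₐ[A] T ⧸ I := (a.restrictScalars A).comp (IsScalarTower.toAlgHom A B BS)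
    obtain ⟨a'₀, ha'₀, huniq⟩ := huniv T I hI a₀
    have hunits : ∀ y : Algebra.algebraMapSubmonoid B' S, IsUnit (a'₀.toRingHom y) := by
      rintro ⟨_, s, hs, rfl⟩
      change IsUnit (a'₀ (algebraMap A B' s))
      rw [AlgHom.commutes, IsScalarTower.algebraMap_apply A AS T]
      exact (hunitAS s hs).map _
    let l : B'S →+* T := IsLocalization.lift (M := Algebra.algebraMapSubmonoid B' S) hunits
    have hl : ∀ b' : B', l (algebraMap B' B'S b') = a'₀ b' := fun b' => IsLocalization.lift_eq _ _
    have hcomm : ∀ c : AS, l (algebraMap AS B'S c) = algebraMap AS T c := by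
      have : (l.comp (algebraMap AS B'S)) = algebraMap AS T := by
        apply IsLocalization.ringHom_ext S
        ext r
        simp only [RingHom.comp_apply]
        rw [← hB'S_A, hl, AlgHom.commutes, IsScalarTower.algebraMap_apply A AS T]
      intro c
      exact congrFun (congrArg DFunLike.coe this) c
    let a' : B'S →ₐ[AS] T := { l with commutes' := hcomm }
    have ha'l : ∀ x, a' x = l x := fun _ => rfl
    have hprop : ∀ a'' : B'S →ₐ[AS] T,
        ((Ideal.Quotient.mkₐ AS I).comp a'' = a.comp πS) ↔
          ∀ b' : B', Ideal.Quotient.mk I (a'' (algebraMap B' B'S b')) = a₀ (π b') := by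
      intro a''
      constructor
      · intro h b'
        have := congrFun (congrArg DFunLike.coe h) (algebraMap B' B'S b')
        simp only [AlgHom.comp_apply, Ideal.Quotient.mkₐ_eq_mk] at this
        rw [this, hπS]
        rfl
      · intro h
        apply AlgHom.coe_ringHom_injective
        apply IsLocalization.ringHom_ext (Algebra.algebraMapSubmonoid B' S)
        ext b'
        simp only [RingHom.comp_apply, AlgHom.coe_toRingHom, AlgHom.comp_apply,
          Ideal.Quotient.mkₐ_eq_mk]
        rw [h, hπS]
        rfl
    refine ⟨a', ?_, ?_⟩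
    · show (Ideal.Quotient.mkₐ AS I).comp a' = a.comp πS
      rw [hprop]
      intro b'
      rw [ha'l, hl]
      have := congrFun (congrArg DFunLike.coe ha'₀) b'
      simpa using this
    · intro a'' ha''
      have ha''2 := (hprop a'').mp ha''
      let a''₀ : B' →ₐ[A] T := (a''.restrictScalars A).comp (IsScalarTower.toAlgHom A B' B'S)
      have h2 : a''₀ = a'₀ := by
        apply huniq
        ext b'
        simp only [AlgHom.comp_apply, Ideal.Quotient.mkₐ_eq_mk]
        exact ha''2 b'
      apply AlgHom.coe_ringHom_injective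
      apply IsLocalization.ringHom_ext (Algebra.algebraMapSubmonoid B' S)
      ext b'
      simp only [RingHom.comp_apply, AlgHom.coe_toRingHom]
      rw [ha'l, hl, ← h2]
      rfl

end Groth.Agent.S9463
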