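import Groth.Statements.S9464
-- import your own Groth.Agent.* helpers here

set_option autoImplicit false
universe u
open OmegaSh

namespace Groth.Agent.S9464

/-- Let A → B be formally unramified, π : B' → B a universal first order thickening of B relative to A,
S ⊆ B a multiplicative subset and S' = π⁻¹(S) ⊆ B'. With B_S the localization of B at S, B'_{S'} the
localization of B' at S' (both as A-algebras) and π' : B'_{S'} → B_S the A-algebra map induced by π,
the map π' is a universal first order thickening of B_S relative to A. (The published statement adds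
the consequence that the conormal module localizes accordingly.) -/
theorem result (A B B' : Type u) [CommRing A] [CommRing B]
    [CommRing B'] [Algebra A B] [Algebra.FormallyUnramified A B] [Algebra A B'] (π : B' →ₐ[A] B)
    (hπ : OmegaSh.IsUnivThickeningRing A B B' π) (S : Submonoid B)
    (BS B'S : Type u) [CommRing BS] [CommRing B'S]
    [Algebra B BS] [IsLocalization S BS]
    [Algebra B' B'S] [IsLocalization (S.comap π.toRingHom.toMonoidHom) B'S]
    [Algebra A BS] [IsScalarTower A B BS] [Algebra A B'S] [IsScalarTower A B' B'S]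
    (πS : B'S →ₐ[A] BS) (hπS : ∀ x : B', πS (algebraMap B' B'S x) = algebraMap B BS (π x)) :
    OmegaSh.IsUnivThickeningRing A BS B'S πS := by
  classical
  obtain ⟨hsurj, hker, huniv⟩ := hπ
  have hunitBS : ∀ t ∈ S, IsUnit (algebraMap B BS t) := fun t ht =>
    IsLocalization.map_units BS ⟨t, ht⟩
  have hmemS' : ∀ t' : B', t' ∈ S.comap π.toRingHom.toMonoidHom ↔ π t' ∈ S := fun _ => Iff.rfl
  have hunitB'S : ∀ t' : B', π t' ∈ S → IsUnit (algebraMap B' B'S t') := fun t' ht' =>
    IsLocalization.map_units B'S (⟨t', (hmemS' t').mpr ht'⟩ : S.comap π.toRingHom.toMonoidHom)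
  refine ⟨?_, ?_, ?_⟩
  · -- surjectivity
    intro y
    obtain ⟨⟨b, t⟩, hbt⟩ := IsLocalization.surj S y
    obtain ⟨b', rfl⟩ := hsurj b
    obtain ⟨t', ht'⟩ := hsurj t.1
    have ht'S : π t' ∈ S := by rw [ht']; exact t.2
    obtain ⟨u, hu⟩ := hunitB'S t' ht'S
    refine ⟨algebraMap B' B'S b' * (↑u⁻¹ : B'S), ?_⟩
    simp only at hbt
    have hcancel := (hunitBS t.1 t.2).mul_left_injective
    apply hcancel
    simp only
    rw [hbt, ← ht', ← hπS, ← map_mul, ← hπS, ← hu, mul_assoc]
    simp
  · -- kernel of square zero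
    have key : ∀ x ∈ RingHom.ker πS.toRingHom, ∃ t' : B', π t' ∈ S ∧ ∃ k ∈ RingHom.ker π.toRingHom,
        x * algebraMap B' B'S t' = algebraMap B' B'S k := by
      intro x hx
      obtain ⟨⟨b', t⟩, hbt⟩ := IsLocalization.surj (S.comap π.toRingHom.toMonoidHom) x
      have ht : π t.1 ∈ S := (hmemS' _).mp t.2
      simp only at hbt
      have h0 : algebraMap B BS (π b') = 0 := by
        rw [← hπS, ← hbt, map_mul]
        have : πS x = 0 := hx
        rw [this, zero_mul]
      obtain ⟨⟨t₂, ht₂⟩, hm⟩ := (IsLocalization.map_eq_zero_iff S BS (π b')).mp h0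
      simp only at hm
      obtain ⟨t₂', rfl⟩ := hsurj t₂
      refine ⟨t.1 * t₂', ?_, t₂' * b', ?_, ?_⟩
      · rw [map_mul]; exact S.mul_mem ht ht₂
      · change π (t₂' * b') = 0
        rw [map_mul, hm]
      · rw [map_mul (algebraMap B' B'S), ← mul_assoc, hbt, map_mul]
        ring
    rw [sq, eq_bot_iff, Ideal.mul_le]
    intro x hx y hy
    obtain ⟨s, hs, k, hk, hxk⟩ := key x hx
    obtain ⟨s', hs', k', hk', hyk⟩ := key y hy
    have hkk : k * k' = 0 := by
      have : k * k' ∈ RingHom.ker π.toRingHom ^ 2 := by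
        rw [sq]; exact Ideal.mul_mem_mul hk hk'
      rw [hker] at this
      exact this
    have h1 : (x * y) * (algebraMap B' B'S s * algebraMap B' B'S s') = 0 := by
      calc (x * y) * (algebraMap B' B'S s * algebraMap B' B'S s')
          = (x * algebraMap B' B'S s) * (y * algebraMap B' B'S s') := by ring
        _ = 0 := by rw [hxk, hyk, ← map_mul, hkk, map_zero]
    have hu := (hunitB'S s hs).mul (hunitB'S s' hs')
    rw [Ideal.mem_bot]
    exact (hu.mul_left_eq_zero).mp h1
  · -- universal property
    intro T _ _ I hI a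
    let a₀ : B →ₐ[A] T ⧸ I := a.comp (IsScalarTower.toAlgHom A B BS)
    obtain ⟨a'₀, ha'₀, huniq⟩ := huniv T I hI a₀
    have ha'₀' : ∀ b' : B', Ideal.Quotient.mk I (a'₀ b') = a (algebraMap B BS (π b')) := by
      intro b'
      have := congrFun (congrArg DFunLike.coe ha'₀) b'
      simpa [a₀] using this
    have hInil : IsNilpotent I := ⟨2, by rw [hI]; rfl⟩
    have hunits : ∀ y : S.comap π.toRingHom.toMonoidHom, IsUnit (a'₀.toRingHom y) := by
      rintro ⟨y, hy⟩
      change IsUnit (a'₀ y)
      rw [← hInil.isUnit_quotient_mk_iff, ha'₀']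
      exact (hunitBS _ ((hmemS' y).mp hy)).map a
    let l : B'S →+* T := IsLocalization.lift (M := S.comap π.toRingHom.toMonoidHom) hunits
    have hl : ∀ b' : B', l (algebraMap B' B'S b') = a'₀ b' := fun b' => IsLocalization.lift_eq _ _
    have hcomm : ∀ c : A, l (algebraMap A B'S c) = algebraMap A T c := by
      intro c
      rw [IsScalarTower.algebraMap_apply A B' B'S, hl, AlgHom.commutes]
    let a' : B'S →ₐ[A] T := { l with commutes' := hcomm }
    have ha'l : ∀ x, a' x = l x := fun _ => rfl
    have hprop : ∀ a'' : B'S →ₐ[A] T,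
        ((Ideal.Quotient.mkₐ A I).comp a'' = a.comp πS) ↔
          ∀ b' : B', Ideal.Quotient.mk I (a'' (algebraMap B' B'S b')) = a (algebraMap B BS (π b')) := by
      intro a''
      constructor
      · intro h b'
        have := congrFun (congrArg DFunLike.coe h) (algebraMap B' B'S b')
        simp only [AlgHom.comp_apply, Ideal.Quotient.mkₐ_eq_mk] at this
        rw [this, hπS]
      · intro h
        apply AlgHom.coe_ringHom_injective
        apply IsLocalization.ringHom_ext (S.comap π.toRingHom.toMonoidHom)
        ext b'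
        simp only [RingHom.comp_apply, AlgHom.coe_toRingHom, AlgHom.comp_apply,
          Ideal.Quotient.mkₐ_eq_mk]
        rw [h, hπS]
    refine ⟨a', ?_, ?_⟩
    · show (Ideal.Quotient.mkₐ A I).comp a' = a.comp πS
      rw [hprop]
      intro b'
      rw [ha'l, hl, ha'₀']
    · intro a'' ha''
      have ha''2 := (hprop a'').mp ha''
      let a''₀ : B' →ₐ[A] T := a''.comp (IsScalarTower.toAlgHom A B' B'S)
      have h2 : a''₀ = a'₀ := by
        apply huniq
        ext b'
        simp only [AlgHom.comp_apply, Ideal.Quotient.mkₐ_eq_mk]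
        exact ha''2 b'
      apply AlgHom.coe_ringHom_injective
      apply IsLocalization.ringHom_ext (S.comap π.toRingHom.toMonoidHom)
      ext b'
      simp only [RingHom.comp_apply, AlgHom.coe_toRingHom]
      rw [ha'l, hl, ← h2]
      rfl

end Groth.Agent.S9464
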