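import Groth.Statements.S9465
import Groth.Agent.Lib.DiffOpExt50

set_option autoImplicit false
universe u
open Diff16

namespace Groth.Agent.S9465

open TensorProduct in
/-- Let R → S → S' be ring maps with S → S' formally étale, M, N modules over S and D : M → N a
differential operator of order at most k relative to R → S. Then D has exactly one extension to a
differential operator D' : S' ⊗_S M → S' ⊗_S N of order at most k relative to R → S', i.e. with D'(1
⊗ m) = 1 ⊗ D(m). (The published statement forms the base change of M over R rather than over S; with
that reading uniqueness already fails for R the rationals, S = S' a polynomial ring in one variable,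
M = N = S, D the identity and k = 1, and the published proof computes with the base change over S,
which is what this row uses. The published statement first identifies the base change to S' of the
module of principal parts of order k of M with that of S' ⊗_S M over R; this row states the
consequence for differential operators.) -/
theorem result (R S S' : Type u) [CommRing R]
    [CommRing S] [CommRing S'] [Algebra R S] [Algebra R S'] [Algebra S S'] [IsScalarTower R S S']
    [Algebra.FormallyEtale S S'] (M N : Type u) [AddCommGroup M] [Module S M] [Module R M]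
    [IsScalarTower R S M] [AddCommGroup N] [Module S N] [Module R N] [IsScalarTower R S N]
    (k : ℕ) (D : M →ₗ[R] N) (hD : Diff16.IsDiffOpLE R S M N k D) :
    ∃! D' : S' ⊗[S] M →ₗ[R] S' ⊗[S] N,
      Diff16.IsDiffOpLE R S' (S' ⊗[S] M) (S' ⊗[S] N) k D' ∧
        D' ∘ₗ (TensorProduct.mk S S' M 1).restrictScalars R =
          (TensorProduct.mk S S' N 1).restrictScalars R ∘ₗ D := by
  classical
  let ι : S →ₐ[R] S' := IsScalarTower.toAlgHom R S S'
  let j : N →ₗ[R] S' ⊗[S] N := (TensorProduct.mk S S' N 1).restrictScalars R
  have hj : ∀ (s : S) (n : N), j (s • n) = ι s • j n := by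
    intro s n
    change (1 : S') ⊗ₜ[S] (s • n) = algebraMap S S' s • ((1 : S') ⊗ₜ[S] n)
    rw [TensorProduct.smul_tmul', TensorProduct.tmul_smul, TensorProduct.smul_tmul',
      Algebra.smul_def, smul_eq_mul]
  have hE := Groth.Agent.Lib.DiffOpExt50.pow_le_ann R ι j hj k D hD
  obtain ⟨D', hD'1, hD'2⟩ := Groth.Agent.Lib.DiffOpExt50.exists_extension R S S' k (j ∘ₗ D) hE
  refine ⟨D', ⟨hD'1, ?_⟩, ?_⟩
  · ext m
    exact hD'2 m
  · rintro D'' ⟨h1, h2⟩
    have hsub := Groth.Agent.Lib.DiffOpExt50.isDiffOpLE_sub h1 hD'1
    have hz := Groth.Agent.Lib.DiffOpExt50.eq_zero_of_vanish R S S'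
      (fun m : M => (1 : S') ⊗ₜ[S] m) (by
        intro s m
        rw [TensorProduct.smul_tmul', TensorProduct.tmul_smul, TensorProduct.smul_tmul',
          Algebra.smul_def, smul_eq_mul])
      (Groth.Agent.Lib.DiffOpExt50.span_one_tmul S S' M) k (D'' - D') hsub (by
        intro m
        have e1 := LinearMap.congr_fun h2 m
        have e2 := hD'2 m
        simp only [LinearMap.coe_comp, LinearMap.coe_restrictScalars, Function.comp_apply,
          TensorProduct.mk_apply] at e1
        rw [LinearMap.sub_apply, e1, e2]
        simp [j])
    exact sub_eq_zero.mp hz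

end Groth.Agent.S9465
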