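import Groth.Statements.S9468
-- import your own Groth.Agent.* helpers here

set_option autoImplicit false
universe u
open Hensel

namespace Groth.Agent.S9468

open TensorProduct in
/-- the map to the residue field of `p` from an étale-neighbourhood-like pair -/
noncomputable def toK {R : Type u} [CommRing R] (p : Ideal R) [p.IsPrime]
    (S₁ : Type u) [CommRing S₁] [Algebra R S₁] (q₁ : Ideal S₁) [q₁.IsPrime]
    (hq₁ : p = q₁.comap (algebraMap R S₁))
    (hq₁κ : Function.Bijective (Ideal.ResidueField.map p q₁ (algebraMap R S₁) hq₁)) :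
    S₁ →ₐ[R] p.ResidueField where
  __ := ((RingEquiv.ofBijective _ hq₁κ).symm.toRingHom).comp (algebraMap S₁ q₁.ResidueField)
  commutes' r := by
    simp only [RingHom.toMonoidHom_eq_coe, RingEquiv.toRingHom_eq_coe, OneHom.toFun_eq_coe,
      MonoidHom.toOneHom_coe, MonoidHom.coe_coe, RingHom.coe_comp, RingHom.coe_coe,
      Function.comp_apply]
    rw [RingEquiv.symm_apply_eq]
    simp only [RingEquiv.ofBijective_apply]
    rw [Ideal.ResidueField.map_algebraMap]

theorem toK_eq_zero_iff {R : Type u} [CommRing R] (p : Ideal R) [p.IsPrime]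
    (S₁ : Type u) [CommRing S₁] [Algebra R S₁] (q₁ : Ideal S₁) [q₁.IsPrime]
    (hq₁ : p = q₁.comap (algebraMap R S₁))
    (hq₁κ : Function.Bijective (Ideal.ResidueField.map p q₁ (algebraMap R S₁) hq₁)) (x : S₁) :
    toK p S₁ q₁ hq₁ hq₁κ x = 0 ↔ x ∈ q₁ := by
  change (RingEquiv.ofBijective _ hq₁κ).symm (algebraMap S₁ q₁.ResidueField x) = 0 ↔ _
  rw [map_eq_zero_iff _ (RingEquiv.injective _), Ideal.algebraMap_residueField_eq_zero]

/-- Let R be a ring and p a prime of R. Consider pairs (S, q) with S an étale R-algebra and q a prime of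
S lying over p such that κ(p) → κ(q) is bijective; a morphism of pairs is an R-algebra map pulling
the second prime back to the first. Then any two pairs admit morphisms of pairs to a common third
pair. -/
theorem result (R : Type u) [CommRing R]
    (p : Ideal R) [p.IsPrime] (S₁ : Type u) [CommRing S₁] [Algebra R S₁] [Algebra.Etale R S₁] (q₁ : Ideal S₁) [q₁.IsPrime] (hq₁ : p = q₁.comap (algebraMap R S₁))
    (hq₁κ : Function.Bijective (Ideal.ResidueField.map p q₁ (algebraMap R S₁) hq₁))
    (S₂ : Type u) [CommRing S₂] [Algebra R S₂] [Algebra.Etale R S₂] (q₂ : Ideal S₂) [q₂.IsPrime] (hq₂ : p = q₂.comap (algebraMap R S₂))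
    (hq₂κ : Function.Bijective (Ideal.ResidueField.map p q₂ (algebraMap R S₂) hq₂)) :
    ∃ (S₃ : Type u) (_ : CommRing S₃) (_ : Algebra R S₃) (_ : Algebra.Etale R S₃) (q₃ : Ideal S₃)
      (_ : q₃.IsPrime) (hq₃ : p = q₃.comap (algebraMap R S₃)),
      Function.Bijective (Ideal.ResidueField.map p q₃ (algebraMap R S₃) hq₃) ∧
        ∃ (φ₁ : S₁ →ₐ[R] S₃) (φ₂ : S₂ →ₐ[R] S₃),
          q₃.comap φ₁.toRingHom = q₁ ∧ q₃.comap φ₂.toRingHom = q₂ := by
  classical
  let g₁ := toK p S₁ q₁ hq₁ hq₁κ
  let g₂ := toK p S₂ q₂ hq₂ hq₂κ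
  let g : TensorProduct R S₁ S₂ →ₐ[R] p.ResidueField :=
    Algebra.TensorProduct.lift g₁ g₂ (fun _ _ => Commute.all _ _)
  haveI : Algebra.Etale R (TensorProduct R S₁ S₂) := Algebra.Etale.comp R S₁ (TensorProduct R S₁ S₂)
  haveI hprime : (RingHom.ker g.toRingHom).IsPrime := RingHom.ker_isPrime _
  have hq₃ : p = (RingHom.ker g.toRingHom).comap (algebraMap R (TensorProduct R S₁ S₂)) := by
    ext r
    rw [Ideal.mem_comap, RingHom.mem_ker]
    change _ ↔ g (algebraMap R _ r) = 0
    rw [AlgHom.commutes, Ideal.algebraMap_residueField_eq_zero]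
  refine ⟨TensorProduct R S₁ S₂, inferInstance, inferInstance, inferInstance, RingHom.ker g.toRingHom,
    hprime, hq₃, ?_, Algebra.TensorProduct.includeLeft, Algebra.TensorProduct.includeRight, ?_, ?_⟩
  · -- bijectivity on residue fields
    let h : (RingHom.ker g.toRingHom).ResidueField →+* p.ResidueField :=
      Ideal.ResidueField.lift (RingHom.ker g.toRingHom) g.toRingHom le_rfl (by
        intro x hx
        rw [Submonoid.mem_comap]
        change IsUnit (g x)
        rw [isUnit_iff_ne_zero]
        exact fun h0 => hx h0)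
    have hcomp : h.comp (Ideal.ResidueField.map p (RingHom.ker g.toRingHom)
        (algebraMap R (TensorProduct R S₁ S₂)) hq₃) = RingHom.id _ := by
      apply Ideal.ResidueField.ringHom_ext
      ext r
      simp only [RingHom.comp_apply, RingHom.id_apply]
      rw [Ideal.ResidueField.map_algebraMap, Ideal.ResidueField.lift_algebraMap]
      change g (algebraMap R _ r) = _
      rw [AlgHom.commutes]
    refine ⟨RingHom.injective _, fun y => ⟨h y, ?_⟩⟩
    apply h.injective
    exact congrFun (congrArg DFunLike.coe hcomp) (h y)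
  · ext x
    rw [Ideal.mem_comap, RingHom.mem_ker]
    change g (TensorProduct.tmul R x 1) = 0 ↔ _
    rw [Algebra.TensorProduct.lift_tmul, map_one, mul_one]
    exact toK_eq_zero_iff p S₁ q₁ hq₁ hq₁κ x
  · ext x
    rw [Ideal.mem_comap, RingHom.mem_ker]
    change g (TensorProduct.tmul R 1 x) = 0 ↔ _
    rw [Algebra.TensorProduct.lift_tmul, map_one, one_mul]
    exact toK_eq_zero_iff p S₂ q₂ hq₂ hq₂κ x

end Groth.Agent.S9468
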