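import Groth.Statements.S9469
import Groth.Agent.S9468
-- import your own Groth.Agent.* helpers here

set_option autoImplicit false
universe u
open Hensel

namespace Groth.Agent.S9469

section Helpers
open TensorProduct KaehlerDifferential

open Groth.Agent.S9468 in
/-- Any `R`-algebra map `S₁ → κ(p)` with kernel `q₁` is the canonical one. -/
theorem eq_toK {R : Type u} [CommRing R] (p : Ideal R) [p.IsPrime]
    (S₁ : Type u) [CommRing S₁] [Algebra R S₁] (q₁ : Ideal S₁) [q₁.IsPrime]
    (hq₁ : p = q₁.comap (algebraMap R S₁))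
    (hq₁κ : Function.Bijective (Ideal.ResidueField.map p q₁ (algebraMap R S₁) hq₁))
    (f : S₁ →ₐ[R] p.ResidueField) (hf : RingHom.ker f.toRingHom = q₁) :
    f = toK p S₁ q₁ hq₁ hq₁κ := by
  have hunit : q₁.primeCompl ≤ (IsUnit.submonoid p.ResidueField).comap f.toRingHom := by
    intro x hx
    rw [Submonoid.mem_comap]
    change IsUnit (f x)
    rw [isUnit_iff_ne_zero]
    intro h0
    apply hx
    rw [← hf]
    exact h0
  let l : q₁.ResidueField →+* p.ResidueField :=
    Ideal.ResidueField.lift q₁ f.toRingHom (le_of_eq hf.symm) hunit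
  have hcomp : l.comp (Ideal.ResidueField.map p q₁ (algebraMap R S₁) hq₁) = RingHom.id _ := by
    apply Ideal.ResidueField.ringHom_ext
    ext r
    simp only [RingHom.comp_apply, RingHom.id_apply]
    rw [Ideal.ResidueField.map_algebraMap, Ideal.ResidueField.lift_algebraMap]
    change f (algebraMap R _ r) = _
    rw [AlgHom.commutes]
  ext x
  change f x = (RingEquiv.ofBijective _ hq₁κ).symm (algebraMap S₁ q₁.ResidueField x)
  rw [RingEquiv.eq_symm_apply]
  simp only [RingEquiv.ofBijective_apply]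
  have h1 : l (algebraMap S₁ q₁.ResidueField x) = f x := Ideal.ResidueField.lift_algebraMap _ _ _ hunit x
  apply l.injective
  rw [h1]
  exact congrFun (congrArg DFunLike.coe hcomp) (f x)

/-- If `g : S →ₐ[R] κ(p)`, then its kernel lies over `p` with trivial residue field extension. -/
theorem bijective_of_algHom {R : Type u} [CommRing R] (p : Ideal R) [p.IsPrime]
    (S : Type u) [CommRing S] [Algebra R S] (g : S →ₐ[R] p.ResidueField)
    [(RingHom.ker g.toRingHom).IsPrime]
    (hq : p = (RingHom.ker g.toRingHom).comap (algebraMap R S)) :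
    Function.Bijective (Ideal.ResidueField.map p (RingHom.ker g.toRingHom) (algebraMap R S) hq) := by
  let h : (RingHom.ker g.toRingHom).ResidueField →+* p.ResidueField :=
    Ideal.ResidueField.lift (RingHom.ker g.toRingHom) g.toRingHom le_rfl (by
      intro x hx
      rw [Submonoid.mem_comap]
      change IsUnit (g x)
      rw [isUnit_iff_ne_zero]
      exact fun h0 => hx h0)
  have hcomp : h.comp (Ideal.ResidueField.map p (RingHom.ker g.toRingHom)
      (algebraMap R S) hq) = RingHom.id _ := by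
    apply Ideal.ResidueField.ringHom_ext
    ext r
    simp only [RingHom.comp_apply, RingHom.id_apply]
    rw [Ideal.ResidueField.map_algebraMap, Ideal.ResidueField.lift_algebraMap]
    change g (algebraMap R _ r) = _
    rw [AlgHom.commutes]
  refine ⟨RingHom.injective _, fun y => ⟨h y, ?_⟩⟩
  apply h.injective
  exact congrFun (congrArg DFunLike.coe hcomp) (h y)

theorem comap_ker_algebraMap {R : Type u} [CommRing R] (p : Ideal R) [p.IsPrime]
    (S : Type u) [CommRing S] [Algebra R S] (g : S →ₐ[R] p.ResidueField) :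
    p = (RingHom.ker g.toRingHom).comap (algebraMap R S) := by
  ext r
  rw [Ideal.mem_comap, RingHom.mem_ker]
  change _ ↔ g (algebraMap R _ r) = 0
  rw [AlgHom.commutes, Ideal.algebraMap_residueField_eq_zero]


theorem exists_idem (R : Type u) [CommRing R] (S₁ : Type u) [CommRing S₁] [Algebra R S₁]
    [Algebra.Etale R S₁] : ∃ e, IsIdempotentElem e ∧
      KaehlerDifferential.ideal R S₁ = Ideal.span {e} :=
  (Ideal.isIdempotentElem_iff_of_fg _ (KaehlerDifferential.ideal_fg R S₁)).mp <|
    (Ideal.cotangent_subsingleton_iff _).mp <| inferInstanceAs <| Subsingleton (Ω[S₁⁄R])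

end Helpers

/-- Let R be a ring and p a prime of R. Consider pairs (S, q) with S an étale R-algebra and q a prime of
S lying over p such that κ(p) → κ(q) is bijective; a morphism of pairs is an R-algebra map pulling
the second prime back to the first. Then any two parallel morphisms of pairs φ, ψ : (S₁, q₁) → (S₂,
q₂) are coequalized by a morphism of pairs (S₂, q₂) → (S₃, q₃). -/
theorem result (R : Type u) [CommRing R]
    (p : Ideal R) [p.IsPrime] (S₁ : Type u) [CommRing S₁] [Algebra R S₁] [Algebra.Etale R S₁] (q₁ : Ideal S₁) [q₁.IsPrime] (hq₁ : p = q₁.comap (algebraMap R S₁))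
    (hq₁κ : Function.Bijective (Ideal.ResidueField.map p q₁ (algebraMap R S₁) hq₁))
    (S₂ : Type u) [CommRing S₂] [Algebra R S₂] [Algebra.Etale R S₂] (q₂ : Ideal S₂) [q₂.IsPrime] (hq₂ : p = q₂.comap (algebraMap R S₂))
    (hq₂κ : Function.Bijective (Ideal.ResidueField.map p q₂ (algebraMap R S₂) hq₂))
    (φ ψ : S₁ →ₐ[R] S₂) (hφ : q₂.comap φ.toRingHom = q₁) (hψ : q₂.comap ψ.toRingHom = q₁) :
    ∃ (S₃ : Type u) (_ : CommRing S₃) (_ : Algebra R S₃) (_ : Algebra.Etale R S₃) (q₃ : Ideal S₃)
      (_ : q₃.IsPrime) (hq₃ : p = q₃.comap (algebraMap R S₃)),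
      Function.Bijective (Ideal.ResidueField.map p q₃ (algebraMap R S₃) hq₃) ∧
        ∃ χ : S₂ →ₐ[R] S₃, q₃.comap χ.toRingHom = q₂ ∧ χ.comp φ = χ.comp ψ := by
  classical
  open Groth.Agent.S9468 in
  let g₁ := toK p S₁ q₁ hq₁ hq₁κ
  open Groth.Agent.S9468 in
  let g₂ := toK p S₂ q₂ hq₂ hq₂κ
  have hg₂ : ∀ x, g₂ x = 0 ↔ x ∈ q₂ := Groth.Agent.S9468.toK_eq_zero_iff p S₂ q₂ hq₂ hq₂κ
  have hφ' : g₂.comp φ = g₁ := by
    apply eq_toK
    ext x
    rw [RingHom.mem_ker, ← hφ, Ideal.mem_comap]
    exact hg₂ (φ x)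
  have hψ' : g₂.comp ψ = g₁ := by
    apply eq_toK
    ext x
    rw [RingHom.mem_ker, ← hψ, Ideal.mem_comap]
    exact hg₂ (ψ x)
  obtain ⟨e, he, hsp⟩ := exists_idem R S₁
  let Φ : TensorProduct R S₁ S₁ →ₐ[R] S₂ := Algebra.TensorProduct.lift φ ψ (fun _ _ => Commute.all _ _)
  have hΦ : g₂.comp Φ = g₁.comp (Algebra.TensorProduct.lmul' R) := by
    apply Algebra.TensorProduct.ext'
    intro a b
    simp only [AlgHom.comp_apply, Φ, Algebra.TensorProduct.lift_tmul,
      Algebra.TensorProduct.lmul'_apply_tmul, map_mul]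
    have h1 : g₂ (φ a) = g₁ a := congrFun (congrArg DFunLike.coe hφ') a
    have h2 : g₂ (ψ b) = g₁ b := congrFun (congrArg DFunLike.coe hψ') b
    rw [h1, h2]
  have he' : IsIdempotentElem (Φ e) := he.map Φ
  have heker : Algebra.TensorProduct.lmul' R e = 0 := by
    have : e ∈ KaehlerDifferential.ideal R S₁ := by
      rw [hsp]; exact Ideal.mem_span_singleton_self e
    exact this
  have hg₂e : g₂ (Φ e) = 0 := by
    have := congrFun (congrArg DFunLike.coe hΦ) e
    simp only [AlgHom.comp_apply] at this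
    rw [this, heker, map_zero]
  have hunits : ∀ y : Submonoid.powers (1 - Φ e), IsUnit (g₂ y) := by
    rintro ⟨_, n, rfl⟩
    simp [hg₂e]
  let g₃ : Localization.Away (1 - Φ e) →ₐ[R] p.ResidueField :=
    IsLocalization.liftAlgHom (M := Submonoid.powers (1 - Φ e)) (f := g₂) hunits
  have hg₃ : ∀ x : S₂, g₃ (algebraMap S₂ (Localization.Away (1 - Φ e)) x) = g₂ x := by
    intro x
    rw [IsLocalization.liftAlgHom_apply, IsLocalization.lift_eq]
    rfl
  haveI : Algebra.Etale S₂ (Localization.Away (1 - Φ e)) :=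
    Algebra.Etale.of_isLocalizationAway (1 - Φ e)
  haveI : Algebra.Etale R (Localization.Away (1 - Φ e)) :=
    Algebra.Etale.comp R S₂ (Localization.Away (1 - Φ e))
  haveI hprime : (RingHom.ker g₃.toRingHom).IsPrime := RingHom.ker_isPrime _
  have hq₃ := comap_ker_algebraMap p (Localization.Away (1 - Φ e)) g₃
  have hezero : algebraMap S₂ (Localization.Away (1 - Φ e)) (Φ e) = 0 := by
    have hu : IsUnit (algebraMap S₂ (Localization.Away (1 - Φ e)) (1 - Φ e)) :=
      IsLocalization.Away.algebraMap_isUnit (1 - Φ e)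
    have h0 : algebraMap S₂ (Localization.Away (1 - Φ e)) (Φ e) *
        algebraMap S₂ (Localization.Away (1 - Φ e)) (1 - Φ e) = 0 := by
      rw [← map_mul, mul_sub, mul_one, he'.eq, sub_self, map_zero]
    exact (hu.mul_left_eq_zero).mp h0
  refine ⟨Localization.Away (1 - Φ e), inferInstance, inferInstance, inferInstance,
    RingHom.ker g₃.toRingHom, hprime, hq₃, bijective_of_algHom p _ g₃ hq₃,
    IsScalarTower.toAlgHom R S₂ _, ?_, ?_⟩
  · ext x
    rw [Ideal.mem_comap, RingHom.mem_ker]
    change g₃ (algebraMap S₂ _ x) = 0 ↔ _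
    rw [hg₃]
    exact hg₂ x
  · ext x
    simp only [AlgHom.comp_apply, IsScalarTower.coe_toAlgHom']
    have hmem : TensorProduct.tmul R (1 : S₁) x - TensorProduct.tmul R x (1 : S₁) ∈ KaehlerDifferential.ideal R S₁ :=
      KaehlerDifferential.one_smul_sub_smul_one_mem_ideal R x
    rw [hsp, Ideal.mem_span_singleton'] at hmem
    obtain ⟨t, ht⟩ := hmem
    have h1 := congrArg Φ ht
    simp only [map_mul, map_sub, Φ, Algebra.TensorProduct.lift_tmul, map_one, one_mul, mul_one] at h1
    have h2 := congrArg (algebraMap S₂ (Localization.Away (1 - Φ e))) h1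
    rw [map_mul] at h2
    change _ * algebraMap S₂ (Localization.Away (1 - Φ e)) (Φ e) = _ at h2
    rw [hezero, mul_zero, map_sub] at h2
    exact (sub_eq_zero.mp h2.symm).symm

end Groth.Agent.S9469
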