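import Groth.Statements.S9472
import Groth.Agent.Lib.DiffOpExt50

set_option autoImplicit false
universe u
open Diff16

namespace Groth.Agent.S9472

section helpers

open TensorProduct Groth.Agent.Lib.DiffOpComm

variable {R S S' : Type u} [CommRing R] [CommRing S] [CommRing S'] [Algebra R S] [Algebra R S']
  [Algebra S S'] [IsScalarTower R S S']

/-- restriction of an `S'`-differential operator along an `S`-semilinear map is an
`S`-differential operator. -/
theorem isDiffOpLE_restrict {M M' N' : Type u} [AddCommGroup M] [Module S M] [Module R M]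
    [IsScalarTower R S M] [AddCommGroup M'] [Module S' M'] [Module R M'] [IsScalarTower R S' M']
    [AddCommGroup N'] [Module S' N'] [Module R N'] [IsScalarTower R S' N']
    [Module S N'] [IsScalarTower R S N'] [IsScalarTower S S' N']
    (j : M →ₗ[R] M') (hj : ∀ (s : S) (m : M), j (s • m) = algebraMap S S' s • j m)
    (k : ℕ) (E : M' →ₗ[R] N') (hE : Diff16.IsDiffOpLE R S' M' N' k E) :
    Diff16.IsDiffOpLE R S M N' k (E ∘ₗ j) := by
  induction k generalizing E with
  | zero =>
    rw [isDiffOpLE_zero_iff] at *
    intro s m
    simp only [LinearMap.coe_comp, Function.comp_apply]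
    rw [hj, hE]
    exact algebraMap_smul S' s _
  | succ k ih =>
    rw [isDiffOpLE_succ_iff] at *
    intro s
    have : Diff16.commutator R S M N' (E ∘ₗ j) s =
        Diff16.commutator R S' M' N' E (algebraMap S S' s) ∘ₗ j := by
      ext m
      simp only [commutator_apply, LinearMap.coe_comp, Function.comp_apply]
      rw [hj]
      congr 1
      exact (algebraMap_smul S' s _).symm
    rw [this]
    exact ih _ (hE _)

/-- postcomposition of a differential operator with a linear map. -/
theorem isDiffOpLE_comp_linear {M' P' N' : Type u} [AddCommGroup M'] [Module S' M'] [Module R M']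
    [IsScalarTower R S' M'] [AddCommGroup P'] [Module S' P'] [Module R P'] [IsScalarTower R S' P']
    [AddCommGroup N'] [Module S' N'] [Module R N'] [IsScalarTower R S' N']
    (α : P' →ₗ[S'] N') (k : ℕ) (E : M' →ₗ[R] P') (hE : Diff16.IsDiffOpLE R S' M' P' k E) :
    Diff16.IsDiffOpLE R S' M' N' k (α.restrictScalars R ∘ₗ E) := by
  induction k generalizing E with
  | zero =>
    rw [isDiffOpLE_zero_iff] at *
    intro b m
    simp only [LinearMap.coe_comp, LinearMap.coe_restrictScalars, Function.comp_apply]
    rw [hE, map_smul]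
  | succ k ih =>
    rw [isDiffOpLE_succ_iff] at *
    intro b
    have : Diff16.commutator R S' M' N' (α.restrictScalars R ∘ₗ E) b =
        α.restrictScalars R ∘ₗ Diff16.commutator R S' M' P' E b := by
      ext m
      simp [commutator_apply]
    rw [this]
    exact ih _ (hE b)

end helpers

open TensorProduct in
/-- Let R → S → S' be ring maps with S → S' formally étale, M an S-module and (P, D_u) a module of
principal parts of order k of M relative to R → S, i.e. D_u : M → P is a differential operator of
order at most k through which every differential operator of order at most k from M to an S-module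
factors by a unique S-linear map. If D_u' : S' ⊗_S M → S' ⊗_S P is a differential operator of order
at most k relative to R → S' with D_u'(1 ⊗ m) = 1 ⊗ D_u(m), then (S' ⊗_S P, D_u') is a module of
principal parts of order k of S' ⊗_S M relative to R → S'. (The published statement writes this as
an identification of S' ⊗_S P^k_{S/R}(M) with P^k_{S'/R}(M') and forms M' by base change over R
rather than over S; with base change over R the identification fails already for k = 0, R the
rationals, S = S' a polynomial ring in one variable and M = S, and the published proof computes with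
the base change over S, used here. Target modules are taken in one universe.) -/
theorem result (R S S' : Type u) [CommRing R]
    [CommRing S] [CommRing S'] [Algebra R S] [Algebra R S'] [Algebra S S'] [IsScalarTower R S S']
    [Algebra.FormallyEtale S S'] (M : Type u) [AddCommGroup M] [Module S M] [Module R M]
    [IsScalarTower R S M] (k : ℕ) (P : Type u) [AddCommGroup P] [Module S P] [Module R P]
    [IsScalarTower R S P] (Du : M →ₗ[R] P) (hDu : Diff16.IsDiffOpLE R S M P k Du)
    (huniv : ∀ (N : Type u) [AddCommGroup N] [Module S N] [Module R N] [IsScalarTower R S N]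
      (D : M →ₗ[R] N), Diff16.IsDiffOpLE R S M N k D → ∃! α : P →ₗ[S] N, α.restrictScalars R ∘ₗ Du = D)
    (Du' : S' ⊗[S] M →ₗ[R] S' ⊗[S] P) (hDu' : Diff16.IsDiffOpLE R S' (S' ⊗[S] M) (S' ⊗[S] P) k Du')
    (hext : Du' ∘ₗ (TensorProduct.mk S S' M 1).restrictScalars R =
      (TensorProduct.mk S S' P 1).restrictScalars R ∘ₗ Du) :
    ∀ (N' : Type u) [AddCommGroup N'] [Module S' N'] [Module R N'] [IsScalarTower R S' N']
      (D' : S' ⊗[S] M →ₗ[R] N'), Diff16.IsDiffOpLE R S' (S' ⊗[S] M) N' k D' →
        ∃! α : S' ⊗[S] P →ₗ[S'] N', α.restrictScalars R ∘ₗ Du' = D' := by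
  intro N' _ _ _ _ D' hD'
  letI instS : Module S N' := Module.compHom N' (algebraMap S S')
  haveI towerSS' : IsScalarTower S S' N' := ⟨fun s t n => by
    change (s • t) • n = algebraMap S S' s • t • n
    rw [Algebra.smul_def, mul_smul]⟩
  haveI towerRS : IsScalarTower R S N' := ⟨fun r s n => by
    change algebraMap S S' (r • s) • n = r • algebraMap S S' s • n
    rw [Algebra.smul_def, map_mul, ← IsScalarTower.algebraMap_apply, mul_smul, algebraMap_smul]⟩
  let jM : M →ₗ[R] S' ⊗[S] M := (TensorProduct.mk S S' M 1).restrictScalars R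
  have hjM' : ∀ (s : S) (m : M),
      (1 : S') ⊗ₜ[S] (s • m) = algebraMap S S' s • ((1 : S') ⊗ₜ[S] m) := by
    intro s m
    rw [TensorProduct.smul_tmul', TensorProduct.tmul_smul, TensorProduct.smul_tmul',
      Algebra.smul_def, smul_eq_mul]
  have hjM : ∀ (s : S) (m : M), jM (s • m) = algebraMap S S' s • jM m := hjM'
  have hD₀ : Diff16.IsDiffOpLE R S M N' k (D' ∘ₗ jM) := isDiffOpLE_restrict jM hjM k D' hD'
  obtain ⟨α₀, hα₀, hα₀u⟩ := huniv N' (D' ∘ₗ jM) hD₀
  have hDu'1 : ∀ m : M, Du' ((1 : S') ⊗ₜ[S] m) = (1 : S') ⊗ₜ[S] Du m := fun m =>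
    LinearMap.congr_fun hext m
  have key : ∀ α : S' ⊗[S] P →ₗ[S'] N', (∀ p : P, α ((1 : S') ⊗ₜ[S] p) = α₀ p) →
      α.restrictScalars R ∘ₗ Du' = D' := by
    intro α hα
    have hsub := Groth.Agent.Lib.DiffOpExt50.isDiffOpLE_sub
      (isDiffOpLE_comp_linear α k Du' hDu') hD'
    have hz := Groth.Agent.Lib.DiffOpExt50.eq_zero_of_vanish R S S'
      (fun m : M => (1 : S') ⊗ₜ[S] m) hjM'
      (Groth.Agent.Lib.DiffOpExt50.span_one_tmul S S' M) k _ hsub (by
        intro m
        have e1 := LinearMap.congr_fun hα₀ m
        simp only [LinearMap.sub_apply, LinearMap.coe_comp, LinearMap.coe_restrictScalars,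
          Function.comp_apply] at e1 ⊢
        rw [hDu'1, hα, e1]
        simp [jM])
    exact sub_eq_zero.mp hz
  refine ⟨LinearMap.liftBaseChange S' α₀, key _ (fun p => by simp), ?_⟩
  intro α' hα'
  have h0 : (α'.restrictScalars S) ∘ₗ (TensorProduct.mk S S' P 1) = α₀ := by
    apply hα₀u
    ext m
    have e1 := LinearMap.congr_fun hα' ((1 : S') ⊗ₜ[S] m)
    simp only [LinearMap.coe_comp, LinearMap.coe_restrictScalars, Function.comp_apply] at e1 ⊢
    rw [TensorProduct.mk_apply, ← hDu'1, e1]
    rfl
  apply TensorProduct.AlgebraTensorModule.curry_injective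
  ext p
  have := LinearMap.congr_fun h0 p
  simpa using this

end Groth.Agent.S9472
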