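import Groth.Statements.S9474
import Mathlib

set_option autoImplicit false
universe u
open CAlg

namespace Groth.Agent.S9474

section helpers
open TensorProduct


theorem derivation_sum_apply {R A M ι : Type*} [CommSemiring R] [CommSemiring A] [Algebra R A]
    [AddCommMonoid M] [Module A M] [Module R M] (s : Finset ι) (D : ι → Derivation R A M) (a : A) :
    (∑ l ∈ s, D l) a = ∑ l ∈ s, D l a := by
  classical
  induction s using Finset.induction_on with
  | empty => simp
  | insert i s hi ih => rw [Finset.sum_insert hi, Finset.sum_insert hi, Derivation.add_apply, ih]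

/-- A derivation of a polynomial ring in finitely many variables in terms of partial
derivatives. -/
theorem derivation_eq_sum_pderiv {R₀ : Type*} [CommRing R₀] {n : ℕ} {M : Type*} [AddCommGroup M]
    [Module R₀ M] [Module (MvPolynomial (Fin n) R₀) M] [IsScalarTower R₀ (MvPolynomial (Fin n) R₀) M]
    (d : Derivation R₀ (MvPolynomial (Fin n) R₀) M) (f : MvPolynomial (Fin n) R₀) :
    d f = ∑ l, MvPolynomial.pderiv l f • d (MvPolynomial.X l) := by
  let d₂ : Derivation R₀ (MvPolynomial (Fin n) R₀) M :=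
    ∑ l, (LinearMap.toSpanSingleton (MvPolynomial (Fin n) R₀) M (d (MvPolynomial.X l))).compDer
      (MvPolynomial.pderiv l)
  have key : ∀ g, d₂ g = ∑ l, MvPolynomial.pderiv l g • d (MvPolynomial.X l) := by
    intro g
    simp only [d₂]
    rw [derivation_sum_apply]
    rfl
  have h : d = d₂ := by
    apply MvPolynomial.derivation_ext
    intro i
    rw [key, Finset.sum_eq_single i]
    · rw [MvPolynomial.pderiv_X_self, one_smul]
    · intro l _ hl
      rw [MvPolynomial.pderiv_X_of_ne (Ne.symm hl), zero_smul]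
    · intro hi
      exact absurd (Finset.mem_univ i) hi
  rw [h, key, ← h]


/-- the ideal of relations of the standard unramified model -/
noncomputable def relIdeal {R₀ : Type*} [CommRing R₀] {n : ℕ} (f : Fin n → MvPolynomial (Fin n) R₀) :
    Ideal (MvPolynomial (Fin n) R₀) :=
  Ideal.span (Set.range f ∪ Set.range (fun il : Fin n × Fin n =>
    MvPolynomial.pderiv il.2 (f il.1) - if il.1 = il.2 then 1 else 0))

theorem formallyUnramified_quotient {R₀ : Type*} [CommRing R₀] {n : ℕ}
    (f : Fin n → MvPolynomial (Fin n) R₀) :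
    Algebra.FormallyUnramified R₀ (MvPolynomial (Fin n) R₀ ⧸ relIdeal f) := by
  let d' : Derivation R₀ (MvPolynomial (Fin n) R₀) Ω[(MvPolynomial (Fin n) R₀ ⧸ relIdeal f)⁄R₀] :=
    (KaehlerDifferential.D R₀ (MvPolynomial (Fin n) R₀ ⧸ relIdeal f)).compAlgebraMap
      (MvPolynomial (Fin n) R₀)
  have hd' : ∀ g : MvPolynomial (Fin n) R₀, d' g =
      KaehlerDifferential.D R₀ (MvPolynomial (Fin n) R₀ ⧸ relIdeal f) (Ideal.Quotient.mk _ g) :=
    fun g => rfl
  have hf : ∀ i, Ideal.Quotient.mk (relIdeal f) (f i) = 0 := fun i =>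
    Ideal.Quotient.eq_zero_iff_mem.mpr (Ideal.subset_span (Or.inl ⟨i, rfl⟩))
  have hpd : ∀ i l, Ideal.Quotient.mk (relIdeal f) (MvPolynomial.pderiv l (f i)) =
      if i = l then 1 else 0 := by
    intro i l
    have : MvPolynomial.pderiv l (f i) - (if i = l then 1 else 0) ∈ relIdeal f :=
      Ideal.subset_span (Or.inr ⟨(i, l), rfl⟩)
    have h2 := Ideal.Quotient.eq_zero_iff_mem.mpr this
    rw [map_sub, sub_eq_zero] at h2
    rw [h2]
    split_ifs <;> simp
  have hX : ∀ i, d' (MvPolynomial.X i) = 0 := by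
    intro i
    have h1 : d' (f i) = 0 := by rw [hd', hf, map_zero]
    rw [derivation_eq_sum_pderiv d' (f i), Finset.sum_eq_single i] at h1
    · rw [← algebraMap_smul (MvPolynomial (Fin n) R₀ ⧸ relIdeal f), Ideal.Quotient.algebraMap_eq,
        hpd, if_pos rfl, one_smul] at h1
      exact h1
    · intro l _ hl
      rw [← algebraMap_smul (MvPolynomial (Fin n) R₀ ⧸ relIdeal f), Ideal.Quotient.algebraMap_eq,
        hpd, if_neg (Ne.symm hl)]
      trace_state
      exact zero_smul (MvPolynomial (Fin n) R₀ ⧸ relIdeal f) (d' (MvPolynomial.X l))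
    · intro hi
      exact absurd (Finset.mem_univ i) hi
  have hd0 : d' = 0 := MvPolynomial.derivation_ext fun i => by rw [hX]; rfl
  have hD : ∀ s : MvPolynomial (Fin n) R₀ ⧸ relIdeal f,
      KaehlerDifferential.D R₀ (MvPolynomial (Fin n) R₀ ⧸ relIdeal f) s = 0 := by
    intro s
    obtain ⟨g, rfl⟩ := Ideal.Quotient.mk_surjective s
    rw [← hd', hd0]
    rfl
  refine ⟨?_⟩
  have hsp := KaehlerDifferential.span_range_derivation R₀ (MvPolynomial (Fin n) R₀ ⧸ relIdeal f)
  have hbot : (⊥ : Submodule (MvPolynomial (Fin n) R₀ ⧸ relIdeal f)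
      Ω[(MvPolynomial (Fin n) R₀ ⧸ relIdeal f)⁄R₀]) = ⊤ := by
    rw [← hsp, eq_comm, Submodule.span_eq_bot]
    rintro _ ⟨x, rfl⟩
    exact hD x
  exact (Submodule.subsingleton_iff (MvPolynomial (Fin n) R₀ ⧸ relIdeal f)).1
    (subsingleton_of_bot_eq_top hbot)


/-- Existence of the relations: if `S` is unramified over `R` and `φ : R[x₁,…,xₙ] → S` is
surjective, there are `fᵢ ∈ ker φ` with `φ (∂fᵢ/∂xₗ) = δᵢₗ`. -/
theorem exists_relations {R S : Type*} [CommRing R] [CommRing S] [Algebra R S]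
    [Algebra.FormallyUnramified R S] {n : ℕ} (φ : MvPolynomial (Fin n) R →ₐ[R] S)
    (hφ : Function.Surjective φ) :
    ∃ f : Fin n → MvPolynomial (Fin n) R, (∀ i, φ (f i) = 0) ∧
      ∀ i l, φ (MvPolynomial.pderiv l (f i)) = if i = l then 1 else 0 := by
  classical
  let _ : Algebra (MvPolynomial (Fin n) R) S := φ.toRingHom.toAlgebra
  have : IsScalarTower R (MvPolynomial (Fin n) R) S :=
    IsScalarTower.of_algebraMap_eq fun r => (φ.commutes r).symm
  have hsurj : Function.Surjective (algebraMap (MvPolynomial (Fin n) R) S) := hφ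
  have hex := KaehlerDifferential.exact_kerCotangentToTensor_mapBaseChange R
    (MvPolynomial (Fin n) R) S hsurj
  have key : ∀ i : Fin n, ∃ g : MvPolynomial (Fin n) R, φ g = 0 ∧
      (1 : S) ⊗ₜ[MvPolynomial (Fin n) R] KaehlerDifferential.D R (MvPolynomial (Fin n) R) g =
        (1 : S) ⊗ₜ[MvPolynomial (Fin n) R]
          KaehlerDifferential.D R (MvPolynomial (Fin n) R) (MvPolynomial.X i) := by
    intro i
    have h0 : KaehlerDifferential.mapBaseChange R (MvPolynomial (Fin n) R) S
        ((1 : S) ⊗ₜ[MvPolynomial (Fin n) R]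
          KaehlerDifferential.D R (MvPolynomial (Fin n) R) (MvPolynomial.X i)) = 0 :=
      Subsingleton.elim _ _
    obtain ⟨c, hc⟩ := (hex _).mp h0
    obtain ⟨g, rfl⟩ := Ideal.toCotangent_surjective _ c
    refine ⟨g.1, RingHom.mem_ker.mp g.2, ?_⟩
    rw [← hc, KaehlerDifferential.kerCotangentToTensor_toCotangent]
  choose f hf0 hf using key
  refine ⟨f, hf0, fun i l => ?_⟩
  let ℓ : S ⊗[MvPolynomial (Fin n) R] Ω[MvPolynomial (Fin n) R⁄R] →ₗ[S] S :=
    LinearMap.liftBaseChange S ((Algebra.linearMap (MvPolynomial (Fin n) R) S).comp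
      ((KaehlerDifferential.mvPolynomialBasis R (Fin n)).coord l))
  have h1 := congrArg ℓ (hf i)
  simp only [ℓ, LinearMap.liftBaseChange_tmul, LinearMap.comp_apply, Module.Basis.coord_apply,
    KaehlerDifferential.mvPolynomialBasis_repr_apply, Algebra.linearMap_apply, one_smul] at h1
  change φ _ = φ _ at h1
  rw [h1, MvPolynomial.pderiv_X]
  rw [Pi.single_apply]
  split_ifs <;> simp


theorem exists_surjective_of_lift {R S R₀ : Type*} [CommRing R] [CommRing S] [Algebra R S]
    [CommRing R₀] [Algebra R₀ R] [Algebra R₀ S] [IsScalarTower R₀ R S] {n : ℕ}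
    (φ : MvPolynomial (Fin n) R →ₐ[R] S) (hφ : Function.Surjective φ)
    (f₀ : Fin n → MvPolynomial (Fin n) R₀)
    (hf0 : ∀ i, φ (MvPolynomial.map (algebraMap R₀ R) (f₀ i)) = 0)
    (hfd : ∀ i l, φ (MvPolynomial.pderiv l (MvPolynomial.map (algebraMap R₀ R) (f₀ i))) =
      if i = l then 1 else 0) :
    ∃ ψ : R ⊗[R₀] (MvPolynomial (Fin n) R₀ ⧸ relIdeal f₀) →ₐ[R] S, Function.Surjective ψ := by
  classical
  let θ : MvPolynomial (Fin n) R₀ →ₐ[R₀] S := MvPolynomial.aeval fun i => φ (MvPolynomial.X i)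
  have hθ : ∀ g : MvPolynomial (Fin n) R₀, θ g = φ (MvPolynomial.map (algebraMap R₀ R) g) := by
    intro g
    have h1 : φ = MvPolynomial.aeval fun i => φ (MvPolynomial.X i) :=
      MvPolynomial.aeval_unique φ
    rw [h1, MvPolynomial.aeval_map_algebraMap]
  have hker : ∀ a ∈ relIdeal f₀, θ a = 0 := by
    intro a ha
    have : relIdeal f₀ ≤ RingHom.ker θ.toRingHom := by
      rw [relIdeal, Ideal.span_le]
      rintro x (⟨i, rfl⟩ | ⟨⟨i, l⟩, rfl⟩)
      · change θ (f₀ i) = 0
        rw [hθ, hf0]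
      · change θ _ = 0
        rw [hθ, map_sub, map_sub, ← MvPolynomial.pderiv_map, hfd]
        simp only
        split_ifs <;> simp
    exact this ha
  let θ' : (MvPolynomial (Fin n) R₀ ⧸ relIdeal f₀) →ₐ[R₀] S := Ideal.Quotient.liftₐ _ θ hker
  let ψ : R ⊗[R₀] (MvPolynomial (Fin n) R₀ ⧸ relIdeal f₀) →ₐ[R] S :=
    Algebra.TensorProduct.lift (Algebra.ofId R S) θ' fun _ _ => Commute.all _ _
  refine ⟨ψ, ?_⟩
  intro x
  obtain ⟨p, rfl⟩ := hφ x
  induction p using MvPolynomial.induction_on with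
  | C r =>
    refine ⟨r ⊗ₜ[R₀] (1 : MvPolynomial (Fin n) R₀ ⧸ relIdeal f₀), ?_⟩
    simp only [ψ, Algebra.TensorProduct.lift_tmul, map_one, mul_one]
    rw [Algebra.ofId_apply, ← MvPolynomial.algebraMap_eq, φ.commutes r]
  | add p q hp hq =>
    obtain ⟨a, ha⟩ := hp
    obtain ⟨b, hb⟩ := hq
    exact ⟨a + b, by rw [map_add, map_add, ha, hb]⟩
  | mul_X p i hp =>
    obtain ⟨a, ha⟩ := hp
    refine ⟨a * ((1 : R) ⊗ₜ[R₀] Ideal.Quotient.mk _ (MvPolynomial.X i)), ?_⟩
    rw [map_mul, map_mul, ha]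
    congr 1
    simp only [ψ, Algebra.TensorProduct.lift_tmul, map_one, one_mul, θ']
    change θ (MvPolynomial.X i) = _
    simp only [θ, MvPolynomial.aeval_X]


end helpers

open TensorProduct in
/-- If R → S is unramified (of finite type with vanishing module of differentials), then there are a
finite type ℤ-algebra R₀, an unramified R₀-algebra S₀, a ring map R₀ → R, and a surjective R-algebra
map from R ⊗_{R₀} S₀ onto S. -/
theorem result (R : Type u) [CommRing R] (S : Type u)
    [CommRing S] [Algebra R S] [Algebra.Unramified R S] :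
    ∃ (R₀ : Type u) (_ : CommRing R₀) (_ : Algebra.FiniteType ℤ R₀) (S₀ : Type u) (_ : CommRing S₀)
      (_ : Algebra R₀ S₀) (_ : Algebra.Unramified R₀ S₀) (_ : Algebra R₀ R)
      (ψ : R ⊗[R₀] S₀ →ₐ[R] S), Function.Surjective ψ := by
  classical
  obtain ⟨n, φ, hφ⟩ := Algebra.FiniteType.iff_quotient_mvPolynomial''.mp
    (inferInstance : Algebra.FiniteType R S)
  obtain ⟨f, hf0, hfd⟩ := exists_relations φ hφ
  -- the base ring
  let s : Finset R := Finset.univ.biUnion fun i => (f i).coeffs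
  have hft : Algebra.FiniteType ℤ (Algebra.adjoin ℤ (s : Set R)) :=
    (Subalgebra.fg_iff_finiteType _).mp (Subalgebra.fg_adjoin_finset s)
  have hlift : ∀ i, ∃ g : MvPolynomial (Fin n) (Algebra.adjoin ℤ (s : Set R)),
      MvPolynomial.map (algebraMap (Algebra.adjoin ℤ (s : Set R)) R) g = f i := by
    intro i
    have : f i ∈ Set.range (MvPolynomial.map (algebraMap (Algebra.adjoin ℤ (s : Set R)) R)) := by
      rw [MvPolynomial.mem_range_map_iff_coeffs_subset]
      intro c hc
      have hcs : c ∈ (s : Set R) := by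
        simp only [s, Finset.coe_biUnion, Set.mem_iUnion]
        exact ⟨i, Finset.mem_coe.mpr (Finset.mem_univ i), hc⟩
      exact ⟨⟨c, Algebra.subset_adjoin hcs⟩, rfl⟩
    exact this
  choose f₀ hf₀ using hlift
  obtain ⟨ψ, hψ⟩ := exists_surjective_of_lift (R₀ := Algebra.adjoin ℤ (s : Set R)) φ hφ f₀
    (fun i => by rw [hf₀, hf0]) (fun i l => by rw [hf₀, hfd])
  have hun : Algebra.Unramified (Algebra.adjoin ℤ (s : Set R))
      (MvPolynomial (Fin n) (Algebra.adjoin ℤ (s : Set R)) ⧸ relIdeal f₀) :=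
    { formallyUnramified := formallyUnramified_quotient f₀
      finiteType := inferInstance }
  refine ⟨Algebra.adjoin ℤ (s : Set R), inferInstance, ?_,
    MvPolynomial (Fin n) (Algebra.adjoin ℤ (s : Set R)) ⧸ relIdeal f₀, inferInstance, inferInstance,
    hun, inferInstance, ψ, hψ⟩
  convert hft

end Groth.Agent.S9474
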