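import Groth.Statements.S9495
import Mathlib.AlgebraicGeometry.Morphisms.QuasiCompact
import Mathlib.Topology.LocalAtTarget

set_option autoImplicit false
universe u
open SchMor

namespace Groth.Agent.S9495

open AlgebraicGeometry CategoryTheory TopologicalSpace in
/-- affine target case -/
lemma isClosed_range_of_affine {R A : CommRingCat.{u}} (h : Spec R ⟶ Spec A)
    (H : StableUnderSpecialization (Set.range h)) : IsClosed (Set.range h) := by
  obtain ⟨φ, rfl⟩ := Spec.homEquiv.symm.surjective h
  exact PrimeSpectrum.isClosed_range_of_stableUnderSpecialization φ.hom H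

open AlgebraicGeometry in
open CategoryTheory in
/-- For a quasi-compact morphism of schemes f : X → S, the image f(X) is closed in S if and only if it
is stable under specialization. -/
theorem result
    {X S : Scheme.{u}} (f : X ⟶ S) [QuasiCompact f] :
    IsClosed (Set.range f) ↔ StableUnderSpecialization (Set.range f) := by
  refine ⟨fun h ↦ h.stableUnderSpecialization, fun H ↦ ?_⟩
  have hcover : TopologicalSpace.IsOpenCover (fun V : S.affineOpens => (V : S.Opens)) :=
    iSup_affineOpens_eq_top S
  rw [hcover.isClosed_iff_coe_preimage]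
  intro V
  have hcomp : IsCompact ((f ⁻¹ᵁ V.1 : X.Opens) : Set X) := f.isCompact_preimage V.2.isCompact
  obtain ⟨R, g, hg⟩ := isCompact_iff_exists.mp hcomp
  -- the composite lands in V
  have hrange : Set.range (g ≫ f) ⊆ Set.range V.1.ι := by
    rintro _ ⟨x, rfl⟩
    rw [Scheme.Opens.range_ι]
    have : g x ∈ (f ⁻¹ᵁ V.1 : X.Opens) := by
      rw [← SetLike.mem_coe, ← hg]; exact ⟨x, rfl⟩
    exact this
  let h' : Spec R ⟶ V.1.toScheme := IsOpenImmersion.lift V.1.ι (g ≫ f) hrange
  have hh' : h' ≫ V.1.ι = g ≫ f := IsOpenImmersion.lift_fac _ _ _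
  -- the preimage of range f in V is the range of h'
  have hpre : (Subtype.val ⁻¹' (Set.range f) : Set ((V : S.Opens) : Set S)) = Set.range h' := by
    ext v
    constructor
    · rintro ⟨x, hx⟩
      have hxV : x ∈ (f ⁻¹ᵁ V.1 : X.Opens) := by
        change f x ∈ V.1
        rw [hx]; exact v.2
      rw [← SetLike.mem_coe, ← hg] at hxV
      obtain ⟨y, rfl⟩ := hxV
      refine ⟨y, ?_⟩
      apply V.1.ι.isOpenEmbedding.injective
      rw [← Scheme.Hom.comp_apply, hh', Scheme.Hom.comp_apply, hx]
      rfl
    · rintro ⟨y, rfl⟩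
      refine ⟨g y, ?_⟩
      rw [← Scheme.Hom.comp_apply, ← hh', Scheme.Hom.comp_apply]
      rfl
  suffices key : IsClosed (Set.range h') by
    rw [← hpre] at key
    exact key
  -- transport to Spec Γ(S, V)
  let e := V.2.isoSpec
  have hclosed : IsClosed (Set.range (h' ≫ e.hom)) := by
    apply isClosed_range_of_affine
    intro a b hab ⟨y, hy⟩
    -- pull back the specialization to V and then to S
    have hab' : e.inv a ⤳ e.inv b := hab.map e.inv.continuous
    have hab'' : V.1.ι (e.inv a) ⤳ V.1.ι (e.inv b) := hab'.map V.1.ι.continuous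
    have ha : V.1.ι (e.inv a) ∈ Set.range f := by
      refine ⟨g y, ?_⟩
      rw [← hy, ← Scheme.Hom.comp_apply, ← Scheme.Hom.comp_apply, ← Scheme.Hom.comp_apply]
      simp only [Category.assoc, e.hom_inv_id_assoc, hh']
    obtain ⟨x, hx⟩ := H hab'' ha
    have hxV : x ∈ (f ⁻¹ᵁ V.1 : X.Opens) := by
      change f x ∈ V.1
      rw [hx]; exact (e.inv b).2
    rw [← SetLike.mem_coe, ← hg] at hxV
    obtain ⟨z, rfl⟩ := hxV
    refine ⟨z, ?_⟩
    have h1 : h' z = e.inv b := by
      apply V.1.ι.isOpenEmbedding.injective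
      rw [← Scheme.Hom.comp_apply, hh', Scheme.Hom.comp_apply, hx]
    rw [Scheme.Hom.comp_apply, h1, ← Scheme.Hom.comp_apply, e.inv_hom_id]
    rfl
  have : Set.range h' = e.hom ⁻¹' (Set.range (h' ≫ e.hom)) := by
    ext v
    constructor
    · rintro ⟨y, rfl⟩
      exact ⟨y, rfl⟩
    · rintro ⟨y, hy⟩
      refine ⟨y, ?_⟩
      have := congrArg e.inv hy
      rw [Scheme.Hom.comp_apply, ← Scheme.Hom.comp_apply, ← Scheme.Hom.comp_apply (f := e.hom),
        e.hom_inv_id] at this
      exact this
  rw [this]
  exact hclosed.preimage e.hom.continuous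

end Groth.Agent.S9495
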