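import Groth.Statements.S9500
import Mathlib.AlgebraicGeometry.Morphisms.FlatMono

set_option autoImplicit false
universe u
open SchMor

namespace Groth.Agent.S9500

open AlgebraicGeometry CategoryTheory Limits in
/-- A monomorphism with nonempty source to the spectrum of a field is an isomorphism. -/
lemma isIso_of_mono_of_field {K : Type u} [Field K] {X : Scheme.{u}}
    (f : X ⟶ Spec (CommRingCat.of K)) [Mono f] [Nonempty X] : IsIso f := by
  have : Subsingleton (Spec (CommRingCat.of K)) :=
    inferInstanceAs (Subsingleton (PrimeSpectrum K))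
  have : IsIntegral (Spec (CommRingCat.of K)) := inferInstance
  have : Flat f := inferInstance
  have hinj : Function.Injective f := f.injective
  have : Subsingleton X := hinj.subsingleton
  have : Surjective f := ⟨fun y => ⟨Classical.arbitrary X, Subsingleton.elim _ _⟩⟩
  have : QuasiCompact f := ⟨fun U _ _ => (Set.subsingleton_of_subsingleton).isCompact⟩
  exact Flat.isIso_of_surjective_of_mono f

open AlgebraicGeometry in
open CategoryTheory Limits in
/-- Let (k_i)_{i ∈ ι} be a family of fields, X = ∐_i Spec(k_i) the disjoint union, and f : Y → X a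
monomorphism of schemes. Then there are a subset J of ι and an isomorphism Y ≅ ∐_{j ∈ J} Spec(k_j)
over X, where ∐_{j ∈ J} Spec(k_j) maps to X by the coproduct inclusions. -/
theorem result
    {ι : Type u} (k : ι → Type u) [∀ i, Field (k i)]
    {Y : Scheme.{u}} (f : Y ⟶ ∐ fun i => Spec (CommRingCat.of (k i))) [Mono f] :
    ∃ (J : Set ι) (e : Y ≅ ∐ fun j : J => Spec (CommRingCat.of (k j.1))),
      e.hom ≫ Sigma.desc (fun j : J => Sigma.ι (fun i => Spec (CommRingCat.of (k i))) j.1) = f := by
  classical
  let g : ι → Scheme.{u} := fun i => Spec (CommRingCat.of (k i))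
  -- the pieces of `Y`
  let P : ι → Scheme.{u} := fun i => pullback f (Sigma.ι g i)
  let J : Set ι := {i | Nonempty (P i)}
  have hiso : ∀ j : J, IsIso (pullback.snd f (Sigma.ι g j.1)) := fun j => by
    have : Nonempty ↥(pullback f (Sigma.ι g j.1) : Scheme.{u}) := j.2
    exact isIso_of_mono_of_field (pullback.snd f (Sigma.ι g j.1))
  -- the lifts of the inclusions
  let α : ∀ j : J, g j.1 ⟶ Y := fun j =>
    (@asIso _ _ _ _ (pullback.snd f (Sigma.ι g j.1)) (hiso j)).inv ≫ pullback.fst f (Sigma.ι g j.1)
  have hα : ∀ j : J, α j ≫ f = Sigma.ι g j.1 := fun j => by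
    have := hiso j
    simp only [α, asIso_inv, Category.assoc, pullback.condition, IsIso.inv_hom_id_assoc]
  have hαimm : ∀ j : J, IsOpenImmersion (α j) := fun j => by
    have := hiso j
    dsimp only [α]
    infer_instance
  have hrange : ∀ j : J, Set.range (α j) = f ⁻¹' (Set.range (Sigma.ι g j.1)) := fun j => by
    have := hiso j
    have h1 : Set.range (α j) = Set.range (pullback.fst f (Sigma.ι g j.1)) := by
      dsimp only [α]
      rw [Scheme.Hom.comp_base, TopCat.coe_comp, Set.range_comp]
      have : Function.Surjective (inv (pullback.snd f (Sigma.ι g j.1))) :=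
        (inv (pullback.snd f (Sigma.ι g j.1))).homeomorph.surjective
      rw [asIso_inv, this.range_eq, Set.image_univ]
    rw [h1, Scheme.Pullback.range_fst]
  have hdisj : Pairwise (Function.onFun Disjoint (fun j : J => Set.range (α j))) := by
    intro i j hij
    dsimp only [Function.onFun]
    rw [hrange, hrange]
    apply Disjoint.preimage
    have := disjoint_opensRange_sigmaι g i.1 j.1 (fun h => hij (Subtype.ext h))
    rw [← TopologicalSpace.Opens.coe_disjoint] at this
    exact this
  have hopen : IsOpenImmersion (Sigma.desc α) := isOpenImmersion_sigmaDesc _ α hdisj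
  have hsurj : (Sigma.desc α).opensRange = ⊤ := by
    rw [eq_top_iff]
    intro y _
    obtain ⟨i, z, hz⟩ := (sigmaOpenCover g).exists_eq (f y)
    have hyP : y ∈ Set.range (pullback.fst f (Sigma.ι g i)) := by
      rw [Scheme.Pullback.range_fst]
      exact ⟨z, hz⟩
    obtain ⟨w, hw⟩ := hyP
    have hiJ : i ∈ J := ⟨w⟩
    have : y ∈ Set.range (α ⟨i, hiJ⟩) := by
      rw [hrange]
      exact ⟨z, hz⟩
    obtain ⟨t, ht⟩ := this
    refine ⟨Sigma.ι (fun j : J => g j.1) ⟨i, hiJ⟩ t, ?_⟩
    rw [← Scheme.Hom.comp_apply, Sigma.ι_desc, ht]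
  have hdesc : IsIso (Sigma.desc α) := isIso_of_isOpenImmersion_of_opensRange_eq_top _ hsurj
  refine ⟨J, (@asIso _ _ _ _ (Sigma.desc α) hdesc).symm, ?_⟩
  rw [Iso.symm_hom, asIso_inv, IsIso.inv_comp_eq]
  apply Sigma.hom_ext
  intro j
  rw [Sigma.ι_desc, Sigma.ι_desc_assoc, hα]

end Groth.Agent.S9500
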