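import Groth.Statements.S9499
import Groth.Agent.S9500

set_option autoImplicit false
universe u
open SchMor

namespace Groth.Agent.S9499

open AlgebraicGeometry in
open CategoryTheory Limits in
/-- Let (k_i) be a finite family of fields and f : X → Spec(∏_i k_i) a monomorphism of schemes. Then
there are a subset I of the index set and an isomorphism X ≅ Spec(∏_{i∈I} k_i) over Spec(∏_i k_i),
where Spec(∏_{i∈I} k_i) maps to Spec(∏_i k_i) through the projection ring homomorphism ∏_i k_i →
∏_{i∈I} k_i. -/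
theorem result
    {ι : Type u} [Finite ι] (k : ι → Type u) [∀ i, Field (k i)]
    {X : Scheme.{u}} (f : X ⟶ Spec (CommRingCat.of (Π i, k i))) [Mono f] :
    ∃ (I : Set ι) (e : X ≅ Spec (CommRingCat.of (Π i : I, k i))),
      e.hom ≫ Spec.map (CommRingCat.ofHom (Pi.ringHom fun i : I => Pi.evalRingHom k i.1)) = f := by
  let R : ι → CommRingCat.{u} := fun i => CommRingCat.of (k i)
  let σ : (∐ fun i => Spec (CommRingCat.of (k i))) ⟶ Spec (CommRingCat.of (Π i, k i)) :=
    sigmaSpec R
  have hσ : IsIso σ := inferInstanceAs (IsIso (sigmaSpec R))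
  let f' : X ⟶ ∐ fun i => Spec (CommRingCat.of (k i)) := f ≫ inv σ
  have : Mono f' := mono_comp f (inv σ)
  obtain ⟨J, e', he'⟩ := Groth.Agent.S9500.result k f'
  let RJ : J → CommRingCat.{u} := fun j => CommRingCat.of (k j.1)
  let σJ : (∐ fun j : J => Spec (CommRingCat.of (k j.1))) ⟶
      Spec (CommRingCat.of (Π j : J, k j.1)) := sigmaSpec RJ
  have hσJ : IsIso σJ := inferInstanceAs (IsIso (sigmaSpec RJ))
  have key : σJ ≫ Spec.map (CommRingCat.ofHom (Pi.ringHom fun i : J => Pi.evalRingHom k i.1)) =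
      Sigma.desc (fun j : J => Sigma.ι (fun i => Spec (CommRingCat.of (k i))) j.1) ≫ σ := by
    apply Sigma.hom_ext
    intro j
    rw [Sigma.ι_desc_assoc]
    have h1 : Sigma.ι (fun j : J => Spec (CommRingCat.of (k j.1))) j ≫ σJ =
        Spec.map (CommRingCat.ofHom (Pi.evalRingHom (fun j : J => k j.1) j)) := ι_sigmaSpec RJ j
    have h2 : Sigma.ι (fun i => Spec (CommRingCat.of (k i))) j.1 ≫ σ =
        Spec.map (CommRingCat.ofHom (Pi.evalRingHom k j.1)) := ι_sigmaSpec R j.1
    rw [reassoc_of% h1, h2, ← Spec.map_comp]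
    rfl
  refine ⟨J, e' ≪≫ @asIso _ _ _ _ σJ hσJ, ?_⟩
  rw [Iso.trans_hom, asIso_hom, Category.assoc, key, reassoc_of% he']
  simp only [f', Category.assoc, IsIso.inv_hom_id, Category.comp_id]

end Groth.Agent.S9499
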