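import Groth.Statements.S9502
import Mathlib.AlgebraicGeometry.Morphisms.QuasiCompact
import Mathlib.AlgebraicGeometry.AffineScheme

set_option autoImplicit false
universe u
open SchMor

namespace Groth.Agent.S9502

open AlgebraicGeometry CategoryTheory TopologicalSpace Opposite in
/-- Condition (3) for a morphism of schemes which is a closed embedding. -/
lemma kerLocallyGenerated {X Y : Scheme.{u}} (f : X ⟶ Y) (h1 : Topology.IsClosedEmbedding f) :
    LRSImm.KerLocallyGenerated f.toLRSHom := by
  intro x
  obtain ⟨_, ⟨U, hU : IsAffineOpen U, rfl⟩, hxU, -⟩ :=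
    Y.isBasis_affineOpens.exists_subset_of_mem_open (Set.mem_univ x) isOpen_univ
  have hcomp : IsCompact ((f ⁻¹ᵁ U : X.Opens) : Set X) := h1.isCompact_preimage hU.isCompact
  refine ⟨U, hxU, ↥(RingHom.ker (f.app U).hom), fun j => j.1, fun j => j.2, ?_⟩
  intro x' hx'
  -- the stalk map as a plain ring hom
  obtain ⟨ψ, hψdef⟩ : ∃ ψ : ↑(Y.presheaf.stalk x') →+* ↑((f.base _* X.presheaf).stalk x'),
      ψ = ((TopCat.Presheaf.stalkFunctor CommRingCat x').map f.toLRSHom.c).hom := ⟨_, rfl⟩
  have hψ : ∀ s : Γ(Y, U), ψ (Y.presheaf.germ U x' hx' s) =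
      (f.base _* X.presheaf).germ U x' hx' (f.toLRSHom.c.app (op U) s) := by
    intro s
    rw [hψdef]
    exact TopCat.Presheaf.stalkFunctor_map_germ_apply U x' hx' f.toLRSHom.c s
  have hker : RingHom.ker ((TopCat.Presheaf.stalkFunctor CommRingCat x').map f.toLRSHom.c).hom =
      RingHom.ker ψ := by rw [hψdef]; rfl
  rw [hker]
  apply le_antisymm
  · rw [Ideal.span_le]
    rintro _ ⟨j, rfl⟩
    change _ ∈ RingHom.ker ψ
    rw [RingHom.mem_ker, hψ]
    have : (f.toLRSHom.c.app (op U)) j.1 = 0 := j.2
    rw [this, map_zero]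
  · intro a ha
    rw [RingHom.mem_ker] at ha
    -- write `a * germ g = germ b` with `germ g` a unit
    let _ : Algebra Γ(Y, U) (Y.presheaf.stalk x') :=
      TopCat.Presheaf.algebra_section_stalk Y.presheaf ⟨x', hx'⟩
    have hloc : IsLocalization.AtPrime (Y.presheaf.stalk x')
        (hU.primeIdealOf ⟨x', hx'⟩).asIdeal := hU.isLocalization_stalk ⟨x', hx'⟩
    obtain ⟨⟨b, g⟩, hbg⟩ := IsLocalization.surj (hU.primeIdealOf ⟨x', hx'⟩).asIdeal.primeCompl a
    have hgunit : IsUnit (Y.presheaf.germ U x' hx' g.1) :=
      IsLocalization.map_units (Y.presheaf.stalk x') g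
    replace hbg : a * Y.presheaf.germ U x' hx' g.1 = Y.presheaf.germ U x' hx' b := hbg
    -- the image of `germ b` vanishes
    have hb0 : ψ (Y.presheaf.germ U x' hx' b) = 0 := by
      rw [← hbg, map_mul, ha, zero_mul]
    rw [hψ] at hb0
    -- so `f^♯ b` vanishes on a neighbourhood of `x'`
    obtain ⟨W, hx'W, iU, iV, hW⟩ := (f.base _* X.presheaf).germ_eq x' hx' hx'
      (f.toLRSHom.c.app (op U) b) 0 (by rw [hb0, map_zero])
    rw [map_zero] at hW
    obtain ⟨g', hg'W, hx'g'⟩ := hU.exists_basicOpen_le (V := W) ⟨x', hx'W⟩ hx'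
    -- restrict to the basic open
    have hres : (f.app U b) |_ (X.basicOpen (f.app U g')) = 0 := by
      have hle : X.basicOpen (f.app U g') ≤ f ⁻¹ᵁ W := by
        rw [← Scheme.preimage_basicOpen]
        exact f.preimage_mono hg'W
      have hW' : X.presheaf.map (homOfLE (f.preimage_mono iU.le)).op (f.app U b) = 0 := hW
      have := congrArg (X.presheaf.map (homOfLE hle).op) hW'
      rw [map_zero, ← CommRingCat.comp_apply, ← Functor.map_comp] at this
      exact this
    obtain ⟨n, hn⟩ := exists_pow_mul_eq_zero_of_res_basicOpen_eq_zero_of_isCompact X hcomp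
      (f.app U b) (f.app U g') hres
    have hmem : g' ^ n * b ∈ RingHom.ker (f.app U).hom := by
      rw [RingHom.mem_ker, map_mul, map_pow]
      exact hn
    have hg'unit : IsUnit (Y.presheaf.germ U x' hx' g') :=
      (Y.mem_basicOpen _ _ hx').mp hx'g'
    have h3 : Y.presheaf.germ U x' hx' (g' ^ n * b) ∈
        Ideal.span (Set.range fun j : ↥(RingHom.ker (f.app U).hom) =>
          Y.presheaf.germ U x' hx' j.1) :=
      Ideal.subset_span ⟨⟨_, hmem⟩, rfl⟩
    rw [map_mul, map_pow] at h3
    have h4 := (Ideal.unit_mul_mem_iff_mem _ (hg'unit.pow n)).mp h3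
    rw [← hbg] at h4
    exact (Ideal.mul_unit_mem_iff_mem _ hgunit).mp h4

open AlgebraicGeometry in
open CategoryTheory in
/-- Let f : X → Y be a morphism of schemes such that (1) the underlying continuous map of f is a
homeomorphism onto a closed subset of Y and (2) the map of sheaves of rings O_Y → f_*O_X is
surjective (locally surjective on sections). Then f is a closed immersion in the sense of locally
ringed spaces: (1) and (2) hold and (3) the kernel of O_Y → f_*O_X is locally generated by sections,
i.e. around every point of Y there are sections of O_Y killed in f_*O_X whose germs generate the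
kernel of the stalk map O_{Y,y} → (f_*O_X)_y at every nearby point y. (For a morphism of schemes (1)
and (2) alone already give surjective stalk maps; the content of this row is condition (3).) -/
theorem result
    {X Y : Scheme.{u}} (f : X ⟶ Y) (h1 : Topology.IsClosedEmbedding f)
    (h2 : TopCat.Presheaf.IsLocallySurjective f.c) :
    LRSImm.IsClosedImmersion f.toLRSHom := by
  exact ⟨h1, h2, kerLocallyGenerated f h1⟩

end Groth.Agent.S9502
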