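import Groth.Statements.S9509

set_option autoImplicit false
universe u
open SchMor

namespace Groth.Agent.S9509

open AlgebraicGeometry in
open CategoryTheory in
/-- An open subscheme covered by affine opens with pairwise quasi-compact intersections is
quasi-separated. -/
theorem quasiSeparatedSpace_opens_of_affine_cover
    {X : Scheme.{u}} (O : X.Opens) {κ : Type u} (V : κ → X.affineOpens)
    (hV : ⨆ j, (V j : X.Opens) = O)
    (hVV : ∀ (j j' : κ), IsCompact ((V j : Set X) ∩ (V j' : Set X))) :
    QuasiSeparatedSpace ↥O := by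
  have hle : ∀ j, (V j : X.Opens) ≤ O := fun j => hV ▸ le_iSup (fun j => (V j : X.Opens)) j
  refine Scheme.quasiSeparatedSpace_of_isOpenCover (X := O.toScheme)
    (fun j => O.ι ⁻¹ᵁ (V j : X.Opens)) ?_ ?_ ?_
  · change ⨆ j, O.ι ⁻¹ᵁ (V j : X.Opens) = ⊤
    rw [← Scheme.Hom.preimage_iSup, hV, Scheme.Opens.ι_preimage_self]
  · intro j
    apply (V j).prop.preimage_of_isOpenImmersion
    rw [Scheme.Opens.opensRange_ι]
    exact hle j
  · intro j j'
    have : ((O.ι ⁻¹ᵁ (V j : X.Opens) : O.toScheme.Opens) : Set O.toScheme) ∩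
        ((O.ι ⁻¹ᵁ (V j' : X.Opens) : O.toScheme.Opens) : Set O.toScheme) =
        O.ι ⁻¹' ((V j : Set X) ∩ (V j' : Set X)) := rfl
    rw [this, O.ι.isOpenEmbedding.isInducing.isCompact_preimage_iff]
    · exact hVV j j'
    · rw [Scheme.Opens.range_ι]
      exact fun x hx => hle j hx.1

open AlgebraicGeometry in
open CategoryTheory in
/-- (3) ⇒ (1): Let f : X → S be a morphism of schemes. Suppose S is covered by affine opens W_i, each
preimage f⁻¹(W_i) is covered by affine opens V_{i,j}, and any two V_{i,j}, V_{i,j'} with the same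
index i meet in a quasi-compact open (one covered by finitely many affine opens). Then f is
quasi-separated. -/
theorem result
    {X S : Scheme.{u}} (f : X ⟶ S) {ι : Type u} (W : ι → S.affineOpens)
    (hW : ⨆ i, (W i : S.Opens) = ⊤) {κ : ι → Type u} (V : ∀ i, κ i → X.affineOpens)
    (hV : ∀ i, ⨆ j, (V i j : X.Opens) = f ⁻¹ᵁ (W i : S.Opens))
    (hVV : ∀ i (j j' : κ i), IsCompact ((V i j : Set X) ∩ (V i j' : Set X))) :
    QuasiSeparated f := by
  refine HasAffineProperty.of_iSup_eq_top (P := @QuasiSeparated) W hW fun i => ?_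
  exact quasiSeparatedSpace_opens_of_affine_cover (f ⁻¹ᵁ (W i : S.Opens)) (V i) (hV i) (hVV i)

end Groth.Agent.S9509
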