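import Groth.Statements.S9524
import Mathlib
import Groth.Agent.Lib.SheafHomCoh97
-- import your own Groth.Agent.* helpers here

set_option autoImplicit false
universe u
open CategoryTheory CategoryTheory.Limits AlgebraicGeometry
attribute [local instance] HasDerivedCategory.standard
open Coherent

namespace Groth.Agent.S9524

/-- Let X be a locally Noetherian scheme and F, G coherent O_X-modules. Then the sheaf Hom_{O_X}(F, G)
is coherent. (Hom_{O_X}(F, −) is the right adjoint of F ⊗ −, under its existence binder; the
tensor-product half of the published statement is not restated here.) -/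
theorem result (X : Scheme.{u}) [IsLocallyNoetherian X] (F G : X.Modules)
    (hF : Coh.IsCoh F) (hG : Coh.IsCoh G) [DCoh.HasSheafHom F] :
    Coh.IsCoh ((DCoh.sheafHom F).obj G) := by
  -- `DCoh.tensorBi` is `ModSite.tensorBi X.sheaf` objectwise
  let τ : (DCoh.tensorBi (X := X)).obj F ≅ (ModSite.tensorBi X.sheaf).obj F :=
    NatIso.ofComponents (fun N => Iso.refl _) (by
      intro N N' f
      simp only [Iso.refl_hom]
      exact (Category.comp_id _).trans (Category.id_comp _).symm)
  let adj : (ModSite.tensorBi X.sheaf).obj F ⊣ DCoh.sheafHom F :=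
    (DCoh.sheafHomAdj F).ofNatIsoLeft τ
  have hS : ModSite.HasSheafHom (O := X.sheaf) F :=
    Groth.Agent.Lib.ModSiteTensor.hasSheafHom X.sheaf F
  exact Groth.Agent.Lib.H90CohRestrict.isCoh_of_iso
    ((Groth.Agent.Lib.H43ExtSheafHom.rightAdjIso X.sheaf F adj).app G).symm
    (Groth.Agent.Lib.SheafHomCoh97.isCoh_sheafHom F G hF hG)

end Groth.Agent.S9524
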