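import Groth.Statements.S9527
import Mathlib
import Groth.Agent.Lib.SheafHomDepth97
-- import your own Groth.Agent.* helpers here

set_option autoImplicit false
universe u
open CategoryTheory CategoryTheory.Limits AlgebraicGeometry
attribute [local instance] HasDerivedCategory.standard
open Coherent

namespace Groth.Agent.S9527

/-- Let X be a locally Noetherian scheme, F and G coherent O_X-modules, x ∈ X, and H = Hom_{O_X}(F, G)
the sheaf Hom. (1) If depth G_x ≥ 1 then depth H_x ≥ 1. (2) If depth G_x ≥ 2 then depth H_x ≥ 2.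
(Depths over the local ring O_{X,x}; the sheaf Hom is the right adjoint of F ⊗ − under its existence
binder; the zero module has depth ∞ in this convention.) -/
theorem result (X : Scheme.{u}) [IsLocallyNoetherian X] (F G : X.Modules)
    (hF : Coh.IsCoh F) (hG : Coh.IsCoh G) [DCoh.HasSheafHom F] (x : X) :
    ((1 : ℕ∞) ≤ LocCoh.depth (X.presheaf.stalk x) ↑(G.presheaf.stalk x) →
      (1 : ℕ∞) ≤ LocCoh.depth (X.presheaf.stalk x) ↑(((DCoh.sheafHom F).obj G).presheaf.stalk x)) ∧
    ((2 : ℕ∞) ≤ LocCoh.depth (X.presheaf.stalk x) ↑(G.presheaf.stalk x) →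
      (2 : ℕ∞) ≤ LocCoh.depth (X.presheaf.stalk x) ↑(((DCoh.sheafHom F).obj G).presheaf.stalk x)) := by
  -- `DCoh.tensorBi` is `ModSite.tensorBi X.sheaf` objectwise
  let τ : (DCoh.tensorBi (X := X)).obj F ≅ (ModSite.tensorBi X.sheaf).obj F :=
    NatIso.ofComponents (fun N => Iso.refl _) (by
      intro N N' f
      simp only [Iso.refl_hom]
      exact (Category.comp_id _).trans (Category.id_comp _).symm)
  let adj : (ModSite.tensorBi X.sheaf).obj F ⊣ DCoh.sheafHom F :=
    (DCoh.sheafHomAdj F).ofNatIsoLeft τ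
  have hS : ModSite.HasSheafHom (O := X.sheaf) F :=
    Groth.Agent.Lib.ModSiteTensor.hasSheafHom X.sheaf F
  let e : (DCoh.sheafHom F).obj G ≅
      (show X.Modules from (ModSite.sheafHom (O := X.sheaf) F).obj G) :=
    (Groth.Agent.Lib.H43ExtSheafHom.rightAdjIso X.sheaf F adj).app G
  have key : ∀ n : ℕ, n ≤ 1 →
      ((n + 1 : ℕ) : ℕ∞) ≤ LocCoh.depth (X.presheaf.stalk x) ↑(G.presheaf.stalk x) →
      ((n + 1 : ℕ) : ℕ∞) ≤ LocCoh.depth (X.presheaf.stalk x)
        ↑(((DCoh.sheafHom F).obj G).presheaf.stalk x) := by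
    intro n hn hd
    rw [Groth.Agent.Lib.DepthFlat33.depth_congr (Groth.Agent.Lib.ModStalkLin.stalkLinEquiv e x)]
    exact Groth.Agent.Lib.SheafHomDepth97.le_depth_stalk_sheafHom F G hF hG x n hn hd
  refine ⟨fun h => ?_, fun h => ?_⟩
  · have := key 0 (by omega) (by simpa using h)
    simpa using this
  · have := key 1 (by omega) (by
      have h2 : ((1 + 1 : ℕ) : ℕ∞) = 2 := by norm_num
      rw [h2]; exact h)
    have h2 : ((1 + 1 : ℕ) : ℕ∞) = 2 := by norm_num
    rw [h2] at this
    exact this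

end Groth.Agent.S9527
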