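import Groth.Statements.S9529
import Mathlib
import Groth.Agent.Lib.SheafHomSupp97
-- import your own Groth.Agent.* helpers here

set_option autoImplicit false
universe u
open CategoryTheory CategoryTheory.Limits AlgebraicGeometry
attribute [local instance] HasDerivedCategory.standard
open Coherent

namespace Groth.Agent.S9529

/-- Let X be a locally Noetherian scheme, F and G coherent O_X-modules and H = Hom_{O_X}(F, G). If G has
property (S_1), so has H; if G has property (S_2), so has H. Here a coherent module M has (S_k) when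
depth M_x ≥ min(k, dim Supp M_x) for every x ∈ X, with M_x regarded as a module over O_{X,x} (the
zero module has depth ∞ and support dimension −∞); the sheaf Hom is the right adjoint of F ⊗ − under
its existence binder. -/
theorem result (X : Scheme.{u}) [IsLocallyNoetherian X] (F G : X.Modules)
    (hF : Coh.IsCoh F) (hG : Coh.IsCoh G) [DCoh.HasSheafHom F] (k : ℕ) (hk : k = 1 ∨ k = 2)
    (hS : ∀ x : X, min (k : WithBot ℕ∞) (Module.supportDim (X.presheaf.stalk x) ↑(G.presheaf.stalk x)) ≤
      ((LocCoh.depth (X.presheaf.stalk x) ↑(G.presheaf.stalk x) : ℕ∞) : WithBot ℕ∞)) (x : X) :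
    min (k : WithBot ℕ∞)
        (Module.supportDim (X.presheaf.stalk x) ↑(((DCoh.sheafHom F).obj G).presheaf.stalk x)) ≤
      ((LocCoh.depth (X.presheaf.stalk x) ↑(((DCoh.sheafHom F).obj G).presheaf.stalk x) : ℕ∞) :
        WithBot ℕ∞) := by
  -- `DCoh.tensorBi` is `ModSite.tensorBi X.sheaf` objectwise
  let τ : (DCoh.tensorBi (X := X)).obj F ≅ (ModSite.tensorBi X.sheaf).obj F :=
    NatIso.ofComponents (fun N => Iso.refl _) (by
      intro N N' f
      simp only [Iso.refl_hom]
      exact (Category.comp_id _).trans (Category.id_comp _).symm)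
  let adj : (ModSite.tensorBi X.sheaf).obj F ⊣ DCoh.sheafHom F :=
    (DCoh.sheafHomAdj F).ofNatIsoLeft τ
  have hS' : ModSite.HasSheafHom (O := X.sheaf) F :=
    Groth.Agent.Lib.ModSiteTensor.hasSheafHom X.sheaf F
  let e : (DCoh.sheafHom F).obj G ≅
      (show X.Modules from (ModSite.sheafHom (O := X.sheaf) F).obj G) :=
    (Groth.Agent.Lib.H43ExtSheafHom.rightAdjIso X.sheaf F adj).app G
  have key : ∀ n : ℕ, n ≤ 1 →
      ((n + 1 : ℕ) : ℕ∞) ≤ LocCoh.depth (X.presheaf.stalk x) ↑(G.presheaf.stalk x) →
      ((n + 1 : ℕ) : ℕ∞) ≤ LocCoh.depth (X.presheaf.stalk x)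
        ↑(((DCoh.sheafHom F).obj G).presheaf.stalk x) := by
    intro n hn hd
    rw [Groth.Agent.Lib.DepthFlat33.depth_congr (Groth.Agent.Lib.ModStalkLin.stalkLinEquiv e x)]
    exact Groth.Agent.Lib.SheafHomDepth97.le_depth_stalk_sheafHom F G hF hG x n hn hd
  have hdim : Module.supportDim (X.presheaf.stalk x)
      ↑(((DCoh.sheafHom F).obj G).presheaf.stalk x) ≤
      Module.supportDim (X.presheaf.stalk x) ↑(G.presheaf.stalk x) := by
    rw [Module.supportDim_eq_of_equiv (Groth.Agent.Lib.ModStalkLin.stalkLinEquiv e x)]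
    exact Groth.Agent.Lib.SheafHomSupp97.supportDim_stalk_sheafHom_le F G hF hG x
  have hSx := hS x
  generalize LocCoh.depth (X.presheaf.stalk x) ↑(G.presheaf.stalk x) = dG at key hSx
  generalize LocCoh.depth (X.presheaf.stalk x)
    ↑(((DCoh.sheafHom F).obj G).presheaf.stalk x) = dH at key
  generalize Module.supportDim (X.presheaf.stalk x) ↑(G.presheaf.stalk x) = sG at hdim hSx
  generalize Module.supportDim (X.presheaf.stalk x)
    ↑(((DCoh.sheafHom F).obj G).presheaf.stalk x) = sH at hdim
  by_cases hkd : (k : ℕ∞) ≤ dG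
  · have hkH : (k : ℕ∞) ≤ dH := by
      rcases hk with rfl | rfl
      · exact key 0 (by omega) hkd
      · exact key 1 (by omega) hkd
    refine (min_le_left _ _).trans ?_
    have : ((k : ℕ∞) : WithBot ℕ∞) ≤ (dH : WithBot ℕ∞) := WithBot.coe_le_coe.mpr hkH
    simpa using this
  · have hsG : sG ≤ (dG : WithBot ℕ∞) := by
      rcases min_le_iff.mp hSx with h | h
      · exfalso
        apply hkd
        have : ((k : ℕ∞) : WithBot ℕ∞) ≤ (dG : WithBot ℕ∞) := by simpa using h
        exact WithBot.coe_le_coe.mp this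
      · exact h
    have hdG : dG ≤ dH := by
      have hlt : dG < (k : ℕ∞) := not_le.mp hkd
      have hfin : dG ≠ ⊤ := ne_top_of_lt hlt
      obtain ⟨d, rfl⟩ := ENat.ne_top_iff_exists.mp hfin
      have hd : d < k := by exact_mod_cast hlt
      have hd1 : d ≤ 1 := by rcases hk with rfl | rfl <;> omega
      interval_cases d
      · simp
      · exact key 0 (by omega) (by simp)
    refine (min_le_right _ _).trans (hdim.trans (hsG.trans ?_))
    exact WithBot.coe_le_coe.mpr hdG

end Groth.Agent.S9529
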