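import Groth.Statements.S9530
import Mathlib
import Groth.Agent.Lib.CohFormal
-- import your own Groth.Agent.* helpers here

set_option autoImplicit false
universe u
open CategoryTheory CategoryTheory.Limits AlgebraicGeometry Opposite
open Algz

namespace Groth.Agent.S9530

/-- The functor from Coh(X, I O_X) to pro-objects of quasi-coherent modules is fully faithful: for the
ideal sheaf I O_X of an ideal I of a base ring A and with positions shifted by one. Let X be a
Noetherian scheme over Spec A and F, G objects of Coh(X, I O_X). Let m be a monotone self-map of ℕ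
with n ≤ m n, let π be the levelwise map from the re-indexed system n ↦ F_(m n) to F whose
components are the transition maps of F, and let α be any levelwise map from the re-indexed system
to G. Then α factors as π followed by a unique morphism of systems β from F to G. (Existence is
fullness on this representative of a pro-morphism, uniqueness is faithfulness.) -/
theorem result (A : Type u) [CommRing A] (I : Ideal A) (X : Scheme.{u})
    [X.Over (Spec (CommRingCat.of A))] [IsNoetherian X] (F G : ℕᵒᵖ ⥤ X.Modules)
    (hF : Formal.IsCohFormal I F) (hG : Formal.IsCohFormal I G) (m : ℕ → ℕ) (hm : Monotone m)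
    (hle : ∀ n : ℕ, n ≤ m n) (π : DerCA.reindex F hm ⟶ F)
    (hπ : ∀ n : ℕ, π.app (op n) = F.map (homOfLE (hle n)).op) (α : DerCA.reindex F hm ⟶ G) :
    ∃! β : F ⟶ G, π ≫ β = α := by
  -- the components
  let a : ∀ n : ℕ, F.obj (op (m n)) ⟶ G.obj (op n) := fun n => α.app (op n)
  choose β₀ hβ₀ using fun n => Formal.IsCohFormal.exists_desc hF (hle n)
    (Formal.IsCohFormal.killedBy hG n) (a n)
  have trF : ∀ {i j k : ℕ} (h₁ : i ≤ j) (h₂ : j ≤ k) {T : X.Modules} (g : F.obj (op i) ⟶ T),
      F.map (homOfLE h₂).op ≫ F.map (homOfLE h₁).op ≫ g = F.map (homOfLE (h₁.trans h₂)).op ≫ g := by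
    intro i j k h₁ h₂ T g
    rw [← Category.assoc, ← F.map_comp]; rfl
  have anat : ∀ {n k : ℕ} (h : n ≤ k),
      F.map (homOfLE (hm h)).op ≫ a n = a k ≫ G.map (homOfLE h).op := by
    intro n k h
    exact α.naturality (homOfLE h).op
  have βnat : ∀ {n k : ℕ} (h : n ≤ k),
      F.map (homOfLE h).op ≫ β₀ n = β₀ k ≫ G.map (homOfLE h).op := by
    intro n k h
    have := Formal.IsCohFormal.epi_tr hF (hle k)
    rw [← cancel_epi (F.map (homOfLE (hle k)).op)]
    calc F.map (homOfLE (hle k)).op ≫ F.map (homOfLE h).op ≫ β₀ n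
        = F.map (homOfLE (h.trans (hle k))).op ≫ β₀ n := trF _ _ _
      _ = F.map (homOfLE (hm h)).op ≫ F.map (homOfLE (hle n)).op ≫ β₀ n := (trF _ _ _).symm
      _ = F.map (homOfLE (hm h)).op ≫ a n := by rw [hβ₀ n]
      _ = a k ≫ G.map (homOfLE h).op := anat h
      _ = (F.map (homOfLE (hle k)).op ≫ β₀ k) ≫ G.map (homOfLE h).op := by rw [hβ₀ k]
      _ = _ := Category.assoc _ _ _
  let β : F ⟶ G :=
    { app := fun n => β₀ n.unop
      naturality := by
        intro k n f
        obtain ⟨k⟩ := k
        obtain ⟨n⟩ := n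
        have hnk : n ≤ k := leOfHom f.unop
        have : f = (homOfLE hnk).op := Subsingleton.elim _ _
        subst this
        exact βnat hnk }
  refine ⟨β, ?_, ?_⟩
  · apply NatTrans.ext
    funext n
    obtain ⟨n⟩ := n
    change π.app (op n) ≫ β₀ n = α.app (op n)
    rw [hπ n]
    exact hβ₀ n
  · intro β' hβ'
    apply NatTrans.ext
    funext n
    obtain ⟨n⟩ := n
    change β'.app (op n) = β₀ n
    have := Formal.IsCohFormal.epi_tr hF (hle n)
    rw [← cancel_epi (F.map (homOfLE (hle n)).op)]
    have h1 : π.app (op n) ≫ β'.app (op n) = α.app (op n) := by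
      rw [← hβ']; rfl
    rw [hπ n] at h1
    exact h1.trans (hβ₀ n).symm

end Groth.Agent.S9530
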