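import Groth.Statements.S9560
import Mathlib
import Groth.Agent.Lib.H80SmoothFiber

set_option autoImplicit false
universe u
open EtLocal

namespace Groth.Agent.S9560

open IsLocalRing in
/-- Formally smooth + essentially of finite type over a Noetherian ring implies flat
(localization of a quotient of a polynomial ring). -/
theorem flat_localization_of_formallySmooth (A B : Type u) [CommRing A] [CommRing B]
    [Algebra A B] [IsNoetherianRing A] [Algebra.FiniteType A B]
    (q : Ideal B) [q.IsPrime] [Algebra.FormallySmooth A (Localization.AtPrime q)] :
    Module.Flat A (Localization.AtPrime q) := by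
  obtain ⟨n, f₀, hf₀⟩ := Algebra.FiniteType.iff_quotient_mvPolynomial''.mp
    (inferInstance : Algebra.FiniteType A B)
  let M := q.primeCompl
  let M' := M.comap f₀
  let P' := Localization M'
  let fP : P' →ₐ[A] Localization.AtPrime q := IsLocalization.liftAlgHom (M := M')
      (f := (IsScalarTower.toAlgHom A B (Localization.AtPrime q)).comp f₀) fun x ↦ by
    simpa using IsLocalization.map_units (M := M) _ ⟨f₀ x.1, x.2⟩
  have hf₁ : Function.Surjective fP := by
    intro x
    obtain ⟨x, ⟨s, hs⟩, rfl⟩ := IsLocalization.exists_mk'_eq M x
    obtain ⟨x, rfl⟩ := hf₀ x
    obtain ⟨s, rfl⟩ := hf₀ s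
    refine ⟨IsLocalization.mk' (M := M') _ x ⟨s, hs⟩, ?_⟩
    simp [fP, IsLocalization.lift_mk', Units.mul_inv_eq_iff_eq_mul, IsUnit.liftRight]
  have : IsNoetherianRing P' := IsLocalization.isNoetherianRing M' P' inferInstance
  have : Module.Flat A P' := Module.Flat.trans A (MvPolynomial (Fin n) A) P'
  exact Algebra.FormallySmooth.flat_of_algHom_of_isNoetherianRing fP hf₁

/-- Suppose A is a Noetherian ring and B is a finite-type A-algebra, and consider a prime q of B lying
over the prime p of A, where B_q carries its A_p-algebra structure. Then B is étale at q over A (the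
local ring B_q is formally étale over A) if and only if the local homomorphism A_p → B_q is étale,
which means three things: B_q is A_p-flat, the ideal p B_q equals the maximal ideal of B_q, and the
residue field of q is a finite separable extension of the residue field of p (that B_q is
essentially of finite type over A_p holds automatically). -/
theorem result (A B : Type u) [CommRing A] [CommRing B]
    [Algebra A B] [IsNoetherianRing A] [Algebra.FiniteType A B]
    (p : Ideal A) [p.IsPrime] (q : Ideal B) [q.IsPrime] [q.LiesOver p]
    [Algebra (Localization.AtPrime p) (Localization.AtPrime q)]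
    [Localization.AtPrime.IsLiesOverAlgebra p q] :
    Algebra.IsEtaleAt A q ↔
      Module.Flat (Localization.AtPrime p) (Localization.AtPrime q) ∧
        p.map (algebraMap A (Localization.AtPrime q)) = IsLocalRing.maximalIdeal (Localization.AtPrime q) ∧
        Module.Finite p.ResidueField q.ResidueField ∧
        Algebra.IsSeparable p.ResidueField q.ResidueField := by
  have halg : ‹Algebra (Localization.AtPrime p) (Localization.AtPrime q)› =
      Localization.AtPrime.algebraOfLiesOver p q :=
    Algebra.algebra_ext _ _ fun r ↦
      congr($(Localization.AtPrime.IsLiesOverAlgebra.algebraMap_eq (p := p) (P := q)) r)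
  have hfp : Algebra.FinitePresentation A B := Algebra.FinitePresentation.of_finiteType.mp ‹_›
  constructor
  · intro h
    have hunr : Algebra.IsUnramifiedAt A q := inferInstance
    have hsm : Algebra.FormallySmooth A (Localization.AtPrime q) := inferInstance
    obtain ⟨hsep, hmap⟩ := (Algebra.isUnramifiedAt_iff_map_eq A p q).mp hunr
    refine ⟨?_, hmap, inferInstance, hsep⟩
    have := flat_localization_of_formallySmooth A B q
    exact (Module.flat_iff_of_isLocalization (Localization.AtPrime p) p.primeCompl
      (Localization.AtPrime q)).mpr this
  · rintro ⟨hflat, hmap, hfin, hsep⟩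
    have hunr : Algebra.IsUnramifiedAt A q :=
      (Algebra.isUnramifiedAt_iff_map_eq A p q).mpr ⟨hsep, hmap⟩
    have hsm : Algebra.IsSmoothAt A q := by
      subst halg
      let := Localization.AtPrime.algebraOfLiesOver p q
      apply Groth.Agent.Lib.H80SmoothFiber.isSmoothAt_of_flat_of_fiber p q hflat
      have hχ : (algebraMap p.ResidueField q.ResidueField).FormallySmooth := by
        rw [RingHom.formallySmooth_algebraMap]
        have : Algebra.FormallyEtale p.ResidueField q.ResidueField :=
          Algebra.FormallyEtale.of_isSeparable _ _
        infer_instance
      refine Groth.Agent.Lib.H80SmoothFiber.formallySmooth_residueField_tensor_of_surjective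
        (T := q.ResidueField) (K := p.ResidueField) (Field.toIsField _)
        (IsLocalRing.residue (Localization.AtPrime q)) IsLocalRing.residue_surjective ?_
        (IsLocalRing.residue (Localization.AtPrime p)) IsLocalRing.residue_surjective
        (algebraMap p.ResidueField q.ResidueField) hχ ?_
      · rw [IsLocalRing.ker_residue, ← hmap, ← Localization.AtPrime.map_eq_maximalIdeal,
          Ideal.map_map, ← IsScalarTower.algebraMap_eq]
      · ext r
        rfl
    exact Algebra.FormallyEtale.iff_formallyUnramified_and_formallySmooth.mpr ⟨hunr, hsm⟩

end Groth.Agent.S9560
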