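import Groth.Statements.S9561
import Groth.Agent.Lib.AdicPi
import Groth.Agent.Lib.AdicNoeth
import Mathlib

set_option autoImplicit false
universe u
open EtLocal

namespace Groth.Agent.S9561

/-- Let A → B be a local homomorphism of Noetherian local rings with B essentially of finite type over
A, and let ψ be the induced map between the completions of A and B at their maximal ideals (a ring
map of the completions whose composite with A → A^ is A → B → B^; such a map is unique). Then A → B
is an unramified homomorphism of local rings, i.e. m_A B = m_B and the residue field of B is a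
finite separable extension of that of A, if and only if ψ is an unramified ring map (of finite type
and formally unramified). (The published statement lists a third equivalent condition, that ψ is
itself an unramified homomorphism of local rings; this row keeps the two outer ones.) -/
theorem result (A B : Type u) [CommRing A] [CommRing B]
    [IsLocalRing A] [IsLocalRing B] [IsNoetherianRing A] [IsNoetherianRing B] [Algebra A B]
    [IsLocalHom (algebraMap A B)] [Algebra.EssFiniteType A B]
    (ψ : AdicCompletion (IsLocalRing.maximalIdeal A) A →+* AdicCompletion (IsLocalRing.maximalIdeal B) B)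
    (hψ : ψ.comp (algebraMap A (AdicCompletion (IsLocalRing.maximalIdeal A) A)) =
      (algebraMap B (AdicCompletion (IsLocalRing.maximalIdeal B) B)).comp (algebraMap A B)) :
    ((IsLocalRing.maximalIdeal A).map (algebraMap A B) = IsLocalRing.maximalIdeal B ∧
        Module.Finite (IsLocalRing.ResidueField A) (IsLocalRing.ResidueField B) ∧
        Algebra.IsSeparable (IsLocalRing.ResidueField A) (IsLocalRing.ResidueField B)) ↔
      (ψ.FiniteType ∧ ψ.FormallyUnramified) := by
  classical
  have hNA : IsNoetherianRing (AdicCompletion (IsLocalRing.maximalIdeal A) A) :=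
    Groth.Agent.Lib.AdicNoeth.isNoetherianRing_adicCompletion _
  have hNB : IsNoetherianRing (AdicCompletion (IsLocalRing.maximalIdeal B) B) :=
    Groth.Agent.Lib.AdicNoeth.isNoetherianRing_adicCompletion _
  let algψ : Algebra (AdicCompletion (IsLocalRing.maximalIdeal A) A)
      (AdicCompletion (IsLocalRing.maximalIdeal B) B) := ψ.toAlgebra
  have hψa : ∀ a, ψ (algebraMap A _ a) = algebraMap B _ (algebraMap A B a) :=
    fun a => RingHom.congr_fun hψ a
  have hmA : IsLocalRing.maximalIdeal (AdicCompletion (IsLocalRing.maximalIdeal A) A) =
      (IsLocalRing.maximalIdeal A).map (algebraMap A _) := AdicCompletion.maximalIdeal_eq_map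
  have hmB : IsLocalRing.maximalIdeal (AdicCompletion (IsLocalRing.maximalIdeal B) B) =
      (IsLocalRing.maximalIdeal B).map (algebraMap B _) := AdicCompletion.maximalIdeal_eq_map
  have hmle : (IsLocalRing.maximalIdeal A).map (algebraMap A B) ≤ IsLocalRing.maximalIdeal B :=
    ((IsLocalRing.local_hom_TFAE (algebraMap A B)).out 0 2).mp ‹_›
  have hmap : (IsLocalRing.maximalIdeal (AdicCompletion (IsLocalRing.maximalIdeal A) A)).map
      (algebraMap (AdicCompletion (IsLocalRing.maximalIdeal A) A)
        (AdicCompletion (IsLocalRing.maximalIdeal B) B)) =
      ((IsLocalRing.maximalIdeal A).map (algebraMap A B)).map (algebraMap B _) := by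
    rw [hmA, Ideal.map_map, Ideal.map_map]
    congr 1
  have hψloc : IsLocalHom (algebraMap (AdicCompletion (IsLocalRing.maximalIdeal A) A)
      (AdicCompletion (IsLocalRing.maximalIdeal B) B)) := by
    refine ((IsLocalRing.local_hom_TFAE _).out 0 2).mpr ?_
    rw [hmap, hmB]
    exact Ideal.map_mono hmle
  have hflat : Module.Flat B (AdicCompletion (IsLocalRing.maximalIdeal B) B) :=
    AdicCompletion.flat_of_isNoetherian _
  have hff : Module.FaithfullyFlat B (AdicCompletion (IsLocalRing.maximalIdeal B) B) :=
    Module.FaithfullyFlat.of_flat_of_isLocalHom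
  have hiff : (IsLocalRing.maximalIdeal A).map (algebraMap A B) = IsLocalRing.maximalIdeal B ↔
      (IsLocalRing.maximalIdeal (AdicCompletion (IsLocalRing.maximalIdeal A) A)).map
        (algebraMap (AdicCompletion (IsLocalRing.maximalIdeal A) A)
          (AdicCompletion (IsLocalRing.maximalIdeal B) B)) =
        IsLocalRing.maximalIdeal (AdicCompletion (IsLocalRing.maximalIdeal B) B) := by
    rw [hmap, hmB]
    constructor
    · intro h
      rw [h]
    · intro h
      have := congrArg (Ideal.comap (algebraMap B (AdicCompletion (IsLocalRing.maximalIdeal B) B))) h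
      rwa [Ideal.comap_map_eq_self_of_faithfullyFlat, Ideal.comap_map_eq_self_of_faithfullyFlat]
        at this
  -- residue fields
  let eA : IsLocalRing.ResidueField A ≃+*
      IsLocalRing.ResidueField (AdicCompletion (IsLocalRing.maximalIdeal A) A) :=
    RingEquiv.ofBijective _ (AdicCompletion.residueField_map_bijective A)
  let eB : IsLocalRing.ResidueField B ≃+*
      IsLocalRing.ResidueField (AdicCompletion (IsLocalRing.maximalIdeal B) B) :=
    RingEquiv.ofBijective _ (AdicCompletion.residueField_map_bijective B)
  have he : RingHom.comp (algebraMap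
        (IsLocalRing.ResidueField (AdicCompletion (IsLocalRing.maximalIdeal A) A))
        (IsLocalRing.ResidueField (AdicCompletion (IsLocalRing.maximalIdeal B) B))) ↑eA =
      RingHom.comp ↑eB (algebraMap (IsLocalRing.ResidueField A) (IsLocalRing.ResidueField B)) := by
    ext k
    obtain ⟨a, rfl⟩ := IsLocalRing.residue_surjective k
    show IsLocalRing.ResidueField.map (algebraMap _ _)
        (IsLocalRing.ResidueField.map (algebraMap A _) (IsLocalRing.residue A a)) =
      IsLocalRing.ResidueField.map (algebraMap B _)
        (IsLocalRing.ResidueField.map (algebraMap A B) (IsLocalRing.residue A a))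
    rw [IsLocalRing.ResidueField.map_residue, IsLocalRing.ResidueField.map_residue,
      IsLocalRing.ResidueField.map_residue, IsLocalRing.ResidueField.map_residue]
    congr 1
    exact hψa a
  constructor
  · rintro ⟨h𝔪, hfin, hsep⟩
    have h𝔪' := hiff.mp h𝔪
    have hfin' : Module.Finite
        (IsLocalRing.ResidueField (AdicCompletion (IsLocalRing.maximalIdeal A) A))
        (IsLocalRing.ResidueField (AdicCompletion (IsLocalRing.maximalIdeal B) B)) :=
      Module.Finite.of_equiv_equiv eA eB he
    have hsep' : Algebra.IsSeparable
        (IsLocalRing.ResidueField (AdicCompletion (IsLocalRing.maximalIdeal A) A))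
        (IsLocalRing.ResidueField (AdicCompletion (IsLocalRing.maximalIdeal B) B)) :=
      Algebra.IsSeparable.of_equiv_equiv eA eB he
    -- finiteness
    have hH : IsHausdorff (IsLocalRing.maximalIdeal (AdicCompletion (IsLocalRing.maximalIdeal A) A))
        (AdicCompletion (IsLocalRing.maximalIdeal B) B) := by
      rw [← IsHausdorff.map_algebraMap_iff (S := AdicCompletion (IsLocalRing.maximalIdeal B) B),
        h𝔪']
      infer_instance
    have hfinÂ : Module.Finite (AdicCompletion (IsLocalRing.maximalIdeal A) A)
        (AdicCompletion (IsLocalRing.maximalIdeal B) B) := by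
      apply Groth.Agent.Lib.AdicPi.finite_of_finite_quotient
        (IsLocalRing.maximalIdeal (AdicCompletion (IsLocalRing.maximalIdeal A) A))
      have hfκ : Module.Finite (AdicCompletion (IsLocalRing.maximalIdeal A) A)
          (IsLocalRing.ResidueField (AdicCompletion (IsLocalRing.maximalIdeal B) B)) :=
        Module.Finite.trans
          (IsLocalRing.ResidueField (AdicCompletion (IsLocalRing.maximalIdeal A) A)) _
      let g : AdicCompletion (IsLocalRing.maximalIdeal B) B →ₗ[AdicCompletion
          (IsLocalRing.maximalIdeal A) A]
          IsLocalRing.ResidueField (AdicCompletion (IsLocalRing.maximalIdeal B) B) :=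
        (IsScalarTower.toAlgHom (AdicCompletion (IsLocalRing.maximalIdeal A) A)
          (AdicCompletion (IsLocalRing.maximalIdeal B) B)
          (IsLocalRing.ResidueField (AdicCompletion (IsLocalRing.maximalIdeal B) B))).toLinearMap
      have hg : Function.Surjective g := IsLocalRing.residue_surjective
      have hker : LinearMap.ker g =
          (IsLocalRing.maximalIdeal (AdicCompletion (IsLocalRing.maximalIdeal A) A) •
            (⊤ : Submodule (AdicCompletion (IsLocalRing.maximalIdeal A) A)
              (AdicCompletion (IsLocalRing.maximalIdeal B) B))) := by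
        rw [Ideal.smul_top_eq_map, h𝔪']
        ext y
        rw [LinearMap.mem_ker, Submodule.restrictScalars_mem]
        exact IsLocalRing.residue_eq_zero_iff y
      exact Module.Finite.equiv
        ((Submodule.quotEquivOfEq _ _ hker).symm.trans (g.quotKerEquivOfSurjective hg)).symm
    have hess : Algebra.EssFiniteType (AdicCompletion (IsLocalRing.maximalIdeal A) A)
        (AdicCompletion (IsLocalRing.maximalIdeal B) B) := inferInstance
    refine ⟨?_, ?_⟩
    · have : ψ.Finite := hfinÂ
      exact this.finiteType
    · exact Algebra.FormallyUnramified.of_map_maximalIdeal h𝔪'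
  · rintro ⟨hft, hfu⟩
    have hft' : Algebra.FiniteType (AdicCompletion (IsLocalRing.maximalIdeal A) A)
        (AdicCompletion (IsLocalRing.maximalIdeal B) B) := hft
    have hfu' : Algebra.FormallyUnramified (AdicCompletion (IsLocalRing.maximalIdeal A) A)
        (AdicCompletion (IsLocalRing.maximalIdeal B) B) := hfu
    have hess : Algebra.EssFiniteType (AdicCompletion (IsLocalRing.maximalIdeal A) A)
        (AdicCompletion (IsLocalRing.maximalIdeal B) B) := inferInstance
    obtain ⟨hsep', h𝔪'⟩ := Algebra.FormallyUnramified.iff_map_maximalIdeal_eq.mp hfu'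
    have hfin' : Module.Finite
        (IsLocalRing.ResidueField (AdicCompletion (IsLocalRing.maximalIdeal A) A))
        (IsLocalRing.ResidueField (AdicCompletion (IsLocalRing.maximalIdeal B) B)) := inferInstance
    have he' : RingHom.comp (algebraMap (IsLocalRing.ResidueField A) (IsLocalRing.ResidueField B))
        ↑eA.symm = RingHom.comp ↑eB.symm (algebraMap
          (IsLocalRing.ResidueField (AdicCompletion (IsLocalRing.maximalIdeal A) A))
          (IsLocalRing.ResidueField (AdicCompletion (IsLocalRing.maximalIdeal B) B))) := by
      ext k
      have := RingHom.congr_fun he (eA.symm k)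
      simp only [RingHom.comp_apply, RingHom.coe_coe, RingEquiv.apply_symm_apply] at this ⊢
      rw [this, RingEquiv.symm_apply_apply]
    refine ⟨hiff.mpr h𝔪', ?_, ?_⟩
    · exact Module.Finite.of_equiv_equiv eA.symm eB.symm he'
    · exact Algebra.IsSeparable.of_equiv_equiv eA.symm eB.symm he'

end Groth.Agent.S9561
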