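import Groth.Statements.S9562
import Groth.Agent.S9561
import Groth.Agent.S9317
import Groth.Agent.Lib.H14ComplFlat
import Groth.Agent.Lib.EtaleDescend45
import Groth.Agent.Lib.AdicPi
import Groth.Agent.Lib.AdicNoeth
import Mathlib

set_option autoImplicit false
universe u
open EtLocal

namespace Groth.Agent.S9562

section helpers

open IsLocalRing

variable (A B : Type u) [CommRing A] [CommRing B]
    [IsLocalRing A] [IsLocalRing B] [IsNoetherianRing A] [IsNoetherianRing B] [Algebra A B]
    [IsLocalHom (algebraMap A B)]

/-- a map of completions compatible with `A → B` sends the maximal ideal into the maximal ideal. -/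
theorem map_maximalIdeal_le
    (ψ : AdicCompletion (maximalIdeal A) A →+* AdicCompletion (maximalIdeal B) B)
    (hψ : ψ.comp (algebraMap A (AdicCompletion (maximalIdeal A) A)) =
      (algebraMap B (AdicCompletion (maximalIdeal B) B)).comp (algebraMap A B)) :
    (maximalIdeal (AdicCompletion (maximalIdeal A) A)).map ψ ≤
      maximalIdeal (AdicCompletion (maximalIdeal B) B) := by
  have hmle : (maximalIdeal A).map (algebraMap A B) ≤ maximalIdeal B :=
    ((IsLocalRing.local_hom_TFAE (algebraMap A B)).out 0 2).mp ‹_›
  rw [AdicCompletion.maximalIdeal_eq_map, Ideal.map_map, hψ, ← Ideal.map_map,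
    AdicCompletion.maximalIdeal_eq_map (R := B)]
  exact Ideal.map_mono hmle

/-- uniqueness of the completed map. -/
theorem eq_of_comp_eq
    (ψ ψ' : AdicCompletion (maximalIdeal A) A →+* AdicCompletion (maximalIdeal B) B)
    (hψ : ψ.comp (algebraMap A (AdicCompletion (maximalIdeal A) A)) =
      (algebraMap B (AdicCompletion (maximalIdeal B) B)).comp (algebraMap A B))
    (hψ' : ψ'.comp (algebraMap A (AdicCompletion (maximalIdeal A) A)) =
      (algebraMap B (AdicCompletion (maximalIdeal B) B)).comp (algebraMap A B)) : ψ = ψ' := by
  refine RingHom.ext fun x => ?_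
  rw [← sub_eq_zero]
  have hH : IsHausdorff (maximalIdeal (AdicCompletion (maximalIdeal B) B))
      (AdicCompletion (maximalIdeal B) B) := inferInstance
  refine hH.haus' (ψ x - ψ' x) (fun N => ?_)
  rw [SModEq.zero, smul_eq_mul, Ideal.mul_top]
  obtain ⟨r, hr⟩ := Groth.Agent.S9317.exists_approx (maximalIdeal A) (IsNoetherian.noetherian _) N x
  rw [← AdicCompletion.maximalIdeal_eq_map] at hr
  have e : x = (x - algebraMap A _ r) + algebraMap A _ r := by ring
  have h1 : ψ (algebraMap A _ r) = ψ' (algebraMap A _ r) :=
    (RingHom.congr_fun hψ r).trans (RingHom.congr_fun hψ' r).symm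
  have h2 : ψ x - ψ' x = ψ (x - algebraMap A _ r) - ψ' (x - algebraMap A _ r) := by
    conv_lhs => rw [e, map_add, map_add, h1]
    ring
  rw [h2]
  refine sub_mem ?_ ?_
  · have := Ideal.pow_right_mono (map_maximalIdeal_le A B ψ hψ) N
    rw [← Ideal.map_pow] at this
    exact this (Ideal.mem_map_of_mem _ hr)
  · have := Ideal.pow_right_mono (map_maximalIdeal_le A B ψ' hψ') N
    rw [← Ideal.map_pow] at this
    exact this (Ideal.mem_map_of_mem _ hr)

end helpers

/-- Let A → B be a local homomorphism of Noetherian local rings with B essentially of finite type over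
A, and let ψ be the induced map between the completions of A and B at their maximal ideals (a ring
map of the completions whose composite with A → A^ is A → B → B^; such a map is unique). Then A → B
is an étale homomorphism of local rings, i.e. B is flat over A, m_A B = m_B and the residue field of
B is a finite separable extension of that of A, if and only if ψ is an étale ring map; moreover in
that case the completion of B is, through ψ, a free module of finite positive rank over the
completion of A. (The published statement lists a third equivalent condition, that ψ is itself an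
étale homomorphism of local rings; this row keeps the two outer ones.) -/
theorem result (A B : Type u) [CommRing A] [CommRing B]
    [IsLocalRing A] [IsLocalRing B] [IsNoetherianRing A] [IsNoetherianRing B] [Algebra A B]
    [IsLocalHom (algebraMap A B)] [Algebra.EssFiniteType A B]
    (ψ : AdicCompletion (IsLocalRing.maximalIdeal A) A →+* AdicCompletion (IsLocalRing.maximalIdeal B) B)
    (hψ : ψ.comp (algebraMap A (AdicCompletion (IsLocalRing.maximalIdeal A) A)) =
      (algebraMap B (AdicCompletion (IsLocalRing.maximalIdeal B) B)).comp (algebraMap A B)) :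
    ((Module.Flat A B ∧ (IsLocalRing.maximalIdeal A).map (algebraMap A B) = IsLocalRing.maximalIdeal B ∧
        Module.Finite (IsLocalRing.ResidueField A) (IsLocalRing.ResidueField B) ∧
        Algebra.IsSeparable (IsLocalRing.ResidueField A) (IsLocalRing.ResidueField B)) ↔ ψ.Etale) ∧
      (ψ.Etale →
        letI := ψ.toAlgebra
        ∃ n : ℕ, 0 < n ∧
          Nonempty ((Fin n → AdicCompletion (IsLocalRing.maximalIdeal A) A) ≃ₗ[AdicCompletion (IsLocalRing.maximalIdeal A) A]
            AdicCompletion (IsLocalRing.maximalIdeal B) B)) := by
  classical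
  have hNA : IsNoetherianRing (AdicCompletion (IsLocalRing.maximalIdeal A) A) :=
    Groth.Agent.Lib.AdicNoeth.isNoetherianRing_adicCompletion _
  have hNB : IsNoetherianRing (AdicCompletion (IsLocalRing.maximalIdeal B) B) :=
    Groth.Agent.Lib.AdicNoeth.isNoetherianRing_adicCompletion _
  have hS := Groth.Agent.S9561.result A B ψ hψ
  have hψeq : ψ = Groth.Agent.Lib.H14ComplFlat.cplMap A B :=
    eq_of_comp_eq A B ψ _ hψ (RingHom.ext fun a =>
      Groth.Agent.Lib.H14ComplFlat.cplMap_algebraMap A B a)
  let algψ : Algebra (AdicCompletion (IsLocalRing.maximalIdeal A) A)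
      (AdicCompletion (IsLocalRing.maximalIdeal B) B) := ψ.toAlgebra
  have hmB : IsLocalRing.maximalIdeal (AdicCompletion (IsLocalRing.maximalIdeal B) B) =
      (IsLocalRing.maximalIdeal B).map (algebraMap B _) := AdicCompletion.maximalIdeal_eq_map
  have hψloc : IsLocalHom (algebraMap (AdicCompletion (IsLocalRing.maximalIdeal A) A)
      (AdicCompletion (IsLocalRing.maximalIdeal B) B)) :=
    ((IsLocalRing.local_hom_TFAE _).out 0 2).mpr (map_maximalIdeal_le A B ψ hψ)
  have hflatB : Module.Flat B (AdicCompletion (IsLocalRing.maximalIdeal B) B) :=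
    AdicCompletion.flat_of_isNoetherian _
  have hffB : Module.FaithfullyFlat B (AdicCompletion (IsLocalRing.maximalIdeal B) B) :=
    Module.FaithfullyFlat.of_flat_of_isLocalHom
  have hflatA : Module.Flat A (AdicCompletion (IsLocalRing.maximalIdeal A) A) :=
    AdicCompletion.flat_of_isNoetherian _
  have htower : IsScalarTower A (AdicCompletion (IsLocalRing.maximalIdeal A) A)
      (AdicCompletion (IsLocalRing.maximalIdeal B) B) :=
    IsScalarTower.of_algebraMap_eq (fun a => (RingHom.congr_fun hψ a).symm)
  -- étale implies the conditions and finiteness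
  have hconv : ψ.Etale → (Module.Flat A B ∧
      (IsLocalRing.maximalIdeal A).map (algebraMap A B) = IsLocalRing.maximalIdeal B ∧
        Module.Finite (IsLocalRing.ResidueField A) (IsLocalRing.ResidueField B) ∧
        Algebra.IsSeparable (IsLocalRing.ResidueField A) (IsLocalRing.ResidueField B)) := by
    intro het
    have het' : Algebra.Etale (AdicCompletion (IsLocalRing.maximalIdeal A) A)
        (AdicCompletion (IsLocalRing.maximalIdeal B) B) := het
    have hft : ψ.FiniteType := by
      show Algebra.FiniteType (AdicCompletion (IsLocalRing.maximalIdeal A) A)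
        (AdicCompletion (IsLocalRing.maximalIdeal B) B)
      infer_instance
    have hfu : ψ.FormallyUnramified := by
      show Algebra.FormallyUnramified (AdicCompletion (IsLocalRing.maximalIdeal A) A)
        (AdicCompletion (IsLocalRing.maximalIdeal B) B)
      infer_instance
    refine ⟨?_, hS.mpr ⟨hft, hfu⟩⟩
    have hfl : Module.Flat (AdicCompletion (IsLocalRing.maximalIdeal A) A)
        (AdicCompletion (IsLocalRing.maximalIdeal B) B) := inferInstance
    have hflAB : Module.Flat A (AdicCompletion (IsLocalRing.maximalIdeal B) B) :=
      Module.Flat.trans A (AdicCompletion (IsLocalRing.maximalIdeal A) A) _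
    exact Groth.Agent.Lib.EtaleDescend45.flat_of_flat_of_faithfullyFlat A B
      (AdicCompletion (IsLocalRing.maximalIdeal B) B)
  have hfinite : ((IsLocalRing.maximalIdeal A).map (algebraMap A B) = IsLocalRing.maximalIdeal B ∧
        Module.Finite (IsLocalRing.ResidueField A) (IsLocalRing.ResidueField B) ∧
        Algebra.IsSeparable (IsLocalRing.ResidueField A) (IsLocalRing.ResidueField B)) →
      Module.Finite (AdicCompletion (IsLocalRing.maximalIdeal A) A)
        (AdicCompletion (IsLocalRing.maximalIdeal B) B) := by
    intro hc
    obtain ⟨hft, hfu⟩ := hS.mp hc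
    have hft' : Algebra.FiniteType (AdicCompletion (IsLocalRing.maximalIdeal A) A)
        (AdicCompletion (IsLocalRing.maximalIdeal B) B) := hft
    have hfu' : Algebra.FormallyUnramified (AdicCompletion (IsLocalRing.maximalIdeal A) A)
        (AdicCompletion (IsLocalRing.maximalIdeal B) B) := hfu
    have hess : Algebra.EssFiniteType (AdicCompletion (IsLocalRing.maximalIdeal A) A)
        (AdicCompletion (IsLocalRing.maximalIdeal B) B) := inferInstance
    obtain ⟨hsep', h𝔪'⟩ := Algebra.FormallyUnramified.iff_map_maximalIdeal_eq.mp hfu'
    have hfin' : Module.Finite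
        (IsLocalRing.ResidueField (AdicCompletion (IsLocalRing.maximalIdeal A) A))
        (IsLocalRing.ResidueField (AdicCompletion (IsLocalRing.maximalIdeal B) B)) := inferInstance
    have hH : IsHausdorff (IsLocalRing.maximalIdeal (AdicCompletion (IsLocalRing.maximalIdeal A) A))
        (AdicCompletion (IsLocalRing.maximalIdeal B) B) := by
      rw [← IsHausdorff.map_algebraMap_iff (S := AdicCompletion (IsLocalRing.maximalIdeal B) B),
        h𝔪']
      infer_instance
    apply Groth.Agent.Lib.AdicPi.finite_of_finite_quotient
      (IsLocalRing.maximalIdeal (AdicCompletion (IsLocalRing.maximalIdeal A) A))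
    have hfκ : Module.Finite (AdicCompletion (IsLocalRing.maximalIdeal A) A)
        (IsLocalRing.ResidueField (AdicCompletion (IsLocalRing.maximalIdeal B) B)) :=
      Module.Finite.trans
        (IsLocalRing.ResidueField (AdicCompletion (IsLocalRing.maximalIdeal A) A)) _
    let g : AdicCompletion (IsLocalRing.maximalIdeal B) B →ₗ[AdicCompletion
        (IsLocalRing.maximalIdeal A) A]
        IsLocalRing.ResidueField (AdicCompletion (IsLocalRing.maximalIdeal B) B) :=
      (IsScalarTower.toAlgHom (AdicCompletion (IsLocalRing.maximalIdeal A) A)
        (AdicCompletion (IsLocalRing.maximalIdeal B) B)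
        (IsLocalRing.ResidueField (AdicCompletion (IsLocalRing.maximalIdeal B) B))).toLinearMap
    have hg : Function.Surjective g := IsLocalRing.residue_surjective
    have hker : LinearMap.ker g =
        (IsLocalRing.maximalIdeal (AdicCompletion (IsLocalRing.maximalIdeal A) A) •
          (⊤ : Submodule (AdicCompletion (IsLocalRing.maximalIdeal A) A)
            (AdicCompletion (IsLocalRing.maximalIdeal B) B))) := by
      rw [Ideal.smul_top_eq_map, h𝔪']
      ext y
      rw [LinearMap.mem_ker, Submodule.restrictScalars_mem]
      exact IsLocalRing.residue_eq_zero_iff y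
    exact Module.Finite.equiv
      ((Submodule.quotEquivOfEq _ _ hker).symm.trans (g.quotKerEquivOfSurjective hg)).symm
  refine ⟨⟨?_, hconv⟩, ?_⟩
  · rintro ⟨hflat, hc⟩
    obtain ⟨hft, hfu⟩ := hS.mp hc
    have hft' : Algebra.FiniteType (AdicCompletion (IsLocalRing.maximalIdeal A) A)
        (AdicCompletion (IsLocalRing.maximalIdeal B) B) := hft
    have hfu' : Algebra.FormallyUnramified (AdicCompletion (IsLocalRing.maximalIdeal A) A)
        (AdicCompletion (IsLocalRing.maximalIdeal B) B) := hfu
    have hfp : Algebra.FinitePresentation (AdicCompletion (IsLocalRing.maximalIdeal A) A)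
        (AdicCompletion (IsLocalRing.maximalIdeal B) B) :=
      Algebra.FinitePresentation.of_finiteType.mp hft'
    have hfl : Module.Flat (AdicCompletion (IsLocalRing.maximalIdeal A) A)
        (AdicCompletion (IsLocalRing.maximalIdeal B) B) := by
      have := Groth.Agent.Lib.H14ComplFlat.cplMap_flat A B
      rw [← hψeq] at this
      exact this
    show Algebra.Etale (AdicCompletion (IsLocalRing.maximalIdeal A) A)
        (AdicCompletion (IsLocalRing.maximalIdeal B) B)
    exact Algebra.Etale.of_formallyUnramified_of_flat
  · intro het
    obtain ⟨-, hc⟩ := hconv het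
    have hfin := hfinite hc
    have het' : Algebra.Etale (AdicCompletion (IsLocalRing.maximalIdeal A) A)
        (AdicCompletion (IsLocalRing.maximalIdeal B) B) := het
    have hfl : Module.Flat (AdicCompletion (IsLocalRing.maximalIdeal A) A)
        (AdicCompletion (IsLocalRing.maximalIdeal B) B) := inferInstance
    have hfree : Module.Free (AdicCompletion (IsLocalRing.maximalIdeal A) A)
        (AdicCompletion (IsLocalRing.maximalIdeal B) B) := Module.free_of_flat_of_isLocalRing
    let b := Module.finBasis (AdicCompletion (IsLocalRing.maximalIdeal A) A)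
        (AdicCompletion (IsLocalRing.maximalIdeal B) B)
    refine ⟨Module.finrank (AdicCompletion (IsLocalRing.maximalIdeal A) A)
        (AdicCompletion (IsLocalRing.maximalIdeal B) B), ?_, ⟨b.equivFun.symm⟩⟩
    refine Nat.pos_of_ne_zero fun h0 => ?_
    have hsub : Subsingleton (Fin (Module.finrank (AdicCompletion (IsLocalRing.maximalIdeal A) A)
        (AdicCompletion (IsLocalRing.maximalIdeal B) B)) →
          AdicCompletion (IsLocalRing.maximalIdeal A) A) := by
      rw [h0]; infer_instance
    have hsubB : Subsingleton (AdicCompletion (IsLocalRing.maximalIdeal B) B) :=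
      b.equivFun.toEquiv.subsingleton
    exact not_subsingleton (AdicCompletion (IsLocalRing.maximalIdeal B) B) hsubB

end Groth.Agent.S9562
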