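import Groth.Statements.S9563
import Groth.Agent.Lib.StdEtaleLocal50
import Groth.Agent.Lib.H80SmoothFiber

set_option autoImplicit false
universe u
open EtLocal

namespace Groth.Agent.S9563

/-- Let A → B be an étale homomorphism of Noetherian local rings, i.e. a local homomorphism with B
essentially of finite type and flat over A, m_A B = m_B, and residue field of B finite separable
over that of A. Then there are a standard étale A-algebra B' = A[t]_g/(f) (f monic and f' invertible
in B') and a prime 𝔮 of B' such that B is isomorphic as an A-algebra to the localization of B' at 𝔮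
(existence of an isomorphism). -/
theorem result (A B : Type u) [CommRing A] [CommRing B]
    [IsLocalRing A] [IsLocalRing B] [IsNoetherianRing A] [IsNoetherianRing B] [Algebra A B]
    [IsLocalHom (algebraMap A B)] [Algebra.EssFiniteType A B] [Module.Flat A B]
    (hm : (IsLocalRing.maximalIdeal A).map (algebraMap A B) = IsLocalRing.maximalIdeal B)
    [Module.Finite (IsLocalRing.ResidueField A) (IsLocalRing.ResidueField B)]
    [Algebra.IsSeparable (IsLocalRing.ResidueField A) (IsLocalRing.ResidueField B)] :
    ∃ (P : StandardEtalePair A) (𝔮 : Ideal P.Ring) (_ : 𝔮.IsPrime),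
      Nonempty (B ≃ₐ[A] Localization.AtPrime 𝔮) := by
  classical
  have hunr : Algebra.FormallyUnramified A B := Algebra.FormallyUnramified.of_map_maximalIdeal hm
  -- formal smoothness of the closed fibre
  have hfib : Algebra.FormallySmooth (IsLocalRing.ResidueField A)
      (TensorProduct (A) (IsLocalRing.ResidueField A) B) := by
    have hχ : (algebraMap (IsLocalRing.ResidueField A) (IsLocalRing.ResidueField B)).FormallySmooth := by
      rw [RingHom.formallySmooth_algebraMap]
      have : Algebra.FormallyEtale (IsLocalRing.ResidueField A) (IsLocalRing.ResidueField B) :=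
        Algebra.FormallyEtale.of_isSeparable _ _
      infer_instance
    refine Groth.Agent.Lib.H80SmoothFiber.formallySmooth_residueField_tensor_of_surjective
      (T := IsLocalRing.ResidueField B) (K := IsLocalRing.ResidueField A) (Field.toIsField _)
      (IsLocalRing.residue B) IsLocalRing.residue_surjective ?_
      (IsLocalRing.residue A) IsLocalRing.residue_surjective
      (algebraMap (IsLocalRing.ResidueField A) (IsLocalRing.ResidueField B)) hχ ?_
    · rw [IsLocalRing.ker_residue, hm]
    · ext r
      rfl
  have hfp : Algebra.FinitePresentation A (Algebra.EssFiniteType.subalgebra A B) :=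
    Algebra.FinitePresentation.of_finiteType.mp inferInstance
  have hsm : Algebra.FormallySmooth A B :=
    Algebra.FormallySmooth.of_formallySmooth_residueField_tensor (R := A) (S := B)
      (P := Algebra.EssFiniteType.subalgebra A B) (Algebra.EssFiniteType.submonoid A B)
  have het : Algebra.FormallyEtale A B :=
    Algebra.FormallyEtale.of_formallyUnramified_and_formallySmooth
  have hloc : IsLocalization.AtPrime B ((IsLocalRing.maximalIdeal B).comap
      (algebraMap (Algebra.EssFiniteType.subalgebra A B) B)) :=
    Groth.Agent.Lib.H56RegSmooth.isLocalization_atPrime_of_essFiniteType A B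
  let e : Localization.AtPrime ((IsLocalRing.maximalIdeal B).comap
      (algebraMap (Algebra.EssFiniteType.subalgebra A B) B))
        ≃ₐ[Algebra.EssFiniteType.subalgebra A B] B :=
    IsLocalization.algEquiv ((IsLocalRing.maximalIdeal B).comap
      (algebraMap (Algebra.EssFiniteType.subalgebra A B) B)).primeCompl _ _
  have hetAt : Algebra.IsEtaleAt A ((IsLocalRing.maximalIdeal B).comap
      (algebraMap (Algebra.EssFiniteType.subalgebra A B) B)) :=
    Algebra.FormallyEtale.of_equiv (e.symm.restrictScalars A)
  obtain ⟨f, hfq, hstd⟩ := Algebra.IsEtaleAt.exists_isStandardEtale (R := A)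
    ((IsLocalRing.maximalIdeal B).comap (algebraMap (Algebra.EssFiniteType.subalgebra A B) B))
  have hf : IsUnit (f : B) := by
    by_contra h
    exact hfq h
  obtain ⟨P⟩ := hstd.nonempty_standardEtalePresentation
  obtain ⟨𝔮, h𝔮, Ψ, hΨs, hΨi⟩ :=
    Groth.Agent.Lib.StdEtaleLocal50.exists_algHom_of_surjective A B f hf P.P.Ring
      P.equivRing.symm.toAlgHom P.equivRing.symm.surjective
  exact ⟨P.P, 𝔮, h𝔮, ⟨(AlgEquiv.ofBijective Ψ ⟨hΨi P.equivRing.symm.injective, hΨs⟩).symm⟩⟩

end Groth.Agent.S9563
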