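import Groth.Statements.S9566
import Mathlib
import Groth.Agent.Lib.H80EtaleStalk

set_option autoImplicit false
universe u
open EtLocal

namespace Groth.Agent.S9566

open AlgebraicGeometry CategoryTheory in
/-- Let Y be a locally Noetherian scheme, f : X ⟶ Y locally of finite type and x a point of X with image
y. Then f is étale on some open neighbourhood of x if and only if the map of local rings O_{Y,y} →
O_{X,x} is an étale homomorphism of local rings: it is flat, the maximal ideal of O_{Y,y} generates
that of O_{X,x}, and the residue field of x is a finite separable extension of that of y (O_{X,x} is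
automatically essentially of finite type over O_{Y,y}). -/
theorem result {X Y : Scheme.{u}} (f : X ⟶ Y)
    [LocallyOfFiniteType f] [IsLocallyNoetherian Y] (x : X) :
    (∃ U : X.Opens, x ∈ U ∧ Etale (U.ι ≫ f)) ↔
      ((f.stalkMap x).hom.Flat ∧
        (IsLocalRing.maximalIdeal (Y.presheaf.stalk (f.base x))).map (f.stalkMap x).hom =
          IsLocalRing.maximalIdeal (X.presheaf.stalk x) ∧
        letI := (f.residueFieldMap x).hom.toAlgebra
        Module.Finite (Y.residueField (f.base x)) (X.residueField x) ∧
          Algebra.IsSeparable (Y.residueField (f.base x)) (X.residueField x)) := by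
  have hfp : LocallyOfFinitePresentation f :=
    LocallyOfFinitePresentation.iff_locallyOfFiniteType.mpr inferInstance
  rw [Groth.Agent.Lib.H80EtaleStalk.exists_etale_nhd_iff,
    Groth.Agent.Lib.H80EtaleStalk.stalk_formallyUnramified_iff]
  constructor
  · rintro ⟨hsm, hunr⟩
    exact ⟨Groth.Agent.Lib.H80EtaleStalk.flat_stalkMap_of_mem_smoothLocus f x hsm, hunr⟩
  · rintro ⟨hflat, hmap, hfs⟩
    refine ⟨?_, hmap, hfs⟩
    have hfs' : @Module.Finite _ _ _ _ (f.residueFieldMap x).hom.toAlgebra.toModule ∧
      @Algebra.IsSeparable _ _ _ _ (f.residueFieldMap x).hom.toAlgebra := hfs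
    have hχ : (f.residueFieldMap x).hom.FormallySmooth := by
      let := (f.residueFieldMap x).hom.toAlgebra
      have h1 := hfs'.1
      have h2 := hfs'.2
      have : Algebra.FormallyEtale (Y.residueField (f.base x)) (X.residueField x) :=
        Algebra.FormallyEtale.of_isSeparable _ _
      exact (inferInstance : Algebra.FormallySmooth (Y.residueField (f.base x))
        (X.residueField x))
    refine Groth.Agent.Lib.H80EtaleStalk.mem_smoothLocus_of_flat_of_surjective f x hflat
      (T := X.residueField x) (K := Y.residueField (f.base x)) (Field.toIsField _)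
      (X.residue x).hom IsLocalRing.residue_surjective ?_
      (Y.residue (f.base x)).hom IsLocalRing.residue_surjective
      (f.residueFieldMap x).hom hχ ?_
    · rw [hmap]
      exact IsLocalRing.ker_residue
    · have := Scheme.residue_residueFieldMap f x
      exact congr($(this).hom).symm

end Groth.Agent.S9566
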