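import Groth.Statements.S9567
import Groth.Agent.Lib.StdEtaleChart61

set_option autoImplicit false
universe u
open EtLocal

namespace Groth.Agent.S9567

open AlgebraicGeometry CategoryTheory in
/-- Let φ : X ⟶ Y be any morphism of schemes, x a point of X and V an affine open neighbourhood of φ(x),
with ring R = Γ(Y, V). If φ is étale on some open neighbourhood of x, then there are an affine open
neighbourhood U of x with φ(U) ⊆ V, a monic polynomial p over R and an open immersion j of U into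
Spec of (R[t]/(p))[1/p′] (the localization of R[t]/(p) away from the image of the derivative of p)
such that j followed by the projection to Spec R is the morphism U → Spec R induced by φ. -/
theorem result {X Y : Scheme.{u}} (φ : X ⟶ Y) (x : X)
    (V : Y.Opens) (hV : IsAffineOpen V) (hxV : φ.base x ∈ V)
    (hφ : ∃ W : X.Opens, x ∈ W ∧ Etale (W.ι ≫ φ)) :
    ∃ (U : X.Opens) (hU : IsAffineOpen U) (_ : x ∈ U) (e : U ≤ φ ⁻¹ᵁ V)
      (p : Polynomial Γ(Y, V)) (_ : p.Monic)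
      (j : U.toScheme ⟶ Spec (CommRingCat.of (Localization.Away (AdjoinRoot.mk p (Polynomial.derivative p))))),
      IsOpenImmersion j ∧
        j ≫ Spec.map (CommRingCat.ofHom
            (algebraMap Γ(Y, V) (Localization.Away (AdjoinRoot.mk p (Polynomial.derivative p))))) =
          hU.isoSpec.hom ≫ Spec.map (φ.appLE V U e) := by
  obtain ⟨W, hxW, hW⟩ := hφ
  let x' : W.toScheme := ⟨x, hxW⟩
  have hmem : x' ∈ (W.ι ≫ φ) ⁻¹ᵁ V := by
    change (W.ι ≫ φ) x' ∈ V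
    have e1 : (W.ι ≫ φ) x' = φ x := Scheme.Hom.comp_apply _ _ _
    rw [e1]
    exact hxV
  obtain ⟨U₀', hU₀', hxU₀', hU₀'le⟩ :=
    exists_isAffineOpen_mem_and_subset (X := W.toScheme) (x := x') (U := (W.ι ≫ φ) ⁻¹ᵁ V) hmem
  have hU₀'le' : U₀' ≤ (W.ι ≫ φ) ⁻¹ᵁ V := hU₀'le
  let U₀ : X.Opens := W.ι ''ᵁ U₀'
  have hU₀ : IsAffineOpen U₀ := hU₀'.image_of_isOpenImmersion W.ι
  have hxU₀ : x ∈ U₀ := ⟨x', hxU₀', rfl⟩
  have e₀ : U₀ ≤ φ ⁻¹ᵁ V := by
    rintro _ ⟨y, hy, rfl⟩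
    have h1 : (W.ι ≫ φ) y ∈ V := hU₀'le hy
    have e1 : (W.ι ≫ φ) y = φ (W.ι y) := Scheme.Hom.comp_apply _ _ _
    rw [e1] at h1
    exact h1
  have hle1 : U₀' ≤ W.ι ⁻¹ᵁ U₀ := by
    intro y hy
    exact ⟨y, hy, rfl⟩
  have hρ₀ : (φ.appLE V U₀ e₀).hom.Etale := by
    have h1 := HasRingHomProperty.appLE (P := @Etale) (W.ι ≫ φ) hW ⟨V, hV⟩ ⟨U₀', hU₀'⟩ hU₀'le'
    have h2 : (W.ι ≫ φ).appLE V U₀' hU₀'le' = φ.appLE V U₀ e₀ := by
      rw [← Scheme.Hom.appLE_comp_appLE W.ι φ V U₀ U₀' e₀ hle1, Scheme.Opens.ι_appLE]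
      have : (homOfLE (Set.image_subset_iff.mpr hle1) : W.ι ''ᵁ U₀' ⟶ U₀) = 𝟙 _ :=
        Subsingleton.elim _ _
      rw [this]
      erw [op_id, X.presheaf.map_id, Category.comp_id]
    rw [h2] at h1
    exact h1
  -- ring level
  let R := Γ(Y, V)
  let B₀ := Γ(X, U₀)
  let ρ₀ : R →+* B₀ := (φ.appLE V U₀ e₀).hom
  let _ : Algebra R B₀ := ρ₀.toAlgebra
  have hEt : Algebra.Etale R B₀ := hρ₀
  let q₀ : PrimeSpectrum B₀ := hU₀.primeIdealOf ⟨x, hxU₀⟩
  have hq₀prime : q₀.asIdeal.IsPrime := q₀.isPrime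
  obtain ⟨f, hf, p, hp, θ, hθoi, hθ⟩ :=
    Groth.Agent.Lib.StdEtaleChart61.exists_chart_ring R B₀ q₀.asIdeal
  let U : X.Opens := X.basicOpen f
  have hU : IsAffineOpen U := hU₀.basicOpen f
  have hUle : U ≤ U₀ := X.basicOpen_le f
  have hxU : x ∈ U := by
    have h1 : q₀ ∈ hU₀.fromSpec ⁻¹ᵁ X.basicOpen f := by
      rw [hU₀.fromSpec_preimage_basicOpen]
      exact hf
    have h2 : hU₀.fromSpec q₀ ∈ X.basicOpen f := h1
    rw [hU₀.fromSpec_primeIdealOf] at h2
    exact h2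
  have e : U ≤ φ ⁻¹ᵁ V := hUle.trans e₀
  have hloc : IsLocalization.Away f Γ(X, U) := hU₀.isLocalization_basicOpen f
  let κ : Localization.Away f ≃ₐ[B₀] Γ(X, U) :=
    IsLocalization.algEquiv (Submonoid.powers f) (Localization.Away f) Γ(X, U)
  let Θ : Localization.Away (AdjoinRoot.mk p (Polynomial.derivative p)) →+* Γ(X, U) :=
    (κ : Localization.Away f →+* Γ(X, U)).comp θ
  have hκiso : IsIso (CommRingCat.ofHom (κ : Localization.Away f →+* Γ(X, U))) :=
    inferInstanceAs (IsIso κ.toRingEquiv.toCommRingCatIso.hom)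
  have hΘoi : IsOpenImmersion (Spec.map (CommRingCat.ofHom Θ)) := by
    change IsOpenImmersion (Spec.map (CommRingCat.ofHom
      ((κ : Localization.Away f →+* Γ(X, U)).comp θ)))
    rw [CommRingCat.ofHom_comp, Spec.map_comp]
    infer_instance
  have hΘ : CommRingCat.ofHom (algebraMap Γ(Y, V)
      (Localization.Away (AdjoinRoot.mk p (Polynomial.derivative p)))) ≫ CommRingCat.ofHom Θ =
      φ.appLE V U e := by
    ext r
    change κ (θ (algebraMap R _ r)) = (φ.appLE V U e).hom r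
    have h1 : θ (algebraMap R _ r) = algebraMap R (Localization.Away f) r := congr($hθ r)
    rw [h1, IsScalarTower.algebraMap_apply R B₀ (Localization.Away f), κ.commutes]
    have h2 : φ.appLE V U₀ e₀ ≫ X.presheaf.map (homOfLE hUle).op = φ.appLE V U e :=
      Scheme.Hom.appLE_map φ e₀ (homOfLE hUle).op
    rw [← h2]
    rfl
  refine ⟨U, hU, hxU, e, p, hp, hU.isoSpec.hom ≫ Spec.map (CommRingCat.ofHom Θ), ?_, ?_⟩
  · infer_instance
  · rw [Category.assoc, ← Spec.map_comp, hΘ]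

end Groth.Agent.S9567
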