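import Groth.Statements.S9568
import Mathlib

set_option autoImplicit false
universe u
open EtLocal

namespace Groth.Agent.S9568
set_option linter.style.haveILetI false
open TensorProduct

/-- `1 ⊗ z = 0` in `B ⊗[P] M` with `P → B` surjective implies `z ∈ ker • ⊤`. -/
lemma mem_smul_top_of_one_tmul_eq_zero {P B M : Type*} [CommRing P] [CommRing B] [Algebra P B]
    [AddCommGroup M] [Module P M] (h : Function.Surjective (algebraMap P B)) (z : M)
    (hz : (1 : B) ⊗ₜ[P] z = 0) :
    z ∈ (RingHom.ker (algebraMap P B) • (⊤ : Submodule P M)) := by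
  let e : (P ⧸ RingHom.ker (Algebra.ofId P B)) ≃ₐ[P] B :=
    Ideal.quotientKerAlgEquivOfSurjective (f := Algebra.ofId P B) h
  have h1 : (LinearMap.rTensor M e.symm.toLinearMap) ((1 : B) ⊗ₜ[P] z) = 0 := by rw [hz, map_zero]
  rw [LinearMap.rTensor_tmul] at h1
  have h2 : e.symm.toLinearMap 1 = 1 := by simp
  rw [h2] at h1
  have h3 := congrArg (TensorProduct.quotTensorEquivQuotSMul M (RingHom.ker (Algebra.ofId P B))) h1
  rw [TensorProduct.quotTensorEquivQuotSMul_mk_one_tmul, map_zero,
    Submodule.Quotient.mk_eq_zero] at h3
  exact h3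

lemma ker_map_le {A P B : Type u} [CommRing A] [CommRing P] [CommRing B] [Algebra A P]
    [Algebra A B] [Algebra P B] [IsScalarTower A P B]
    (h : Function.Surjective (algebraMap P B)) :
    LinearMap.ker (KaehlerDifferential.map A A P B) ≤
      Submodule.span P ((KaehlerDifferential.D A P) '' (RingHom.ker (algebraMap P B) : Set P)) ⊔
        RingHom.ker (algebraMap P B) • (⊤ : Submodule P (KaehlerDifferential A P)) := by
  intro x hx
  have hex := KaehlerDifferential.exact_kerCotangentToTensor_mapBaseChange A P B h
  have h0 : KaehlerDifferential.mapBaseChange A P B ((1 : B) ⊗ₜ[P] x) = 0 := by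
    rw [KaehlerDifferential.mapBaseChange_tmul, LinearMap.mem_ker.mp hx, smul_zero]
  obtain ⟨y, hy⟩ := (hex _).mp h0
  obtain ⟨g, rfl⟩ := Ideal.toCotangent_surjective _ y
  rw [KaehlerDifferential.kerCotangentToTensor_toCotangent] at hy
  have hz : (1 : B) ⊗ₜ[P] (x - KaehlerDifferential.D A P g.1) = 0 := by
    rw [TensorProduct.tmul_sub, hy, sub_self]
  have := mem_smul_top_of_one_tmul_eq_zero h _ hz
  have hx' : x = KaehlerDifferential.D A P g.1 + (x - KaehlerDifferential.D A P g.1) := by abel
  rw [hx']
  exact Submodule.add_mem_sup (Submodule.subset_span ⟨g.1, g.2, rfl⟩) this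

/-- general version with an `Algebra P B` instance -/
theorem aux {A P B : Type u} [CommRing A] [CommRing P] [CommRing B] [Algebra A P]
    [Algebra A B] [Algebra P B] [IsScalarTower A P B] [Module.Finite P (KaehlerDifferential A P)]
    (hsurj : Function.Surjective (algebraMap P B))
    (q : Ideal B) [q.IsPrime] (𝔮 : Ideal P) [𝔮.IsPrime] (h𝔮 : 𝔮 = q.comap (algebraMap P B)) :
    Subsingleton (LocalizedModule q.primeCompl (KaehlerDifferential A B)) ↔
      Submodule.span (Localization.AtPrime 𝔮)
        ((LocalizedModule.mkLinearMap 𝔮.primeCompl (KaehlerDifferential A P)) ''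
          ((KaehlerDifferential.D A P) '' (RingHom.ker (algebraMap P B) : Set P))) = ⊤ := by
  set I : Ideal P := RingHom.ker (algebraMap P B) with hI
  set S : Submodule P (KaehlerDifferential A P) :=
    Submodule.span P ((KaehlerDifferential.D A P) '' (I : Set P)) with hS
  rw [← Submodule.localized'_span (Localization.AtPrime 𝔮) 𝔮.primeCompl
    (LocalizedModule.mkLinearMap 𝔮.primeCompl (KaehlerDifferential A P))]
  have hSker : S ≤ LinearMap.ker (KaehlerDifferential.map A A P B) := by
    rw [hS, Submodule.span_le]
    rintro _ ⟨g, hg, rfl⟩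
    simp only [SetLike.mem_coe, LinearMap.mem_ker, KaehlerDifferential.map_D]
    have : algebraMap P B g = 0 := hg
    rw [this, map_zero]
  have hprime : ∀ t : P, algebraMap P B t ∉ q → t ∈ 𝔮.primeCompl := by
    intro t ht
    show t ∉ 𝔮
    rw [h𝔮]
    exact ht
  constructor
  · intro hsub
    -- (S ⊔ I • ⊤) localized is ⊤
    have h1 : (S ⊔ I • (⊤ : Submodule P (KaehlerDifferential A P))).localized'
        (Localization.AtPrime 𝔮) 𝔮.primeCompl
        (LocalizedModule.mkLinearMap 𝔮.primeCompl (KaehlerDifferential A P)) = ⊤ := by
      rw [eq_top_iff]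
      intro x _
      obtain ⟨⟨ω, s⟩, rfl⟩ := IsLocalizedModule.mk'_surjective 𝔮.primeCompl
        (LocalizedModule.mkLinearMap 𝔮.primeCompl (KaehlerDifferential A P)) x
      have h0 : LocalizedModule.mkLinearMap q.primeCompl (KaehlerDifferential A B)
          (KaehlerDifferential.map A A P B ω) = 0 := Subsingleton.elim _ _
      obtain ⟨c, hc⟩ := (IsLocalizedModule.eq_zero_iff q.primeCompl
        (LocalizedModule.mkLinearMap q.primeCompl (KaehlerDifferential A B))).mp h0
      obtain ⟨t, ht⟩ := hsurj c.1
      have htq : t ∈ 𝔮.primeCompl := hprime t (by rw [ht]; exact c.2)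
      have hmem : t • ω ∈ LinearMap.ker (KaehlerDifferential.map A A P B) := by
        rw [LinearMap.mem_ker, map_smul, ← algebraMap_smul B t, ht]
        exact hc
      have hmem2 := ker_map_le (A := A) hsurj hmem
      rw [Submodule.mem_localized']
      exact ⟨t • ω, hmem2, ⟨t, htq⟩ * s, IsLocalizedModule.mk'_cancel_left (f := LocalizedModule.mkLinearMap 𝔮.primeCompl (KaehlerDifferential A P)) ω ⟨t, htq⟩ s⟩
    rw [(Submodule.localized'gi (Localization.AtPrime 𝔮) 𝔮.primeCompl (LocalizedModule.mkLinearMap 𝔮.primeCompl (KaehlerDifferential A P))).gc.l_sup, Submodule.localized'_smul, Submodule.localized'_top] at h1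
    rw [eq_top_iff]
    refine Submodule.le_of_le_smul_of_le_jacobson_bot (I := I.localized' (Localization.AtPrime 𝔮) 𝔮.primeCompl (Algebra.linearMap P (Localization.AtPrime 𝔮))) ?_ ?_ h1.ge
    · exact Module.Finite.fg_top
    · rw [IsLocalRing.jacobson_eq_maximalIdeal ⊥ bot_ne_top]
      rintro x ⟨g, hg, s, rfl⟩
      have hgq : g ∈ 𝔮 := by
        rw [h𝔮, Ideal.mem_comap]
        have : algebraMap P B g = 0 := hg
        rw [this]; exact zero_mem _
      have hx : s • IsLocalizedModule.mk' (Algebra.linearMap P (Localization.AtPrime 𝔮)) g s =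
          algebraMap P (Localization.AtPrime 𝔮) g := IsLocalizedModule.mk'_cancel' _ g s
      by_contra hnot
      have hu : IsUnit (IsLocalizedModule.mk' (Algebra.linearMap P (Localization.AtPrime 𝔮)) g s) := by
        by_contra h'
        exact hnot ((IsLocalRing.mem_maximalIdeal _).mpr h')
      have hu2 : IsUnit (algebraMap P (Localization.AtPrime 𝔮) g) := by
        rw [← hx, Submonoid.smul_def, Algebra.smul_def]
        exact (IsLocalization.map_units (Localization.AtPrime 𝔮) s).mul hu
      exact ((IsLocalization.AtPrime.isUnit_to_map_iff (Localization.AtPrime 𝔮) 𝔮 g).mp hu2) hgq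
  · intro htop
    have hall : ∀ ω : KaehlerDifferential A B, ∃ c : q.primeCompl, c • ω = 0 := by
      intro ω
      obtain ⟨ω', rfl⟩ := KaehlerDifferential.map_surjective_of_surjective A A P B hsurj ω
      have hmem : IsLocalizedModule.mk' (LocalizedModule.mkLinearMap 𝔮.primeCompl (KaehlerDifferential A P)) ω' (1 : 𝔮.primeCompl) ∈
          S.localized' (Localization.AtPrime 𝔮) 𝔮.primeCompl
            (LocalizedModule.mkLinearMap 𝔮.primeCompl (KaehlerDifferential A P)) := by
        rw [htop]; trivial
      obtain ⟨m, hm, t, ht⟩ := hmem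
      obtain ⟨u, hu⟩ := (IsLocalizedModule.mk'_eq_mk'_iff (LocalizedModule.mkLinearMap 𝔮.primeCompl (KaehlerDifferential A P)) m ω' t 1).mp ht
      have hq : algebraMap P B (u.1 * t.1) ∉ q := by
        have : u.1 * t.1 ∈ 𝔮.primeCompl := mul_mem u.2 t.2
        intro hmem
        apply this
        have h3 : u.1 * t.1 ∈ q.comap (algebraMap P B) := hmem
        rw [← h𝔮] at h3
        exact h3
      refine ⟨⟨algebraMap P B (u.1 * t.1), hq⟩, ?_⟩
      show algebraMap P B (u.1 * t.1) • KaehlerDifferential.map A A P B ω' = 0
      rw [algebraMap_smul, ← map_smul, mul_smul]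
      have h2 : u.1 • t.1 • ω' = u • t • ω' := rfl
      rw [h2, hu, one_smul]
      exact LinearMap.mem_ker.mp (hSker (S.smul_mem _ hm))
    refine ⟨fun x y => ?_⟩
    have hz : ∀ z : LocalizedModule q.primeCompl (KaehlerDifferential A B), z = 0 := by
      intro z
      induction z using LocalizedModule.induction_on with
      | h ω s =>
        obtain ⟨c, hc⟩ := hall ω
        rw [← LocalizedModule.zero_mk (1 : q.primeCompl), LocalizedModule.mk_eq]
        exact ⟨c, by rw [smul_zero, smul_zero, one_smul]; exact hc⟩
    rw [hz x, hz y]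


/-- Let A be a ring, φ a surjection from the polynomial ring P = A[x_1, …, x_n] onto an A-algebra B with
kernel I, q a prime of B and 𝔮 its preimage in P. Then the localization at q of the module of
differentials Ω_{B/A} vanishes if and only if the images of the differentials dg, g ∈ I, span the
localization of Ω_{P/A} at 𝔮 over P_𝔮. (Geometrically: for f locally of finite type, the stalk of
Ω_{X/Y} at x vanishes iff near x the scheme X is a closed subscheme of an affine space over the base
cut out by an ideal whose germs at the point have differentials generating the stalk of Ω of the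
affine space; the published statement also lists the equivalence with f being unramified at x and
with the diagonal being a local isomorphism at x, which this row does not restate. The published
statement asks for one such presentation near the point; this row states the equivalence for every
presentation, which is what the published proof shows and which implies the existential form.) -/
theorem result {A B : Type u} [CommRing A] [CommRing B]
    [Algebra A B] (n : ℕ) (φ : MvPolynomial (Fin n) A →ₐ[A] B) (hφ : Function.Surjective φ)
    (q : Ideal B) [q.IsPrime] :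
    Subsingleton (LocalizedModule q.primeCompl (KaehlerDifferential A B)) ↔
      Submodule.span (Localization.AtPrime (q.comap φ.toRingHom))
        ((LocalizedModule.mkLinearMap (q.comap φ.toRingHom).primeCompl
            (KaehlerDifferential A (MvPolynomial (Fin n) A))) ''
          ((KaehlerDifferential.D A (MvPolynomial (Fin n) A)) '' (RingHom.ker φ.toRingHom : Set (MvPolynomial (Fin n) A)))) = ⊤ := by
  letI : Algebra (MvPolynomial (Fin n) A) B := φ.toRingHom.toAlgebra
  haveI : IsScalarTower A (MvPolynomial (Fin n) A) B :=
    IsScalarTower.of_algebraMap_eq fun a => (φ.commutes a).symm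
  have hsurj : Function.Surjective (algebraMap (MvPolynomial (Fin n) A) B) := hφ
  exact aux (A := A) hsurj q (q.comap φ.toRingHom) rfl

end Groth.Agent.S9568
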