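import Groth.Statements.S9571
import Groth.Agent.Lib.H4TwistFrac
-- import your own Groth.Agent.* helpers here

set_option autoImplicit false
universe u
open CategoryTheory CategoryTheory.Limits AlgebraicGeometry TopologicalSpace Opposite
open Constr

namespace Groth.Agent.S9571

open Groth.Agent.Lib.H4Twist

/-- Let S be a graded ring, X = Proj S and d ≥ 1; let W_d be the union of the opens D_+(ab) over pairs
of homogeneous a, b with deg a = deg b + d (the open over which the twisting sheaves O_X(nd) are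
invertible with compatible multiplications). For n ≥ 1 and f homogeneous of degree nd, with s the
section of O_X(nd) over W_d defined by f, the non-vanishing locus (W_d)_s equals D_+(f) ∩ W_d.
Pointwise: for p in some D_+(ab) as above, p ∈ D_+(f) if and only if the value f/1 of s at p
generates the module of degree-nd fractions at p (the span of the fractions c/t with t ∉ p and deg c
= deg t + nd, over the degree-zero local ring at p). -/
theorem result {R A : Type u} [CommRing R] [CommRing A] [Algebra R A] (𝒜 : ℕ → Submodule R A) [GradedAlgebra 𝒜]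
    {d : ℕ} (hd : 0 < d) {i j : ℕ} {a b : A} (ha : a ∈ 𝒜 i) (hb : b ∈ 𝒜 j) (hij : i = j + d)
    (p : ProjectiveSpectrum 𝒜) (hp : p ∈ ProjectiveSpectrum.basicOpen 𝒜 (a * b))
    {n : ℕ} (hn : 0 < n) (f : 𝒜 (n * d)) :
    p ∈ ProjectiveSpectrum.basicOpen 𝒜 (f : A) ↔
      Submodule.span (Twist.A0 𝒜 p) {(Twist.globalOf 𝒜 f).1 ⟨p, trivial⟩} = ⊤ := by
  have hone : (1 : A) ∉ p.asHomogeneousIdeal := one_notMem p
  have he : (((Twist.globalOf 𝒜 f).1 ⟨p, trivial⟩ : Twist.twistAt 𝒜 ((n * d : ℕ) : ℤ) p) : Twist.Loc 𝒜 p) =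
      Localization.mk f.1 1 := rfl
  constructor
  · intro hp'
    replace hp' : f.1 ∉ p.asHomogeneousIdeal := hp'
    rw [eq_top_iff]
    rintro ⟨q, hq⟩ -
    have hq' : q ∈ Twist.twistAt 𝒜 ((1 : ℤ) * ((n * d : ℕ) : ℤ)) p := by rwa [one_mul]
    obtain ⟨c, hc⟩ := (mem_twistAt_mul_iff hp' f.2 1).mp hq'
    refine Submodule.mem_span_singleton.2 ⟨c, ?_⟩
    apply Subtype.ext
    rw [Twist.coe_smul_val, he]
    show _ = q
    rw [hc, zpow_one, fUnit_val]
  · intro htop hfp
    replace hfp : f.1 ∈ p.asHomogeneousIdeal.toIdeal := hfp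
    have hpab : a * b ∉ p.asHomogeneousIdeal := hp
    have hpa : a ∉ p.asHomogeneousIdeal := fun hx =>
      hpab (p.asHomogeneousIdeal.toIdeal.mul_mem_right b hx)
    have hpb : b ∉ p.asHomogeneousIdeal := fun hx =>
      hpab (p.asHomogeneousIdeal.toIdeal.mul_mem_left a hx)
    let t : Twist.twistAt 𝒜 ((n * d : ℕ) : ℤ) p :=
      ⟨_, fracPow_mem ha hb hij hpa hpb (n : ℤ) ((n * d : ℕ) : ℤ) (by push_cast; ring)⟩
    have ht : t ∈ Submodule.span (Twist.A0 𝒜 p) {(Twist.globalOf 𝒜 f).1 ⟨p, trivial⟩} := by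
      rw [htop]; trivial
    obtain ⟨c, hc⟩ := Submodule.mem_span_singleton.1 ht
    have h1 := congrArg Subtype.val hc
    rw [Twist.coe_smul_val, he] at h1
    have hunit : IsUnit (Localization.mk f.1 1 : Twist.Loc 𝒜 p) := by
      have : IsUnit (c.val * (Localization.mk f.1 1 : Twist.Loc 𝒜 p)) := by
        rw [h1]
        exact Units.isUnit ((fUnit p a hpa) ^ (n : ℤ) * (fUnit p b hpb) ^ (-(n : ℤ)))
      exact isUnit_of_mul_isUnit_right this
    rw [Localization.mk_one_eq_algebraMap,
      IsLocalization.AtPrime.isUnit_to_map_iff (Twist.Loc 𝒜 p) p.asHomogeneousIdeal.toIdeal] at hunit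
    exact hunit hfp

end Groth.Agent.S9571
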