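import Groth.Statements.S9572
import Groth.Agent.Lib.H60PConeMap
import Mathlib.AlgebraicGeometry.Morphisms.IsIso

set_option autoImplicit false
universe u
open AlgebraicGeometry CategoryTheory Limits

namespace Groth.Agent.S9572

open Groth.Agent.Lib.H60PConeMap HomogeneousLocalization

section Aux

variable {R A : Type u} [CommRing R] [CommRing A] [Algebra R A] (𝒜 : ℕ → Submodule R A)
  [GradedAlgebra 𝒜] {B : Type u} [CommRing B] [Algebra R B] (ℬ : ℕ → Submodule R B)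
  [GradedAlgebra ℬ] (ψ : 𝒜 →+*ᵍ ℬ)

/-- A fraction `x / s^n` can be rewritten with a denominator of exponent `n + k`. -/
theorem away_mk_add {i : ℕ} {s : A} (hs : s ∈ 𝒜 i) (n k : ℕ) (x : A) (hx : x ∈ 𝒜 (n • i)) :
    ∃ hx' : x * s ^ k ∈ 𝒜 ((n + k) • i),
      Away.mk 𝒜 hs n x hx = Away.mk 𝒜 hs (n + k) (x * s ^ k) hx' := by
  have hx' : x * s ^ k ∈ 𝒜 ((n + k) • i) := by
    have := SetLike.GradedMul.mul_mem hx (SetLike.pow_mem_graded k hs)
    rwa [show n • i + k • i = (n + k) • i by rw [add_smul]] at this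
  refine ⟨hx', ?_⟩
  rw [HomogeneousLocalization.ext_iff_val, Away.val_mk, Away.val_mk, Localization.mk_eq_mk_iff,
    Localization.r_iff_exists]
  refine ⟨1, ?_⟩
  simp only [OneMemClass.coe_one, one_mul]
  ring

variable {𝒜 ℬ}

theorem awayMap_bijective (d₀ : ℕ) (hbij : ∀ d : ℕ, d₀ ≤ d → Set.BijOn ψ (𝒜 d) (ℬ d))
    {i : ℕ} (hi : 0 < i) (s : A) (hs : s ∈ 𝒜 i) :
    Function.Bijective (Away.map ψ s) := by
  constructor
  · rw [injective_iff_map_eq_zero]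
    intro x hx
    obtain ⟨n, b, hb, rfl⟩ := Away.mk_surjective 𝒜 hs x
    obtain ⟨hb', heq⟩ := away_mk_add 𝒜 hs n d₀ b hb
    rw [heq] at hx ⊢
    rw [Away.map_mk, HomogeneousLocalization.ext_iff_val, Away.val_mk, val_zero,
      Localization.mk_eq_mk'_apply, IsLocalization.mk'_eq_zero_iff] at hx
    obtain ⟨⟨m, k, hk⟩, hm⟩ := hx
    have hk' : ψ s ^ k = m := hk
    have hdeg : d₀ ≤ k • i + (n + d₀) • i := by
      have : d₀ ≤ (n + d₀) • i := by
        rw [smul_eq_mul]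
        calc d₀ ≤ n + d₀ := Nat.le_add_left _ _
          _ = (n + d₀) * 1 := (mul_one _).symm
          _ ≤ (n + d₀) * i := Nat.mul_le_mul_left _ hi
      omega
    have hmem : s ^ k * (b * s ^ d₀) ∈ 𝒜 (k • i + (n + d₀) • i) :=
      SetLike.GradedMul.mul_mem (SetLike.pow_mem_graded k hs) hb'
    have h0 : ψ (s ^ k * (b * s ^ d₀)) = ψ 0 := by
      rw [map_mul, map_pow, hk', map_zero]
      exact hm
    have hzero : s ^ k * (b * s ^ d₀) = 0 :=
      (hbij _ hdeg).injOn hmem (zero_mem _) h0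
    rw [HomogeneousLocalization.ext_iff_val, Away.val_mk, val_zero,
      Localization.mk_eq_mk'_apply, IsLocalization.mk'_eq_zero_iff]
    exact ⟨⟨s ^ k, k, rfl⟩, hzero⟩
  · intro y
    have hψs : ψ s ∈ ℬ i := ψ.map_mem hs
    obtain ⟨n, a, ha, rfl⟩ := Away.mk_surjective ℬ hψs y
    obtain ⟨ha', heq⟩ := away_mk_add ℬ hψs n d₀ a ha
    rw [heq]
    have hdeg : d₀ ≤ (n + d₀) • i := by
      rw [smul_eq_mul]
      calc d₀ ≤ n + d₀ := Nat.le_add_left _ _
        _ = (n + d₀) * 1 := (mul_one _).symm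
        _ ≤ (n + d₀) * i := Nat.mul_le_mul_left _ hi
    obtain ⟨b, hb, hba⟩ := (hbij _ hdeg).surjOn ha'
    refine ⟨Away.mk 𝒜 hs (n + d₀) b hb, ?_⟩
    rw [Away.map_mk]
    congr 1

end Aux

theorem result {R A : Type u} [CommRing R] [CommRing A] [Algebra R A] (𝒜 : ℕ → Submodule R A) [GradedAlgebra 𝒜]
    {B : Type u} [CommRing B] [Algebra R B] (ℬ : ℕ → Submodule R B) [GradedAlgebra ℬ] (ψ : 𝒜 →+*ᵍ ℬ)
    (d₀ : ℕ) (hbij : ∀ d : ℕ, d₀ ≤ d → Set.BijOn ψ (𝒜 d) (ℬ d))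
    (r : (PCone.dom ψ : Scheme.{u}) ⟶ Proj 𝒜)
    (hr : ∀ (d : ℕ) (f : A) (hd : 0 < d) (hf : f ∈ 𝒜 d),
      PCone.chart ψ hf hd ≫ r =
        Spec.map (CommRingCat.ofHom (HomogeneousLocalization.Away.map ψ f)) ≫ Proj.awayι 𝒜 f hf hd) :
    PCone.dom ψ = ⊤ ∧ IsIso r := by
  constructor
  · rw [eq_top_iff]
    intro q _
    have hcov := (Proj.affineOpenCover ℬ).covers q
    set i := (Proj.affineOpenCover ℬ).idx q
    have hq : q ∈ Proj.basicOpen ℬ (i.2 : B) := by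
      rw [← Proj.opensRange_awayι ℬ _ i.2.2 i.1.pos]
      exact hcov
    -- a power of `i.2` of degree `≥ d₀`
    have hk : 0 < d₀ + 1 := Nat.succ_pos _
    have hdeg : d₀ ≤ (d₀ + 1) • (i.1 : ℕ) := by
      rw [smul_eq_mul]
      calc d₀ ≤ d₀ + 1 := Nat.le_succ _
        _ = (d₀ + 1) * 1 := (mul_one _).symm
        _ ≤ (d₀ + 1) * i.1 := Nat.mul_le_mul_left _ i.1.pos
    have hpow : (i.2 : B) ^ (d₀ + 1) ∈ ℬ ((d₀ + 1) • (i.1 : ℕ)) :=
      SetLike.pow_mem_graded _ i.2.2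
    obtain ⟨a, ha, hab⟩ := (hbij _ hdeg).surjOn hpow
    have hpos : 0 < (d₀ + 1) • (i.1 : ℕ) := by
      rw [smul_eq_mul]; exact Nat.mul_pos hk i.1.pos
    refine TopologicalSpace.Opens.mem_iSup.mpr ⟨⟨a, _, hpos, ha⟩, ?_⟩
    change q ∈ Proj.basicOpen ℬ (ψ a)
    rw [hab, Proj.basicOpen_pow ℬ _ _ hk]
    exact hq
  · change MorphismProperty.isomorphisms Scheme r
    refine IsZariskiLocalAtTarget.of_openCover (Proj.affineOpenCover 𝒜).openCover ?_
    rintro ⟨⟨i, hi⟩, ⟨s, hs⟩⟩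
    change IsIso _
    have hpb := isPullback_chart ψ r hr hs hi
    have hiso : IsIso (Spec.map (CommRingCat.ofHom (HomogeneousLocalization.Away.map ψ s))) := by
      rw [isIso_SpecMap_iff]
      exact awayMap_bijective ψ d₀ hbij hi s hs
    have hsnd : pullback.snd r (Proj.awayι 𝒜 s hs hi) =
        hpb.flip.isoPullback.inv ≫
          Spec.map (CommRingCat.ofHom (HomogeneousLocalization.Away.map ψ s)) := by
      rw [Iso.eq_inv_comp]
      exact hpb.flip.isoPullback_hom_snd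
    change IsIso (pullback.snd r (Proj.awayι 𝒜 s hs hi))
    rw [hsnd]
    infer_instance

end Groth.Agent.S9572
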