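import Groth.Statements.S9576
import Groth.Agent.Lib.ProjSpaceCover

set_option autoImplicit false
universe u
open CategoryTheory CategoryTheory.Limits AlgebraicGeometry TopologicalSpace Opposite
open Constr

namespace Groth.Agent.S9576

section helpers
open MvPolynomial HomogeneousLocalization

variable (n : ℕ) (R : Type u) [CommRing R] (i : Fin (n + 1))

/-- dehomogenization `T_i ↦ 1`. -/
noncomputable def theta :
    MvPolynomial (Fin (n + 1)) R →+* MvPolynomial {j : Fin (n + 1) // j ≠ i} R :=
  eval₂Hom C (fun j => if h : j = i then 1 else X ⟨j, h⟩)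

lemma theta_X_self : theta n R i (X i) = 1 := by simp [theta]

lemma theta_X_ne (j : Fin (n + 1)) (h : j ≠ i) : theta n R i (X j) = X ⟨j, h⟩ := by
  simp [theta, h]

lemma theta_C (r : R) : theta n R i (C r) = C r := by simp [theta]

/-- the map of the statement -/
noncomputable def phi : MvPolynomial {j : Fin (n + 1) // j ≠ i} R →+*
    HomogeneousLocalization.Away (CohB1.polyGrading n R) (MvPolynomial.X i) :=
  (MvPolynomial.eval₂Hom
          ((HomogeneousLocalization.fromZeroRingHom (CohB1.polyGrading n R) (Submonoid.powers (MvPolynomial.X i))).comp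
            (algebraMap R (CohB1.polyGrading n R 0)))
          (fun j : {j : Fin (n + 1) // j ≠ i} =>
            (HomogeneousLocalization.mk ⟨1, ⟨MvPolynomial.X j.1, MvPolynomial.isHomogeneous_X R j.1⟩,
              ⟨MvPolynomial.X i, MvPolynomial.isHomogeneous_X R i⟩, ⟨1, pow_one _⟩⟩ :
              HomogeneousLocalization.Away (CohB1.polyGrading n R) (MvPolynomial.X i))))

/-- `phi` followed by the inclusion in the localization -/
noncomputable def Phi : MvPolynomial {j : Fin (n + 1) // j ≠ i} R →+*
    Localization.Away (MvPolynomial.X i : MvPolynomial (Fin (n + 1)) R) :=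
  (algebraMap (HomogeneousLocalization.Away (CohB1.polyGrading n R) (MvPolynomial.X i))
    (Localization.Away (MvPolynomial.X i : MvPolynomial (Fin (n + 1)) R))).comp (phi n R i)

lemma val_fromZero (f : CohB1.polyGrading n R 0) :
    (HomogeneousLocalization.fromZeroRingHom (CohB1.polyGrading n R)
      (Submonoid.powers (MvPolynomial.X i)) f).val =
      algebraMap (MvPolynomial (Fin (n + 1)) R) _ (f : MvPolynomial (Fin (n + 1)) R) := by
  show (HomogeneousLocalization.mk ⟨0, f, 1, one_mem _⟩).val = _
  rw [val_mk]
  exact Localization.mk_one_eq_algebraMap _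

lemma Phi_C (r : R) : Phi n R i (C r) =
    algebraMap (MvPolynomial (Fin (n + 1)) R) _ (C r) := by
  simp only [Phi, phi, RingHom.comp_apply, coe_eval₂Hom, eval₂_C, HomogeneousLocalization.algebraMap_apply]
  rw [val_fromZero]
  rfl

lemma Phi_X_mul (j : {j : Fin (n + 1) // j ≠ i}) :
    Phi n R i (X j) * algebraMap (MvPolynomial (Fin (n + 1)) R) _ (X i) =
      algebraMap (MvPolynomial (Fin (n + 1)) R) _ (X j.1) := by
  simp only [Phi, phi, RingHom.comp_apply, coe_eval₂Hom, eval₂_X, HomogeneousLocalization.algebraMap_apply,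
    val_mk]
  rw [Localization.mk_eq_mk']
  exact IsLocalization.mk'_spec _ _ _

/-- evaluation `T_i ↦ 1` on the localization -/
noncomputable def Lam : Localization.Away (MvPolynomial.X i : MvPolynomial (Fin (n + 1)) R) →+*
    MvPolynomial {j : Fin (n + 1) // j ≠ i} R :=
  IsLocalization.Away.lift (MvPolynomial.X i) (g := theta n R i)
    (by rw [theta_X_self]; exact isUnit_one)

lemma Lam_algebraMap (a : MvPolynomial (Fin (n + 1)) R) :
    Lam n R i (algebraMap _ _ a) = theta n R i a :=
  IsLocalization.Away.lift_eq _ _ _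

lemma Lam_Phi : (Lam n R i).comp (Phi n R i) = RingHom.id _ := by
  apply MvPolynomial.ringHom_ext
  · intro r
    rw [RingHom.comp_apply, Phi_C, Lam_algebraMap, theta_C]; rfl
  · intro j
    have h := congrArg (Lam n R i) (Phi_X_mul n R i j)
    rw [map_mul, Lam_algebraMap, Lam_algebraMap, theta_X_self, mul_one, theta_X_ne _ _ _ _ j.2] at h
    rw [RingHom.comp_apply, h]; rfl

lemma phi_injective : Function.Injective (phi n R i) := by
  intro p q hpq
  have h1 : Phi n R i p = Phi n R i q := by
    simp only [Phi, RingHom.comp_apply, hpq]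
  have h2 := congrArg (Lam n R i) h1
  have e := Lam_Phi n R i
  have hp : Lam n R i (Phi n R i p) = p := by
    rw [← RingHom.comp_apply, e]; rfl
  have hq : Lam n R i (Phi n R i q) = q := by
    rw [← RingHom.comp_apply, e]; rfl
  rw [hp, hq] at h2
  exact h2

lemma Phi_theta_X (j : Fin (n + 1)) :
    Phi n R i (theta n R i (X j)) * algebraMap (MvPolynomial (Fin (n + 1)) R) _ (X i) =
      algebraMap (MvPolynomial (Fin (n + 1)) R) _ (X j) := by
  by_cases h : j = i
  · subst h
    rw [theta_X_self, map_one, one_mul]
  · rw [theta_X_ne _ _ _ _ h]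
    exact Phi_X_mul n R i ⟨j, h⟩

lemma scaling_monomial (m : Fin (n + 1) →₀ ℕ) (c : R) :
    algebraMap (MvPolynomial (Fin (n + 1)) R)
      (Localization.Away (MvPolynomial.X i : MvPolynomial (Fin (n + 1)) R)) (monomial m c) =
    Phi n R i (theta n R i (monomial m c)) *
      (algebraMap (MvPolynomial (Fin (n + 1)) R) _ (X i)) ^ (m.sum fun _ e => e) := by
  rw [monomial_eq, map_mul, map_mul, map_mul, theta_C, Phi_C, mul_assoc]
  congr 1
  rw [Finsupp.prod, Finsupp.sum, map_prod, map_prod, map_prod, ← Finset.prod_pow_eq_pow_sum,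
    ← Finset.prod_mul_distrib]
  refine Finset.prod_congr rfl fun j _ => ?_
  rw [map_pow, map_pow, map_pow, ← mul_pow, Phi_theta_X]

lemma scaling (a : MvPolynomial (Fin (n + 1)) R) (d : ℕ) (ha : a.IsHomogeneous d) :
    algebraMap (MvPolynomial (Fin (n + 1)) R)
      (Localization.Away (MvPolynomial.X i : MvPolynomial (Fin (n + 1)) R)) a =
    Phi n R i (theta n R i a) * (algebraMap (MvPolynomial (Fin (n + 1)) R) _ (X i)) ^ d := by
  conv_lhs => rw [a.as_sum]
  conv_rhs => rw [a.as_sum]
  rw [map_sum, map_sum, map_sum, Finset.sum_mul]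
  refine Finset.sum_congr rfl fun m hm => ?_
  rw [scaling_monomial]
  congr 2
  rw [ha.degree_eq_sum_deg_support hm]
  rfl

lemma phi_surjective : Function.Surjective (phi n R i) := by
  intro x
  obtain ⟨d, a, ha, rfl⟩ := Away.mk_surjective (CohB1.polyGrading n R)
    (Groth.Agent.Lib.ProjSpaceCover.X_mem n R i) x
  refine ⟨theta n R i a, ?_⟩
  apply HomogeneousLocalization.val_injective
  rw [Away.val_mk]
  have hh : a.IsHomogeneous d := by
    have := (MvPolynomial.mem_homogeneousSubmodule _ _).mp ha
    simpa using this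
  have hs := scaling n R i a d hh
  show Phi n R i (theta n R i a) = _
  rw [Localization.mk_eq_mk', IsLocalization.eq_mk'_iff_mul_eq, hs]
  simp only [map_pow]

theorem result' :
    (⨆ i : Fin (n + 1), Proj.basicOpen (CohB1.polyGrading n R) (MvPolynomial.X i)) = ⊤ ∧
      ∀ i : Fin (n + 1), Function.Bijective (phi n R i) :=
  ⟨Groth.Agent.Lib.ProjSpaceCover.iSup_stdOpen n R, fun i => ⟨phi_injective n R i, phi_surjective n R i⟩⟩


end helpers

/-- For a ring R and n ≥ 0, projective n-space Proj R[T_0, …, T_n] is covered by the n + 1 standard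
opens D_+(T_i), and each D_+(T_i) = Spec R[T_0, …, T_n]_(T_i) is an affine n-space: the ring
homomorphism from the polynomial ring over R in the variables T_j, j ≠ i, to the degree-zero
localization R[T_0, …, T_n]_(T_i), sending T_j to T_j/T_i and a constant r to r/1, is bijective.
(The published statement is over ℤ; this row is over any ring R.) -/
theorem result (n : ℕ) (R : Type u) [CommRing R] :
    (⨆ i : Fin (n + 1), Proj.basicOpen (CohB1.polyGrading n R) (MvPolynomial.X i)) = ⊤ ∧
      ∀ i : Fin (n + 1), Function.Bijective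
        (MvPolynomial.eval₂Hom
          ((HomogeneousLocalization.fromZeroRingHom (CohB1.polyGrading n R) (Submonoid.powers (MvPolynomial.X i))).comp
            (algebraMap R (CohB1.polyGrading n R 0)))
          (fun j : {j : Fin (n + 1) // j ≠ i} =>
            (HomogeneousLocalization.mk ⟨1, ⟨MvPolynomial.X j.1, MvPolynomial.isHomogeneous_X R j.1⟩,
              ⟨MvPolynomial.X i, MvPolynomial.isHomogeneous_X R i⟩, ⟨1, pow_one _⟩⟩ :
              HomogeneousLocalization.Away (CohB1.polyGrading n R) (MvPolynomial.X i)))) :=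
  result' n R

end Groth.Agent.S9576
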