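import Groth.Statements.S9580
import Groth.Agent.Lib.H4TwistCompact
-- import your own Groth.Agent.* helpers here

set_option autoImplicit false
universe u
open CategoryTheory CategoryTheory.Limits AlgebraicGeometry TopologicalSpace Opposite
open Constr

namespace Groth.Agent.S9580

open Groth.Agent.Lib.H4Twist

/-- Let S be a graded ring, X = Proj S and Y ⊆ X a quasi-compact open subscheme. Then there is an
integer d ≥ 1 such that Y is contained in the open W_d, the union of the standard opens D_+(ab) over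
homogeneous a, b with deg a = deg b + d, and such that the restriction O_Y(nd) of O_X(nd) to Y is
invertible for every integer n. (The remaining assertions — the multiplication maps among the
O_Y(nd) and M~(nd) are isomorphisms, D_+(f) ∩ Y = Y_s, and the loci Y_s form a basis — are not
stated here.) -/
theorem result {R A : Type u} [CommRing R] [CommRing A] [Algebra R A] (𝒜 : ℕ → Submodule R A) [GradedAlgebra 𝒜]
    (Y : (Proj 𝒜).Opens) (hY : IsCompact (Y : Set (Proj 𝒜))) :
    ∃ d : ℕ, 0 < d ∧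
      (∀ y : Proj 𝒜, y ∈ Y → ∃ (i j : ℕ) (a b : A), a ∈ 𝒜 i ∧ b ∈ 𝒜 j ∧ i = j + d ∧ y ∈ Proj.basicOpen 𝒜 (a * b)) ∧
      ∀ n : ℤ, PicF.IsInvertible ((Twist.twist 𝒜 (n * d)).restrict Y.ι) := by
  obtain ⟨d, hd, hcov⟩ := exists_common_degree 𝒜 (Y : Set (Proj 𝒜)) hY (fun _ => True) (fun y _ => by
    obtain ⟨e, he, f, hf, hfy⟩ := exists_pos_notMem 𝒜 (y : ProjectiveSpectrum 𝒜)
    exact ⟨e, he, f, hf, hfy, trivial⟩)
  refine ⟨d, hd, fun y hy => ?_, fun n => ?_⟩
  · obtain ⟨g, hg, hgy, -⟩ := hcov y hy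
    refine ⟨d, 0, g, 1, hg, SetLike.GradedOne.one_mem, by simp, ?_⟩
    rw [mul_one]
    exact hgy
  · exact isInvertible_twist_restrict_of_le 𝒜 d n Y (fun y hy => by
      obtain ⟨g, hg, hgy, -⟩ := hcov y hy
      exact ⟨g, hg, hgy⟩)

end Groth.Agent.S9580
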