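import Groth.Statements.S9591
-- import your own Groth.Agent.* helpers here
import Groth.Agent.Lib.WeakAss

set_option autoImplicit false
universe u
open CAlg

namespace Groth.Agent.S9591

/-- For a ring R and an R-module M, the map from M to the product of the localizations M_p over all
primes p weakly associated to M is injective: an element vanishing in every such M_p is zero. -/
theorem result {R : Type u} [CommRing R] {M : Type u} [AddCommGroup M] [Module R M] (x : M) (hx : ∀ (p : Ideal R) [p.IsPrime], p ∈ FlatCA.weakAss R M → LocalizedModule.mkLinearMap p.primeCompl M x = 0) :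
    x = 0 := by
  apply Groth.Agent.Lib.WeakAss.eq_zero_of_forall_exists_smul_eq_zero (R := R)
  intro p hp
  have : p.IsPrime := Groth.Agent.Lib.WeakAss.isPrime_of_mem_weakAss hp
  have h := hx p hp
  rw [IsLocalizedModule.eq_zero_iff p.primeCompl] at h
  obtain ⟨s, hs⟩ := h
  exact ⟨s, s.2, hs⟩

end Groth.Agent.S9591
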