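import Groth.Statements.S9596
-- import your own Groth.Agent.* helpers here
import Mathlib.RingTheory.Ideal.AssociatedPrime.Localization

set_option autoImplicit false
universe u
open CAlg

namespace Groth.Agent.S9596

/-- For a Noetherian ring R and any R-module M, a prime which is minimal among the primes in the support
of M is an associated prime of M. -/
theorem result {R : Type u} [CommRing R] [IsNoetherianRing R] (M : Type u) [AddCommGroup M] [Module R M] (p : PrimeSpectrum R) (hp : Minimal (fun q : PrimeSpectrum R => q ∈ Module.support R M) p) :
    p.asIdeal ∈ associatedPrimes R M := by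
  obtain ⟨m, hm⟩ := Module.mem_support_iff_exists_annihilator.mp hp.1
  let M₀ : Submodule R M := Submodule.span R {m}
  have hfin : Module.Finite R M₀ :=
    Module.Finite.iff_fg.mpr (Submodule.fg_span_singleton m)
  have hsub : Module.support R M₀ ⊆ Module.support R M :=
    Module.support_subset_of_injective M₀.subtype M₀.injective_subtype
  have hann : Module.annihilator R M₀ = (Submodule.span R {m}).annihilator := rfl
  have hmin : p.asIdeal ∈ (Module.annihilator R M₀).minimalPrimes := by
    refine ⟨⟨p.2, ?_⟩, ?_⟩
    · rw [hann]
      exact hm
    · rintro q ⟨hq, hq'⟩ hqp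
      have h1 : (⟨q, hq⟩ : PrimeSpectrum R) ∈ Module.support R M₀ := by
        rw [Module.mem_support_iff_of_finite]
        exact hq'
      exact hp.2 (hsub h1) hqp
  have h2 := Module.associatedPrimes.minimalPrimes_annihilator_subset_associatedPrimes R M₀ hmin
  exact associatedPrimes.subset_of_injective (f := M₀.subtype) M₀.injective_subtype h2

end Groth.Agent.S9596
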