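import Groth.Statements.S9597
-- import your own Groth.Agent.* helpers here
import Mathlib.RingTheory.Ideal.Quotient.Noetherian
import Mathlib.RingTheory.Ideal.Operations

set_option autoImplicit false
universe u
open CAlg

namespace Groth.Agent.S9597

variable {R : Type u} [CommRing R] [IsNoetherianRing R] (M : Type u) [AddCommGroup M] [Module R M]
  [Module.Finite R M]

theorem comap_mem_associatedPrimes
    (P : Ideal (R ⧸ Module.annihilator R M))
    (hP : P ∈ associatedPrimes (R ⧸ Module.annihilator R M) (R ⧸ Module.annihilator R M)) :
    P.comap (Ideal.Quotient.mk (Module.annihilator R M)) ∈ associatedPrimes R M := by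
  classical
  obtain ⟨hPp, x', hx'⟩ := (isAssociatedPrime_iff).mp hP
  obtain ⟨x, rfl⟩ := Ideal.Quotient.mk_surjective x'
  obtain ⟨s, hs⟩ := (inferInstance : Module.Finite R M)
  have hmem : ∀ r : R, r ∈ P.comap (Ideal.Quotient.mk (Module.annihilator R M)) ↔
      ∀ m ∈ s, r • x • m = 0 := by
    intro r
    rw [Ideal.mem_comap, hx', Submodule.mem_colon_singleton, Submodule.mem_bot, smul_eq_mul,
      ← map_mul, Ideal.Quotient.eq_zero_iff_mem, Module.mem_annihilator]
    constructor
    · intro h m _
      rw [← mul_smul]
      exact h m
    · intro h m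
      have hm : m ∈ Submodule.span R (s : Set M) := by rw [hs]; trivial
      refine Submodule.span_induction ?_ ?_ ?_ ?_ hm
      · intro m hm
        rw [mul_smul]
        exact h m hm
      · rw [smul_zero]
      · intro a b _ _ ha hb
        rw [smul_add, ha, hb, add_zero]
      · intro c a _ ha
        rw [smul_comm, ha, smul_zero]
  have hprime : (P.comap (Ideal.Quotient.mk (Module.annihilator R M))).IsPrime :=
    Ideal.comap_isPrime _ P
  have hle : s.inf (fun m => (⊥ : Submodule R M).colon {x • m}) ≤
      P.comap (Ideal.Quotient.mk (Module.annihilator R M)) := by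
    intro r hr
    rw [hmem]
    intro m hm
    have := (Finset.inf_le (f := fun m => (⊥ : Submodule R M).colon {x • m}) hm) hr
    rwa [Submodule.mem_colon_singleton, Submodule.mem_bot] at this
  obtain ⟨m, hm, hmP⟩ := (Ideal.IsPrime.inf_le' hprime).mp hle
  rw [AssociatedPrimes.mem_iff, isAssociatedPrime_iff]
  refine ⟨hprime, x • m, le_antisymm ?_ hmP⟩
  intro r hr
  rw [Submodule.mem_colon_singleton, Submodule.mem_bot]
  exact (hmem r).mp hr m hm


/-- Let R be a Noetherian ring, M a finite R-module whose associated primes are pairwise incomparable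
under inclusion (M has no embedded associated primes), and I the annihilator of M. Then the
associated primes of R/I, viewed as a module over itself, are again pairwise incomparable: R/I has
no embedded primes either. -/
theorem result {R : Type u} [CommRing R] [IsNoetherianRing R] (M : Type u) [AddCommGroup M] [Module R M] [Module.Finite R M] (hM : ∀ p ∈ associatedPrimes R M, ∀ q ∈ associatedPrimes R M, p ≤ q → p = q) :
    ∀ p ∈ associatedPrimes (R ⧸ Module.annihilator R M) (R ⧸ Module.annihilator R M), ∀ q ∈ associatedPrimes (R ⧸ Module.annihilator R M) (R ⧸ Module.annihilator R M), p ≤ q → p = q := by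
  intro p hp q hq hpq
  have h1 := comap_mem_associatedPrimes M p hp
  have h2 := comap_mem_associatedPrimes M q hq
  have h3 := hM _ h1 _ h2 (Ideal.comap_mono hpq)
  exact Ideal.comap_injective_of_surjective _ Ideal.Quotient.mk_surjective h3

end Groth.Agent.S9597
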