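import Groth.Statements.S9598
-- import your own Groth.Agent.* helpers here
import Mathlib.RingTheory.Jacobson.Ring
import Mathlib.RingTheory.Ideal.AssociatedPrime.Finiteness
import Mathlib.RingTheory.KrullDimension.Basic

set_option autoImplicit false
universe u
open CAlg

namespace Groth.Agent.S9598

/-- For a field k and a finite type k-algebra S with dim S > 0, some element of S is a nonzerodivisor
and a nonunit. -/
theorem result {k S : Type u} [Field k] [CommRing S] [Algebra k S] [Algebra.FiniteType k S] (hdim : 0 < ringKrullDim S) :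
    ∃ f : S, f ∈ nonZeroDivisors S ∧ ¬ IsUnit f := by
  classical
  have hN : IsNoetherianRing S := Algebra.FiniteType.isNoetherianRing k S
  have hJ : IsJacobsonRing S := isJacobsonRing_of_finiteType (A := k) (B := S)
  by_contra hcon
  push Not at hcon
  have hfin := associatedPrimes.finite S S
  have hmax : ∀ m : Ideal S, m.IsMaximal → m ∈ associatedPrimes S S := by
    intro m hm
    have hsub : (m : Set S) ⊆ ⋃ p ∈ (hfin.toFinset : Set (Ideal S)), ((id p : Ideal S) : Set S) := by
      have h1 := biUnion_associatedPrimes_eq_compl_nonZeroDivisors S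
      intro x hx
      have hx' : x ∈ ((nonZeroDivisors S : Set S))ᶜ := by
        intro hnz
        exact hm.ne_top (Ideal.eq_top_of_isUnit_mem _ hx (hcon x hnz))
      rw [← h1] at hx'
      simpa using hx'
    rw [Ideal.subset_union_prime (f := id) ⊥ ⊥] at hsub
    · obtain ⟨p, hp, hmp⟩ := hsub
      rw [Set.Finite.mem_toFinset] at hp
      have hpp : p.IsPrime := hp.isPrime
      have : m = p := hm.eq_of_le hpp.ne_top hmp
      rw [this]
      exact hp
    · intro p hp _ _
      rw [Set.Finite.mem_toFinset] at hp
      exact hp.isPrime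
  have hdim0 : Ring.KrullDimLE 0 S := by
    apply Ring.KrullDimLE.mk₀
    intro P hP
    have h1 : P.jacobson = P := hJ.out hP.isRadical
    have hsub : {J : Ideal S | P ≤ J ∧ J.IsMaximal} ⊆ associatedPrimes S S :=
      fun J hJ => hmax J hJ.2
    have hfin2 : {J : Ideal S | P ≤ J ∧ J.IsMaximal}.Finite := hfin.subset hsub
    have h2 : hfin2.toFinset.inf id ≤ P := by
      conv_rhs => rw [← h1]
      rw [Ideal.jacobson, le_sInf_iff]
      intro J hJ
      exact Finset.inf_le (f := id) (hfin2.mem_toFinset.mpr hJ)
    obtain ⟨J, hJ, hJP⟩ := (Ideal.IsPrime.inf_le' hP).mp h2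
    rw [Set.Finite.mem_toFinset] at hJ
    have : J = P := le_antisymm hJP hJ.1
    rw [← this]
    exact hJ.2
  have := (Ring.krullDimLE_iff (n := 0) (R := S)).mp hdim0
  exact absurd (lt_of_lt_of_le hdim this) (lt_irrefl _)

end Groth.Agent.S9598
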