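import Groth.Statements.S9599
-- import your own Groth.Agent.* helpers here
import Groth.Agent.Lib.AdicExact
import Mathlib.RingTheory.Flat.EquationalCriterion

set_option autoImplicit false
universe u
open CAlg

namespace Groth.Agent.S9599

open Groth.Agent.Lib.AdicExact

variable {R : Type u} [CommRing R] {K M N : Type u} [AddCommGroup K] [Module R K]
  [AddCommGroup M] [Module R M] [AddCommGroup N] [Module R N]

theorem mem_smul_top_of_flat [Module.Flat R N] (J : Ideal R) (i : K →ₗ[R] M) (g : M →ₗ[R] N)
    (hi : Function.Injective i) (hg : Function.Surjective g) (hig : Function.Exact i g)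
    (x : K) (hx : i x ∈ (J • ⊤ : Submodule R M)) : x ∈ (J • ⊤ : Submodule R K) := by
  classical
  have htop : (⊤ : Submodule R M) = Submodule.span R (Set.range (id : M → M)) := by
    rw [Set.range_id, Submodule.span_univ]
  rw [htop, Submodule.mem_ideal_smul_span_iff_exists_sum] at hx
  obtain ⟨a, haJ, hsum⟩ := hx
  simp only [id] at hsum
  rw [Finsupp.sum] at hsum
  -- the relation in N
  have hrel : ∑ m : a.support, a m • g (m : M) = 0 := by
    have h1 := congrArg g hsum
    rw [map_sum, hig.apply_apply_eq_zero] at h1
    rw [← h1, Finset.sum_coe_sort a.support (fun m => a m • g m)]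
    exact Finset.sum_congr rfl fun m _ => (map_smul g _ _).symm
  obtain ⟨k, b, z, hz', hb'⟩ := Module.Flat.isTrivialRelation_of_sum_smul_eq_zero hrel
  have hz : ∀ m : a.support, g (m : M) = ∑ j, b m j • z j := hz'
  have hb : ∀ j, ∑ m : a.support, a m * b m j = 0 := hb'
  choose w hw using fun j => hg (z j)
  have hker : ∀ m : a.support, ∃ y : K, i y = (m : M) - ∑ j, b m j • w j := by
    intro m
    apply (hig _).mp
    rw [map_sub, map_sum, hz m, sub_eq_zero]
    refine Finset.sum_congr rfl fun j _ => ?_
    rw [map_smul, hw]
  choose y hy using hker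
  have hxy : x = ∑ m : a.support, a m • y m := by
    apply hi
    rw [← hsum, map_sum, ← Finset.sum_coe_sort a.support (fun m => a m • m)]
    have h2 : ∀ m : a.support, a m • (m : M) = i (a m • y m) + ∑ j, (a m * b m j) • w j := by
      intro m
      rw [map_smul, hy m, smul_sub, Finset.smul_sum]
      simp only [smul_smul]
      abel
    simp only [h2]
    rw [Finset.sum_add_distrib, Finset.sum_comm]
    have h3 : ∀ j, ∑ m : a.support, (a m * b m j) • w j = 0 := by
      intro j
      rw [← Finset.sum_smul, hb j, zero_smul]
    simp only [h3, Finset.sum_const_zero, add_zero]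
  rw [hxy]
  exact Submodule.sum_mem _ fun m _ => Submodule.smul_mem_smul (haJ m) Submodule.mem_top


/-- For a ring R, an ideal I of R and a short exact sequence 0 → K → M → N → 0 of R-modules with N flat
over R, the induced sequence of I-adic completions 0 → K^ → M^ → N^ → 0 is again short exact. -/
theorem result {R : Type u} [CommRing R] (I : Ideal R) {K M N : Type u} [AddCommGroup K] [Module R K] [AddCommGroup M] [Module R M] [AddCommGroup N] [Module R N] [Module.Flat R N] (i : K →ₗ[R] M) (g : M →ₗ[R] N) (hi : Function.Injective i) (hg : Function.Surjective g) (hig : Function.Exact i g) :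
    Function.Injective (AdicCompletion.map I i) ∧ Function.Exact (AdicCompletion.map I i) (AdicCompletion.map I g) ∧ Function.Surjective (AdicCompletion.map I g) := by
  have hAR : ARCond I i 0 := by
    intro n x hx
    exact mem_smul_top_of_flat (I ^ n) i g hi hg hig x (by simpa using hx)
  exact ⟨map_injective_of_ARCond hAR, map_exact_of_ARCond hAR hg hig,
    AdicCompletion.map_surjective I hg⟩

end Groth.Agent.S9599
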