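import Groth.Statements.S9601
-- import your own Groth.Agent.* helpers here

set_option autoImplicit false
universe u
open CAlg

namespace Groth.Agent.S9601

open AdicCompletion

variable {R : Type u} [CommRing R] (I : Ideal R) (M : Type u) [AddCommGroup M] [Module R M]

theorem of_mem_pow_smul_top (k : ℕ) (x : M) (hx : x ∈ (I ^ k • ⊤ : Submodule R M)) :
    AdicCompletion.of I M x ∈ (I ^ k • ⊤ : Submodule R (AdicCompletion I M)) := by
  refine Submodule.smul_induction_on hx ?_ ?_
  · intro a ha m _
    rw [map_smul]
    exact Submodule.smul_mem_smul ha Submodule.mem_top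
  · intro x y hx hy
    rw [map_add]
    exact Submodule.add_mem _ hx hy

theorem ker_eval_le_of_isPrecomplete [h : IsPrecomplete I (AdicCompletion I M)] (n : ℕ) :
    LinearMap.ker (AdicCompletion.eval I M n) ≤ I ^ n • (⊤ : Submodule R (AdicCompletion I M)) := by
  intro z hz
  obtain ⟨a, rfl⟩ := AdicCompletion.mk_surjective I M z
  have hcauchy : ∀ {m k : ℕ}, m ≤ k → AdicCompletion.of I M (a m) ≡ AdicCompletion.of I M (a k)
      [SMOD (I ^ m • ⊤ : Submodule R (AdicCompletion I M))] := by
    intro m k hmk
    rw [SModEq.sub_mem, ← map_sub]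
    apply of_mem_pow_smul_top
    rw [← SModEq.sub_mem]
    exact a.2 hmk
  obtain ⟨L, hL⟩ := h.prec' (fun k => AdicCompletion.of I M (a k)) hcauchy
  have hLz : L = AdicCompletion.mk I M a := by
    apply AdicCompletion.ext
    intro k
    have h1 : AdicCompletion.of I M (a k) - L ∈ LinearMap.ker (AdicCompletion.eval I M k) :=
      AdicCompletion.pow_smul_top_le_ker_eval (I := I) (M := M) k (SModEq.sub_mem.mp (hL k))
    rw [LinearMap.mem_ker, map_sub, sub_eq_zero, AdicCompletion.eval_apply,
      AdicCompletion.eval_apply] at h1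
    rw [← h1]
    rfl
  have h2 : a n ∈ (I ^ n • ⊤ : Submodule R M) := by
    rw [LinearMap.mem_ker, AdicCompletion.eval_apply] at hz
    have : Submodule.Quotient.mk (p := (I ^ n • ⊤ : Submodule R M)) (a n) = 0 := hz
    rwa [Submodule.Quotient.mk_eq_zero] at this
  have h3 := SModEq.sub_mem.mp (hL n)
  rw [hLz] at h3
  have h4 : AdicCompletion.mk I M a = AdicCompletion.of I M (a n) -
      (AdicCompletion.of I M (a n) - AdicCompletion.mk I M a) := by abel
  rw [h4]
  exact Submodule.sub_mem _ (of_mem_pow_smul_top I M n _ h2) h3

theorem isAdicComplete_of_ker_eval_eq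
    (h : ∀ n : ℕ, LinearMap.ker (AdicCompletion.eval I M n) =
      I ^ n • (⊤ : Submodule R (AdicCompletion I M))) :
    IsAdicComplete I (AdicCompletion I M) where
  prec' x hx := by
    let L : AdicCompletion I M := {
      val i := (x i).val i
      property {m n} h' := by
        simp only [transitionMap_comp_eval_apply]
        specialize hx h'
        rwa [SModEq.sub_mem, ← h, LinearMap.mem_ker, _root_.map_sub,
          sub_eq_zero, eval_apply, eval_apply, eq_comm] at hx
    }
    use L; intro i
    rw [SModEq.sub_mem, ← h]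
    simp [L]


/-- For a ring R, an ideal I of R and an R-module M, let M^ be the I-adic completion and K_n the kernel
of the projection M^ → M/IⁿM. The completion M^ is I-adically complete exactly when K_n = Iⁿ M^
holds for every n ≥ 1. -/
theorem result {R : Type u} [CommRing R] (I : Ideal R) (M : Type u) [AddCommGroup M] [Module R M] :
    IsAdicComplete I (AdicCompletion I M) ↔ ∀ n : ℕ, 1 ≤ n → LinearMap.ker (AdicCompletion.eval I M n) = I ^ n • (⊤ : Submodule R (AdicCompletion I M)) := by
  constructor
  · intro h n _
    exact le_antisymm (ker_eval_le_of_isPrecomplete I M n)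
      (AdicCompletion.pow_smul_top_le_ker_eval (I := I) (M := M) n)
  · intro h
    apply isAdicComplete_of_ker_eval_eq
    intro n
    rcases Nat.eq_zero_or_pos n with rfl | hn
    · have h0 : (I ^ 0 • ⊤ : Submodule R (AdicCompletion I M)) = ⊤ := by
        rw [pow_zero, Ideal.one_eq_top, Submodule.top_smul]
      rw [h0, eq_top_iff]
      intro z _
      rw [LinearMap.mem_ker]
      have : Subsingleton (M ⧸ (I ^ 0 • ⊤ : Submodule R M)) := by
        have h1 : (I ^ 0 • ⊤ : Submodule R M) = ⊤ := by
          rw [pow_zero, Ideal.one_eq_top, Submodule.top_smul]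
        rw [h1]
        infer_instance
      exact Subsingleton.elim _ _
    · exact h n hn

end Groth.Agent.S9601
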