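import Groth.Statements.S9602
-- import your own Groth.Agent.* helpers here

set_option autoImplicit false
universe u
open CAlg

namespace Groth.Agent.S9602

open AdicCompletion

variable {R : Type u} [CommRing R] (I : Ideal R)

theorem exists_inv_mod_pow {a b : R} (h : a * b - 1 ∈ I) (n : ℕ) :
    ∃ c : R, a * c - 1 ∈ I ^ n := by
  refine ⟨b * ∑ i ∈ Finset.range n, (1 - a * b) ^ i, ?_⟩
  have h1 : a * (b * ∑ i ∈ Finset.range n, (1 - a * b) ^ i) - 1 = - (1 - a * b) ^ n := by
    have := mul_neg_geom_sum (1 - a * b) n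
    have h2 : a * (b * ∑ i ∈ Finset.range n, (1 - a * b) ^ i) =
        (1 - (1 - a * b)) * ∑ i ∈ Finset.range n, (1 - a * b) ^ i := by ring
    rw [h2, this]
    ring
  rw [h1]
  apply Ideal.neg_mem_iff _ |>.mpr
  apply Ideal.pow_mem_pow
  rw [← Ideal.neg_mem_iff]
  convert h using 1
  ring

theorem mem_pow_smul_top_iff (m : ℕ) (x : R) :
    x ∈ (I ^ m • ⊤ : Submodule R R) ↔ x ∈ I ^ m := by
  simp

theorem isUnit_of_forall (a : AdicCauchySequence I R)
    (h : ∀ n, ∃ c : R, a n * c - 1 ∈ I ^ n) : IsUnit (AdicCompletion.mk I R a) := by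
  choose c hc using h
  have hcauchy : IsAdicCauchy I R c := by
    intro m n hmn
    rw [SModEq.sub_mem, mem_pow_smul_top_iff]
    have h1 : a m - a n ∈ I ^ m := by
      have := a.2 hmn
      rw [SModEq.sub_mem, mem_pow_smul_top_iff] at this
      exact this
    have h2 : a n * c n - 1 ∈ I ^ m := Ideal.pow_le_pow_right hmn (hc n)
    have h3 : c m - c n = c m * (1 - a n * c n) + c n * (a m * c m - 1)
        + c m * c n * (a n - a m) := by ring
    rw [h3]
    refine Ideal.add_mem _ (Ideal.add_mem _ (Ideal.mul_mem_left _ _ ?_)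
      (Ideal.mul_mem_left _ _ (hc m))) (Ideal.mul_mem_left _ _ ?_)
    · rw [← Ideal.neg_mem_iff]
      convert h2 using 1
      ring
    · rw [← Ideal.neg_mem_iff]
      convert h1 using 1
      ring
  rw [isUnit_iff_exists_inv]
  refine ⟨AdicCompletion.mk I R ⟨c, hcauchy⟩, ?_⟩
  apply AdicCompletion.ext_evalₐ
  intro n
  rw [map_mul, evalₐ_mk, evalₐ_mk, map_one, ← map_mul, ← map_one (Ideal.Quotient.mk (I ^ n)),
    Ideal.Quotient.eq]
  exact hc n

theorem isUnit_of_isUnit_evalOne (x : AdicCompletion I R)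
    (hx : IsUnit (AdicCompletion.evalOneₐ I x)) : IsUnit x := by
  obtain ⟨a, rfl⟩ := AdicCompletion.mk_surjective I R x
  have h1 : AdicCompletion.evalOneₐ I (AdicCompletion.mk I R a) = Ideal.Quotient.mk I (a 1) := by
    rw [← factorₐ_evalₐ_one, evalₐ_mk]
    rfl
  rw [h1, isUnit_iff_exists_inv] at hx
  obtain ⟨b', hb'⟩ := hx
  obtain ⟨b, rfl⟩ := Ideal.Quotient.mk_surjective b'
  rw [← map_mul, ← map_one (Ideal.Quotient.mk I), Ideal.Quotient.eq] at hb'
  apply isUnit_of_forall
  intro n
  rcases Nat.eq_zero_or_pos n with rfl | hn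
  · exact ⟨0, by simp⟩
  · apply exists_inv_mod_pow I (b := b)
    have h2 : a 1 - a n ∈ I := by
      have := a.2 (show 1 ≤ n from hn)
      rw [SModEq.sub_mem, mem_pow_smul_top_iff, pow_one] at this
      exact this
    have h3 : a n * b - 1 = (a 1 * b - 1) - b * (a 1 - a n) := by ring
    rw [h3]
    exact Ideal.sub_mem _ hb' (Ideal.mul_mem_left _ _ h2)


/-- Let R be a ring, I an ideal of R and R^ = lim R/Iⁿ the I-adic completion. An element of R^ whose
image in R/I is invertible is itself invertible in R^; and the kernel of R^ → R/I as well as the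
extended ideal I R^ both lie inside the Jacobson radical of R^. -/
theorem result {R : Type u} [CommRing R] (I : Ideal R) :
    (∀ x : AdicCompletion I R, IsUnit (AdicCompletion.evalOneₐ I x) → IsUnit x) ∧
      RingHom.ker (AdicCompletion.evalOneₐ I).toRingHom ≤ (⊥ : Ideal (AdicCompletion I R)).jacobson ∧
      I.map (algebraMap R (AdicCompletion I R)) ≤ (⊥ : Ideal (AdicCompletion I R)).jacobson := by
  have hb : RingHom.ker (AdicCompletion.evalOneₐ I).toRingHom ≤
      (⊥ : Ideal (AdicCompletion I R)).jacobson := by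
    intro z hz
    rw [Ideal.mem_jacobson_bot]
    intro y
    apply isUnit_of_isUnit_evalOne I
    have hz' : AdicCompletion.evalOneₐ I z = 0 := hz
    rw [map_add, map_mul, hz', zero_mul, zero_add, map_one]
    exact isUnit_one
  refine ⟨isUnit_of_isUnit_evalOne I, hb, le_trans ?_ hb⟩
  rw [Ideal.map_le_iff_le_comap]
  intro r hr
  rw [Ideal.mem_comap, RingHom.mem_ker]
  change AdicCompletion.evalOneₐ I (algebraMap R (AdicCompletion I R) r) = 0
  rw [AdicCompletion.algebraMap_apply, AdicCompletion.evalOneₐ_of]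
  exact Ideal.Quotient.eq_zero_iff_mem.mpr (by simpa using hr)

end Groth.Agent.S9602
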