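import Mathlib
import Groth.Statements.S9603

set_option autoImplicit false
universe u
open CAlg

namespace Groth.Agent.S9603

section Helpers

variable {A : Type u} [CommRing A] {M : Type u} [AddCommGroup M] [Module A M]

/-- partial sums of a series with `a n ∈ I^n M` form a Cauchy sequence, hence converge -/
theorem exists_limit_partial_sums (I : Ideal A) (hI : IsPrecomplete I M) (a : ℕ → M)
    (ha : ∀ n, a n ∈ (I ^ n • ⊤ : Submodule A M)) :
    ∃ L : M, ∀ N, L - ∑ n ∈ Finset.range N, a n ∈ (I ^ N • ⊤ : Submodule A M) := by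
  have hcauchy : ∀ {m n}, m ≤ n → (∑ k ∈ Finset.range m, a k) ≡ (∑ k ∈ Finset.range n, a k)
      [SMOD (I ^ m • ⊤ : Submodule A M)] := by
    intro m n hmn
    induction n, hmn using Nat.le_induction with
    | base => exact SModEq.rfl
    | succ n hmn ih =>
      rw [Finset.sum_range_succ]
      refine ih.trans ?_
      rw [SModEq.sub_mem]
      have : (∑ k ∈ Finset.range n, a k) - (∑ k ∈ Finset.range n, a k + a n) = - a n := by abel
      rw [this]
      apply Submodule.neg_mem
      exact Submodule.smul_mono_left (Ideal.pow_le_pow_right hmn) (ha n)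
  obtain ⟨L, hL⟩ := hI.prec hcauchy
  refine ⟨L, fun N => ?_⟩
  have := (hL N).symm
  rwa [SModEq.sub_mem] at this

theorem isPrecomplete_sup (I J : Ideal A) (hI : IsPrecomplete I M) (hJ : IsPrecomplete J M) :
    IsPrecomplete (I ⊔ J) M := by
  rw [isPrecomplete_iff]
  intro y hy
  -- z n = y (n + n)
  have hstep : ∀ n, y ((n + 1) + (n + 1)) - y (n + n) ∈
      ((I ^ n • ⊤ : Submodule A M) ⊔ (J ^ n • ⊤ : Submodule A M)) := by
    intro n
    have h1 : y (n + n) ≡ y ((n + 1) + (n + 1)) [SMOD ((I ⊔ J) ^ (n + n) • ⊤ : Submodule A M)] :=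
      hy (by omega)
    have h2 := h1.symm
    rw [SModEq.sub_mem] at h2
    have h3 : ((I ⊔ J) ^ (n + n) • ⊤ : Submodule A M) ≤ (I ^ n ⊔ J ^ n) • ⊤ :=
      Submodule.smul_mono_left Ideal.sup_pow_add_le_pow_sup_pow
    rw [Submodule.sup_smul] at h3
    exact h3 h2
  have hstep' : ∀ n, ∃ a ∈ (I ^ n • ⊤ : Submodule A M), ∃ b ∈ (J ^ n • ⊤ : Submodule A M),
      a + b = y ((n + 1) + (n + 1)) - y (n + n) := fun n => Submodule.mem_sup.mp (hstep n)
  choose a ha b hb hab using hstep'
  obtain ⟨La, hLa⟩ := exists_limit_partial_sums I hI a ha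
  obtain ⟨Lb, hLb⟩ := exists_limit_partial_sums J hJ b hb
  refine ⟨y 0 + La + Lb, fun N => ?_⟩
  -- telescoping
  have htel : ∑ n ∈ Finset.range N, a n + ∑ n ∈ Finset.range N, b n = y (N + N) - y 0 := by
    rw [← Finset.sum_add_distrib]
    simp_rw [hab]
    exact Finset.sum_range_sub (fun n => y (n + n)) N
  have h1 : (y 0 + La + Lb) - y (N + N) ∈ ((I ⊔ J) ^ N • ⊤ : Submodule A M) := by
    have : (y 0 + La + Lb) - y (N + N) =
        (La - ∑ n ∈ Finset.range N, a n) + (Lb - ∑ n ∈ Finset.range N, b n) := by
      have : y (N + N) = y 0 + (∑ n ∈ Finset.range N, a n + ∑ n ∈ Finset.range N, b n) := by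
        rw [htel]; abel
      rw [this]; abel
    rw [this]
    apply Submodule.add_mem
    · exact Submodule.smul_mono_left (Ideal.pow_right_mono le_sup_left N) (hLa N)
    · exact Submodule.smul_mono_left (Ideal.pow_right_mono le_sup_right N) (hLb N)
  have h2 : y N ≡ y (N + N) [SMOD ((I ⊔ J) ^ N • ⊤ : Submodule A M)] := hy (by omega)
  refine h2.trans ?_
  rw [SModEq.comm, SModEq.sub_mem]
  exact h1

end Helpers

/-- For a ring A, elements f_1, …, f_r generating an ideal I and an A-module M, if the canonical map
from M to its (f_i)-adic completion is surjective for every i, then the canonical map from M to its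
I-adic completion is surjective. -/
theorem result {A : Type u} [CommRing A] {r : ℕ} (f : Fin r → A) (M : Type u) [AddCommGroup M] [Module A M] (h : ∀ i, Function.Surjective (AdicCompletion.of (Ideal.span {f i}) M)) :
    Function.Surjective (AdicCompletion.of (Ideal.span (Set.range f)) M) := by
  rw [AdicCompletion.of_surjective_iff]
  have h' : ∀ i, IsPrecomplete (Ideal.span {f i}) M := fun i =>
    AdicCompletion.of_surjective_iff.mp (h i)
  have key : ∀ s : Finset (Fin r), IsPrecomplete (Ideal.span (f '' (s : Set (Fin r)))) M := by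
    intro s
    induction s using Finset.induction_on with
    | empty =>
      simp only [Finset.coe_empty, Set.image_empty, Ideal.span_empty]
      infer_instance
    | insert a s _ ih =>
      rw [Finset.coe_insert, Set.image_insert_eq, Ideal.span_insert]
      exact isPrecomplete_sup _ _ (h' a) ih
  have := key Finset.univ
  rwa [Finset.coe_univ, Set.image_univ] at this

end Groth.Agent.S9603
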