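import Groth.Statements.S9605
-- import your own Groth.Agent.* helpers here
import Mathlib.RingTheory.AdicCompletion.Exactness

set_option autoImplicit false
universe u
open CAlg

namespace Groth.Agent.S9605

variable {R : Type u} [CommRing R] (I : Ideal R) (M : Type u) [AddCommGroup M] [Module R M]

theorem isPrecomplete_quotient [IsPrecomplete I M] (K : Submodule R M) :
    IsPrecomplete I (M ⧸ K) := by
  rw [← AdicCompletion.of_surjective_iff]
  intro y
  obtain ⟨x', hx'⟩ := AdicCompletion.map_surjective I K.mkQ_surjective y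
  obtain ⟨x, rfl⟩ := AdicCompletion.of_surjective I M x'
  refine ⟨K.mkQ x, ?_⟩
  rw [← hx', AdicCompletion.map_of]

theorem mem_pow_smul_top_quotient_iff (K : Submodule R M) (n : ℕ) (x : M) :
    K.mkQ x ∈ (I ^ n • ⊤ : Submodule R (M ⧸ K)) ↔ x ∈ K ⊔ I ^ n • (⊤ : Submodule R M) := by
  have h1 : (I ^ n • ⊤ : Submodule R (M ⧸ K)) = (I ^ n • ⊤ : Submodule R M).map K.mkQ := by
    rw [Submodule.map_smul'', Submodule.map_top, Submodule.range_mkQ]
  rw [h1, ← Submodule.mem_comap, Submodule.comap_map_mkQ]


/-- For a ring R, an ideal I of R, an I-adically complete R-module M and a submodule K of M, the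
quotient M/K is I-adically complete if and only if K = ⋂ₙ (K + IⁿM). -/
theorem result {R : Type u} [CommRing R] (I : Ideal R) (M : Type u) [AddCommGroup M] [Module R M] [IsAdicComplete I M] (K : Submodule R M) :
    IsAdicComplete I (M ⧸ K) ↔ K = ⨅ n : ℕ, K ⊔ I ^ n • (⊤ : Submodule R M) := by
  constructor
  · intro h
    apply le_antisymm
    · exact le_iInf fun n => le_sup_left
    · intro x hx
      rw [Submodule.mem_iInf] at hx
      have h0 : K.mkQ x = 0 := by
        apply h.toIsHausdorff.haus'
        intro n
        rw [SModEq.zero, mem_pow_smul_top_quotient_iff]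
        exact hx n
      rwa [Submodule.mkQ_apply, Submodule.Quotient.mk_eq_zero] at h0
  · intro h
    have := isPrecomplete_quotient I M K
    refine { haus' := ?_, prec' := IsPrecomplete.prec' }
    intro y hy
    obtain ⟨x, rfl⟩ := K.mkQ_surjective y
    rw [Submodule.mkQ_apply, Submodule.Quotient.mk_eq_zero, h, Submodule.mem_iInf]
    intro n
    rw [← mem_pow_smul_top_quotient_iff, ← SModEq.zero]
    exact hy n

end Groth.Agent.S9605
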