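import Groth.Statements.S9606
import Mathlib
-- import your own Groth.Agent.* helpers here

set_option autoImplicit false
universe u
open CAlg

namespace Groth.Agent.S9606

theorem eq_of_sq_cube {F : Type*} [Field F] {u v : F} (h2 : u ^ 2 = v ^ 2) (h3 : u ^ 3 = v ^ 3) :
    u = v := by
  by_cases hu : u = 0
  · subst hu
    have : v ^ 2 = 0 := by rw [← h2]; ring
    exact (pow_eq_zero_iff (by norm_num)).mp this |>.symm
  · have hv2 : v ^ 2 ≠ 0 := by rw [← h2]; exact pow_ne_zero _ hu
    have h : u * v ^ 2 = v * v ^ 2 := by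
      calc u * v ^ 2 = u ^ 3 := by rw [← h2]; ring
        _ = v * v ^ 2 := by rw [h3]; ring
    exact mul_right_cancel₀ hv2 h

/-- Key: the image of `S` in `κ(q)` lies in the image of `κ(p)`. -/
theorem key {R S : Type*} [CommRing R] [CommRing S] [Algebra R S]
    (hgen : Algebra.adjoin R {x : S | x ^ 2 ∈ Set.range (algebraMap R S) ∧
      x ^ 3 ∈ Set.range (algebraMap R S)} = ⊤)
    (p : Ideal R) [p.IsPrime] (q : Ideal S) [q.IsPrime] (hpq : p = q.comap (algebraMap R S)) :
    Function.Bijective (Ideal.ResidueField.map p q (algebraMap R S) hpq) := by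
  set ρ := Ideal.ResidueField.map p q (algebraMap R S) hpq with hρ
  refine ⟨ρ.injective, ?_⟩
  have hmem : ∀ s : S, algebraMap S q.ResidueField s ∈ ρ.fieldRange := by
    intro s
    have hs : s ∈ Algebra.adjoin R {x : S | x ^ 2 ∈ Set.range (algebraMap R S) ∧
      x ^ 3 ∈ Set.range (algebraMap R S)} := by rw [hgen]; trivial
    induction hs using Algebra.adjoin_induction with
    | mem x hx =>
      obtain ⟨⟨a, ha⟩, ⟨b, hb⟩⟩ := hx
      have h2 : (algebraMap S q.ResidueField x) ^ 2 ∈ ρ.fieldRange := by
        rw [← map_pow, ← ha]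
        exact ⟨algebraMap R p.ResidueField a, Ideal.ResidueField.map_algebraMap _ _ _ _ _⟩
      have h3 : (algebraMap S q.ResidueField x) ^ 3 ∈ ρ.fieldRange := by
        rw [← map_pow, ← hb]
        exact ⟨algebraMap R p.ResidueField b, Ideal.ResidueField.map_algebraMap _ _ _ _ _⟩
      by_cases h0 : algebraMap S q.ResidueField x = 0
      · rw [h0]; exact zero_mem _
      · have : algebraMap S q.ResidueField x =
            (algebraMap S q.ResidueField x) ^ 3 / (algebraMap S q.ResidueField x) ^ 2 := by
          field_simp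
        rw [this]
        exact div_mem h3 h2
    | algebraMap r =>
      exact ⟨algebraMap R p.ResidueField r, Ideal.ResidueField.map_algebraMap _ _ _ _ _⟩
    | add x y _ _ hx hy => rw [map_add]; exact add_mem hx hy
    | mul x y _ _ hx hy => rw [map_mul]; exact mul_mem hx hy
  intro z
  obtain ⟨a, b, _, rfl⟩ := IsFractionRing.div_surjective (A := S ⧸ q) z
  obtain ⟨a', rfl⟩ := Ideal.Quotient.mk_surjective a
  obtain ⟨b', rfl⟩ := Ideal.Quotient.mk_surjective b
  have : algebraMap (S ⧸ q) q.ResidueField (Ideal.Quotient.mk q a') /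
      algebraMap (S ⧸ q) q.ResidueField (Ideal.Quotient.mk q b') ∈ ρ.fieldRange :=
    div_mem (hmem a') (hmem b')
  exact this

/-- Let R → S be a ring map with locally nilpotent kernel such that S is generated over R by elements x
with x² and x³ in the image of R. Then the induced map on spectra is a homeomorphism and every
residue field map κ(p) → κ(q), for q a prime of S with inverse image p, is bijective. -/
theorem result {R S : Type u} [CommRing R] [CommRing S] [Algebra R S]
    (hgen : Algebra.adjoin R {x : S | x ^ 2 ∈ Set.range (algebraMap R S) ∧ x ^ 3 ∈ Set.range (algebraMap R S)} = ⊤)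
    (hker : ∀ r : R, algebraMap R S r = 0 → IsNilpotent r) :
    IsHomeomorph (PrimeSpectrum.comap (algebraMap R S)) ∧
      ∀ (q : Ideal S) [q.IsPrime], Function.Bijective (Ideal.ResidueField.map (q.comap (algebraMap R S)) q (algebraMap R S) rfl) := by
  classical
  set φ := algebraMap R S with hφ
  set T := {x : S | x ^ 2 ∈ Set.range (algebraMap R S) ∧ x ^ 3 ∈ Set.range (algebraMap R S)}
    with hT
  have hint : Algebra.IsIntegral R S := by
    refine ⟨fun s => ?_⟩
    have hle : Algebra.adjoin R T ≤ integralClosure R S := by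
      apply Algebra.adjoin_le
      intro x hx
      obtain ⟨⟨a, ha⟩, _⟩ := hx
      apply IsIntegral.of_pow (n := 2) (by norm_num)
      rw [← ha]
      exact isIntegral_algebraMap
    exact hle (by rw [hgen]; trivial)
  refine ⟨?_, fun q _ => key hgen _ q rfl⟩
  rw [isHomeomorph_iff_continuous_isClosedMap_bijective]
  refine ⟨PrimeSpectrum.continuous_comap φ, ?_, ?_, ?_⟩
  · exact PrimeSpectrum.isClosedMap_comap_of_isIntegral φ (algebraMap_isIntegral_iff.mpr hint)
  · -- injective
    intro q q' hqq'
    have hpq : q.asIdeal.comap φ = q'.asIdeal.comap φ := congrArg PrimeSpectrum.asIdeal hqq'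
    set p := q.asIdeal.comap φ with hp
    let e := RingEquiv.ofBijective _ (key hgen p q.asIdeal rfl)
    let e' := RingEquiv.ofBijective _ (key hgen p q'.asIdeal hpq)
    let ψ : S →ₐ[R] p.ResidueField :=
      { (e.symm : q.asIdeal.ResidueField →+* p.ResidueField).comp
          (algebraMap S q.asIdeal.ResidueField) with
        commutes' := by
          intro r
          show e.symm (algebraMap S q.asIdeal.ResidueField (algebraMap R S r)) = _
          rw [RingEquiv.symm_apply_eq]
          exact (Ideal.ResidueField.map_algebraMap _ _ _ _ _).symm }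
    let ψ' : S →ₐ[R] p.ResidueField :=
      { (e'.symm : q'.asIdeal.ResidueField →+* p.ResidueField).comp
          (algebraMap S q'.asIdeal.ResidueField) with
        commutes' := by
          intro r
          show e'.symm (algebraMap S q'.asIdeal.ResidueField (algebraMap R S r)) = _
          rw [RingEquiv.symm_apply_eq]
          exact (Ideal.ResidueField.map_algebraMap _ _ _ _ _).symm }
    have hψψ' : ψ = ψ' := by
      apply AlgHom.ext_of_adjoin_eq_top hgen
      intro x hx
      obtain ⟨⟨a, ha⟩, ⟨b, hb⟩⟩ := hx
      apply eq_of_sq_cube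
      · rw [← map_pow, ← map_pow, ← ha, AlgHom.commutes, AlgHom.commutes]
      · rw [← map_pow, ← map_pow, ← hb, AlgHom.commutes, AlgHom.commutes]
    have hker : ∀ s : S, ψ s = 0 ↔ s ∈ q.asIdeal := by
      intro s
      show e.symm (algebraMap S q.asIdeal.ResidueField s) = 0 ↔ _
      rw [map_eq_zero_iff _ e.symm.injective, Ideal.algebraMap_residueField_eq_zero]
    have hker' : ∀ s : S, ψ' s = 0 ↔ s ∈ q'.asIdeal := by
      intro s
      show e'.symm (algebraMap S q'.asIdeal.ResidueField s) = 0 ↔ _
      rw [map_eq_zero_iff _ e'.symm.injective, Ideal.algebraMap_residueField_eq_zero]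
    ext s
    rw [← hker, ← hker', hψψ']
  · -- surjective
    intro P
    have hle : (⊥ : Ideal S).comap φ ≤ P.asIdeal := by
      intro r hr
      rw [Ideal.mem_comap, Ideal.mem_bot] at hr
      obtain ⟨n, hn⟩ := hker r hr
      apply P.2.mem_of_pow_mem n
      rw [hn]
      exact zero_mem _
    obtain ⟨Q, _, hQp, hQ⟩ := Ideal.exists_ideal_over_prime_of_isIntegral P.asIdeal ⊥ hle
    exact ⟨⟨Q, hQp⟩, PrimeSpectrum.ext hQ⟩

end Groth.Agent.S9606
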