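import Mathlib
import Groth.Statements.S9607

set_option autoImplicit false
universe u
open CAlg

namespace Groth.Agent.S9607

section Helpers

open MvPolynomial

/-- `p^E ∣ C(p^a, i)` when `p^n ∤ i` and `E + n ≤ a`. -/
theorem pow_dvd_choose {p : ℕ} (hp : p.Prime) {a n E i : ℕ} (hi : i ≤ p ^ a) (hni : ¬ p ^ n ∣ i)
    (hE : E + n ≤ a) : p ^ E ∣ Nat.choose (p ^ a) i := by
  have hi0 : i ≠ 0 := by rintro rfl; exact hni (dvd_zero _)
  have hc : Nat.choose (p ^ a) i ≠ 0 := (Nat.choose_pos hi).ne'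
  rw [hp.pow_dvd_iff_le_factorization hc, Nat.factorization_choose_prime_pow hp hi hi0]
  have : i.factorization p < n := by
    by_contra h
    rw [not_lt] at h
    exact hni ((hp.pow_dvd_iff_le_factorization hi0).2 h)
  omega

/-- the key divisibility. -/
theorem key_dvd {p : ℕ} (hp : p.Prime) (n m : ℕ) {a : ℕ} (ha : n * p ^ n + m * p ^ m + n + m ≤ a)
    {i : ℕ} (hi : i ≤ p ^ a) :
    p ^ (n * (i % p ^ n) + m * ((p ^ a - i) % p ^ m)) ∣ Nat.choose (p ^ a) i := by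
  have hpn : 0 < p ^ n := pow_pos hp.pos n
  have hpm : 0 < p ^ m := pow_pos hp.pos m
  have hle : n * (i % p ^ n) + m * ((p ^ a - i) % p ^ m) ≤ n * p ^ n + m * p ^ m := by
    have h1 : i % p ^ n ≤ p ^ n := (Nat.mod_lt _ hpn).le
    have h2 : (p ^ a - i) % p ^ m ≤ p ^ m := (Nat.mod_lt _ hpm).le
    exact Nat.add_le_add (Nat.mul_le_mul_left _ h1) (Nat.mul_le_mul_left _ h2)
  by_cases h1 : p ^ n ∣ i
  · by_cases h2 : p ^ m ∣ p ^ a - i
    · rw [Nat.mod_eq_zero_of_dvd h1, Nat.mod_eq_zero_of_dvd h2]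
      simp
    · have h3 : p ^ (n * p ^ n + m * p ^ m) ∣ Nat.choose (p ^ a) (p ^ a - i) :=
        pow_dvd_choose hp (Nat.sub_le _ _) h2 (by omega)
      rw [Nat.choose_symm hi] at h3
      exact (pow_dvd_pow p hle).trans h3
  · have h3 : p ^ (n * p ^ n + m * p ^ m) ∣ Nat.choose (p ^ a) i :=
      pow_dvd_choose hp hi h1 (by omega)
    exact (pow_dvd_pow p hle).trans h3

variable {σ : Type*}

/-- `p^(n * (i % p^n)) * X^i` lies in any subalgebra containing `X^(p^n)` and `p^n X`. -/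
theorem pow_mul_X_pow_mem (T : Subalgebra ℤ (MvPolynomial σ ℤ)) (p n : ℕ) (x : MvPolynomial σ ℤ)
    (h1 : x ^ (p ^ n) ∈ T) (h2 : (p : MvPolynomial σ ℤ) ^ n * x ∈ T) (i : ℕ) :
    (p : MvPolynomial σ ℤ) ^ (n * (i % p ^ n)) * x ^ i ∈ T := by
  have : (p : MvPolynomial σ ℤ) ^ (n * (i % p ^ n)) * x ^ i =
      (x ^ (p ^ n)) ^ (i / p ^ n) * ((p : MvPolynomial σ ℤ) ^ n * x) ^ (i % p ^ n) := by
    conv_lhs => rw [← Nat.div_add_mod i (p ^ n)]
    rw [pow_add, pow_mul, pow_mul, mul_pow, Nat.mul_add_mod, Nat.mod_mod]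
    ring
  rw [this]
  exact T.mul_mem (T.pow_mem h1 _) (T.pow_mem h2 _)

end Helpers

/-- For a prime number p and integers n, m > 0 there exists an integer a such that (x + y)^(p^a) and p^a
(x + y) both belong to the subring ℤ[x^(p^n), p^n x, y^(p^m), p^m y] of the polynomial ring ℤ[x, y]. -/
theorem result (p : ℕ) (hp : p.Prime) (n m : ℕ) (hn : 0 < n) (hm : 0 < m) :
    ∃ a : ℕ, ((MvPolynomial.X 0 + MvPolynomial.X 1 : MvPolynomial (Fin 2) ℤ) ^ (p ^ a) ∈ Algebra.adjoin ℤ ({MvPolynomial.X 0 ^ (p ^ n), (p : MvPolynomial (Fin 2) ℤ) ^ n * MvPolynomial.X 0, MvPolynomial.X 1 ^ (p ^ m), (p : MvPolynomial (Fin 2) ℤ) ^ m * MvPolynomial.X 1} : Set (MvPolynomial (Fin 2) ℤ)) ∧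
      (p : MvPolynomial (Fin 2) ℤ) ^ a * (MvPolynomial.X 0 + MvPolynomial.X 1) ∈ Algebra.adjoin ℤ ({MvPolynomial.X 0 ^ (p ^ n), (p : MvPolynomial (Fin 2) ℤ) ^ n * MvPolynomial.X 0, MvPolynomial.X 1 ^ (p ^ m), (p : MvPolynomial (Fin 2) ℤ) ^ m * MvPolynomial.X 1} : Set (MvPolynomial (Fin 2) ℤ))) := by
  set T := Algebra.adjoin ℤ ({MvPolynomial.X 0 ^ (p ^ n), (p : MvPolynomial (Fin 2) ℤ) ^ n * MvPolynomial.X 0, MvPolynomial.X 1 ^ (p ^ m), (p : MvPolynomial (Fin 2) ℤ) ^ m * MvPolynomial.X 1} : Set (MvPolynomial (Fin 2) ℤ)) with hT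
  have t1 : (MvPolynomial.X 0 : MvPolynomial (Fin 2) ℤ) ^ (p ^ n) ∈ T :=
    Algebra.subset_adjoin (by simp)
  have t2 : (p : MvPolynomial (Fin 2) ℤ) ^ n * MvPolynomial.X 0 ∈ T :=
    Algebra.subset_adjoin (by simp)
  have t3 : (MvPolynomial.X 1 : MvPolynomial (Fin 2) ℤ) ^ (p ^ m) ∈ T :=
    Algebra.subset_adjoin (by simp)
  have t4 : (p : MvPolynomial (Fin 2) ℤ) ^ m * MvPolynomial.X 1 ∈ T :=
    Algebra.subset_adjoin (by simp)
  have hpT : (p : MvPolynomial (Fin 2) ℤ) ∈ T := natCast_mem T p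
  refine ⟨n * p ^ n + m * p ^ m + n + m, ?_, ?_⟩
  · rw [add_pow]
    refine T.sum_mem (fun i hi => ?_)
    have hi' : i ≤ p ^ (n * p ^ n + m * p ^ m + n + m) := Nat.lt_succ_iff.mp (Finset.mem_range.mp hi)
    obtain ⟨c, hc⟩ := key_dvd hp n m (le_refl _) hi'
    rw [hc]
    push_cast
    have e1 := pow_mul_X_pow_mem T p n (MvPolynomial.X 0) t1 t2 i
    have e2 := pow_mul_X_pow_mem T p m (MvPolynomial.X 1) t3 t4 (p ^ (n * p ^ n + m * p ^ m + n + m) - i)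
    have hcT : (c : MvPolynomial (Fin 2) ℤ) ∈ T := natCast_mem T c
    have := T.mul_mem (T.mul_mem e1 e2) hcT
    convert this using 1
    rw [pow_add]
    ring
  · have : (p : MvPolynomial (Fin 2) ℤ) ^ (n * p ^ n + m * p ^ m + n + m) *
        (MvPolynomial.X 0 + MvPolynomial.X 1) =
        (p : MvPolynomial (Fin 2) ℤ) ^ (n * p ^ n + m * p ^ m + m) * ((p : MvPolynomial (Fin 2) ℤ) ^ n * MvPolynomial.X 0) +
        (p : MvPolynomial (Fin 2) ℤ) ^ (n * p ^ n + m * p ^ m + n) * ((p : MvPolynomial (Fin 2) ℤ) ^ m * MvPolynomial.X 1) := by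
      ring
    rw [this]
    exact T.add_mem (T.mul_mem (T.pow_mem hpT _) t2) (T.mul_mem (T.pow_mem hpT _) t4)

end Groth.Agent.S9607
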