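import Groth.Statements.S9608
-- import your own Groth.Agent.* helpers here
import Mathlib.FieldTheory.PurelyInseparable.PerfectClosure

set_option autoImplicit false
universe u
open CAlg

namespace Groth.Agent.S9608

/-- Let k'/k be a field extension and p a prime number. Then k' is generated over k by elements x for
which some n > 0 has x^(p^n) ∈ k and p^n x ∈ k, if and only if either k' = k, or k has
characteristic p and k'/k is purely inseparable. -/
theorem result {k k' : Type u} [Field k] [Field k'] [Algebra k k'] (p : ℕ) (hp : p.Prime) :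
    IntermediateField.adjoin k {x : k' | ∃ n : ℕ, 0 < n ∧ x ^ (p ^ n) ∈ Set.range (algebraMap k k') ∧ (p : k') ^ n * x ∈ Set.range (algebraMap k k')} = ⊤ ↔
      (Function.Surjective (algebraMap k k') ∨ (CharP k p ∧ IsPurelyInseparable k k')) := by
  constructor
  · intro htop
    by_cases hpk : (p : k) = 0
    · right
      have : CharP k p := (CharP.charP_iff_prime_eq_zero hp).mpr hpk
      have : ExpChar k p := ExpChar.prime hp
      refine ⟨inferInstance, ?_⟩
      rw [isPurelyInseparable_iff_perfectClosure_eq_top, eq_top_iff, ← htop,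
        IntermediateField.adjoin_le_iff]
      rintro x ⟨n, hn, hx, -⟩
      exact (mem_perfectClosure_iff_pow_mem p).mpr ⟨n, hx⟩
    · left
      have hpk' : (p : k') ≠ 0 := by
        intro h
        apply hpk
        apply (algebraMap k k').injective
        simpa using h
      intro y
      have hy : y ∈ IntermediateField.adjoin k {x : k' | ∃ n : ℕ, 0 < n ∧
          x ^ (p ^ n) ∈ Set.range (algebraMap k k') ∧
          (p : k') ^ n * x ∈ Set.range (algebraMap k k')} := htop ▸ IntermediateField.mem_top
      have hle : IntermediateField.adjoin k {x : k' | ∃ n : ℕ, 0 < n ∧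
          x ^ (p ^ n) ∈ Set.range (algebraMap k k') ∧
          (p : k') ^ n * x ∈ Set.range (algebraMap k k')} ≤ ⊥ := by
        rw [IntermediateField.adjoin_le_iff]
        rintro x ⟨n, hn, -, ⟨a, ha⟩⟩
        rw [SetLike.mem_coe, IntermediateField.mem_bot]
        refine ⟨a / (p : k) ^ n, ?_⟩
        rw [map_div₀, ha, map_pow, map_natCast, mul_div_cancel_left₀ _ (pow_ne_zero n hpk')]
      exact IntermediateField.mem_bot.mp (hle hy)
  · rintro (hsurj | ⟨hchar, hpi⟩)
    · rw [eq_top_iff]
      intro y _
      obtain ⟨a, rfl⟩ := hsurj y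
      exact IntermediateField.algebraMap_mem _ a
    · have : ExpChar k p := ExpChar.prime hp
      rw [eq_top_iff]
      intro y _
      apply IntermediateField.subset_adjoin
      obtain ⟨n, hn⟩ := IsPurelyInseparable.pow_mem k p y
      refine ⟨n + 1, Nat.succ_pos n, ?_, ?_⟩
      · rw [pow_succ, pow_mul]
        obtain ⟨a, ha⟩ := hn
        exact ⟨a ^ p, by rw [map_pow, ha]⟩
      · refine ⟨0, ?_⟩
        have : (p : k') = 0 := by
          rw [← map_natCast (algebraMap k k'), CharP.cast_eq_zero, map_zero]
        rw [this, zero_pow (Nat.succ_ne_zero n), zero_mul, map_zero]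

end Groth.Agent.S9608
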