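import Groth.Statements.S9609
import Mathlib

set_option autoImplicit false
universe u
open CAlg

namespace Groth.Agent.S9609

section fieldrel

variable {L : Type*} [Field L] (e : ℕ) [ExpChar L e]
variable {T R' : Type*} [CommRing T] [CommRing R'] (g : T →+* L) (h : R' →+* L)

/-- relation: `g t ^ (e ^ n) = h u / h v` with `h v ≠ 0`. -/
def Rel (t : T) (n : ℕ) (u v : R') : Prop := h v ≠ 0 ∧ g t ^ (e ^ n) = h u / h v

omit [ExpChar L e] in
lemma rel_pow_aux {t : T} {n u v} (m : ℕ) (h₁ : Rel e g h t n u v) :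
    g t ^ (e ^ (n + m)) = h u ^ (e ^ m) / h v ^ (e ^ m) := by
  rw [pow_add, pow_mul, h₁.2, div_pow]

lemma rel_add {t₁ t₂ : T} {n₁ n₂ : ℕ} {u₁ v₁ u₂ v₂ : R'} (h₁ : Rel e g h t₁ n₁ u₁ v₁)
    (h₂ : Rel e g h t₂ n₂ u₂ v₂) :
    Rel e g h (t₁ + t₂) (n₁ + n₂)
      (u₁ ^ (e ^ n₂) * v₂ ^ (e ^ n₁) + u₂ ^ (e ^ n₁) * v₁ ^ (e ^ n₂))
      (v₁ ^ (e ^ n₂) * v₂ ^ (e ^ n₁)) := by
  have hv₁ := h₁.1
  have hv₂ := h₂.1
  refine ⟨by simp [hv₁, hv₂], ?_⟩
  have a1 := rel_pow_aux e g h n₂ h₁
  have a2 := rel_pow_aux e g h n₁ h₂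
  rw [add_comm n₂ n₁] at a2
  rw [map_add, add_pow_expChar_pow, a1, a2]
  simp only [map_add, map_mul, map_pow]
  field_simp

omit [ExpChar L e] in
lemma rel_mul {t₁ t₂ : T} {n₁ n₂ : ℕ} {u₁ v₁ u₂ v₂ : R'} (h₁ : Rel e g h t₁ n₁ u₁ v₁)
    (h₂ : Rel e g h t₂ n₂ u₂ v₂) :
    Rel e g h (t₁ * t₂) (n₁ + n₂)
      (u₁ ^ (e ^ n₂) * u₂ ^ (e ^ n₁))
      (v₁ ^ (e ^ n₂) * v₂ ^ (e ^ n₁)) := by
  have hv₁ := h₁.1
  have hv₂ := h₂.1
  refine ⟨by simp [hv₁, hv₂], ?_⟩
  have a1 := rel_pow_aux e g h n₂ h₁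
  have a2 := rel_pow_aux e g h n₁ h₂
  rw [add_comm n₂ n₁] at a2
  rw [map_mul, mul_pow, a1, a2]
  simp only [map_mul, map_pow]
  field_simp

omit [ExpChar L e] in
lemma rel_zero : Rel e g h (0 : T) 0 0 1 := by
  refine ⟨by simp, ?_⟩
  simp

end fieldrel

section ringpart

open TensorProduct

lemma ringExpChar_eq_of_ringHom {K L : Type*} [Field K] [Field L] (f : K →+* L) :
    ringExpChar K = ringExpChar L := by
  have : ExpChar L (ringExpChar K) := expChar_of_injective_ringHom f.injective (ringExpChar K)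
  exact (ringExpChar.eq L (ringExpChar K)).symm

lemma ringExpChar_residueField_congr {A : Type*} [CommRing A] (I J : Ideal A) [I.IsPrime]
    [J.IsPrime] (h : I = J) : ringExpChar I.ResidueField = ringExpChar J.ResidueField := by
  subst h; rfl

variable {R S R' : Type u} [CommRing R] [CommRing S] [CommRing R'] [Algebra R S] [Algebra R R']

/-- elementwise form of the pure inseparability hypothesis. -/
lemma elementwise
    (hpi : ∀ (q : Ideal S) [q.IsPrime] (x : q.ResidueField), ∃ n : ℕ,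
      x ^ (ringExpChar (q.comap (algebraMap R S)).ResidueField) ^ n ∈
        Set.range (Ideal.ResidueField.map (q.comap (algebraMap R S)) q (algebraMap R S) rfl))
    (q : Ideal S) [q.IsPrime] (s : S) :
    ∃ (n : ℕ) (a b : R), b ∉ q.comap (algebraMap R S) ∧
      algebraMap R S b * s ^ (ringExpChar (q.comap (algebraMap R S)).ResidueField) ^ n
        - algebraMap R S a ∈ q := by
  obtain ⟨n, y, hy⟩ := hpi q (algebraMap S q.ResidueField s)
  obtain ⟨a', b', hb', hab⟩ :=
    IsFractionRing.div_surjective (A := R ⧸ q.comap (algebraMap R S)) y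
  obtain ⟨a, rfl⟩ := Ideal.Quotient.mk_surjective a'
  obtain ⟨b, rfl⟩ := Ideal.Quotient.mk_surjective b'
  have hb : b ∉ q.comap (algebraMap R S) := by
    intro hb
    have : (Ideal.Quotient.mk (q.comap (algebraMap R S)) b) = 0 :=
      Ideal.Quotient.eq_zero_iff_mem.2 hb
    rw [this] at hb'
    exact zero_notMem_nonZeroDivisors hb'
  refine ⟨n, a, b, hb, ?_⟩
  rw [← Ideal.algebraMap_residueField_eq_zero]
  simp only [Ideal.algebraMap_quotient_residueField_mk] at hab
  have hb0 : algebraMap R (q.comap (algebraMap R S)).ResidueField b ≠ 0 := by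
    rwa [Ne, Ideal.algebraMap_residueField_eq_zero]
  have h1 : y * algebraMap R (q.comap (algebraMap R S)).ResidueField b =
      algebraMap R (q.comap (algebraMap R S)).ResidueField a := by
    rw [← hab]; field_simp
  have h2 := congrArg (Ideal.ResidueField.map (q.comap (algebraMap R S)) q (algebraMap R S) rfl) h1
  rw [map_mul, Ideal.ResidueField.map_algebraMap, Ideal.ResidueField.map_algebraMap, hy] at h2
  rw [map_sub, map_mul, map_pow, ← h2]
  ring

/-- the inclusion of `S` in `R' ⊗ S` as a ring hom. -/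
noncomputable abbrev incR (R S R' : Type u) [CommRing R] [CommRing S] [CommRing R'] [Algebra R S]
    [Algebra R R'] : S →+* R' ⊗[R] S :=
  (Algebra.TensorProduct.includeRight : S →ₐ[R] R' ⊗[R] S).toRingHom

lemma incR_algebraMap (r : R) :
    incR R S R' (algebraMap R S r) = algebraMap R' (R' ⊗[R] S) (algebraMap R R' r) := by
  simp only [incR, AlgHom.toRingHom_eq_coe, RingHom.coe_coe, AlgHom.commutes,
    Algebra.TensorProduct.algebraMap_apply]
  rfl

/-- the test maps attached to a prime `Q` of `R' ⊗ S`. -/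
noncomputable abbrev gQ (Q : Ideal (R' ⊗[R] S)) [Q.IsPrime] : R' ⊗[R] S →+* Q.ResidueField :=
  algebraMap (R' ⊗[R] S) Q.ResidueField

noncomputable abbrev hQ (Q : Ideal (R' ⊗[R] S)) [Q.IsPrime] : R' →+* Q.ResidueField :=
  (algebraMap (R' ⊗[R] S) Q.ResidueField).comp (algebraMap R' (R' ⊗[R] S))

lemma hQ_eq_zero (Q : Ideal (R' ⊗[R] S)) [Q.IsPrime] (v : R') :
    hQ Q v = 0 ↔ v ∈ Q.comap (algebraMap R' (R' ⊗[R] S)) := by
  simp only [hQ, RingHom.coe_comp, Function.comp_apply, Ideal.algebraMap_residueField_eq_zero,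
    Ideal.mem_comap]

/-- exponential characteristic of the residue field at `Q` agrees with that of the residue field of
the contraction to `R`, computed through `S`. -/
lemma ringExpChar_through_S (Q : Ideal (R' ⊗[R] S)) [Q.IsPrime] :
    ringExpChar ((Q.comap (incR R S R')).comap (algebraMap R S)).ResidueField =
      ringExpChar Q.ResidueField := by
  rw [ringExpChar_eq_of_ringHom (Ideal.ResidueField.map ((Q.comap (incR R S R')).comap
    (algebraMap R S)) (Q.comap (incR R S R')) (algebraMap R S) rfl)]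
  exact ringExpChar_eq_of_ringHom (Ideal.ResidueField.map (Q.comap (incR R S R')) Q
    (incR R S R') rfl)

lemma ringExpChar_through_R' (Q : Ideal (R' ⊗[R] S)) [Q.IsPrime] :
    ringExpChar (Q.comap (algebraMap R' (R' ⊗[R] S))).ResidueField =
      ringExpChar Q.ResidueField :=
  ringExpChar_eq_of_ringHom (Ideal.ResidueField.map (Q.comap (algebraMap R' (R' ⊗[R] S))) Q
    (algebraMap R' (R' ⊗[R] S)) rfl)

/-- key lemma: common Frobenius-power data for two primes with the same contraction to `S`. -/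
lemma exists_rel
    (hpi : ∀ (q : Ideal S) [q.IsPrime] (x : q.ResidueField), ∃ n : ℕ,
      x ^ (ringExpChar (q.comap (algebraMap R S)).ResidueField) ^ n ∈
        Set.range (Ideal.ResidueField.map (q.comap (algebraMap R S)) q (algebraMap R S) rfl))
    (Q₁ Q₂ : Ideal (R' ⊗[R] S)) [Q₁.IsPrime] [Q₂.IsPrime]
    (hq : Q₁.comap (incR R S R') = Q₂.comap (incR R S R'))
    (e : ℕ) (he₁ : ringExpChar Q₁.ResidueField = e) (he₂ : ringExpChar Q₂.ResidueField = e)
    (t : R' ⊗[R] S) :
    ∃ (n : ℕ) (u v : R'), Rel e (gQ Q₁) (hQ Q₁) t n u v ∧ Rel e (gQ Q₂) (hQ Q₂) t n u v := by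
  have key : ∀ s : S, ∃ (n : ℕ) (u v : R'), Rel e (gQ Q₁) (hQ Q₁) (incR R S R' s) n u v ∧
      Rel e (gQ Q₂) (hQ Q₂) (incR R S R' s) n u v := by
    intro s
    obtain ⟨n, a, b, hb, hab⟩ := elementwise hpi (Q₁.comap (incR R S R')) s
    rw [ringExpChar_through_S, he₁] at hab
    refine ⟨n, algebraMap R R' a, algebraMap R R' b, ?_, ?_⟩
    · constructor
      · rw [Ne, hQ_eq_zero, Ideal.mem_comap, ← incR_algebraMap]
        exact hb
      · rw [eq_div_iff (by
          rw [Ne, hQ_eq_zero, Ideal.mem_comap, ← incR_algebraMap]; exact hb)]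
        have h0 : gQ Q₁ (incR R S R' (algebraMap R S b * s ^ e ^ n - algebraMap R S a)) = 0 := by
          rw [Ideal.algebraMap_residueField_eq_zero]; exact hab
        rw [map_sub, map_mul, map_pow, map_sub, map_mul, map_pow, incR_algebraMap,
          incR_algebraMap, sub_eq_zero] at h0
        rw [mul_comm]; exact h0
    · have hb' : b ∉ (Q₂.comap (incR R S R')).comap (algebraMap R S) := by rw [← hq]; exact hb
      have hab' : algebraMap R S b * s ^ e ^ n - algebraMap R S a ∈ Q₂.comap (incR R S R') := by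
        rw [← hq]; exact hab
      constructor
      · rw [Ne, hQ_eq_zero, Ideal.mem_comap, ← incR_algebraMap]
        exact hb'
      · rw [eq_div_iff (by
          rw [Ne, hQ_eq_zero, Ideal.mem_comap, ← incR_algebraMap]; exact hb')]
        have h0 : gQ Q₂ (incR R S R' (algebraMap R S b * s ^ e ^ n - algebraMap R S a)) = 0 := by
          rw [Ideal.algebraMap_residueField_eq_zero]; exact hab'
        rw [map_sub, map_mul, map_pow, map_sub, map_mul, map_pow, incR_algebraMap,
          incR_algebraMap, sub_eq_zero] at h0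
        rw [mul_comm]; exact h0
  induction t using TensorProduct.induction_on with
  | zero => exact ⟨0, 0, 1, rel_zero e _ _, rel_zero e _ _⟩
  | tmul r' s =>
    obtain ⟨n, u, v, h1, h2⟩ := key s
    have hl : ∀ (Q : Ideal (R' ⊗[R] S)) [Q.IsPrime],
        Rel e (gQ Q) (hQ Q) (algebraMap R' (R' ⊗[R] S) r') 0 r' 1 := by
      intro Q _
      refine ⟨?_, ?_⟩
      · rw [map_one]; exact one_ne_zero
      · rw [pow_zero, pow_one, map_one, div_one]; rfl
    have hrs : r' ⊗ₜ[R] s = algebraMap R' (R' ⊗[R] S) r' * incR R S R' s := by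
      simp [incR, Algebra.TensorProduct.algebraMap_apply]
    rw [hrs]
    exact ⟨_, _, _, rel_mul e _ _ (hl Q₁) h1, rel_mul e _ _ (hl Q₂) h2⟩
  | add x y hx hy =>
    obtain ⟨n₁, u₁, v₁, h1, h2⟩ := hx
    obtain ⟨n₂, u₂, v₂, h3, h4⟩ := hy
    have : ExpChar Q₁.ResidueField e := ringExpChar.of_eq he₁
    have : ExpChar Q₂.ResidueField e := ringExpChar.of_eq he₂
    exact ⟨_, _, _, rel_add e _ _ h1 h3, rel_add e _ _ h2 h4⟩

end ringpart

section ringpart2

open TensorProduct

variable {R S R' : Type u} [CommRing R] [CommRing S] [CommRing R'] [Algebra R S] [Algebra R R']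

lemma ringExpChar_pos' (K : Type*) [Field K] : ringExpChar K ≠ 0 := by
  have : ExpChar K (ringExpChar K) := inferInstance
  exact (expChar_pos K (ringExpChar K)).ne'

lemma le_of_rel
    (hpi : ∀ (q : Ideal S) [q.IsPrime] (x : q.ResidueField), ∃ n : ℕ,
      x ^ (ringExpChar (q.comap (algebraMap R S)).ResidueField) ^ n ∈
        Set.range (Ideal.ResidueField.map (q.comap (algebraMap R S)) q (algebraMap R S) rfl))
    (Q₁ Q₂ : Ideal (R' ⊗[R] S)) [Q₁.IsPrime] [Q₂.IsPrime]
    (hq : Q₁.comap (incR R S R') = Q₂.comap (incR R S R'))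
    (hp' : Q₁.comap (algebraMap R' (R' ⊗[R] S)) = Q₂.comap (algebraMap R' (R' ⊗[R] S)))
    (e : ℕ) (he₁ : ringExpChar Q₁.ResidueField = e) (he₂ : ringExpChar Q₂.ResidueField = e) :
    Q₁ ≤ Q₂ := by
  intro t ht
  obtain ⟨n, u, v, ⟨hv1, h1⟩, ⟨hv2, h2⟩⟩ := exists_rel hpi Q₁ Q₂ hq e he₁ he₂ t
  have hepos : e ^ n ≠ 0 := pow_ne_zero _ (he₁ ▸ ringExpChar_pos' _)
  have g1 : gQ Q₁ t = 0 := Ideal.algebraMap_residueField_eq_zero.2 ht
  rw [g1, zero_pow hepos] at h1
  have hu : hQ Q₁ u = 0 := by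
    have h1' := h1.symm
    rw [div_eq_zero_iff] at h1'
    exact h1'.resolve_right hv1
  rw [hQ_eq_zero, hp', ← hQ_eq_zero] at hu
  rw [hu, zero_div] at h2
  have h3 := (pow_eq_zero_iff hepos).1 h2
  exact Ideal.algebraMap_residueField_eq_zero.1 h3

end ringpart2




open TensorProduct in
/-- Let R → S be a ring map which is injective on spectra and whose residue field extensions κ(p) → κ(q)
(q a prime of S with inverse image p) are purely inseparable: every element of κ(q) has a power with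
exponent a power of the characteristic exponent lying in the image of κ(p). Then, given an arbitrary
R-algebra R', the induced map R' → R' ⊗_R S is likewise injective on spectra and has purely
inseparable residue field extensions. -/
theorem result {R S R' : Type u} [CommRing R] [CommRing S] [CommRing R'] [Algebra R S] [Algebra R R']
    (hinj : Function.Injective (PrimeSpectrum.comap (algebraMap R S)))
    (hpi : ∀ (q : Ideal S) [q.IsPrime] (x : q.ResidueField), ∃ n : ℕ, x ^ (ringExpChar (q.comap (algebraMap R S)).ResidueField) ^ n ∈ Set.range (Ideal.ResidueField.map (q.comap (algebraMap R S)) q (algebraMap R S) rfl)) :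
    Function.Injective (PrimeSpectrum.comap (algebraMap R' (R' ⊗[R] S))) ∧
      ∀ (q' : Ideal (R' ⊗[R] S)) [q'.IsPrime] (x : q'.ResidueField), ∃ n : ℕ, x ^ (ringExpChar (q'.comap (algebraMap R' (R' ⊗[R] S))).ResidueField) ^ n ∈ Set.range (Ideal.ResidueField.map (q'.comap (algebraMap R' (R' ⊗[R] S))) q' (algebraMap R' (R' ⊗[R] S)) rfl) := by
  refine ⟨?_, ?_⟩
  · intro x y hxy
    have hp' : x.asIdeal.comap (algebraMap R' (R' ⊗[R] S)) =
        y.asIdeal.comap (algebraMap R' (R' ⊗[R] S)) := congrArg PrimeSpectrum.asIdeal hxy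
    have hqR : (x.asIdeal.comap (incR R S R')).comap (algebraMap R S) =
        (y.asIdeal.comap (incR R S R')).comap (algebraMap R S) := by
      ext r
      simp only [Ideal.mem_comap, incR_algebraMap]
      rw [← Ideal.mem_comap (f := algebraMap R' (R' ⊗[R] S)),
        ← Ideal.mem_comap (f := algebraMap R' (R' ⊗[R] S)), hp']
    have hq : x.asIdeal.comap (incR R S R') = y.asIdeal.comap (incR R S R') := by
      have := hinj (a₁ := ⟨x.asIdeal.comap (incR R S R'), inferInstance⟩)
        (a₂ := ⟨y.asIdeal.comap (incR R S R'), inferInstance⟩) (PrimeSpectrum.ext hqR)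
      exact congrArg PrimeSpectrum.asIdeal this
    have he : ringExpChar y.asIdeal.ResidueField = ringExpChar x.asIdeal.ResidueField := by
      rw [← ringExpChar_through_R' y.asIdeal, ← ringExpChar_through_R' x.asIdeal]
      exact ringExpChar_residueField_congr _ _ hp'.symm
    apply PrimeSpectrum.ext
    apply le_antisymm
    · exact le_of_rel hpi x.asIdeal y.asIdeal hq hp' _ rfl he
    · exact le_of_rel hpi y.asIdeal x.asIdeal hq.symm hp'.symm _ he rfl
  · intro q' _ x
    have he' : ringExpChar (q'.comap (algebraMap R' (R' ⊗[R] S))).ResidueField =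
        ringExpChar q'.ResidueField := ringExpChar_through_R' q'
    rw [he']
    obtain ⟨t', w', hw', hx⟩ := IsFractionRing.div_surjective (A := (R' ⊗[R] S) ⧸ q') x
    obtain ⟨t, rfl⟩ := Ideal.Quotient.mk_surjective t'
    obtain ⟨w, rfl⟩ := Ideal.Quotient.mk_surjective w'
    simp only [Ideal.algebraMap_quotient_residueField_mk] at hx
    have hw0 : gQ q' w ≠ 0 := by
      intro h0
      rw [Ideal.algebraMap_residueField_eq_zero] at h0
      have : (Ideal.Quotient.mk q' w) = 0 := Ideal.Quotient.eq_zero_iff_mem.2 h0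
      rw [this] at hw'
      exact zero_notMem_nonZeroDivisors hw'
    obtain ⟨n₁, u₁, v₁, r1, -⟩ :=
      exists_rel hpi q' q' rfl (ringExpChar q'.ResidueField) rfl rfl t
    obtain ⟨n₂, u₂, v₂, r2, -⟩ :=
      exists_rel hpi q' q' rfl (ringExpChar q'.ResidueField) rfl rfl w
    have hepos : ∀ n, (ringExpChar q'.ResidueField) ^ n ≠ 0 :=
      fun n => pow_ne_zero _ (ringExpChar_pos' _)
    have hu2 : hQ q' u₂ ≠ 0 := by
      intro h0
      have h2 := r2.2
      rw [h0, zero_div] at h2
      exact hw0 ((pow_eq_zero_iff (hepos _)).1 h2)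
    have a1 := rel_pow_aux _ _ _ n₂ r1
    have a2 := rel_pow_aux _ _ _ n₁ r2
    rw [add_comm n₂ n₁] at a2
    refine ⟨n₁ + n₂,
      (algebraMap R' _ u₁ ^ ((ringExpChar q'.ResidueField) ^ n₂) /
        algebraMap R' _ v₁ ^ ((ringExpChar q'.ResidueField) ^ n₂)) /
      (algebraMap R' _ u₂ ^ ((ringExpChar q'.ResidueField) ^ n₁) /
        algebraMap R' _ v₂ ^ ((ringExpChar q'.ResidueField) ^ n₁)), ?_⟩
    rw [← hx, div_pow, a1, a2]
    simp only [map_div₀, map_pow, Ideal.ResidueField.map_algebraMap]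
    rfl

end Groth.Agent.S9609
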