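import Groth.Statements.S9610
-- import your own Groth.Agent.* helpers here

set_option autoImplicit false
universe u
open CAlg

namespace Groth.Agent.S9610

/-- Let k be a field and V a nonzero k-vector space with dim_k V < #k as cardinals. Then every k-linear
endomorphism T of V admits a monic polynomial P over k for which P(T) is not invertible. -/
theorem result {k V : Type u} [Field k] [AddCommGroup V] [Module k V] [Nontrivial V] (hV : Module.rank k V < Cardinal.mk k) (T : Module.End k V) :
    ∃ P : Polynomial k, P.Monic ∧ ¬ IsUnit (Polynomial.aeval T P) := by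
  classical
  by_contra hcon
  push Not at hcon
  have hunit : ∀ Q : Polynomial k, Q ≠ 0 → IsUnit (Polynomial.aeval T Q) := by
    intro Q hQ
    have hlc : Q.leadingCoeff ≠ 0 := Polynomial.leadingCoeff_ne_zero.mpr hQ
    have : Q = Polynomial.C Q.leadingCoeff * (Q * Polynomial.C Q.leadingCoeff⁻¹) := by
      rw [mul_comm Q, ← mul_assoc, ← Polynomial.C_mul, mul_inv_cancel₀ hlc, Polynomial.C_1,
        one_mul]
    rw [this, map_mul]
    apply IsUnit.mul
    · rw [Polynomial.aeval_C]
      exact (IsUnit.mk0 _ hlc).map (algebraMap k (Module.End k V))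
    · exact hcon _ (Polynomial.monic_mul_leadingCoeff_inv hQ)
  obtain ⟨v, hv⟩ := exists_ne (0 : V)
  have hXa : ∀ a : k, (Polynomial.X - Polynomial.C a : Polynomial k) ≠ 0 :=
    fun a => Polynomial.X_sub_C_ne_zero a
  let w : k → V := fun a => ((hunit _ (hXa a)).unit⁻¹ : (Module.End k V)ˣ).val v
  have hw : ∀ a, Polynomial.aeval T (Polynomial.X - Polynomial.C a) (w a) = v := by
    intro a
    show ((hunit _ (hXa a)).unit : Module.End k V)
      (((hunit _ (hXa a)).unit⁻¹ : (Module.End k V)ˣ).val v) = v
    rw [← Module.End.mul_apply, Units.mul_inv, Module.End.one_apply]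
  have hdep : ¬ LinearIndependent k w := by
    intro hli
    exact absurd hli.cardinal_le_rank (not_le.mpr hV)
  obtain ⟨s, g, hsum, i₀, hi₀, hgi₀⟩ := not_linearIndependent_iff.mp hdep
  let Q : Polynomial k :=
    ∑ i ∈ s, Polynomial.C (g i) * ∏ j ∈ s.erase i, (Polynomial.X - Polynomial.C j)
  have hQv : Polynomial.aeval T Q v = 0 := by
    have h1 : ∀ i ∈ s, Polynomial.aeval T (∏ j ∈ s, (Polynomial.X - Polynomial.C j)) (w i) =
        Polynomial.aeval T (∏ j ∈ s.erase i, (Polynomial.X - Polynomial.C j)) v := by
      intro i hi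
      rw [← Finset.prod_erase_mul s _ hi, map_mul, Module.End.mul_apply, hw]
    have h2 := congrArg (Polynomial.aeval T (∏ j ∈ s, (Polynomial.X - Polynomial.C j))) hsum
    rw [map_sum, map_zero] at h2
    simp only [map_smul] at h2
    rw [map_sum, LinearMap.sum_apply, ← h2]
    refine Finset.sum_congr rfl fun i hi => ?_
    rw [h1 i hi, map_mul, Polynomial.aeval_C, Module.End.mul_apply]
    simp
  have hQ0 : Q ≠ 0 := by
    intro h
    have h3 := congrArg (Polynomial.eval i₀) h
    rw [Polynomial.eval_zero, Polynomial.eval_finsetSum, Finset.sum_eq_single i₀] at h3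
    · rw [Polynomial.eval_mul, Polynomial.eval_C, Polynomial.eval_prod] at h3
      rcases mul_eq_zero.mp h3 with h4 | h4
      · exact hgi₀ h4
      · rw [Finset.prod_eq_zero_iff] at h4
        obtain ⟨j, hj, hj0⟩ := h4
        simp only [Polynomial.eval_sub, Polynomial.eval_X, Polynomial.eval_C, sub_eq_zero] at hj0
        exact (Finset.ne_of_mem_erase hj) hj0.symm
    · intro i hi hne
      rw [Polynomial.eval_mul, Polynomial.eval_prod]
      apply mul_eq_zero_of_right
      apply Finset.prod_eq_zero (Finset.mem_erase.mpr ⟨hne.symm, hi₀⟩)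
      simp
    · intro h; exact absurd hi₀ h
  obtain ⟨u, hu⟩ := hunit Q hQ0
  apply hv
  have h5 : (u⁻¹ : (Module.End k V)ˣ).val (u.val v) = v := by
    rw [← Module.End.mul_apply, Units.inv_mul, Module.End.one_apply]
  rw [← h5, hu, hQv, map_zero]

end Groth.Agent.S9610
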