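import Groth.Statements.S9611
-- import your own Groth.Agent.* helpers here

set_option autoImplicit false
universe u
open CAlg

namespace Groth.Agent.S9611

/-- Let R be a Jacobson ring, p a prime ideal of R which is not maximal, and f an element of R not in p.
Then the set of primes of R containing p and not containing f is infinite. -/
theorem result {R : Type u} [CommRing R] [IsJacobsonRing R] (p : Ideal R) [p.IsPrime] (hp : ¬ p.IsMaximal) (f : R) (hf : f ∉ p) :
    {q : PrimeSpectrum R | p ≤ q.asIdeal ∧ f ∉ q.asIdeal}.Infinite := by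
  intro hfin
  classical
  have hpp : p.IsPrime := inferInstance
  let A : Finset (Ideal R) := (hfin.toFinset.image PrimeSpectrum.asIdeal).filter Ideal.IsMaximal
  let IB : Ideal R := sInf {m | p ≤ m ∧ m.IsMaximal ∧ f ∈ m}
  have hle : A.inf id ⊓ IB ≤ p := by
    intro x hx
    have hj : p.jacobson = p := IsJacobsonRing.out' p hpp.isRadical
    rw [← hj, Ideal.jacobson, Ideal.mem_sInf]
    rintro m ⟨hpm, hm⟩
    by_cases hfm : f ∈ m
    · exact (Ideal.mem_sInf.mp hx.2) ⟨hpm, hm, hfm⟩
    · have hmA : m ∈ A := by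
        simp only [A, Finset.mem_filter, Finset.mem_image, Set.Finite.mem_toFinset,
          Set.mem_ofPred_eq]
        exact ⟨⟨⟨m, hm.isPrime⟩, ⟨hpm, hfm⟩, rfl⟩, hm⟩
      exact (Finset.inf_le hmA : A.inf id ≤ id m) hx.1
  rcases (Ideal.IsPrime.inf_le hpp).mp hle with h | h
  · obtain ⟨m, hmA, hmp⟩ := (Ideal.IsPrime.inf_le' hpp).mp h
    have hm : m.IsMaximal := (Finset.mem_filter.mp hmA).2
    have : m = p := hm.eq_of_le hpp.ne_top hmp
    exact hp (this ▸ hm)
  · exact hf (h (Ideal.mem_sInf.mpr fun m hm => hm.2.2))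

end Groth.Agent.S9611
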