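import Groth.Statements.S9612
import Mathlib.RingTheory.DedekindDomain.PID
import Mathlib.RingTheory.Int.Basic

set_option autoImplicit false
universe u
open CAlg

namespace Groth.Agent.S9612

/-- the integers form a Jacobson ring -/
theorem int_isJacobsonRing : IsJacobsonRing ℤ := by
  rw [isJacobsonRing_iff_prime_eq]
  intro P hP
  by_cases h0 : P = ⊥
  · subst h0
    rw [eq_bot_iff]
    intro n hn
    rw [Ideal.mem_bot]
    by_contra hne
    obtain ⟨p, hpn, hp⟩ := Nat.exists_infinite_primes (n.natAbs + 1)
    have hmax : (Ideal.span {(p : ℤ)}).IsMaximal :=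
      PrincipalIdealRing.isMaximal_of_irreducible (Nat.prime_iff_prime_int.mp hp).irreducible
    have hmem : n ∈ Ideal.span {(p : ℤ)} := (Ideal.mem_sInf.mp hn) ⟨bot_le, hmax⟩
    rw [Ideal.mem_span_singleton] at hmem
    have h1 : p ∣ n.natAbs := Int.natCast_dvd.mp hmem
    have h2 : n.natAbs ≠ 0 := Int.natAbs_ne_zero.mpr hne
    have h3 := Nat.le_of_dvd (Nat.pos_of_ne_zero h2) h1
    omega
  · have : P.IsMaximal := hP.isMaximal h0
    exact Ideal.jacobson_eq_self_of_isMaximal

/-- A finite type ℤ-algebra is a Jacobson ring. -/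
theorem result {S : Type u} [CommRing S] [Algebra.FiniteType ℤ S] :
    IsJacobsonRing S := by
  have := int_isJacobsonRing
  exact isJacobsonRing_of_finiteType (A := ℤ)

end Groth.Agent.S9612
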