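import Groth.Statements.S9613
-- import your own Groth.Agent.* helpers here
import Mathlib.RingTheory.Jacobson.Ring
import Mathlib.RingTheory.Localization.Integral
import Mathlib.RingTheory.Algebraic.Integral
import Mathlib.RingTheory.Localization.FractionRing

set_option autoImplicit false
universe u
open CAlg

namespace Groth.Agent.S9613

theorem isLocalization_adjoin_inv {R K : Type u} [CommRing R] [Field K] [Algebra R K]
    (hinj : Function.Injective (algebraMap R K)) (f : R) (hf : f ≠ 0) :
    IsLocalization.Away f (Algebra.adjoin R ({(algebraMap R K f)⁻¹} : Set K)) := by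
  have hg : algebraMap R K f ≠ 0 := fun h => hf (hinj (h.trans (map_zero _).symm))
  have hinjRf : Function.Injective
      (algebraMap R (Algebra.adjoin R ({(algebraMap R K f)⁻¹} : Set K))) := by
    intro x y hxy
    apply hinj
    exact congrArg Subtype.val hxy
  rw [IsLocalization.Away, isLocalization_iff]
  refine ⟨?_, ?_, ?_⟩
  · rintro ⟨_, n, rfl⟩
    rw [map_pow]
    apply IsUnit.pow
    refine IsUnit.of_mul_eq_one
      (⟨(algebraMap R K f)⁻¹, Algebra.subset_adjoin (Set.mem_singleton _)⟩ :
        Algebra.adjoin R ({(algebraMap R K f)⁻¹} : Set K)) ?_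
    apply Subtype.ext
    exact mul_inv_cancel₀ hg
  · rintro ⟨z, hz⟩
    have key : ∃ (r : R) (n : ℕ), z * (algebraMap R K f) ^ n = algebraMap R K r := by
      induction hz using Algebra.adjoin_induction with
      | mem x hx =>
        rw [Set.mem_singleton_iff] at hx
        subst hx
        exact ⟨1, 1, by rw [pow_one, inv_mul_cancel₀ hg, map_one]⟩
      | algebraMap r => exact ⟨r, 0, by rw [pow_zero, mul_one]⟩
      | add x y _ _ hx hy =>
        obtain ⟨a, n, ha⟩ := hx
        obtain ⟨b, m, hb⟩ := hy
        refine ⟨a * f ^ m + b * f ^ n, n + m, ?_⟩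
        rw [map_add, map_mul, map_mul, map_pow, map_pow, ← ha, ← hb]
        ring
      | mul x y _ _ hx hy =>
        obtain ⟨a, n, ha⟩ := hx
        obtain ⟨b, m, hb⟩ := hy
        refine ⟨a * b, n + m, ?_⟩
        rw [map_mul, ← ha, ← hb]
        ring
    obtain ⟨r, n, hrn⟩ := key
    refine ⟨(r, ⟨f ^ n, n, rfl⟩), ?_⟩
    apply Subtype.ext
    simpa using hrn
  · intro x y hxy
    exact ⟨1, by rw [hinjRf hxy]⟩

/-- Let R → K be an injective ring map into a field K which makes K an R-algebra of finite type. Then
for some nonzero f ∈ R the localization R_f is a field over which K is finite; here R_f is realised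
as the R-subalgebra of K that is a localization of R away from f. -/
theorem result {R K : Type u} [CommRing R] [Field K] [Algebra R K] (hinj : Function.Injective (algebraMap R K)) [Algebra.FiniteType R K] :
    ∃ f : R, f ≠ 0 ∧ ∃ Rf : Subalgebra R K, IsLocalization.Away f Rf ∧ IsField Rf ∧ Module.Finite Rf K := by
  classical
  have hdom : IsDomain R := hinj.isDomain (algebraMap R K)
  let _ : Algebra (FractionRing R) K := (IsFractionRing.lift hinj).toAlgebra
  have htower : IsScalarTower R (FractionRing R) K :=
    IsScalarTower.of_algebraMap_eq (fun x => (IsFractionRing.lift_algebraMap hinj x).symm)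
  have hftF : Algebra.FiniteType (FractionRing R) K :=
    Algebra.FiniteType.of_restrictScalars_finiteType R (FractionRing R) K
  have hfinF : Module.Finite (FractionRing R) K :=
    finite_of_finite_type_of_isJacobsonRing (FractionRing R) K
  have halgF : Algebra.IsAlgebraic (FractionRing R) K := Algebra.IsAlgebraic.of_finite _ _
  have halg : Algebra.IsAlgebraic R K :=
    (IsFractionRing.comap_isAlgebraic_iff (A := R) (K := FractionRing R) (C := K)).mpr halgF
  obtain ⟨s, hs⟩ := (‹Algebra.FiniteType R K›).out
  obtain ⟨f, hf, hint⟩ := Algebra.IsAlgebraic.exists_integral_multiples R s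
  have hg : algebraMap R K f ≠ 0 := fun h => hf (hinj (h.trans (map_zero _).symm))
  refine ⟨f, hf, Algebra.adjoin R {(algebraMap R K f)⁻¹},
    isLocalization_adjoin_inv hinj f hf, ?_⟩
  have hintK : Algebra.IsIntegral (Algebra.adjoin R ({(algebraMap R K f)⁻¹} : Set K)) K := by
    constructor
    have hle : Algebra.adjoin R (s : Set K) ≤
        (integralClosure (Algebra.adjoin R ({(algebraMap R K f)⁻¹} : Set K)) K).restrictScalars
          R := by
      apply Algebra.adjoin_le
      intro z hz
      have h1 : IsIntegral (Algebra.adjoin R ({(algebraMap R K f)⁻¹} : Set K)) (f • z) :=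
        (hint z hz).tower_top
      have h2 : IsIntegral (Algebra.adjoin R ({(algebraMap R K f)⁻¹} : Set K))
          (algebraMap (Algebra.adjoin R ({(algebraMap R K f)⁻¹} : Set K)) K
            ⟨(algebraMap R K f)⁻¹, Algebra.subset_adjoin (Set.mem_singleton _)⟩) :=
        isIntegral_algebraMap
      have h3 : z = (algebraMap R K f)⁻¹ * (f • z) := by
        rw [Algebra.smul_def, ← mul_assoc, inv_mul_cancel₀ hg, one_mul]
      show IsIntegral _ z
      rw [h3]
      exact h2.mul h1
    intro x
    have hx : x ∈ Algebra.adjoin R (s : Set K) := hs ▸ Algebra.mem_top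
    exact hle hx
  have hft : Algebra.FiniteType (Algebra.adjoin R ({(algebraMap R K f)⁻¹} : Set K)) K :=
    Algebra.FiniteType.of_restrictScalars_finiteType R _ K
  have hfin : Module.Finite (Algebra.adjoin R ({(algebraMap R K f)⁻¹} : Set K)) K :=
    Algebra.IsIntegral.finite
  refine ⟨?_, hfin⟩
  exact isField_of_isIntegral_of_isField
    (R := Algebra.adjoin R ({(algebraMap R K f)⁻¹} : Set K)) (S := K)
    Subtype.val_injective (Field.toIsField K)

end Groth.Agent.S9613
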