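import Groth.Statements.S9614
-- import your own Groth.Agent.* helpers here
import Groth.Agent.Lib.GradedProj

set_option autoImplicit false
universe u
open CAlg

namespace Groth.Agent.S9614

open Groth.Agent.Lib.GradedProj

/-- Let S be an ℕ-graded ring and M a finitely generated graded S-module, graded in nonnegative degrees
(the source allows all integer degrees). If x_1, …, x_n are homogeneous elements of M which generate
M modulo S₊ M (S₊ the irrelevant ideal), then x_1, …, x_n generate M. -/
theorem result {R S : Type u} [CommRing R] [CommRing S] [Algebra R S] (𝒜 : ℕ → Submodule R S) [GradedAlgebra 𝒜]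
    (M : Type u) [AddCommGroup M] [Module R M] [Module S M] [IsScalarTower R S M] [Module.Finite S M] (ℳ : ℕ → Submodule R M) [DirectSum.Decomposition ℳ] [SetLike.GradedSMul 𝒜 ℳ]
    {n : ℕ} (x : Fin n → M) (hx : ∀ i, SetLike.IsHomogeneousElem ℳ (x i))
    (h : Submodule.span S (Set.range x) ⊔ (HomogeneousIdeal.irrelevant 𝒜).toIdeal • (⊤ : Submodule S M) = ⊤) :
    Submodule.span S (Set.range x) = ⊤ := by
  classical
  -- every homogeneous element lies in the span
  have hB : ∀ d : ℕ, ∀ m ∈ ℳ d, m ∈ Submodule.span S (Set.range x) := by
    intro d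
    induction d using Nat.strong_induction_on with
    | _ d ih =>
      intro m hm
      have hC : ∀ t ∈ (HomogeneousIdeal.irrelevant 𝒜).toIdeal • (⊤ : Submodule S M),
          proj ℳ d t ∈ Submodule.span S (Set.range x) := by
        intro t ht
        refine Submodule.smul_induction_on ht ?_ ?_
        · intro s hs m' _
          apply proj_smul_mem 𝒜 ℳ
          intro i j hij
          rcases Nat.eq_zero_or_pos i with hi | hi
          · subst hi
            have h0 : (DirectSum.decompose 𝒜 s 0 : S) = 0 :=
              (HomogeneousIdeal.mem_irrelevant_iff 𝒜 s).mp hs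
            rw [h0, zero_smul]
            exact Submodule.zero_mem _
          · apply Submodule.smul_mem
            exact ih j (by omega) _ (proj_mem ℳ j m')
        · intro a b ha hb
          rw [map_add]; exact Submodule.add_mem _ ha hb
      have hmtop : m ∈ Submodule.span S (Set.range x) ⊔
          (HomogeneousIdeal.irrelevant 𝒜).toIdeal • (⊤ : Submodule S M) := by
        rw [h]; exact Submodule.mem_top
      obtain ⟨n', hn', t, ht, hnt⟩ := Submodule.mem_sup.mp hmtop
      have h1 : m = proj ℳ d n' + proj ℳ d t := by
        rw [← map_add, hnt, proj_of_mem_same ℳ hm]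
      rw [h1]
      exact Submodule.add_mem _
        (proj_mem_span 𝒜 ℳ (by rintro _ ⟨i, rfl⟩; exact hx i) hn' d) (hC t ht)
  rw [eq_top_iff]
  intro m _
  obtain ⟨u, hu⟩ := sum_proj ℳ m
  rw [hu]
  exact Submodule.sum_mem _ fun j _ => hB j _ (proj_mem ℳ j m)

end Groth.Agent.S9614
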