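import Groth.Statements.S9616
import Groth.Agent.Lib.GradedAvoid
-- import your own Groth.Agent.* helpers here

set_option autoImplicit false
universe u
open CAlg

namespace Groth.Agent.S9616

/-- Let S be an ℕ-graded ring, p_1, …, p_r homogeneous prime ideals of S and I ⊆ S₊ a homogeneous ideal
not contained in any p_i. Then there is a homogeneous element x ∈ I of positive degree with x ∉ p_i
for all i. -/
theorem result {R S : Type u} [CommRing R] [CommRing S] [Algebra R S] (𝒜 : ℕ → Submodule R S) [GradedAlgebra 𝒜]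
    {r : ℕ} (p : Fin r → HomogeneousIdeal 𝒜) (hp : ∀ i, (p i).toIdeal.IsPrime) (I : HomogeneousIdeal 𝒜) (hI : I ≤ HomogeneousIdeal.irrelevant 𝒜) (h : ∀ i, ¬ I ≤ p i) :
    ∃ x : S, ∃ d : ℕ, 0 < d ∧ x ∈ 𝒜 d ∧ x ∈ I ∧ ∀ i, x ∉ p i := by
  classical
  have key : ∀ q ∈ Finset.univ.image (fun i => (p i).toIdeal), q.IsPrime ∧
      ∃ (z : S) (d : ℕ), 0 < d ∧ z ∈ 𝒜 d ∧ z ∈ I.toIdeal ∧ z ∉ q := by
    intro q hq
    obtain ⟨i, -, rfl⟩ := Finset.mem_image.1 hq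
    refine ⟨hp i, ?_⟩
    have hle : ¬ I.toIdeal ≤ (p i).toIdeal := fun hle => h i hle
    obtain ⟨x, j, hxj, hxI, hxp⟩ := Groth.Agent.Lib.GradedAvoid.exists_homogeneous_notMem 𝒜
      I.toIdeal I.isHomogeneous (p i).toIdeal hle
    have hj : 0 < j := Groth.Agent.Lib.GradedAvoid.pos_of_mem_irrelevant 𝒜 hxj (hI hxI)
      (fun h0 => hxp (h0 ▸ (p i).toIdeal.zero_mem))
    exact ⟨x, j, hj, hxj, hxI, hxp⟩
  obtain ⟨z, d, hd, hz, hzI, hzp⟩ := Groth.Agent.Lib.GradedAvoid.gpa 𝒜 I.toIdeal _ _ rfl key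
  refine ⟨z, d, hd, hz, hzI, fun i => ?_⟩
  exact hzp _ (Finset.mem_image.2 ⟨i, Finset.mem_univ i, rfl⟩)

end Groth.Agent.S9616
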