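import Mathlib
import Groth.Agent.Lib.GradedGen
import Groth.Agent.Lib.GradedMod
import Groth.Statements.S9617

set_option autoImplicit false
universe u
open CAlg

namespace Groth.Agent.S9617

section Helpers

open DirectSum

variable {A S : Type u} [CommRing A] [CommRing S] [Algebra A S] (𝒜 : ℕ → Submodule A S)
  {M : Type u} [AddCommGroup M] [Module A M] [Module S M] [IsScalarTower A S M]

/-- generic finite generation lemma. -/
theorem fg_of_closure (X : Finset M) (degM : M → ℕ) (N : ℕ) (P : Submodule A M)
    (h1 : ∀ x ∈ P, x ∈ AddSubmonoid.closure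
      {z | ∃ y ∈ (X : Set M), degM y ≤ N ∧ ∃ a ∈ 𝒜 (N - degM y), z = a • y})
    (h2 : ∀ y ∈ X, degM y ≤ N → ∀ a ∈ 𝒜 (N - degM y), a • y ∈ P)
    (h3 : ∀ y ∈ X, degM y ≤ N → (𝒜 (N - degM y)).FG) : P.FG := by
  classical
  let f : M → S →ₗ[A] M := fun y => (LinearMap.toSpanSingleton S M y).restrictScalars A
  have hP : P = ⨆ y ∈ X.filter (fun y => degM y ≤ N), (𝒜 (N - degM y)).map (f y) := by
    apply le_antisymm
    · intro x hx
      have hx' := h1 x hx
      refine AddSubmonoid.closure_induction (motive := fun x _ => x ∈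
        ⨆ y ∈ X.filter (fun y => degM y ≤ N), (𝒜 (N - degM y)).map (f y)) ?_ ?_ ?_ hx'
      · rintro z ⟨y, hy, hle, a, ha, rfl⟩
        have hy' : y ∈ X.filter (fun y => degM y ≤ N) := Finset.mem_filter.mpr ⟨hy, hle⟩
        refine Submodule.mem_iSup_of_mem y (Submodule.mem_iSup_of_mem hy' ?_)
        exact ⟨a, ha, rfl⟩
      · exact zero_mem _
      · intro a b _ _ ha hb; exact add_mem ha hb
    · refine iSup₂_le (fun y hy => ?_)
      obtain ⟨hy, hle⟩ := Finset.mem_filter.mp hy
      rintro _ ⟨a, ha, rfl⟩
      exact h2 y hy hle a ha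
  rw [hP]
  refine Submodule.fg_biSup _ _ (fun y hy => ?_)
  obtain ⟨hy, hle⟩ := Finset.mem_filter.mp hy
  exact (h3 y hy hle).map _

end Helpers

/-- Let S be an ℕ-graded ring, presented as a graded algebra over a ring A mapping onto S₀, such that S
is of finite type over A, i.e. over S₀. If M is a finitely generated graded S-module, graded in
nonnegative degrees (the source allows all integer degrees), then each graded piece M_n is a finite
module over A, i.e. over S₀. -/
theorem result {A S : Type u} [CommRing A] [CommRing S] [Algebra A S] (𝒜 : ℕ → Submodule A S) [GradedAlgebra 𝒜]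
    (h0 : ∀ s ∈ 𝒜 0, s ∈ Set.range (algebraMap A S)) [Algebra.FiniteType A S]
    (M : Type u) [AddCommGroup M] [Module A M] [Module S M] [IsScalarTower A S M] [Module.Finite S M] (ℳ : ℕ → Submodule A M) [DirectSum.Decomposition ℳ] [SetLike.GradedSMul 𝒜 ℳ] (n : ℕ) :
    Module.Finite A (ℳ n) := by
  classical
  have : IsScalarTower A (𝒜 0) S := ⟨fun a b c => by
    show ((a • b : 𝒜 0) : S) * c = a • ((b : S) * c)
    rw [Submodule.coe_smul, smul_mul_assoc]⟩
  have : Algebra.FiniteType (𝒜 0) S := Algebra.FiniteType.of_restrictScalars_finiteType A (𝒜 0) S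
  -- Step 1: each graded piece of S is f.g. over A
  have hS : ∀ d : ℕ, (𝒜 d).FG := by
    obtain ⟨s, hs, -, hs'⟩ := Groth.Agent.Lib.GradedGen.exists_finset_span_eq_irrelevant 𝒜
    choose! deg hdegpos hdeg using hs'
    intro d
    induction d using Nat.strong_induction_on with
    | _ d ih =>
      rcases Nat.eq_zero_or_pos d with rfl | hpos
      · refine ⟨{1}, ?_⟩
        apply le_antisymm
        · rw [Submodule.span_le]
          intro x hx
          simp only [Finset.coe_singleton, Set.mem_singleton_iff] at hx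
          subst hx
          exact SetLike.GradedOne.one_mem
        · intro x hx
          obtain ⟨a, rfl⟩ := h0 x hx
          rw [Algebra.algebraMap_eq_smul_one]
          exact Submodule.smul_mem _ _ (Submodule.subset_span (by simp))
      · refine fg_of_closure 𝒜 s deg d (𝒜 d) ?_ ?_ ?_
        · intro x hx
          have hxirr : x ∈ (HomogeneousIdeal.irrelevant 𝒜).toIdeal :=
            HomogeneousIdeal.mem_irrelevant_of_mem 𝒜 hpos hx
          rw [hs] at hxirr
          exact Groth.Agent.Lib.GradedGen.mem_closure_of_mem_span 𝒜 (s : Set S) deg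
            (fun e he => hdeg e he) hx hxirr
        · intro y hy hle a ha
          have : a • y ∈ 𝒜 (d - deg y + deg y) := by
            rw [smul_eq_mul]; exact SetLike.GradedMul.mul_mem ha (hdeg y hy)
          rwa [Nat.sub_add_cancel hle] at this
        · intro y hy hle
          exact ih _ (by have := hdegpos y hy; omega)
  -- Step 2
  obtain ⟨X, hX, hX'⟩ := Groth.Agent.Lib.GradedMod.exists_finset_homogeneous_span_eq_top (A := S) ℳ
  choose! degM hdegM using hX'
  have hfg : (ℳ n).FG := by
    refine fg_of_closure 𝒜 X degM n (ℳ n) ?_ ?_ ?_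
    · intro x hx
      exact Groth.Agent.Lib.GradedMod.mem_closure_of_mem_span 𝒜 ℳ (X : Set M) degM
        (fun y hy => hdegM y hy) hx (by rw [hX]; trivial)
    · intro y hy hle a ha
      have := Groth.Agent.Lib.GradedMod.smul_mem_add 𝒜 ℳ ha (hdegM y hy)
      rwa [Nat.sub_add_cancel hle] at this
    · intro y hy hle
      exact hS _
  exact Module.Finite.iff_fg.mpr hfg

end Groth.Agent.S9617
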