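import Groth.Statements.S9620
-- import your own Groth.Agent.* helpers here

set_option autoImplicit false
universe u
open CAlg

namespace Groth.Agent.S9620

variable {R : Type u} [CommRing R]

/-- The generating set: idempotents contained in `p`. -/
def E (p : PrimeSpectrum R) : Set R := {e : R | IsIdempotentElem e ∧ e ∈ p.asIdeal}

theorem mem_or_mem (p : PrimeSpectrum R) (e : R) (he : IsIdempotentElem e) :
    e ∈ Ideal.span (E p) ∨ 1 - e ∈ Ideal.span (E p) := by
  have h0 : e * (1 - e) ∈ p.asIdeal := by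
    have : e * (1 - e) = 0 := by
      have := he.eq
      linear_combination -this
    rw [this]
    exact p.asIdeal.zero_mem
  rcases p.2.mem_or_mem h0 with h | h
  · exact Or.inl (Ideal.subset_span ⟨he, h⟩)
  · exact Or.inr (Ideal.subset_span ⟨he.one_sub, h⟩)

theorem exists_mul_eq (p : PrimeSpectrum R) {y : R} (hy : y ∈ Ideal.span (E p)) :
    ∃ e₀ ∈ E p, e₀ * y = y := by
  induction hy using Submodule.span_induction with
  | mem x hx => exact ⟨x, hx, hx.1.eq⟩
  | zero => exact ⟨0, ⟨IsIdempotentElem.zero, p.asIdeal.zero_mem⟩, by simp⟩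
  | add x y _ _ hx hy =>
    obtain ⟨e₁, he₁, h₁⟩ := hx
    obtain ⟨e₂, he₂, h₂⟩ := hy
    refine ⟨e₁ + e₂ - e₁ * e₂, ⟨?_, ?_⟩, ?_⟩
    · have h1 := he₁.1.eq
      have h2 := he₂.1.eq
      show (e₁ + e₂ - e₁ * e₂) * (e₁ + e₂ - e₁ * e₂) = e₁ + e₂ - e₁ * e₂
      linear_combination (1 + e₂ * e₂ - 2 * e₂) * h1 + (1 - e₁) * h2
    · exact p.asIdeal.sub_mem (p.asIdeal.add_mem he₁.2 he₂.2) (p.asIdeal.mul_mem_right _ he₁.2)
    · linear_combination (1 - e₂) * h₁ + (1 - e₁) * h₂
  | smul a x _ hx =>
    obtain ⟨e₁, he₁, h₁⟩ := hx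
    refine ⟨e₁, he₁, ?_⟩
    rw [smul_eq_mul]
    linear_combination a * h₁

theorem exists_lift (p : PrimeSpectrum R) (x : R ⧸ Ideal.span (E p)) (hx : IsIdempotentElem x) :
    ∃ e : R, IsIdempotentElem e ∧ Ideal.Quotient.mk (Ideal.span (E p)) e = x := by
  obtain ⟨a, rfl⟩ := Ideal.Quotient.mk_surjective x
  have h1 : a * a - a ∈ Ideal.span (E p) := by
    rw [← Ideal.Quotient.eq, map_mul]
    exact hx.eq
  obtain ⟨e₀, he₀, h₀⟩ := exists_mul_eq p h1
  refine ⟨a * (1 - e₀), ?_, ?_⟩
  · have h2 := he₀.1.eq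
    show a * (1 - e₀) * (a * (1 - e₀)) = a * (1 - e₀)
    linear_combination (a * a) * h2 - h₀
  · rw [Ideal.Quotient.eq]
    have : a * (1 - e₀) - a = -(a * e₀) := by ring
    rw [this]
    exact (Ideal.span (E p)).neg_mem ((Ideal.span (E p)).mul_mem_left _ (Ideal.subset_span he₀))

/-- For a ring R and a point p of Spec R, the connected component of p is the zero locus of the ideal I
generated by the idempotents of R contained in p, and every idempotent e of R satisfies e ∈ I or 1 -
e ∈ I (e maps to 0 or 1 in R/I). -/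
theorem result {R : Type u} [CommRing R] (p : PrimeSpectrum R) :
    connectedComponent p = PrimeSpectrum.zeroLocus {e : R | IsIdempotentElem e ∧ e ∈ p.asIdeal} ∧
      ∀ e : R, IsIdempotentElem e → (e ∈ Ideal.span {e : R | IsIdempotentElem e ∧ e ∈ p.asIdeal} ∨ 1 - e ∈ Ideal.span {e : R | IsIdempotentElem e ∧ e ∈ p.asIdeal}) := by
  refine ⟨?_, mem_or_mem p⟩
  change connectedComponent p = PrimeSpectrum.zeroLocus (E p)
  apply Set.Subset.antisymm
  · -- the connected component lies in every clopen `V(e)`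
    intro q hq
    rw [PrimeSpectrum.mem_zeroLocus]
    intro e he
    have hcl : IsClopen (PrimeSpectrum.zeroLocus ({e} : Set R)) :=
      PrimeSpectrum.isClopen_iff_zeroLocus.mpr ⟨e, he.1, rfl⟩
    have hp : p ∈ PrimeSpectrum.zeroLocus ({e} : Set R) := by
      rw [PrimeSpectrum.mem_zeroLocus, Set.singleton_subset_iff]
      exact he.2
    have := hcl.connectedComponent_subset hp hq
    rw [PrimeSpectrum.mem_zeroLocus, Set.singleton_subset_iff] at this
    exact this
  · -- `V(I)` is connected
    have hpre : PreconnectedSpace (PrimeSpectrum (R ⧸ Ideal.span (E p))) := by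
      rw [preconnectedSpace_iff_clopen]
      intro s hs
      obtain ⟨x, hx, rfl⟩ := PrimeSpectrum.isClopen_iff.mp hs
      obtain ⟨e, he, rfl⟩ := exists_lift p x hx
      rcases mem_or_mem p e he with h | h
      · left
        have : Ideal.Quotient.mk (Ideal.span (E p)) e = 0 := Ideal.Quotient.eq_zero_iff_mem.mpr h
        rw [this]
        simp
      · right
        have : Ideal.Quotient.mk (Ideal.span (E p)) e = 1 := by
          rw [← sub_eq_zero, ← neg_eq_zero, neg_sub, ← map_one (Ideal.Quotient.mk _), ← map_sub]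
          exact Ideal.Quotient.eq_zero_iff_mem.mpr h
        rw [this]
        simp
    have hrange : IsPreconnected (Set.range (PrimeSpectrum.comap
        (Ideal.Quotient.mk (Ideal.span (E p))))) :=
      isPreconnected_range (PrimeSpectrum.continuous_comap _)
    rw [range_comap_of_surjective _ _ Ideal.Quotient.mk_surjective, Ideal.mk_ker,
      PrimeSpectrum.zeroLocus_span] at hrange
    apply hrange.subset_connectedComponent
    rw [PrimeSpectrum.mem_zeroLocus]
    intro e he
    exact he.2

end Groth.Agent.S9620
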