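import Groth.Statements.S9618
-- import your own Groth.Agent.* helpers here
import Groth.Agent.S9620

set_option autoImplicit false
universe u
open CAlg

namespace Groth.Agent.S9618

/-- For a ring R and a subset T of Spec R the following are equivalent: (1) T is closed and contains the
connected component of each of its points; (2) T can be written as an intersection of subsets of
Spec R that are both open and closed; (3) T is the common zero locus of some set of idempotent
elements of R (equivalently, of the ideal they generate). -/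
theorem result {R : Type u} [CommRing R] (T : Set (PrimeSpectrum R)) :
    [IsClosed T ∧ ∀ x ∈ T, connectedComponent x ⊆ T,
      ∃ U : Set (Set (PrimeSpectrum R)), (∀ u ∈ U, IsClopen u) ∧ T = ⋂₀ U,
      ∃ E : Set R, (∀ e ∈ E, IsIdempotentElem e) ∧ T = PrimeSpectrum.zeroLocus E].TFAE := by
  tfae_have 3 → 2 := by
    rintro ⟨E, hE, rfl⟩
    refine ⟨(fun e : R => PrimeSpectrum.zeroLocus ({e} : Set R)) '' E, ?_, ?_⟩
    · rintro _ ⟨e, he, rfl⟩
      exact PrimeSpectrum.isClopen_iff_zeroLocus.mpr ⟨e, hE e he, rfl⟩
    · ext q
      simp only [PrimeSpectrum.mem_zeroLocus, Set.sInter_image, Set.mem_iInter,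
        Set.singleton_subset_iff]
      rfl
  tfae_have 2 → 1 := by
    rintro ⟨U, hU, rfl⟩
    refine ⟨isClosed_sInter fun u hu => (hU u hu).isClosed, ?_⟩
    intro x hx y hy
    rw [Set.mem_sInter] at hx ⊢
    intro u hu
    exact (hU u hu).connectedComponent_subset (hx u hu) hy
  tfae_have 1 → 3 := by
    rintro ⟨hTc, hT⟩
    refine ⟨{e : R | IsIdempotentElem e ∧ e ∈ PrimeSpectrum.vanishingIdeal T},
      fun e he => he.1, ?_⟩
    apply Set.Subset.antisymm
    · intro q hq
      rw [PrimeSpectrum.mem_zeroLocus]
      intro e he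
      exact (PrimeSpectrum.mem_vanishingIdeal T e).mp he.2 q hq
    · intro p hp
      by_contra hpT
      have hC : connectedComponent p = PrimeSpectrum.zeroLocus (Groth.Agent.S9620.E p) :=
        (Groth.Agent.S9620.result p).1
      have hdisj : PrimeSpectrum.zeroLocus (PrimeSpectrum.vanishingIdeal T : Set R) ∩
          PrimeSpectrum.zeroLocus (Ideal.span (Groth.Agent.S9620.E p) : Set R) = ∅ := by
        rw [PrimeSpectrum.zeroLocus_vanishingIdeal_eq_closure, hTc.closure_eq,
          PrimeSpectrum.zeroLocus_span, ← hC]
        rw [Set.eq_empty_iff_forall_notMem]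
        rintro q ⟨hqT, hqC⟩
        apply hpT
        apply hT q hqT
        rw [← connectedComponent_eq hqC]
        exact mem_connectedComponent
      rw [← PrimeSpectrum.zeroLocus_sup, PrimeSpectrum.zeroLocus_empty_iff_eq_top] at hdisj
      have h1 : (1 : R) ∈ PrimeSpectrum.vanishingIdeal T ⊔ Ideal.span (Groth.Agent.S9620.E p) := by
        rw [hdisj]
        exact Submodule.mem_top
      obtain ⟨j, hj, y, hy, hjy⟩ := Submodule.mem_sup.mp h1
      obtain ⟨e₀, he₀, h₀⟩ := Groth.Agent.S9620.exists_mul_eq p hy
      have hmem : 1 - e₀ ∈ PrimeSpectrum.vanishingIdeal T := by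
        have : 1 - e₀ = (1 - e₀) * j := by
          linear_combination (1 - e₀) * hjy.symm - h₀
        rw [this]
        exact Ideal.mul_mem_left _ _ hj
      have h2 : 1 - e₀ ∈ p.asIdeal := by
        rw [PrimeSpectrum.mem_zeroLocus] at hp
        exact hp ⟨he₀.1.one_sub, hmem⟩
      apply p.2.ne_top
      rw [Ideal.eq_top_iff_one]
      have : (1 : R) = (1 - e₀) + e₀ := by ring
      rw [this]
      exact p.asIdeal.add_mem h2 he₀.2
  tfae_finish

end Groth.Agent.S9618
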