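import Groth.Statements.S9621
-- import your own Groth.Agent.* helpers here

set_option autoImplicit false
universe u
open CAlg

namespace Groth.Agent.S9621

theorem exists_mul_pow_eq_zero {R : Type u} [CommRing R] {p : Ideal R} (hp : p ∈ minimalPrimes R)
    {g : R} (hg : g ∈ p) : ∃ f : R, f ∉ p ∧ ∃ n : ℕ, f * g ^ n = 0 := by
  by_contra hcon
  push Not at hcon
  have hpp : p.IsPrime := hp.1.1
  have hdisj : Disjoint ((⊥ : Ideal R) : Set R) (p.primeCompl ⊔ Submonoid.powers g : Submonoid R) := by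
    rw [Set.disjoint_left]
    intro x hx hxM
    have hx0 : x = 0 := by simpa using hx
    rw [SetLike.mem_coe, Submonoid.mem_sup] at hxM
    obtain ⟨y, hy, z, ⟨n, rfl⟩, hyz⟩ := hxM
    exact hcon y hy n (hyz.trans hx0)
  obtain ⟨q, hq, -, hqM⟩ := Ideal.exists_le_prime_disjoint _ _ hdisj
  have hqp : q ≤ p := by
    intro x hx
    by_contra hxp
    exact Set.disjoint_left.mp hqM hx (SetLike.mem_coe.mpr (Submonoid.mem_sup_left hxp))
  have hpq : p ≤ q := hp.2 ⟨hq, bot_le⟩ hqp
  exact Set.disjoint_left.mp hqM (hpq hg)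
    (SetLike.mem_coe.mpr (Submonoid.mem_sup_right (Submonoid.mem_powers g)))

/-- Let R be a ring, p a minimal prime of R and W a quasi-compact open subset of Spec R not containing
p. Then there is an f ∈ R, f ∉ p, whose basic open D(f) is disjoint from W. -/
theorem result {R : Type u} [CommRing R] (p : PrimeSpectrum R) (hp : p.asIdeal ∈ minimalPrimes R) (W : Set (PrimeSpectrum R)) (hWo : IsOpen W) (hWc : IsCompact W) (hpW : p ∉ W) :
    ∃ f : R, f ∉ p.asIdeal ∧ Disjoint (PrimeSpectrum.basicOpen f : Set (PrimeSpectrum R)) W := by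
  classical
  obtain ⟨t, rfl⟩ := PrimeSpectrum.isCompact_isOpen_iff.mp ⟨hWc, hWo⟩
  have htp : ∀ g ∈ t, g ∈ p.asIdeal := by
    intro g hg
    have : p ∈ PrimeSpectrum.zeroLocus (t : Set R) := by
      by_contra h
      exact hpW h
    exact this hg
  have key : ∀ s : Finset R, (∀ g ∈ s, g ∈ p.asIdeal) →
      ∃ f : R, f ∉ p.asIdeal ∧ ∀ g ∈ s, IsNilpotent (f * g) := by
    intro s
    induction s using Finset.induction_on with
    | empty => intro _; exact ⟨1, p.2.one_notMem, by simp⟩
    | insert a s ha ih =>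
      intro h
      obtain ⟨f, hf, hfs⟩ := ih (fun g hg => h g (Finset.mem_insert_of_mem hg))
      obtain ⟨f', hf', n, hn⟩ := exists_mul_pow_eq_zero hp (h a (Finset.mem_insert_self a s))
      refine ⟨f * f', p.2.mul_notMem hf hf', ?_⟩
      intro g hg
      rw [Finset.mem_insert] at hg
      rcases hg with rfl | hg
      · refine ⟨n + 1, ?_⟩
        have : (f * f' * g) ^ (n + 1) = f ^ (n + 1) * f' ^ n * g * (f' * g ^ n) := by ring
        rw [this, hn, mul_zero]
      · have : f * f' * g = f' * (f * g) := by ring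
        rw [this]
        exact Commute.isNilpotent_mul_left (Commute.all _ _) (hfs g hg)
  obtain ⟨f, hf, hfs⟩ := key t htp
  refine ⟨f, hf, ?_⟩
  rw [Set.disjoint_left]
  intro q hqf hqW
  apply hqW
  intro g hg
  have h1 : f * g ∈ q.asIdeal := by
    obtain ⟨n, hn⟩ := hfs g hg
    exact q.2.mem_of_pow_mem n (hn ▸ q.asIdeal.zero_mem)
  exact (q.2.mem_or_mem h1).resolve_left hqf

end Groth.Agent.S9621
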