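import Groth.Statements.S9622
-- import your own Groth.Agent.* helpers here
import Mathlib.RingTheory.HopkinsLevitzki
import Mathlib.RingTheory.FiniteLength

set_option autoImplicit false
universe u
open CAlg

namespace Groth.Agent.S9622

theorem finite_of_isFiniteLength {R S : Type u} [CommRing R] [CommRing S] [Algebra R S]
    [IsLocalRing S] (hfin : Module.Finite R (S ⧸ IsLocalRing.maximalIdeal S))
    {M : Type u} [AddCommGroup M] [Module S M] (h : IsFiniteLength S M) :
    ∀ [Module R M] [IsScalarTower R S M], Module.Finite R M := by
  induction h with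
  | of_subsingleton => intro _ _; infer_instance
  | @of_simple_quotient M _ _ N hsimple hN ih =>
    intro _ _
    have h1 : Module.Finite R N := ih
    have h2 : Module.Finite R (M ⧸ N) := by
      obtain ⟨I, hI, ⟨e⟩⟩ := isSimpleModule_iff_quot_maximal.mp hsimple
      have hIm : I = IsLocalRing.maximalIdeal S := IsLocalRing.eq_maximalIdeal hI
      subst hIm
      exact Module.Finite.equiv (e.restrictScalars R).symm
    rw [Module.finite_def]
    apply Submodule.fg_of_fg_map_of_fg_inf_ker (N.mkQ.restrictScalars R)
    · rw [Submodule.map_top, LinearMap.range_eq_top.mpr]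
      · exact Module.finite_def.mp h2
      · exact N.mkQ_surjective
    · rw [top_inf_eq]
      have : LinearMap.ker (N.mkQ.restrictScalars R) = N.restrictScalars R := by
        ext x
        simp
      rw [this]
      exact (Module.Finite.iff_fg).mp h1

/-- Let R → S be a ring map whose target S is a local Artinian ring, and write m for the maximal ideal
of S. Then S is a finite R-module exactly when S/m is, and S is an R-algebra of finite type exactly
when S/m is. -/
theorem result {R S : Type u} [CommRing R] [CommRing S] [Algebra R S] [IsArtinianRing S] [IsLocalRing S] :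
    (Module.Finite R S ↔ Module.Finite R (S ⧸ IsLocalRing.maximalIdeal S)) ∧
      (Algebra.FiniteType R S ↔ Algebra.FiniteType R (S ⧸ IsLocalRing.maximalIdeal S)) := by
  have part1 : ∀ {A : Type u} [CommRing A] [Algebra A S],
      Module.Finite A (S ⧸ IsLocalRing.maximalIdeal S) → Module.Finite A S := by
    intro A _ _ hfin
    exact finite_of_isFiniteLength hfin ((isArtinianRing_iff_isFiniteLength S).mp inferInstance)
  refine ⟨⟨fun h => ?_, fun h => part1 h⟩, ⟨fun h => ?_, fun h => ?_⟩⟩
  · exact Module.Finite.of_surjective
      (Ideal.Quotient.mkₐ R (IsLocalRing.maximalIdeal S)).toLinearMap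
      (Ideal.Quotient.mkₐ_surjective R _)
  · exact Algebra.FiniteType.of_surjective
      (Ideal.Quotient.mkₐ R (IsLocalRing.maximalIdeal S))
      (Ideal.Quotient.mkₐ_surjective R _)
  · classical
    obtain ⟨t, ht⟩ := h.out
    let g : S ⧸ IsLocalRing.maximalIdeal S → S :=
      Function.surjInv (Ideal.Quotient.mkₐ_surjective R (IsLocalRing.maximalIdeal S))
    have hg : ∀ y, Ideal.Quotient.mkₐ R (IsLocalRing.maximalIdeal S) (g y) = y :=
      Function.surjInv_eq _
    let A : Subalgebra R S := Algebra.adjoin R ((t.image g : Finset S) : Set S)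
    have hAft : Algebra.FiniteType R A :=
      (Subalgebra.fg_iff_finiteType A).mp ⟨t.image g, rfl⟩
    have hmap : A.map (Ideal.Quotient.mkₐ R (IsLocalRing.maximalIdeal S)) = ⊤ := by
      rw [eq_top_iff, ← ht]
      apply Algebra.adjoin_le
      intro y hy
      refine ⟨g y, Algebra.subset_adjoin ?_, hg y⟩
      exact Finset.mem_coe.mpr (Finset.mem_image_of_mem g hy)
    have hsurj : Function.Surjective (algebraMap A (S ⧸ IsLocalRing.maximalIdeal S)) := by
      intro y
      have hy : y ∈ A.map (Ideal.Quotient.mkₐ R (IsLocalRing.maximalIdeal S)) := by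
        rw [hmap]; exact Algebra.mem_top
      obtain ⟨a, ha, rfl⟩ := hy
      exact ⟨⟨a, ha⟩, rfl⟩
    have hfinA : Module.Finite A (S ⧸ IsLocalRing.maximalIdeal S) :=
      Module.Finite.of_surjective (Algebra.linearMap A (S ⧸ IsLocalRing.maximalIdeal S)) hsurj
    have hfinS : Module.Finite A S := part1 hfinA
    have : Algebra.FiniteType A S := inferInstance
    exact Algebra.FiniteType.trans hAft this

end Groth.Agent.S9622
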