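import Groth.Statements.S9624
-- import your own Groth.Agent.* helpers here
import Groth.Agent.Lib.GeomFiber

set_option autoImplicit false
universe u
open CAlg

namespace Groth.Agent.S9624

open TensorProduct in
/-- Let k be a field, S a geometrically connected k-algebra (the spectrum of k' ⊗_k S is connected for
every field extension k'/k) and R any k-algebra. Then the map R → R ⊗_k S induces a bijection on
idempotents: each idempotent of R ⊗_k S comes from exactly one idempotent of R. Here the test fields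
range over field extensions in the universe of k; this is equivalent to the unrestricted notion,
since an algebraic closure of k suffices as a test. -/
theorem result {k R S : Type u} [Field k] [CommRing R] [CommRing S] [Algebra k R] [Algebra k S]
    (hS : ∀ (k' : Type u) [Field k'] [Algebra k k'], ConnectedSpace (PrimeSpectrum (k' ⊗[k] S)))
    (x : R ⊗[k] S) (hx : IsIdempotentElem x) :
    ∃! e : R, IsIdempotentElem e ∧ algebraMap R (R ⊗[k] S) e = x := by
  have hf₂ : IsOpenMap (PrimeSpectrum.comap (algebraMap R (R ⊗[k] S))) :=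
    Groth.Agent.Lib.GeomFiber.isOpenMap_comap
  have hf₃ : ∀ p, IsConnected (PrimeSpectrum.comap (algebraMap R (R ⊗[k] S)) ⁻¹' {p}) :=
    fun p => Groth.Agent.Lib.GeomFiber.isConnected_fiber hS p
  have hf₄ : Function.Surjective (PrimeSpectrum.comap (algebraMap R (R ⊗[k] S))) :=
    Groth.Agent.Lib.GeomFiber.comap_surjective_of_connected hS
  have hmem : ∀ (a : R) (q : PrimeSpectrum (R ⊗[k] S)),
      q ∈ (PrimeSpectrum.basicOpen (algebraMap R (R ⊗[k] S) a) : Set _) ↔
        PrimeSpectrum.comap (algebraMap R (R ⊗[k] S)) q ∈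
          (PrimeSpectrum.basicOpen a : Set (PrimeSpectrum R)) := by
    intro a q
    rfl
  have hU : IsClopen (PrimeSpectrum.basicOpen x : Set (PrimeSpectrum (R ⊗[k] S))) :=
    PrimeSpectrum.isClopen_iff.mpr ⟨x, hx, rfl⟩
  have hsat : ∀ a b : PrimeSpectrum (R ⊗[k] S),
      PrimeSpectrum.comap (algebraMap R (R ⊗[k] S)) a =
        PrimeSpectrum.comap (algebraMap R (R ⊗[k] S)) b →
      a ∈ (PrimeSpectrum.basicOpen x : Set (PrimeSpectrum (R ⊗[k] S))) →
      b ∈ (PrimeSpectrum.basicOpen x : Set (PrimeSpectrum (R ⊗[k] S))) := by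
    intro a b hab ha
    have hconn := (hf₃ (PrimeSpectrum.comap (algebraMap R (R ⊗[k] S)) a)).isPreconnected
    exact hconn.subset_isClopen hU ⟨a, rfl, ha⟩ (show b ∈ _ ⁻¹' {_} from hab.symm)
  have hV : IsClopen (PrimeSpectrum.comap (algebraMap R (R ⊗[k] S)) ''
      (PrimeSpectrum.basicOpen x : Set (PrimeSpectrum (R ⊗[k] S)))) := by
    refine ⟨?_, hf₂ _ hU.isOpen⟩
    have hc : (PrimeSpectrum.comap (algebraMap R (R ⊗[k] S)) ''
        (PrimeSpectrum.basicOpen x : Set (PrimeSpectrum (R ⊗[k] S))))ᶜ =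
        PrimeSpectrum.comap (algebraMap R (R ⊗[k] S)) ''
          (PrimeSpectrum.basicOpen x : Set (PrimeSpectrum (R ⊗[k] S)))ᶜ := by
      ext p
      constructor
      · intro hp
        obtain ⟨a, rfl⟩ := hf₄ p
        exact ⟨a, fun ha => hp ⟨a, ha, rfl⟩, rfl⟩
      · rintro ⟨b, hb, rfl⟩ ⟨a, ha, hab⟩
        exact hb (hsat a b hab ha)
    rw [← isOpen_compl_iff, hc]
    exact hf₂ _ hU.compl.isOpen
  obtain ⟨e, he, hVe⟩ := PrimeSpectrum.isClopen_iff.mp hV
  have hφe : PrimeSpectrum.basicOpen (algebraMap R (R ⊗[k] S) e) = PrimeSpectrum.basicOpen x := by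
    apply SetLike.ext'
    ext q
    rw [hmem, ← hVe]
    constructor
    · rintro ⟨a, ha, hab⟩
      exact hsat a q hab ha
    · intro hq
      exact ⟨q, hq, rfl⟩
  refine ⟨e, ⟨he, ?_⟩, ?_⟩
  · exact PrimeSpectrum.basicOpen_injOn_isIdempotentElem (he.map (algebraMap R (R ⊗[k] S))) hx hφe
  · rintro e' ⟨he', hφe'⟩
    apply PrimeSpectrum.basicOpen_injOn_isIdempotentElem he' he
    apply SetLike.ext'
    ext p
    obtain ⟨q, rfl⟩ := hf₄ p
    rw [← hmem, ← hmem, hφe', hφe]

end Groth.Agent.S9624
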