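import Groth.Statements.S9626
-- import your own Groth.Agent.* helpers here
import Groth.Agent.Lib.GeomFiber

set_option autoImplicit false
universe u
open CAlg

namespace Groth.Agent.S9626

theorem zeroLocus_mem_irreducibleComponents {A : Type u} [CommRing A] {q : Ideal A}
    (hq : q ∈ minimalPrimes A) :
    PrimeSpectrum.zeroLocus (q : Set A) ∈ irreducibleComponents (PrimeSpectrum A) := by
  rw [PrimeSpectrum.zeroLocus_ideal_mem_irreducibleComponents]
  have : q.IsPrime := hq.1.1
  rwa [this.radical]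

theorem exists_eq_zeroLocus {A : Type u} [CommRing A] {W : Set (PrimeSpectrum A)}
    (hW : W ∈ irreducibleComponents (PrimeSpectrum A)) :
    ∃ q ∈ minimalPrimes A, W = PrimeSpectrum.zeroLocus (q : Set A) := by
  rw [← PrimeSpectrum.zeroLocus_minimalPrimes] at hW
  obtain ⟨q, hq, rfl⟩ := hW
  exact ⟨q, hq, rfl⟩

open TensorProduct in
/-- Let k be a field, S a k-algebra with Spec(k' ⊗_k S) irreducible for every field extension k'/k, and
R any k-algebra. Then Spec(R ⊗_k S) → Spec(R) induces a bijection on irreducible components: taking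
inverse images along R → R ⊗_k S maps the set of minimal primes of R ⊗_k S bijectively onto the set
of minimal primes of R. Here the test fields range over field extensions in the universe of k; this
is equivalent to the unrestricted notion, since an algebraic closure of k suffices as a test. -/
theorem result {k R S : Type u} [Field k] [CommRing R] [CommRing S] [Algebra k R] [Algebra k S]
    (hS : ∀ (k' : Type u) [Field k'] [Algebra k k'], IrreducibleSpace (PrimeSpectrum (k' ⊗[k] S))) :
    Set.BijOn (Ideal.comap (algebraMap R (R ⊗[k] S))) (minimalPrimes (R ⊗[k] S)) (minimalPrimes R) := by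
  have hf₁ : Continuous (PrimeSpectrum.comap (algebraMap R (R ⊗[k] S))) :=
    PrimeSpectrum.continuous_comap _
  have hf₂ : IsOpenMap (PrimeSpectrum.comap (algebraMap R (R ⊗[k] S))) :=
    Groth.Agent.Lib.GeomFiber.isOpenMap_comap
  have hf₃ : ∀ x, IsPreirreducible (PrimeSpectrum.comap (algebraMap R (R ⊗[k] S)) ⁻¹' {x}) :=
    fun p => (Groth.Agent.Lib.GeomFiber.isIrreducible_fiber hS p).isPreirreducible
  have hf₄ : Function.Surjective (PrimeSpectrum.comap (algebraMap R (R ⊗[k] S))) :=
    Groth.Agent.Lib.GeomFiber.comap_surjective_of_irreducible hS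
  have himage : ∀ V ∈ irreducibleComponents (PrimeSpectrum (R ⊗[k] S)),
      PrimeSpectrum.comap (algebraMap R (R ⊗[k] S)) '' V ∈
        irreducibleComponents (PrimeSpectrum R) :=
    fun V hV => image_mem_irreducibleComponents_of_isPreirreducible_fiber _ hf₁ hf₂ hf₃ hf₄ hV
  have hpre : ∀ W ∈ irreducibleComponents (PrimeSpectrum R),
      PrimeSpectrum.comap (algebraMap R (R ⊗[k] S)) ⁻¹' W ∈
        irreducibleComponents (PrimeSpectrum (R ⊗[k] S)) :=
    fun W hW => preimage_mem_irreducibleComponents_of_isPreirreducible_fiber hW hf₁ hf₂ hf₃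
      (by simp [hf₄.range_eq, hW.1.1])
  have hpi : ∀ V ∈ irreducibleComponents (PrimeSpectrum (R ⊗[k] S)),
      PrimeSpectrum.comap (algebraMap R (R ⊗[k] S)) ⁻¹'
        (PrimeSpectrum.comap (algebraMap R (R ⊗[k] S)) '' V) = V :=
    fun V hV => congrArg Subtype.val
      ((irreducibleComponentsEquivOfIsPreirreducibleFiber _ hf₁ hf₂ hf₃ hf₄).right_inv ⟨V, hV⟩)
  refine ⟨?_, ?_, ?_⟩
  · -- maps to
    intro q hq
    have hqp : q.IsPrime := hq.1.1
    obtain ⟨p', hp', hVp'⟩ := exists_eq_zeroLocus (himage _ (zeroLocus_mem_irreducibleComponents hq))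
    have hp'p : p'.IsPrime := hp'.1.1
    have h1 : p' ≤ q.comap (algebraMap R (R ⊗[k] S)) := by
      have : PrimeSpectrum.comap (algebraMap R (R ⊗[k] S)) ⟨q, hqp⟩ ∈
          PrimeSpectrum.zeroLocus (p' : Set R) := by
        rw [← hVp']
        exact Set.mem_image_of_mem _ (by simp [PrimeSpectrum.mem_zeroLocus])
      rw [PrimeSpectrum.mem_zeroLocus] at this
      exact fun x hx => this hx
    have h2 : q.comap (algebraMap R (R ⊗[k] S)) ≤ p' := by
      have : (⟨p', hp'p⟩ : PrimeSpectrum R) ∈ PrimeSpectrum.zeroLocus (p' : Set R) := by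
        simp [PrimeSpectrum.mem_zeroLocus]
      rw [← hVp'] at this
      obtain ⟨Q', hQ', hfQ'⟩ := this
      have h3 : q ≤ Q'.asIdeal := by simpa [PrimeSpectrum.mem_zeroLocus] using hQ'
      have h4 : Q'.asIdeal.comap (algebraMap R (R ⊗[k] S)) = p' :=
        congrArg PrimeSpectrum.asIdeal hfQ'
      rw [← h4]
      exact Ideal.comap_mono h3
    rw [le_antisymm h2 h1]
    exact hp'
  · -- injective
    intro q₁ hq₁ q₂ hq₂ h12
    have hq₁p : q₁.IsPrime := hq₁.1.1
    have hq₂p : q₂.IsPrime := hq₂.1.1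
    have hmem : (⟨q₂, hq₂p⟩ : PrimeSpectrum (R ⊗[k] S)) ∈
        PrimeSpectrum.comap (algebraMap R (R ⊗[k] S)) ⁻¹'
          (PrimeSpectrum.comap (algebraMap R (R ⊗[k] S)) ''
            PrimeSpectrum.zeroLocus (q₁ : Set (R ⊗[k] S))) := by
      refine ⟨⟨q₁, hq₁p⟩, by simp [PrimeSpectrum.mem_zeroLocus], ?_⟩
      exact PrimeSpectrum.ext h12
    rw [hpi _ (zeroLocus_mem_irreducibleComponents hq₁)] at hmem
    have h1 : q₁ ≤ q₂ := by simpa [PrimeSpectrum.mem_zeroLocus] using hmem
    exact le_antisymm h1 (hq₂.2 ⟨hq₁p, bot_le⟩ h1)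
  · -- surjective
    intro p hp
    have hpp : p.IsPrime := hp.1.1
    obtain ⟨q, hq, hWq⟩ := exists_eq_zeroLocus (hpre _ (zeroLocus_mem_irreducibleComponents hp))
    have hqp : q.IsPrime := hq.1.1
    refine ⟨q, hq, ?_⟩
    have h1 : p ≤ q.comap (algebraMap R (R ⊗[k] S)) := by
      have : (⟨q, hqp⟩ : PrimeSpectrum (R ⊗[k] S)) ∈
          PrimeSpectrum.zeroLocus (q : Set (R ⊗[k] S)) := by
        simp [PrimeSpectrum.mem_zeroLocus]
      rw [← hWq, Set.mem_preimage, PrimeSpectrum.mem_zeroLocus] at this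
      exact fun x hx => this hx
    have h2 : q.comap (algebraMap R (R ⊗[k] S)) ≤ p := by
      obtain ⟨Q', hQ'⟩ := hf₄ ⟨p, hpp⟩
      have hQ'mem : Q' ∈ PrimeSpectrum.comap (algebraMap R (R ⊗[k] S)) ⁻¹'
          PrimeSpectrum.zeroLocus (p : Set R) := by
        rw [Set.mem_preimage, hQ']
        simp [PrimeSpectrum.mem_zeroLocus]
      rw [hWq] at hQ'mem
      have h3 : q ≤ Q'.asIdeal := by simpa [PrimeSpectrum.mem_zeroLocus] using hQ'mem
      have h4 : Q'.asIdeal.comap (algebraMap R (R ⊗[k] S)) = p :=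
        congrArg PrimeSpectrum.asIdeal hQ'
      rw [← h4]
      exact Ideal.comap_mono h3
    exact le_antisymm h2 h1

end Groth.Agent.S9626
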