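import Groth.Statements.S9633
import Mathlib.RingTheory.Ideal.MinimalPrime.Localization
import Mathlib.Topology.Separation.Profinite
import Mathlib.Topology.Connected.Separation

set_option autoImplicit false
universe u
open CAlg

namespace Groth.Agent.S9633

/-- For a ring R with spectrum X the following are equivalent: (1) X is profinite, i.e. compact,
Hausdorff and totally disconnected; (2) X is Hausdorff; (3) X is totally disconnected; (4) every
quasi-compact open subset of X is closed; (5) there are no nontrivial inclusions among prime ideals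
of R; (6) every prime ideal of R is maximal; (7) every prime ideal of R is a minimal prime; (8)
every standard open D(f) is closed. -/
theorem result {R : Type u} [CommRing R] :
    [CompactSpace (PrimeSpectrum R) ∧ T2Space (PrimeSpectrum R) ∧ TotallyDisconnectedSpace (PrimeSpectrum R),
      T2Space (PrimeSpectrum R),
      TotallyDisconnectedSpace (PrimeSpectrum R),
      ∀ W : Set (PrimeSpectrum R), IsOpen W → IsCompact W → IsClosed W,
      ∀ p q : PrimeSpectrum R, p ≤ q → p = q,
      ∀ p : Ideal R, p.IsPrime → p.IsMaximal,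
      ∀ p : Ideal R, p.IsPrime → p ∈ minimalPrimes R,
      ∀ f : R, IsClosed (PrimeSpectrum.basicOpen f : Set (PrimeSpectrum R))].TFAE := by
  have h58 : (∀ p q : PrimeSpectrum R, p ≤ q → p = q) →
      ∀ f : R, IsClosed (PrimeSpectrum.basicOpen f : Set (PrimeSpectrum R)) := by
    intro h5 f
    rw [← isOpen_compl_iff, isOpen_iff_forall_mem_open]
    intro p hp
    have hfp : f ∈ p.asIdeal := by
      by_contra hcon
      exact hp hcon
    have hmin : p.asIdeal ∈ minimalPrimes R := by
      refine ⟨⟨p.isPrime, bot_le⟩, ?_⟩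
      rintro q ⟨hq, -⟩ hqp
      have := h5 ⟨q, hq⟩ p hqp
      rw [← this]
    have hrad := IsLocalization.AtPrime.radical_map_of_mem_minimalPrimes
      (A := Localization.AtPrime p.asIdeal) p.asIdeal ⊥ hmin
    have hmem : algebraMap R (Localization.AtPrime p.asIdeal) f ∈
        (Ideal.map (algebraMap R (Localization.AtPrime p.asIdeal)) ⊥).radical := by
      rw [hrad]
      exact Ideal.mem_map_of_mem _ hfp
    rw [Ideal.map_bot] at hmem
    obtain ⟨n, hn⟩ := hmem
    rw [Ideal.mem_bot, ← map_pow, IsLocalization.map_eq_zero_iff p.asIdeal.primeCompl] at hn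
    obtain ⟨s, hs⟩ := hn
    refine ⟨PrimeSpectrum.basicOpen s.1, ?_, (PrimeSpectrum.basicOpen s.1).isOpen, s.2⟩
    intro q hq
    have hsq : s.1 ∉ q.asIdeal := hq
    have : s.1 * f ^ n ∈ q.asIdeal := by
      rw [hs]
      exact q.asIdeal.zero_mem
    have hfn : f ^ n ∈ q.asIdeal := (q.isPrime.mem_or_mem this).resolve_left hsq
    have hfq : f ∈ q.asIdeal := q.isPrime.mem_of_pow_mem n hfn
    intro hq'
    exact hq' hfq
  tfae_have 1 → 2 := fun h => h.2.1
  tfae_have 1 → 3 := fun h => h.2.2
  tfae_have 2 → 5 := by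
    intro h p q hpq
    rw [PrimeSpectrum.le_iff_specializes] at hpq
    exact hpq.eq
  tfae_have 3 → 5 := by
    intro h p q hpq
    rw [PrimeSpectrum.le_iff_specializes] at hpq
    have hpre : IsPreconnected (closure ({p} : Set (PrimeSpectrum R))) :=
      isIrreducible_singleton.closure.isPreirreducible.isPreconnected
    exact hpre.subsingleton (subset_closure rfl) hpq.mem_closure
  tfae_have 5 → 6 := by
    intro h p hp
    obtain ⟨m, hm, hpm⟩ := Ideal.exists_le_maximal p hp.ne_top
    have := h ⟨p, hp⟩ ⟨m, hm.isPrime⟩ hpm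
    have hpm' : p = m := congrArg PrimeSpectrum.asIdeal this
    rw [hpm']
    exact hm
  tfae_have 6 → 7 := by
    intro h p hp
    refine ⟨⟨hp, bot_le⟩, ?_⟩
    rintro q ⟨hq, -⟩ hqp
    have := (h q hq).eq_of_le hp.ne_top hqp
    rw [this]
  tfae_have 7 → 5 := by
    intro h p q hpq
    have hq := h q.asIdeal q.isPrime
    have : q.asIdeal ≤ p.asIdeal := hq.2 ⟨p.isPrime, bot_le⟩ hpq
    exact le_antisymm hpq this
  tfae_have 5 → 8 := h58
  tfae_have 8 → 4 := by
    intro h W hWo hWc
    obtain ⟨t, ht⟩ := PrimeSpectrum.isCompact_isOpen_iff.1 ⟨hWc, hWo⟩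
    rw [← ht]
    have : (PrimeSpectrum.zeroLocus (t : Set R))ᶜ =
        ⋃ f ∈ t, (PrimeSpectrum.basicOpen f : Set (PrimeSpectrum R)) := by
      ext x
      simp [PrimeSpectrum.mem_zeroLocus, Set.subset_def]
    rw [this]
    exact t.finite_toSet.isClosed_biUnion fun f _ => h f
  tfae_have 4 → 8 := by
    intro h f
    exact h _ (PrimeSpectrum.basicOpen f).isOpen (PrimeSpectrum.isCompact_basicOpen f)
  tfae_have 8 → 1 := by
    intro h
    have hts : TotallySeparatedSpace (PrimeSpectrum R) := by
      apply totallySeparatedSpace_of_t0_of_basis_clopen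
      refine TopologicalSpace.IsTopologicalBasis.of_isOpen_of_subset (fun s hs => hs.isOpen)
        PrimeSpectrum.isTopologicalBasis_basic_opens ?_
      rintro _ ⟨f, rfl⟩
      exact ⟨h f, (PrimeSpectrum.basicOpen f).isOpen⟩
    exact ⟨inferInstance, inferInstance, inferInstance⟩
  tfae_finish

end Groth.Agent.S9633
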