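import Groth.Statements.S9635
import Mathlib
import Groth.Agent.Lib.H71GeomRedTrans
import Groth.Agent.Lib.MacLane4H44
import Groth.Agent.Lib.GeomReducedFibres
-- import your own Groth.Agent.* helpers here

set_option autoImplicit false
universe u
open CAlg

namespace Groth.Agent.S9635

open TensorProduct

/-- von Neumann regularity for reduced algebras integral over a field. -/
theorem vnr {Ω B : Type*} [Field Ω] [CommRing B] [Algebra Ω B] [Algebra.IsIntegral Ω B]
    [IsReduced B] (b : B) : ∃ d : B, b = b * b * d := by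
  have hfin : Module.Finite Ω (Algebra.adjoin Ω {b}) :=
    Algebra.finite_adjoin_simple_of_isIntegral (Algebra.IsIntegral.isIntegral b)
  have hart : IsArtinianRing (Algebra.adjoin Ω {b}) := IsArtinianRing.of_finite Ω _
  obtain ⟨n, y, hy⟩ := IsArtinian.exists_pow_succ_smul_dvd
    (⟨b, Algebra.self_mem_adjoin_singleton Ω b⟩ : Algebra.adjoin Ω {b}) (1 : Algebra.adjoin Ω {b})
  have hy' : b ^ (n + 1) * (y : B) = b ^ n := by
    have := congrArg (Subtype.val) hy
    simpa using this
  refine ⟨y, ?_⟩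
  have hnil : (b - b * b * y) ^ (n + 1) = 0 := by
    have h1 : b - b * b * y = b * (1 - b * y) := by ring
    have h2 : b ^ n * (1 - b * y) = 0 := by
      calc b ^ n * (1 - b * y) = b ^ n - b ^ (n + 1) * y := by ring
        _ = 0 := by rw [hy', sub_self]
    calc (b - b * b * y) ^ (n + 1) = (b * (1 - b * y)) ^ (n + 1) := by rw [h1]
      _ = b ^ (n + 1) * (1 - b * y) ^ (n + 1) := mul_pow _ _ _
      _ = b * (1 - b * y) ^ n * (b ^ n * (1 - b * y)) := by ring
      _ = 0 := by rw [h2, mul_zero]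
  have := IsReduced.eq_zero _ ⟨n + 1, hnil⟩
  exact sub_eq_zero.mp this

theorem reduced_descend {k k' Ω A : Type u} [Field k] [Field k'] [Field Ω] [Algebra k k']
    [Algebra k' Ω] [Algebra k Ω] [IsScalarTower k k' Ω] [Algebra.IsIntegral k k']
    [CommRing A] [Algebra k' A] [Algebra k A] [IsScalarTower k k' A]
    (hB : IsReduced (Ω ⊗[k] k')) (hC : IsReduced (Ω ⊗[k] A)) : IsReduced (Ω ⊗[k'] A) := by
  let μ : Ω ⊗[k] k' →ₐ[Ω] Ω :=
    Algebra.TensorProduct.lift (AlgHom.id Ω Ω) (IsScalarTower.toAlgHom k k' Ω)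
      (fun _ _ => Commute.all _ _)
  let β : Ω ⊗[k] k' →ₐ[Ω] Ω ⊗[k] A :=
    Algebra.TensorProduct.map (AlgHom.id Ω Ω) (IsScalarTower.toAlgHom k k' A)
  let π : Ω ⊗[k] A →ₐ[Ω] Ω ⊗[k'] A := Algebra.TensorProduct.mapOfCompatibleSMul k' k Ω Ω A
  have hπ : ∀ (ω : Ω) (a : A), π (ω ⊗ₜ[k] a) = ω ⊗ₜ[k'] a := fun _ _ => rfl
  have hμ : ∀ (ω : Ω) (c : k'), μ (ω ⊗ₜ[k] c) = c • ω := by
    intro ω c
    show (AlgHom.id Ω Ω) ω * (IsScalarTower.toAlgHom k k' Ω) c = _
    rw [Algebra.smul_def, mul_comm]
    rfl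
  have hβ : ∀ (ω : Ω) (c : k'), β (ω ⊗ₜ[k] c) = ω ⊗ₜ[k] algebraMap k' A c := fun _ _ => rfl
  have hπβ : ∀ b : Ω ⊗[k] k', π (β b) = μ b ⊗ₜ[k'] (1 : A) := by
    intro b
    induction b using TensorProduct.induction_on with
    | zero => simp
    | tmul ω c =>
      rw [hβ, hπ, hμ, TensorProduct.smul_tmul, Algebra.smul_def, mul_one]
    | add x y hx hy => rw [map_add, map_add, map_add, hx, hy, TensorProduct.add_tmul]
  let J : Ideal (Ω ⊗[k] A) := Ideal.span {x | ∃ (c : k') (ω : Ω) (a : A),
    x = (c • ω) ⊗ₜ[k] a - ω ⊗ₜ[k] (c • a)}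
  -- kernel of π is contained in J
  have hker : ∀ x : Ω ⊗[k] A, π x = 0 → x ∈ J := by
    let f : Ω →+ A →+ (Ω ⊗[k] A) ⧸ J :=
      { toFun := fun ω => ((Ideal.Quotient.mk J) : _ →+ _).comp
          ((TensorProduct.mk k Ω A ω) : A →+ Ω ⊗[k] A)
        map_zero' := by ext a; simp
        map_add' := by intro ω₁ ω₂; ext a; simp }
    have hf : ∀ (c : k') (ω : Ω) (a : A), f (c • ω) a = f ω (c • a) := by
      intro c ω a
      show Ideal.Quotient.mk J ((c • ω) ⊗ₜ[k] a) = Ideal.Quotient.mk J (ω ⊗ₜ[k] (c • a))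
      exact Ideal.Quotient.eq.mpr (Ideal.subset_span ⟨c, ω, a, rfl⟩)
    let ψ : Ω ⊗[k'] A →+ (Ω ⊗[k] A) ⧸ J := TensorProduct.liftAddHom f hf
    have hψπ : ∀ x : Ω ⊗[k] A, ψ (π x) = Ideal.Quotient.mk J x := by
      intro x
      induction x using TensorProduct.induction_on with
      | zero => simp
      | tmul ω a => rfl
      | add x y hx hy => rw [map_add, map_add, map_add, hx, hy]
    intro x hx
    rw [← Ideal.Quotient.eq_zero_iff_mem, ← hψπ, hx, map_zero]
  -- killing elements of J
  have hkill : ∀ x ∈ J, ∃ s : Ω ⊗[k] k', μ s = 1 ∧ β s * x = 0 := by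
    intro x hx
    induction hx using Submodule.span_induction with
    | mem x hx =>
      obtain ⟨c, ω, a, rfl⟩ := hx
      set b : Ω ⊗[k] k' := (c • ω) ⊗ₜ[k] (1 : k') - ω ⊗ₜ[k] c with hb
      have hμb : μ b = 0 := by
        rw [hb, map_sub, hμ, hμ, one_smul, sub_self]
      have hβb : β b * ((1 : Ω) ⊗ₜ[k] a) = (c • ω) ⊗ₜ[k] a - ω ⊗ₜ[k] (c • a) := by
        rw [hb, map_sub, hβ, hβ, sub_mul, Algebra.TensorProduct.tmul_mul_tmul,
          Algebra.TensorProduct.tmul_mul_tmul, map_one, one_mul, mul_one, mul_one,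
          Algebra.smul_def c a]
      obtain ⟨d, hd⟩ := vnr (Ω := Ω) b
      refine ⟨1 - b * d, ?_, ?_⟩
      · rw [map_sub, map_one, map_mul, hμb, zero_mul, sub_zero]
      · rw [← hβb, ← mul_assoc, ← map_mul]
        have : (1 - b * d) * b = 0 := by
          calc (1 - b * d) * b = b - b * b * d := by ring
            _ = 0 := by rw [← hd, sub_self]
        rw [this, map_zero, zero_mul]
    | zero => exact ⟨1, map_one _, mul_zero _⟩
    | add x y _ _ hx hy =>
      obtain ⟨s₁, h1, h1'⟩ := hx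
      obtain ⟨s₂, h2, h2'⟩ := hy
      refine ⟨s₁ * s₂, by rw [map_mul, h1, h2, mul_one], ?_⟩
      rw [map_mul, mul_add]
      have e1 : β s₁ * β s₂ * x = β s₂ * (β s₁ * x) := by ring
      have e2 : β s₁ * β s₂ * y = β s₁ * (β s₂ * y) := by ring
      rw [e1, e2, h1', h2', mul_zero, mul_zero, add_zero]
    | smul a x _ hx =>
      obtain ⟨s, h1, h1'⟩ := hx
      refine ⟨s, h1, ?_⟩
      rw [smul_eq_mul]
      have : β s * (a * x) = a * (β s * x) := by ring
      rw [this, h1', mul_zero]
  refine ⟨fun z hz => ?_⟩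
  obtain ⟨n, hn⟩ := hz
  obtain ⟨z', rfl⟩ := Algebra.TensorProduct.mapOfCompatibleSMul_surjective k' k Ω Ω A z
  change (π z') ^ n = 0 at hn
  change π z' = 0
  have h1 : z' ^ n ∈ J := hker _ (by rw [map_pow, hn])
  obtain ⟨s, hs1, hs2⟩ := hkill _ h1
  have hnil : (β s * z') ^ (n + 1) = 0 := by
    calc (β s * z') ^ (n + 1) = (β s) ^ n * z' * (β s * z' ^ n) := by ring
      _ = 0 := by rw [hs2, mul_zero]
  have h0 : β s * z' = 0 := IsReduced.eq_zero _ ⟨n + 1, hnil⟩
  have h2 : π (β s) = 1 := by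
    rw [hπβ, hs1]
    rfl
  calc π z' = π (β s) * π z' := by rw [h2, one_mul]
    _ = π (β s * z') := (map_mul _ _ _).symm
    _ = 0 := by rw [h0, map_zero]

open TensorProduct in
/-- Let k ⊆ k' be fields with k' separable algebraic over k, and A a k'-algebra. Then A is geometrically
reduced over k (K ⊗_k A reduced for all field extensions K/k) if and only if A is geometrically
reduced over k' (K ⊗_{k'} A reduced for all field extensions K/k'). Here the test fields K range
over field extensions (of k, respectively of k') in the common universe of k and k'; this is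
equivalent to the unrestricted notions, since an algebraic closure of the base field suffices as a
test. -/
theorem result {k k' A : Type u} [Field k] [Field k'] [Algebra k k'] [Algebra.IsSeparable k k'] [CommRing A] [Algebra k' A] [Algebra k A] [IsScalarTower k k' A] :
    (∀ (K : Type u) [Field K] [Algebra k K], IsReduced (K ⊗[k] A)) ↔
      ∀ (K : Type u) [Field K] [Algebra k' K], IsReduced (K ⊗[k'] A) := by
  have hfs : Algebra.FormallySmooth k k' := by
    have : Algebra.FormallyEtale k k' := Algebra.FormallyEtale.of_isSeparable k k'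
    infer_instance
  have hgr : Algebra.IsGeometricallyReduced k k' :=
    (Groth.Agent.Lib.MacLane4H44.formallySmooth_iff_isGeometricallyReduced k k').mp hfs
  constructor
  · intro h K _ _
    have hC : IsReduced (AlgebraicClosure k' ⊗[k] A) := h (AlgebraicClosure k')
    have hB : IsReduced (AlgebraicClosure k' ⊗[k] k') :=
      Groth.Agent.Lib.GeomReducedFibres.isReduced_tensorProduct_of_isGeometricallyReduced k k'
        (AlgebraicClosure k')
    have hD : IsReduced (AlgebraicClosure k' ⊗[k'] A) := reduced_descend hB hC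
    have : Algebra.IsGeometricallyReduced k' A :=
      (Algebra.isGeometricallyReduced_field_iff k' A).mpr hD
    exact Groth.Agent.Lib.GeomReducedFibres.isReduced_tensorProduct_of_isGeometricallyReduced k' A K
  · intro h K _ _
    have hD : IsReduced (AlgebraicClosure k' ⊗[k'] A) := h (AlgebraicClosure k')
    have : Algebra.IsGeometricallyReduced k' A :=
      (Algebra.isGeometricallyReduced_field_iff k' A).mpr hD
    have : Algebra.IsGeometricallyReduced k A :=
      Groth.Agent.Lib.H71GeomRedTrans.isGeometricallyReduced_trans k k' A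
    exact Groth.Agent.Lib.GeomReducedFibres.isReduced_tensorProduct_of_isGeometricallyReduced k A K

end Groth.Agent.S9635
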