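import Groth.Statements.S9636
import Mathlib.RingTheory.Unramified.Field
import Mathlib.RingTheory.Unramified.Finite
import Mathlib.RingTheory.Kaehler.Basic
import Mathlib.Tactic

set_option autoImplicit false
universe u
open CAlg

namespace Groth.Agent.S9636


section helpers
open TensorProduct
variable {k k' : Type u} [Field k] [Field k'] [Algebra k k']

theorem lmul'_map {F : IntermediateField k k'} (t : F ⊗[k] F) :
    Algebra.TensorProduct.lmul' (S := k') k (Algebra.TensorProduct.map F.val F.val t) =
      F.val (Algebra.TensorProduct.lmul' (S := F) k t) := by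
  have : (Algebra.TensorProduct.lmul' (S := k') k).comp (Algebra.TensorProduct.map F.val F.val) =
      F.val.comp (Algebra.TensorProduct.lmul' (S := F) k) := by
    apply Algebra.TensorProduct.ext'
    intro a b
    simp
  exact DFunLike.congr_fun this t

variable [Algebra.IsSeparable k k']

theorem exists_single (s : k') : ∃ t' : k' ⊗[k] k',
    Algebra.TensorProduct.lmul' (S := k') k t' = 1 ∧ ((1 : k') ⊗ₜ[k] s - s ⊗ₜ[k] (1 : k')) * t' = 0 := by
  let F : IntermediateField k k' := IntermediateField.adjoin k {s}
  have hs : s ∈ F := IntermediateField.mem_adjoin_simple_self k s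
  have : FiniteDimensional k F :=
    IntermediateField.adjoin.finiteDimensional (Algebra.IsIntegral.isIntegral s)
  have : Algebra.IsSeparable k F := Algebra.isSeparable_tower_bot_of_isSeparable k F k'
  have : Algebra.FormallyUnramified k F := Algebra.FormallyUnramified.of_isSeparable k F
  obtain ⟨t, ht, ht1⟩ := (Algebra.FormallyUnramified.iff_exists_tensorProduct (R := k) (S := F)).mp inferInstance
  refine ⟨Algebra.TensorProduct.map F.val F.val t, ?_, ?_⟩
  · rw [lmul'_map, ht1, map_one]
  · have := congrArg (Algebra.TensorProduct.map F.val F.val) (ht ⟨s, hs⟩)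
    simpa using this

theorem exists_of_mem_ker (b : k' ⊗[k] k') (hb : Algebra.TensorProduct.lmul' (S := k') k b = 0) :
    ∃ t' : k' ⊗[k] k', Algebra.TensorProduct.lmul' (S := k') k t' = 1 ∧ b * t' = 0 := by
  have hb' : b ∈ KaehlerDifferential.ideal k k' := hb
  rw [← KaehlerDifferential.span_range_eq_ideal] at hb'
  clear hb
  induction hb' using Submodule.span_induction with
  | mem x hx => obtain ⟨s, rfl⟩ := hx; exact exists_single s
  | zero => exact ⟨1, map_one _, zero_mul _⟩
  | add x y _ _ hx hy =>
    obtain ⟨t1, h1, h1'⟩ := hx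
    obtain ⟨t2, h2, h2'⟩ := hy
    refine ⟨t1 * t2, by rw [map_mul, h1, h2, one_mul], ?_⟩
    calc (x + y) * (t1 * t2) = (x * t1) * t2 + (y * t2) * t1 := by ring
      _ = 0 := by rw [h1', h2']; ring
  | smul c x _ hx =>
    obtain ⟨t, h, h'⟩ := hx
    exact ⟨t, h, by rw [smul_eq_mul, mul_assoc, h', mul_zero]⟩

theorem result' : ∃ (S : Submonoid (k' ⊗[k] k')) (e : Localization S ≃+* k'),
    ∀ x : k' ⊗[k] k', e (algebraMap (k' ⊗[k] k') (Localization S) x) =
      Algebra.TensorProduct.lmul' (S := k') k x := by
  let μ : k' ⊗[k] k' →+* k' := (Algebra.TensorProduct.lmul' (S := k') k).toRingHom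
  let I : Ideal (k' ⊗[k] k') := RingHom.ker μ
  have : I.IsPrime := RingHom.ker_isPrime μ
  let _ : Algebra (k' ⊗[k] k') k' := μ.toAlgebra
  have hloc : IsLocalization I.primeCompl k' := by
    rw [isLocalization_iff]
    refine ⟨?_, ?_, ?_⟩
    · rintro ⟨y, hy⟩
      exact isUnit_iff_ne_zero.mpr hy
    · intro z
      refine ⟨⟨z ⊗ₜ[k] 1, 1⟩, ?_⟩
      show z * μ 1 = μ (z ⊗ₜ[k] 1)
      simp [μ]
    · intro x y hxy
      have h0 : Algebra.TensorProduct.lmul' (S := k') k (x - y) = 0 := by
        rw [map_sub]; exact sub_eq_zero.mpr hxy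
      obtain ⟨t, ht, ht'⟩ := exists_of_mem_ker (x - y) h0
      refine ⟨⟨t, ?_⟩, ?_⟩
      · show t ∉ I
        intro hmem
        have : μ t = 0 := hmem
        have h1 : μ t = 1 := ht
        rw [h1] at this
        exact one_ne_zero this
      · show t * x = t * y
        have : t * (x - y) = 0 := by rw [mul_comm]; exact ht'
        rw [mul_sub] at this
        exact sub_eq_zero.mp this
  let e := IsLocalization.algEquiv I.primeCompl (Localization I.primeCompl) k'
  exact ⟨I.primeCompl, e.toRingEquiv, fun x => e.commutes x⟩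


end helpers


open TensorProduct in
/-- Let k'/k be a separable algebraic field extension. Then for some multiplicative subset S of k' ⊗_k
k' the multiplication map k' ⊗_k k' → k' is a localization at S: there is a ring isomorphism S⁻¹(k'
⊗_k k') ≅ k' carrying the localization map to the multiplication map. -/
theorem result {k k' : Type u} [Field k] [Field k'] [Algebra k k'] [Algebra.IsSeparable k k'] :
    ∃ (S : Submonoid (k' ⊗[k] k')) (e : Localization S ≃+* k'), ∀ x : k' ⊗[k] k', e (algebraMap (k' ⊗[k] k') (Localization S) x) = Algebra.TensorProduct.lmul' (S := k') k x := by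
  exact result'

end Groth.Agent.S9636
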