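import Groth.Statements.S9637
import Mathlib.RingTheory.Regular.IsSMulRegular
import Mathlib.RingTheory.Ideal.AssociatedPrime.Finiteness

set_option autoImplicit false
universe u
open CAlg

namespace Groth.Agent.S9637

/-- Let R be a local Noetherian ring, I an ideal contained in its maximal ideal, and M a finite
R-module. Then I contains an M-regular element (one acting injectively on M) if and only if no
associated prime of M contains I. -/
theorem result {R : Type u} [CommRing R] [IsNoetherianRing R] [IsLocalRing R] (I : Ideal R) (hI : I ≤ IsLocalRing.maximalIdeal R) (M : Type u) [AddCommGroup M] [Module R M] [Module.Finite R M] :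
    (∃ x ∈ I, IsSMulRegular M x) ↔ ∀ q ∈ associatedPrimes R M, ¬ I ≤ q := by
  have hU := biUnion_associatedPrimes_eq_compl_regular R M
  constructor
  · rintro ⟨x, hxI, hx⟩ q hq hIq
    have : x ∈ ⋃ p ∈ associatedPrimes R M, (p : Set R) :=
      Set.mem_biUnion hq (hIq hxI)
    rw [hU] at this
    exact this hx
  · intro h
    by_contra hcon
    push Not at hcon
    have hsub : (I : Set R) ⊆ ⋃ p ∈ associatedPrimes R M, (id p : Ideal R) := by
      intro x hx
      have : x ∈ { r : R | IsSMulRegular M r }ᶜ := fun hr => hcon x hx hr
      rw [← hU] at this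
      exact this
    obtain ⟨P, hP, hIP⟩ := (I.subset_union_prime_finite (associatedPrimes.finite R M) (f := id) 0 0
      fun _ h _ _ ↦ h.isPrime).1 hsub
    exact h P hP hIP

end Groth.Agent.S9637
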