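import Groth.Statements.S9639
import Mathlib.RingTheory.Flat.Basic
import Mathlib.LinearAlgebra.Basis.VectorSpace

set_option autoImplicit false
universe u
open CAlg

namespace Groth.Agent.S9639

open TensorProduct in
/-- Let k be a field and S a k-algebra such that Spec(k' ⊗_k S) is connected for every field extension
k'/k. Then every k-subalgebra of S has the same property. Here the test fields range over field
extensions in the universe of k; this is equivalent to the unrestricted notion, since an algebraic
closure of k suffices as a test. -/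
theorem result {k S : Type u} [Field k] [CommRing S] [Algebra k S]
    (hS : ∀ (k' : Type u) [Field k'] [Algebra k k'], ConnectedSpace (PrimeSpectrum (k' ⊗[k] S))) (S' : Subalgebra k S) :
    ∀ (k' : Type u) [Field k'] [Algebra k k'], ConnectedSpace (PrimeSpectrum (k' ⊗[k] S')) := by
  intro k' _ _
  have hS' := hS k'
  let φ : k' ⊗[k] S' →ₐ[k'] k' ⊗[k] S := Algebra.TensorProduct.map (AlgHom.id k' k') S'.val
  have hφ : Function.Injective φ :=
    Module.Flat.lTensor_preserves_injective_linearMap (M := k') S'.val.toLinearMap
      Subtype.val_injective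
  rw [connectedSpace_iff_clopen] at hS' ⊢
  obtain ⟨hne, hcl⟩ := hS'
  have hntB : Nontrivial (k' ⊗[k] S) := by
    obtain ⟨x⟩ := hne
    exact x.nontrivial
  have hnt : Nontrivial (k' ⊗[k] S') := by
    refine ⟨⟨0, 1, fun h01 => ?_⟩⟩
    have := congrArg φ h01
    rw [map_zero, map_one] at this
    exact zero_ne_one this
  refine ⟨inferInstance, ?_⟩
  intro s hs
  obtain ⟨e, he, rfl⟩ := PrimeSpectrum.isClopen_iff.1 hs
  have hφe : IsIdempotentElem (φ e) := he.map φ
  have hcl' := hcl (PrimeSpectrum.basicOpen (φ e))
    (PrimeSpectrum.isClopen_iff.2 ⟨φ e, hφe, rfl⟩)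
  rcases hcl' with h0 | h1
  · left
    have : PrimeSpectrum.basicOpen (φ e) = PrimeSpectrum.basicOpen (0 : k' ⊗[k] S) := by
      apply SetLike.coe_injective
      rw [h0, PrimeSpectrum.basicOpen_zero]
      rfl
    have h2 : φ e = 0 :=
      PrimeSpectrum.basicOpen_injOn_isIdempotentElem hφe IsIdempotentElem.zero this
    have h3 : e = 0 := hφ (by rw [h2, map_zero])
    rw [h3, PrimeSpectrum.basicOpen_zero]
    rfl
  · right
    have : PrimeSpectrum.basicOpen (φ e) = PrimeSpectrum.basicOpen (1 : k' ⊗[k] S) := by
      apply SetLike.coe_injective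
      rw [h1, PrimeSpectrum.basicOpen_one]
      rfl
    have h2 : φ e = 1 :=
      PrimeSpectrum.basicOpen_injOn_isIdempotentElem hφe IsIdempotentElem.one this
    have h3 : e = 1 := hφ (by rw [h2, map_one])
    rw [h3, PrimeSpectrum.basicOpen_one]
    rfl

end Groth.Agent.S9639
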