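import Groth.Statements.S9641
import Mathlib.RingTheory.Flat.Basic
import Mathlib.LinearAlgebra.Basis.VectorSpace
import Mathlib.LinearAlgebra.TensorProduct.Finiteness

set_option autoImplicit false
universe u
open CAlg

namespace Groth.Agent.S9641

open TensorProduct in
/-- Let k be a field and R, S two k-algebras. If R ⊗_k S is not reduced then there are finitely
generated k-subalgebras R' ⊆ R and S' ⊆ S such that R' ⊗_k S' is not reduced. -/
theorem result {k R S : Type u} [Field k] [CommRing R] [CommRing S] [Algebra k R] [Algebra k S] (h : ¬ IsReduced (R ⊗[k] S)) :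
    ∃ (R' : Subalgebra k R) (S' : Subalgebra k S), R'.FG ∧ S'.FG ∧ ¬ IsReduced (R' ⊗[k] S') := by
  classical
  have hz : ∃ z : R ⊗[k] S, IsNilpotent z ∧ z ≠ 0 := by
    by_contra hcon
    push Not at hcon
    exact h ⟨fun z hz => hcon z hz⟩
  obtain ⟨z, ⟨n, hn⟩, hz0⟩ := hz
  obtain ⟨t, ht⟩ := TensorProduct.exists_finset z
  set R' : Subalgebra k R := Algebra.adjoin k ((t.image Prod.fst : Finset R) : Set R) with hR'
  set S' : Subalgebra k S := Algebra.adjoin k ((t.image Prod.snd : Finset S) : Set S) with hS'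
  refine ⟨R', S', ⟨_, rfl⟩, ⟨_, rfl⟩, ?_⟩
  have hR'mem : ∀ i ∈ t, i.1 ∈ R' := fun i hi =>
    Algebra.subset_adjoin (by simpa using ⟨i.2, hi⟩)
  have hS'mem : ∀ i ∈ t, i.2 ∈ S' := fun i hi =>
    Algebra.subset_adjoin (by simpa using ⟨i.1, hi⟩)
  let φ : R' ⊗[k] S' →ₐ[k] R ⊗[k] S := Algebra.TensorProduct.map R'.val S'.val
  have hφ : Function.Injective φ :=
    TensorProduct.map_injective_of_flat_flat R'.val.toLinearMap S'.val.toLinearMap
      Subtype.val_injective Subtype.val_injective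
  let z' : R' ⊗[k] S' := ∑ i ∈ t.attach,
    ((⟨i.1.1, hR'mem i.1 i.2⟩ : R') ⊗ₜ[k] (⟨i.1.2, hS'mem i.1 i.2⟩ : S'))
  have hz' : φ z' = z := by
    rw [ht, ← Finset.sum_attach, map_sum]
    rfl
  intro hred
  have h1 : z' ^ n = 0 := hφ (by rw [map_pow, hz', hn, map_zero])
  have h2 : z' = 0 := hred.eq_zero z' ⟨n, h1⟩
  apply hz0
  rw [← hz', h2, map_zero]

end Groth.Agent.S9641
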