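import Groth.Statements.S9642
-- import your own Groth.Agent.* helpers here

set_option autoImplicit false
universe u
open CAlg

namespace Groth.Agent.S9642

/-- In the general form stated there: let R → S be a ring map inducing an open map Spec(S) → Spec(R),
with Spec(R) irreducible, such that for a dense set of primes p of R the fibre ring κ(p) ⊗_R S has
irreducible spectrum. Then Spec(S) is irreducible. The flat and finitely presented case is the
special case in which the map on spectra is open by fppf-openness. -/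
theorem result {R S : Type u} [CommRing R] [CommRing S] [Algebra R S]
    (hopen : IsOpenMap (PrimeSpectrum.comap (algebraMap R S))) [IrreducibleSpace (PrimeSpectrum R)]
    (D : Set (PrimeSpectrum R)) (hD : Dense D) (hfib : ∀ p ∈ D, IrreducibleSpace (PrimeSpectrum (p.asIdeal.Fiber S))) :
    IrreducibleSpace (PrimeSpectrum S) := by
  set f := PrimeSpectrum.comap (algebraMap R S) with hf
  have hfibirr : ∀ p ∈ D, IsIrreducible (f ⁻¹' {p}) := by
    intro p hp
    have h1 := hfib p hp
    have h2 : IrreducibleSpace (f ⁻¹' {p}) :=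
      (PrimeSpectrum.preimageHomeomorphFiber R S p).irreducibleSpace_iff.2 h1
    exact IsIrreducible.of_subtype
  obtain ⟨p0, hp0⟩ := hD.nonempty
  obtain ⟨x0, hx0⟩ := (hfibirr p0 hp0).nonempty
  refine { toNonempty := ⟨x0⟩, isPreirreducible_univ := ?_ }
  rintro U V hU hV ⟨x, -, hxU⟩ ⟨y, -, hyV⟩
  have hfU := hopen U hU
  have hfV := hopen V hV
  have hne : (f '' U ∩ f '' V).Nonempty :=
    nonempty_preirreducible_inter hfU hfV ⟨f x, x, hxU, rfl⟩ ⟨f y, y, hyV, rfl⟩
  obtain ⟨p, hpUV, hpD⟩ := hD.inter_open_nonempty _ (hfU.inter hfV) hne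
  obtain ⟨⟨x', hx'U, hx'p⟩, ⟨y', hy'V, hy'p⟩⟩ := hpUV
  obtain ⟨z, hz, hzU, hzV⟩ := (hfibirr p hpD).isPreirreducible U V hU hV
    ⟨x', hx'p, hx'U⟩ ⟨y', hy'p, hy'V⟩
  exact ⟨z, trivial, hzU, hzV⟩

end Groth.Agent.S9642
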