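import Groth.Statements.S9643
-- import your own Groth.Agent.* helpers here

set_option autoImplicit false
universe u
open CAlg

namespace Groth.Agent.S9643

/-- Let R be a Noetherian ring, M a finite R-module and 0 = M_0 ⊆ M_1 ⊆ ⋯ ⊆ M_n = M a chain of
submodules whose successive quotients M_i/M_{i-1} are isomorphic to R/p_i for prime ideals p_i. Then
the primes minimal among p_1, …, p_n are exactly the primes minimal in the support of M. -/
theorem result {R : Type u} [CommRing R] [IsNoetherianRing R] (M : Type u) [AddCommGroup M] [Module R M] [Module.Finite R M]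
    {n : ℕ} (N : Fin (n + 1) → Submodule R M) (hN : Monotone N) (h0 : N 0 = ⊥) (hlast : N (Fin.last n) = ⊤)
    (p : Fin n → PrimeSpectrum R)
    (hquot : ∀ i : Fin n, Nonempty ((↥(N i.succ) ⧸ Submodule.comap (N i.succ).subtype (N i.castSucc)) ≃ₗ[R] (R ⧸ (p i).asIdeal))) :
    {q : PrimeSpectrum R | Minimal (fun x => x ∈ Set.range p) q} = {q : PrimeSpectrum R | Minimal (fun x => x ∈ Module.support R M) q} := by
  have key : ∀ i : Fin (n + 1), Module.support R (N i) =
      ⋃ (j : Fin n) (_ : j.castSucc < i), PrimeSpectrum.zeroLocus ((p j).asIdeal : Set R) := by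
    intro i
    induction i using Fin.induction with
    | zero =>
      rw [h0, Module.support_eq_empty]
      simp
    | succ i ih =>
      obtain ⟨e⟩ := hquot i
      have hle : N i.castSucc ≤ N i.succ := hN (Fin.castSucc_lt_succ (i := i)).le
      have hex := LinearMap.exact_subtype_mkQ (Submodule.comap (N i.succ).subtype (N i.castSucc))
      rw [Module.support_of_exact hex (Submodule.injective_subtype _) (Submodule.mkQ_surjective _),
        (Submodule.comapSubtypeEquivOfLe hle).support_eq, ih, e.support_eq,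
        Module.support_of_algebra]
      have hker : RingHom.ker (algebraMap R (R ⧸ (p i).asIdeal)) = (p i).asIdeal := by
        rw [Ideal.Quotient.algebraMap_eq, Ideal.mk_ker]
      rw [hker]
      ext q
      simp only [Set.mem_union, Set.mem_iUnion, Fin.castSucc_lt_castSucc_iff,
        Fin.castSucc_lt_succ_iff, exists_prop]
      constructor
      · rintro (⟨j, hj, hq⟩ | hq)
        · exact ⟨j, hj.le, hq⟩
        · exact ⟨i, le_rfl, hq⟩
      · rintro ⟨j, hj, hq⟩
        rcases hj.lt_or_eq with hlt | rfl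
        · exact Or.inl ⟨j, hlt, hq⟩
        · exact Or.inr hq
  have hsupp : Module.support R M = ⋃ j : Fin n, PrimeSpectrum.zeroLocus ((p j).asIdeal : Set R) := by
    rw [← (Submodule.topEquiv (R := R) (M := M)).support_eq, ← hlast, key]
    ext q
    simp [Fin.castSucc_lt_last]
  have hmem : ∀ q : PrimeSpectrum R, q ∈ Module.support R M ↔ ∃ j, p j ≤ q := by
    intro q
    rw [hsupp]
    simp only [Set.mem_iUnion, PrimeSpectrum.mem_zeroLocus, SetLike.coe_subset_coe]
    rfl
  ext q
  simp only [Set.mem_ofPred_eq]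
  constructor
  · rintro ⟨⟨i, rfl⟩, hmin⟩
    refine ⟨(hmem _).2 ⟨i, le_rfl⟩, ?_⟩
    intro q' hq' hle
    obtain ⟨j, hj⟩ := (hmem q').1 hq'
    exact (hmin ⟨j, rfl⟩ (hj.trans hle)).trans hj
  · rintro ⟨hq, hmin⟩
    obtain ⟨j, hj⟩ := (hmem q).1 hq
    have hjs : p j ∈ Module.support R M := (hmem _).2 ⟨j, le_rfl⟩
    have hqj : q = p j := le_antisymm (hmin hjs hj) hj
    refine ⟨⟨j, hqj.symm⟩, ?_⟩
    rintro q' ⟨i, rfl⟩ hle
    exact hmin ((hmem _).2 ⟨i, le_rfl⟩) hle

end Groth.Agent.S9643
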