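import Groth.Statements.S9645
import Mathlib.RingTheory.Localization.Integral

set_option autoImplicit false
universe u
open CAlg

namespace Groth.Agent.S9645

/-- Integral closure commutes with localization. Let A → B be a ring map, S a multiplicative subset of
A, and A_S, B_S the localizations of A at S and of B at the image of S. Then an element x of B_S is
integral over A_S if and only if x·s = b for some s ∈ S and some b ∈ B integral over A (images taken
in B_S); that is, the integral closure of A_S in B_S is S⁻¹B' for B' the integral closure of A in B. -/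
theorem result {A B As Bs : Type u} [CommRing A] [CommRing B] [CommRing As] [CommRing Bs] [Algebra A B] [Algebra A As] [Algebra B Bs] [Algebra As Bs] [Algebra A Bs] [IsScalarTower A B Bs] [IsScalarTower A As Bs]
    (S : Submonoid A) [IsLocalization S As] [IsLocalization (Algebra.algebraMapSubmonoid B S) Bs] (x : Bs) :
    IsIntegral As x ↔ ∃ b : B, IsIntegral A b ∧ ∃ s ∈ S, x * algebraMap A Bs s = algebraMap B Bs b := by
  constructor
  · intro hx
    obtain ⟨m, hm⟩ := IsIntegral.exists_multiple_integral_of_isLocalization S x hx
    obtain ⟨⟨b', t⟩, hbt⟩ := IsLocalization.surj (Algebra.algebraMapSubmonoid B S) ((m : A) • x)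
    obtain ⟨t0, ht0S, ht0⟩ := t.2
    have h1 : IsIntegral A (algebraMap B Bs b') := by
      have : algebraMap B Bs b' = t0 • ((m : A) • x) := by
        rw [← hbt]
        simp only
        rw [← ht0, ← IsScalarTower.algebraMap_apply, Algebra.smul_def t0, mul_comm]
      rw [this]
      exact IsIntegral.smul t0 hm
    obtain ⟨m', hm'S, hm'⟩ := IsLocalization.exists_isIntegral_smul_of_isIntegral_map S h1
    refine ⟨m' • b', hm', m' * t0 * m, S.mul_mem (S.mul_mem hm'S ht0S) m.2, ?_⟩
    rw [Algebra.smul_def m' b', map_mul (algebraMap B Bs), ← hbt]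
    simp only
    rw [← ht0, ← IsScalarTower.algebraMap_apply, ← IsScalarTower.algebraMap_apply,
      Algebra.smul_def (m : A) x, map_mul, map_mul]
    ring
  · rintro ⟨b, hb, s, hs, hxs⟩
    have h1 : IsIntegral As (algebraMap B Bs b) :=
      (hb.map (IsScalarTower.toAlgHom A B Bs)).tower_top
    obtain ⟨v, hv⟩ := isUnit_iff_exists_inv.1 (IsLocalization.map_units As ⟨s, hs⟩)
    have h2 : x = algebraMap B Bs b * algebraMap As Bs v := by
      rw [← hxs, IsScalarTower.algebraMap_apply A As Bs, mul_assoc, ← map_mul]
      simp only at hv
      rw [hv, map_one, mul_one]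
    rw [h2]
    exact h1.mul isIntegral_algebraMap

end Groth.Agent.S9645
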