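import Groth.Statements.S9646
import Mathlib.RingTheory.Localization.Integral
import Mathlib.RingTheory.Localization.AtPrime.Basic

set_option autoImplicit false
universe u
open CAlg

namespace Groth.Agent.S9646

/-- (2) ⇒ (1): let R → S be a ring map and x ∈ S. If for every prime ideal p of R the image of x in S_p
(the localization of S at the image of R ∖ p) is integral over R_p, then x is integral over R. Here
R_p and S_p are any rings satisfying the localization universal properties. -/
theorem result {R S : Type u} [CommRing R] [CommRing S] [Algebra R S] (x : S)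
    (h : ∀ (p : Ideal R) [p.IsPrime] (Rp Sp : Type u) [CommRing Rp] [CommRing Sp] [Algebra R Rp] [Algebra S Sp] [Algebra Rp Sp] [Algebra R Sp] [IsScalarTower R S Sp] [IsScalarTower R Rp Sp] [IsLocalization.AtPrime Rp p] [IsLocalization (Algebra.algebraMapSubmonoid S p.primeCompl) Sp], IsIntegral Rp (algebraMap S Sp x)) :
    IsIntegral R x := by
  set I : Ideal R := Submodule.comap (LinearMap.toSpanSingleton R S x)
    (integralClosure R S).toSubmodule with hI
  have hmem : ∀ r : R, r ∈ I ↔ IsIntegral R (r • x) := by
    intro r
    rw [hI, Submodule.mem_comap]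
    rfl
  suffices h1 : (1 : R) ∈ I by
    have := (hmem 1).1 h1
    rwa [one_smul] at this
  rw [← Ideal.eq_top_iff_one]
  by_contra hne
  obtain ⟨M, hM, hIM⟩ := Ideal.exists_le_maximal I hne
  have : M.IsPrime := hM.isPrime
  have h2 := h M (Localization.AtPrime M) (Localization (Algebra.algebraMapSubmonoid S M.primeCompl))
  obtain ⟨m, hm⟩ := IsIntegral.exists_multiple_integral_of_isLocalization M.primeCompl _ h2
  have h3 : IsIntegral R (algebraMap S (Localization (Algebra.algebraMapSubmonoid S M.primeCompl))
      ((m : R) • x)) := by
    rw [Algebra.smul_def, map_mul, ← IsScalarTower.algebraMap_apply, ← Algebra.smul_def]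
    exact hm
  obtain ⟨m', hm'S, hm'⟩ := IsLocalization.exists_isIntegral_smul_of_isIntegral_map M.primeCompl h3
  have h4 : m' * m ∈ I := by
    rw [hmem, mul_smul]
    exact hm'
  exact (M.primeCompl.mul_mem hm'S m.2) (hIM h4)

end Groth.Agent.S9646
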