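import Groth.Statements.S9647
import Mathlib.RingTheory.Invariant.Profinite
import Mathlib.FieldTheory.Galois.Profinite
import Mathlib.FieldTheory.Galois.Infinite
import Mathlib.FieldTheory.KrullTopology
import Mathlib.FieldTheory.IsSepClosed
import Mathlib.LinearAlgebra.TensorProduct.Basis
import Mathlib.RingTheory.TensorProduct.Basic
import Mathlib.Tactic

set_option autoImplicit false
universe u
open CAlg

namespace Groth.Agent.S9647

open TensorProduct


section action

variable {k : Type u} [Field k] (L K : Type u) [Field L] [Field K] [Algebra k L] [Algebra k K]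

/-- the action homomorphism `σ ↦ σ ⊗ id` -/
noncomputable def actHom : (L ≃ₐ[k] L) →* RingAut (L ⊗[k] K) where
  toFun σ := (Algebra.TensorProduct.congr σ (AlgEquiv.refl : K ≃ₐ[k] K)).toRingEquiv
  map_one' := by
    ext x
    induction x using TensorProduct.induction_on with
    | zero => simp
    | tmul a b => simp
    | add a b ha hb => simp only [map_add, ha, hb]
  map_mul' σ τ := by
    ext x
    induction x using TensorProduct.induction_on with
    | zero => simp
    | tmul a b => simp
    | add a b ha hb => simp only [map_add, ha, hb]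

theorem actHom_tmul (σ : L ≃ₐ[k] L) (a : L) (b : K) : actHom L K σ (a ⊗ₜ[k] b) = σ a ⊗ₜ[k] b := by
  simp [actHom]

theorem actHom_apply (σ : L ≃ₐ[k] L) (x : L ⊗[k] K) :
    actHom L K σ x = Algebra.TensorProduct.map (σ : L →ₐ[k] L) (AlgHom.id k K) x := by
  induction x using TensorProduct.induction_on with
  | zero => simp
  | tmul a b => simp [actHom]
  | add a b ha hb => simp only [map_add, ha, hb]

theorem smul_eq_actHom (σ : L ≃ₐ[k] L) (x : L ⊗[k] K) : σ • x = actHom L K σ x := by
  induction x using TensorProduct.induction_on with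
  | zero => simp
  | tmul a b => rw [actHom_tmul, TensorProduct.smul_tmul']; rfl
  | add a b ha hb => rw [smul_add, ha, hb, map_add]

/-- The Galois group acts on `L ⊗ K` by ring automorphisms (same scalar action as Mathlib's left action). -/
noncomputable instance mulSemiringAction : MulSemiringAction (L ≃ₐ[k] L) (L ⊗[k] K) :=
  { TensorProduct.leftDistribMulAction with
    smul_one := fun σ => by rw [smul_eq_actHom, map_one]
    smul_mul := fun σ x y => by rw [smul_eq_actHom, smul_eq_actHom, smul_eq_actHom, map_mul] }

end action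

section main

variable {k : Type u} [Field k] (L K : Type u) [Field L] [Field K] [Algebra k L] [Algebra k K]

attribute [local instance] Algebra.TensorProduct.rightAlgebra

theorem algebraMap_right (c : K) : algebraMap K (L ⊗[k] K) c = (1 : L) ⊗ₜ[k] c := rfl

instance smulCommClass : SMulCommClass (L ≃ₐ[k] L) K (L ⊗[k] K) where
  smul_comm σ c x := by
    rw [Algebra.smul_def, Algebra.smul_def, smul_mul', algebraMap_right, TensorProduct.smul_tmul']
    congr 2
    exact map_one σ

theorem stabilizer_isOpen [Algebra.IsIntegral k L] (x : L ⊗[k] K) :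
    IsOpen (MulAction.stabilizer (L ≃ₐ[k] L) x : Set (L ≃ₐ[k] L)) := by
  induction x using TensorProduct.induction_on with
  | zero =>
    have : MulAction.stabilizer (L ≃ₐ[k] L) (0 : L ⊗[k] K) = ⊤ := by
      ext σ; simp
    rw [this]; exact isOpen_univ
  | tmul a b =>
    refine Subgroup.isOpen_mono (H₁ := MulAction.stabilizer (L ≃ₐ[k] L) a) ?_
      (stabilizer_isOpen_of_isIntegral a)
    intro σ hσ
    rw [MulAction.mem_stabilizer_iff] at hσ ⊢
    rw [TensorProduct.smul_tmul', hσ]
  | add x y hx hy =>
    refine Subgroup.isOpen_mono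
      (H₁ := MulAction.stabilizer (L ≃ₐ[k] L) x ⊓ MulAction.stabilizer (L ≃ₐ[k] L) y) ?_
      (by rw [Subgroup.coe_inf]; exact hx.inter hy)
    intro σ hσ
    rw [Subgroup.mem_inf, MulAction.mem_stabilizer_iff, MulAction.mem_stabilizer_iff] at hσ
    rw [MulAction.mem_stabilizer_iff, smul_add, hσ.1, hσ.2]

theorem equiv_smul {ι : Type*} [DecidableEq ι] (e : Module.Basis ι k K) (σ : L ≃ₐ[k] L) (x : L ⊗[k] K) (i : ι) :
    TensorProduct.equivFinsuppOfBasisRight e (σ • x) i = σ (TensorProduct.equivFinsuppOfBasisRight e x i) := by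
  induction x using TensorProduct.induction_on with
  | zero => simp
  | tmul a b =>
    rw [TensorProduct.smul_tmul', TensorProduct.equivFinsuppOfBasisRight_apply_tmul_apply,
      TensorProduct.equivFinsuppOfBasisRight_apply_tmul_apply, map_smul]
    rfl
  | add x y hx hy => simp only [smul_add, map_add, Finsupp.add_apply, hx, hy]

theorem isInvariant [IsGalois k L] : Algebra.IsInvariant K (L ⊗[k] K) (L ≃ₐ[k] L) := by
  classical
  constructor
  intro b hb
  let e := Module.Free.chooseBasis k K
  let Φ := TensorProduct.equivFinsuppOfBasisRight (M := L) e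
  have hfix : ∀ i, Φ b i ∈ Set.range (algebraMap k L) := by
    intro i
    rw [InfiniteGalois.mem_range_algebraMap_iff_fixed]
    intro σ
    rw [← equiv_smul, hb σ]
  choose d hd using hfix
  refine ⟨∑ i ∈ (Φ b).support, d i • e i, ?_⟩
  have hb2 : (1 : L) ⊗ₜ[k] (∑ i ∈ (Φ b).support, d i • e i) = b := by
    conv_rhs => rw [← Φ.symm_apply_apply b]
    rw [TensorProduct.equivFinsuppOfBasisRight_symm_apply, Finsupp.sum, TensorProduct.tmul_sum]
    refine Finset.sum_congr rfl fun i _ => ?_
    rw [← hd i, Algebra.algebraMap_eq_smul_one, TensorProduct.smul_tmul]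
  exact hb2

end main

section final

open scoped Pointwise

attribute [local instance] Algebra.TensorProduct.rightAlgebra

theorem result' {k K : Type u} [Field k] [Field K] [Algebra k K]
    (P Q : Ideal (SeparableClosure k ⊗[k] K)) [P.IsPrime] [Q.IsPrime] :
    ∃ σ : SeparableClosure k ≃ₐ[k] SeparableClosure k, Q = P.comap (Algebra.TensorProduct.map
      (σ : SeparableClosure k →ₐ[k] SeparableClosure k) (AlgHom.id k K)) := by
  let _ : TopologicalSpace (SeparableClosure k ⊗[k] K) := ⊥
  have : DiscreteTopology (SeparableClosure k ⊗[k] K) := ⟨rfl⟩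
  have : ContinuousSMul (SeparableClosure k ≃ₐ[k] SeparableClosure k) (SeparableClosure k ⊗[k] K) :=
    continuousSMul_iff_stabilizer_isOpen.mpr (stabilizer_isOpen (SeparableClosure k) K)
  have := isInvariant (k := k) (SeparableClosure k) K
  have h1 : ∀ (I : Ideal (SeparableClosure k ⊗[k] K)) [I.IsPrime], I.under K = ⊥ := fun I _ => by
    rcases Ideal.eq_bot_or_top (I.under K) with h | h
    · exact h
    · exfalso
      have hp : (I.under K).IsPrime := inferInstance
      exact hp.ne_top h
  have hPQ : P.under K = Q.under K := by rw [h1 P, h1 Q]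
  obtain ⟨g, hg⟩ : ∃ g : (SeparableClosure k ≃ₐ[k] SeparableClosure k), Q = g • P :=
    Algebra.IsInvariant.exists_smul_of_under_eq_of_profinite (A := K) (B := SeparableClosure k ⊗[k] K)
      (G := SeparableClosure k ≃ₐ[k] SeparableClosure k) P Q hPQ
  refine ⟨g⁻¹, ?_⟩
  rw [hg]
  ext x
  rw [Ideal.mem_pointwise_smul_iff_inv_smul_mem, Ideal.mem_comap, smul_eq_actHom, actHom_apply]

end final



open TensorProduct in
/-- Let K/k be a field extension and k^sep a separable algebraic closure of k. Then the automorphism
group of k^sep over k acts transitively on the primes of k^sep ⊗_k K: for any two primes P, Q there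
is a k-automorphism σ of k^sep with Q the inverse image of P under σ ⊗ id_K. -/
theorem result {k K : Type u} [Field k] [Field K] [Algebra k K]
    (P Q : Ideal (SeparableClosure k ⊗[k] K)) [P.IsPrime] [Q.IsPrime] :
    ∃ σ : SeparableClosure k ≃ₐ[k] SeparableClosure k, Q = P.comap (Algebra.TensorProduct.map (σ : SeparableClosure k →ₐ[k] SeparableClosure k) (AlgHom.id k K)) := by
  exact result' P Q

end Groth.Agent.S9647
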