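import Groth.Statements.S9648
import Mathlib

set_option autoImplicit false
universe u
open CAlg

namespace Groth.Agent.S9648

section helpers
open TensorProduct


attribute [local instance] Algebra.TensorProduct.rightAlgebra

section
variable {R S : Type u} [CommRing R] [CommRing S] [Algebra R S] (N : Type u) [AddCommGroup N]
  [Module S N] [Module R N] [IsScalarTower R S N] (p : Ideal R) [p.IsPrime]

theorem exists_smul_residueField (k : p.ResidueField) :
    ∃ t ∉ p, ∃ a : R, t • k = algebraMap R p.ResidueField a := by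
  obtain ⟨y, rfl⟩ := IsLocalRing.residue_surjective k
  obtain ⟨⟨a, t⟩, rfl⟩ := IsLocalization.mk'_surjective p.primeCompl y
  refine ⟨t, t.2, a, ?_⟩
  rw [Algebra.smul_def, IsScalarTower.algebraMap_apply R (Localization.AtPrime p) p.ResidueField,
    IsLocalRing.ResidueField.algebraMap_eq, ← map_mul, mul_comm, IsLocalization.mk'_spec,
    IsScalarTower.algebraMap_apply R (Localization.AtPrime p) p.ResidueField,
    IsLocalRing.ResidueField.algebraMap_eq]

omit [Module S N] [IsScalarTower R S N] in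
theorem exists_smul_eq_tmul_one (x : N ⊗[R] p.ResidueField) :
    ∃ r ∉ p, ∃ n : N, r • x = n ⊗ₜ[R] (1 : p.ResidueField) := by
  induction x with
  | zero => exact ⟨1, p.primeCompl.one_mem, 0, by simp⟩
  | tmul n k =>
    obtain ⟨t, ht, a, hta⟩ := exists_smul_residueField p k
    refine ⟨t, ht, a • n, ?_⟩
    rw [TensorProduct.smul_tmul', TensorProduct.smul_tmul, hta, Algebra.algebraMap_eq_smul_one,
      ← TensorProduct.smul_tmul]
  | add x y hx hy =>
    obtain ⟨r₁, h₁, n₁, e₁⟩ := hx
    obtain ⟨r₂, h₂, n₂, e₂⟩ := hy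
    refine ⟨r₁ * r₂, p.primeCompl.mul_mem h₁ h₂, r₂ • n₁ + r₁ • n₂, ?_⟩
    rw [smul_add, mul_comm r₁ r₂, mul_smul, e₁, mul_comm r₂ r₁, mul_smul, e₂, TensorProduct.add_tmul,
      TensorProduct.smul_tmul', TensorProduct.smul_tmul']

/-- `(κ(p) ⊗ S) ⊗_S N ≃ N ⊗_R κ(p)`. -/
noncomputable def fibEquiv : (p.Fiber S) ⊗[S] N ≃ₗ[S] N ⊗[R] p.ResidueField :=
  (TensorProduct.comm S (p.Fiber S) N) ≪≫ₗ
    (TensorProduct.congr (LinearEquiv.refl S N)
      (Algebra.TensorProduct.commRight R S p.ResidueField).symm.toLinearEquiv) ≪≫ₗ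
    TensorProduct.AlgebraTensorModule.cancelBaseChange R S S N p.ResidueField

theorem fibEquiv_tmul (k : p.ResidueField) (s : S) (n : N) :
    fibEquiv N p ((k ⊗ₜ[R] s) ⊗ₜ[S] n) = (s • n) ⊗ₜ[R] k := by
  simp [fibEquiv]

theorem fibEquiv_one_tmul (n : N) :
    fibEquiv N p ((1 : p.Fiber S) ⊗ₜ[S] n) = n ⊗ₜ[R] (1 : p.ResidueField) := by
  rw [Algebra.TensorProduct.one_def, fibEquiv_tmul, one_smul]

/-- every element of the fibre module is a unit multiple of some `1 ⊗ n` -/
theorem exists_smul_eq_one_tmul (ξ : (p.Fiber S) ⊗[S] N) :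
    ∃ r ∉ p, ∃ n : N, (algebraMap R S r) • ξ = (1 : p.Fiber S) ⊗ₜ[S] n := by
  obtain ⟨r, hr, n, hn⟩ := exists_smul_eq_tmul_one N p (fibEquiv N p ξ)
  refine ⟨r, hr, n, ?_⟩
  apply (fibEquiv N p).injective
  rw [map_smul, fibEquiv_one_tmul, algebraMap_smul, hn]

end


theorem main {R S : Type u} [CommRing R] [CommRing S] [Algebra R S] (M : Type u) [AddCommGroup M]
    [Module R M] (N : Type u) [AddCommGroup N] [Module S N] [Module R N] [IsScalarTower R S N]
    [Module.Flat R N] (p : Ideal R) [p.IsPrime] (hp : p ∈ FlatCA.ass R M) (Q : Ideal (p.Fiber S))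
    (hQ : Q ∈ FlatCA.ass (p.Fiber S) (FlatCA.fiberMod p S N)) :
    Q.comap (Algebra.TensorProduct.includeRight (R := R) (A := p.ResidueField) (B := S)).toRingHom ∈
      FlatCA.ass S (N ⊗[R] M) := by
  obtain ⟨-, m, hm⟩ := hp
  obtain ⟨hQp, ξ', hξ'⟩ := hQ
  obtain ⟨ξ, hξ⟩ : ∃ ξ : (p.Fiber S) ⊗[S] N,
      Q = (Submodule.span (p.Fiber S) {ξ}).annihilator := ⟨ξ', hξ'⟩
  obtain ⟨r, hr, n, hn⟩ := exists_smul_eq_one_tmul N p ξ
  have hu : IsUnit (algebraMap S (p.Fiber S) (algebraMap R S r)) := by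
    have h1 : IsUnit (algebraMap R p.ResidueField r) := by
      rw [isUnit_iff_ne_zero, Ne, Ideal.algebraMap_residueField_eq_zero]
      exact hr
    have h2 := h1.map (Algebra.TensorProduct.includeLeft (R := R) (S := R) (A := p.ResidueField)
      (B := S))
    convert h2 using 1
    change (1 : p.ResidueField) ⊗ₜ[R] (algebraMap R S r) = (algebraMap R p.ResidueField r) ⊗ₜ[R] 1
    rw [Algebra.algebraMap_eq_smul_one, Algebra.algebraMap_eq_smul_one, TensorProduct.smul_tmul]
  -- `Q` is the annihilator of `1 ⊗ n`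
  have hQ' : ∀ a : p.Fiber S, a ∈ Q ↔ a • ((1 : p.Fiber S) ⊗ₜ[S] n) = 0 := by
    intro a
    rw [hξ, Submodule.mem_annihilator_span_singleton, ← hn,
      ← algebraMap_smul (p.Fiber S) (algebraMap R S r) ξ, smul_comm, hu.smul_eq_zero]
  -- the two injections
  let j₁ : (R ⧸ p) →ₗ[R] M := Submodule.liftQ p (LinearMap.toSpanSingleton R M m) (by
    intro x hx
    rw [LinearMap.mem_ker, LinearMap.toSpanSingleton_apply]
    rw [hm, Submodule.mem_annihilator_span_singleton] at hx
    exact hx)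
  have hj₁ : Function.Injective j₁ := by
    rw [← LinearMap.ker_eq_bot]
    apply Submodule.ker_liftQ_eq_bot
    intro x hx
    rw [LinearMap.mem_ker, LinearMap.toSpanSingleton_apply] at hx
    rw [hm, Submodule.mem_annihilator_span_singleton]
    exact hx
  let j₂ : (R ⧸ p) →ₗ[R] p.ResidueField :=
    (IsScalarTower.toAlgHom R (R ⧸ p) p.ResidueField).toLinearMap
  have hj₂ : Function.Injective j₂ := Ideal.injective_algebraMap_quotient_residueField p
  have hι₁ : Function.Injective (j₁.lTensor N) :=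
    Module.Flat.lTensor_preserves_injective_linearMap j₁ hj₁
  have hι₂ : Function.Injective (j₂.lTensor N) :=
    Module.Flat.lTensor_preserves_injective_linearMap j₂ hj₂
  refine ⟨Ideal.comap_isPrime _ Q, n ⊗ₜ[R] m, ?_⟩
  ext s
  rw [Submodule.mem_annihilator_span_singleton, Ideal.mem_comap, hQ']
  change algebraMap S (p.Fiber S) s • ((1 : p.Fiber S) ⊗ₜ[S] n) = 0 ↔ _
  rw [algebraMap_smul, ← TensorProduct.tmul_smul, ← (fibEquiv N p).map_eq_zero_iff,
    fibEquiv_one_tmul, TensorProduct.smul_tmul']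
  have e₂ : j₂.lTensor N ((s • n) ⊗ₜ[R] (1 : R ⧸ p)) = (s • n) ⊗ₜ[R] (1 : p.ResidueField) := by
    rw [LinearMap.lTensor_tmul]
    congr 1
    exact map_one (algebraMap (R ⧸ p) p.ResidueField)
  have e₁ : j₁.lTensor N ((s • n) ⊗ₜ[R] (1 : R ⧸ p)) = (s • n) ⊗ₜ[R] m := by
    rw [LinearMap.lTensor_tmul]
    congr 1
    change Submodule.liftQ p _ _ (Submodule.Quotient.mk 1) = m
    rw [Submodule.liftQ_apply, LinearMap.toSpanSingleton_apply, one_smul]
  rw [← e₂, ← e₁, (injective_iff_map_eq_zero' _).mp hι₂, (injective_iff_map_eq_zero' _).mp hι₁]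


end helpers

open TensorProduct in
/-- The inclusion, valid for any ring R: let R → S be a ring map, M an R-module and N an S-module which
is flat over R. For an associated prime p of M (a prime equal to the annihilator of an element) and
an associated prime Q of the fibre module N ⊗_R κ(p) over the fibre ring S ⊗_R κ(p), the inverse
image of Q in S is an associated prime of N ⊗_R M. -/
theorem result {R S : Type u} [CommRing R] [CommRing S] [Algebra R S] (M : Type u) [AddCommGroup M] [Module R M] (N : Type u) [AddCommGroup N] [Module S N] [Module R N] [IsScalarTower R S N] [Module.Flat R N]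
    (p : Ideal R) [p.IsPrime] (hp : p ∈ FlatCA.ass R M) (Q : Ideal (p.Fiber S)) (hQ : Q ∈ FlatCA.ass (p.Fiber S) (FlatCA.fiberMod p S N)) :
    Q.comap (Algebra.TensorProduct.includeRight (R := R) (A := p.ResidueField) (B := S)).toRingHom ∈ FlatCA.ass S (N ⊗[R] M) := by
  exact main M N p hp Q hQ

end Groth.Agent.S9648
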