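import Groth.Statements.S9649
import Groth.Agent.Lib.MacLane4H44

set_option autoImplicit false
universe u
open CAlg

namespace Groth.Agent.S9649

/-- A separably generated field extension is separable. Precisely: let K/k be a field extension
admitting a transcendence basis x over whose generated subfield k(x) the field K is separable
algebraic; then every finitely generated subextension K' of K/k also admits such a transcendence
basis. -/
theorem result {k K : Type u} [Field k] [Field K] [Algebra k K]
    (h : ∃ (ι : Type u) (x : ι → K), IsTranscendenceBasis k x ∧ Algebra.IsSeparable (IntermediateField.adjoin k (Set.range x)) K)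
    (K' : IntermediateField k K) (hK' : ∃ s : Finset K, IntermediateField.adjoin k (s : Set K) = K') :
    ∃ (ι : Type u) (x : ι → K'), IsTranscendenceBasis k x ∧ Algebra.IsSeparable (IntermediateField.adjoin k (Set.range x)) K' := by
  obtain ⟨ι, x, hx, hsep⟩ := h
  obtain ⟨s, rfl⟩ := hK'
  have hess : Algebra.EssFiniteType k ↥(IntermediateField.adjoin k (s : Set K)) :=
    IntermediateField.essFiniteType_iff.2 (IntermediateField.fg_adjoin_finset s)
  have key : ∃ t : Finset ↥(IntermediateField.adjoin k (s : Set K)),
      IsTranscendenceBasis k ((↑) : t → ↥(IntermediateField.adjoin k (s : Set K))) ∧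
      Algebra.IsSeparable (IntermediateField.adjoin k (t : Set ↥(IntermediateField.adjoin k (s : Set K))))
        ↥(IntermediateField.adjoin k (s : Set K)) := by
    obtain h0 | ⟨p, hp, hchar⟩ := CharP.exists' k
    · exact exists_isTranscendenceBasis_and_isSeparable_of_perfectField k _
    · have hsm : Algebra.FormallySmooth k K :=
        Algebra.FormallySmooth.of_algebraicIndependent_of_isSeparable hx.1
      have hLD : Groth.Agent.Lib.MacLaneH44.LD p k K :=
        (Groth.Agent.Lib.MacLane4H44.charP_main p k K).2.1.1 hsm
      have : ExpChar k p := .prime hp.out
      refine exists_isTranscendenceBasis_and_isSeparable_of_linearIndepOn_pow_of_essFiniteType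
        p hp.out fun t ht => ?_
      have h1 : LinearIndependent k
          (fun y : ↥(t : Set ↥(IntermediateField.adjoin k (s : Set K))) => ((y : ↥(IntermediateField.adjoin k (s : Set K))) : K)) := by
        have := LinearIndependent.map' ht
          (IntermediateField.adjoin k (s : Set K)).val.toLinearMap
          (LinearMap.ker_eq_bot.2 Subtype.val_injective)
        exact this
      have h2 := hLD.of_finite _ h1
      have h3 : LinearIndependent k
          ((IntermediateField.adjoin k (s : Set K)).val.toLinearMap ∘
            (fun y : ↥(t : Set ↥(IntermediateField.adjoin k (s : Set K))) => (y : ↥(IntermediateField.adjoin k (s : Set K))) ^ p)) := by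
        convert h2 using 1
        funext y
        simp
      exact h3.of_comp _
  obtain ⟨t, ht1, ht2⟩ := key
  refine ⟨↥t, Subtype.val, ht1, ?_⟩
  have aux : ∀ (S T : Set ↥(IntermediateField.adjoin k (s : Set K))), S = T →
      Algebra.IsSeparable (IntermediateField.adjoin k S) ↥(IntermediateField.adjoin k (s : Set K)) →
      Algebra.IsSeparable (IntermediateField.adjoin k T)
        ↥(IntermediateField.adjoin k (s : Set K)) := by
    rintro S T rfl h
    exact h
  exact aux _ _ Subtype.range_coe.symm ht2

end Groth.Agent.S9649
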