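import Groth.Statements.S9650
import Mathlib.FieldTheory.FinTrdeg
import Mathlib.FieldTheory.PrimitiveElement
import Mathlib.Tactic

set_option autoImplicit false
universe u
open CAlg

namespace Groth.Agent.S9650

/-- Let K/k be a finitely generated field extension that is separably generated, i.e. admits a
transcendence basis over whose generated subfield K is separable algebraic. Then K is generated over
k by finitely many elements x_1, …, x_r, y such that the x_i form a transcendence basis of K/k and y
is separable over the subfield k(x_1, …, x_r). -/
theorem result {k K : Type u} [Field k] [Field K] [Algebra k K]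
    (hfg : ∃ s : Finset K, IntermediateField.adjoin k (s : Set K) = ⊤)
    (hsep : ∃ (ι : Type u) (x : ι → K), IsTranscendenceBasis k x ∧ Algebra.IsSeparable (IntermediateField.adjoin k (Set.range x)) K) :
    ∃ (r : ℕ) (x : Fin r → K) (y : K), IsTranscendenceBasis k x ∧ IntermediateField.adjoin k (insert y (Set.range x)) = ⊤ ∧ IsSeparable (IntermediateField.adjoin k (Set.range x)) y := by
  obtain ⟨ι, x, hx, hsepx⟩ := hsep
  have : FinTrdeg k K := ⟨⟨⊤, hfg, inferInstance⟩⟩
  have : Finite ι := finite_of_isTranscendenceBasis hx
  let e : Fin (Nat.card ι) ≃ ι := (Finite.equivFin ι).symm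
  have hx' : IsTranscendenceBasis k (x ∘ e) := hx.comp_equiv e
  have hrange : Set.range (x ∘ e) = Set.range x := EquivLike.range_comp x e
  set L := IntermediateField.adjoin k (Set.range x) with hL
  -- K is finite over L
  obtain ⟨s, hs⟩ := hfg
  have : FiniteDimensional L K := by
    have h1 : IntermediateField.adjoin L (s : Set K) = ⊤ := by
      apply IntermediateField.restrictScalars_injective k
      rw [IntermediateField.restrictScalars_top, eq_top_iff, ← hs]
      apply IntermediateField.adjoin_le_iff.mpr
      intro z hz
      exact IntermediateField.subset_adjoin L _ hz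
    have h2 : FiniteDimensional L (IntermediateField.adjoin L (s : Set K)) :=
      IntermediateField.finiteDimensional_adjoin (fun z _ => Algebra.IsIntegral.isIntegral z)
    rw [h1] at h2
    exact IntermediateField.topEquiv.toLinearEquiv.finiteDimensional
  obtain ⟨y, hy⟩ := Field.exists_primitive_element L K
  refine ⟨Nat.card ι, x ∘ e, y, hx', ?_, ?_⟩
  · rw [hrange]
    have := IntermediateField.adjoin_adjoin_left k (Set.range x) {y}
    rw [hy, IntermediateField.restrictScalars_top] at this
    rw [Set.insert_eq, Set.union_comm]
    exact this.symm
  · rw [hrange]
    exact Algebra.IsSeparable.isSeparable L y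

end Groth.Agent.S9650
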