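import Groth.Statements.S9651
import Groth.Agent.Lib.H77GenImage

set_option autoImplicit false
universe u
open CAlg

namespace Groth.Agent.S9651

/-- Let R → S be a ring map of finite type, f : Spec(S) → Spec(R) the induced map and E ⊆ Spec(S) a
constructible subset. If ξ ∈ f(E) then f(E) ∩ cl{ξ} contains an open dense subset of the closure
cl{ξ}: some open U of Spec(R) has U ∩ cl{ξ} dense in cl{ξ} and contained in f(E). -/
theorem result {R S : Type u} [CommRing R] [CommRing S] [Algebra R S] [Algebra.FiniteType R S]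
    (E : Set (PrimeSpectrum S)) (hE : Topology.IsConstructible E) (ξ : PrimeSpectrum R) (hξ : ξ ∈ PrimeSpectrum.comap (algebraMap R S) '' E) :
    ∃ U : Set (PrimeSpectrum R), IsOpen U ∧ closure ({ξ} : Set (PrimeSpectrum R)) ⊆ closure (U ∩ closure {ξ}) ∧ U ∩ closure {ξ} ⊆ PrimeSpectrum.comap (algebraMap R S) '' E := by
  obtain ⟨g, hg, hgP⟩ :=
    Groth.Agent.Lib.H77GenImage.exists_basicOpen_inter_closure_subset_image E hE ξ hξ
  refine ⟨(PrimeSpectrum.basicOpen g : Set (PrimeSpectrum R)), (PrimeSpectrum.basicOpen g).isOpen,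
    ?_, ?_⟩
  · apply closure_mono
    rw [Set.singleton_subset_iff]
    exact ⟨hg, subset_closure rfl⟩
  · rintro P ⟨hP1, hP2⟩
    rw [PrimeSpectrum.closure_singleton, PrimeSpectrum.mem_zeroLocus] at hP2
    exact hgP P hP2 hP1

end Groth.Agent.S9651
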