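import Groth.Statements.S9654
import Mathlib.RingTheory.Adjoin.Polynomial.Basic
import Mathlib.Tactic

set_option autoImplicit false
universe u
open CAlg

namespace Groth.Agent.S9654

open Polynomial


section general
variable {R : Type*} {L : Type*} [CommRing R] [CommRing L] [Algebra R L]

/-- an element stabilising a f.g. submodule containing `1` is integral. -/
theorem isIntegral_of_mul_mem (N : Submodule R L) (h1 : (1 : L) ∈ N) (hfg : N.FG) (z : L)
    (hz : ∀ n ∈ N, z * n ∈ N) : IsIntegral R z := by
  have : Module.Finite R N := by rwa [Module.Finite.iff_fg]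
  let f : Module.End R N := (LinearMap.mulLeft R z).restrict hz
  obtain ⟨p, hp, hp0⟩ := LinearMap.exists_monic_and_aeval_eq_zero R f
  refine ⟨p, hp, ?_⟩
  have key : ∀ (q : R[X]) (n : N), ((Polynomial.aeval f q) n : L) = Polynomial.aeval z q * n := by
    intro q
    induction q using Polynomial.induction_on with
    | C r => intro n; simp [Algebra.smul_def]
    | add p q hp hq => intro n; simp [hp, hq, add_mul]
    | monomial k r ih =>
      intro n
      have e1 : (C r * X ^ (k + 1) : R[X]) = (C r * X ^ k) * X := by ring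
      rw [e1, map_mul, map_mul (aeval z), aeval_X, aeval_X, Module.End.mul_apply, ih (f n)]
      show _ * (z * (n : L)) = _
      ring
  have := key p ⟨1, h1⟩
  rw [hp0] at this
  have h2 : (Polynomial.aeval z) p = 0 := by simpa using this.symm
  exact h2

theorem pow_mul_pow_of_mul_eq_one {a b : L} (hab : a * b = 1) (i j : ℕ) :
    a ^ i * b ^ j = if j ≤ i then a ^ (i - j) else b ^ (j - i) := by
  split_ifs with h
  · obtain ⟨k, rfl⟩ := Nat.exists_eq_add_of_le h
    rw [Nat.add_sub_cancel_left, pow_add, mul_comm (a ^ j), mul_assoc, ← mul_pow, hab, one_pow, mul_one]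
  · obtain ⟨k, rfl⟩ := Nat.exists_eq_add_of_le (Nat.le_of_not_ge h)
    rw [Nat.add_sub_cancel_left, pow_add, ← mul_assoc, ← mul_pow, hab, one_pow, one_mul]

theorem isIntegral_of_mem_adjoin_inf {a b : L} (hab : a * b = 1) {z : L}
    (hza : z ∈ Algebra.adjoin R {a}) (hzb : z ∈ Algebra.adjoin R {b}) : IsIntegral R z := by
  rw [Algebra.adjoin_singleton_eq_range_aeval] at hza hzb
  obtain ⟨P, hP⟩ := hza
  obtain ⟨Q, hQ⟩ := hzb
  have hP' : z = ∑ i ∈ Finset.range (P.natDegree + 1), P.coeff i • a ^ i := by
    rw [← hP]; exact Polynomial.aeval_eq_sum_range a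
  have hQ' : z = ∑ j ∈ Finset.range (Q.natDegree + 1), Q.coeff j • b ^ j := by
    rw [← hQ]; exact Polynomial.aeval_eq_sum_range b
  set n := P.natDegree
  set m := Q.natDegree
  let N : Submodule R L := Submodule.span R (Set.range (fun i : Fin (n + 1) => a ^ (i : ℕ))) ⊔
    Submodule.span R (Set.range (fun j : Fin (m + 1) => b ^ (j : ℕ)))
  have hamem : ∀ i ≤ n, a ^ i ∈ N := fun i hi =>
    Submodule.mem_sup_left (Submodule.subset_span ⟨⟨i, Nat.lt_succ_of_le hi⟩, rfl⟩)
  have hbmem : ∀ j ≤ m, b ^ j ∈ N := fun j hj =>
    Submodule.mem_sup_right (Submodule.subset_span ⟨⟨j, Nat.lt_succ_of_le hj⟩, rfl⟩)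
  have hmono : ∀ i ≤ n, ∀ j ≤ m, a ^ i * b ^ j ∈ N := by
    intro i hi j hj
    rw [pow_mul_pow_of_mul_eq_one hab]
    split_ifs with h
    · exact hamem _ ((Nat.sub_le _ _).trans hi)
    · exact hbmem _ ((Nat.sub_le _ _).trans hj)
  have hfg : N.FG := Submodule.FG.sup (Submodule.fg_span (Set.finite_range _))
    (Submodule.fg_span (Set.finite_range _))
  refine isIntegral_of_mul_mem N (by simpa using hamem 0 (Nat.zero_le _)) hfg z ?_
  suffices h : N ≤ N.comap (LinearMap.mulLeft R z) from fun w hw => h hw
  refine sup_le (Submodule.span_le.mpr ?_) (Submodule.span_le.mpr ?_)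
  · rintro _ ⟨i, rfl⟩
    show z * a ^ (i : ℕ) ∈ N
    rw [hQ', Finset.sum_mul]
    refine N.sum_mem fun j hj => ?_
    rw [smul_mul_assoc, mul_comm]
    exact N.smul_mem _ (hmono _ (Nat.lt_succ_iff.mp i.2) _ (Nat.lt_succ_iff.mp (Finset.mem_range.mp hj)))
  · rintro _ ⟨j, rfl⟩
    show z * b ^ (j : ℕ) ∈ N
    rw [hP', Finset.sum_mul]
    refine N.sum_mem fun i hi => ?_
    rw [smul_mul_assoc]
    exact N.smul_mem _ (hmono _ (Nat.lt_succ_iff.mp (Finset.mem_range.mp hi)) _ (Nat.lt_succ_iff.mp j.2))

theorem sup_eq_adjoin_pair {a b : L} (hab : a * b = 1) :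
    Subalgebra.toSubmodule (Algebra.adjoin R {a}) ⊔ Subalgebra.toSubmodule (Algebra.adjoin R {b}) =
      Subalgebra.toSubmodule (Algebra.adjoin R {a, b}) := by
  have h : ({a, b} : Set L) = {a} ∪ {b} := Set.insert_eq a {b}
  rw [h, Algebra.adjoin_union_coe_submodule]
  apply le_antisymm
  · refine sup_le ?_ ?_
    · intro w hw
      have := Submodule.mul_mem_mul hw (show (1 : L) ∈ Subalgebra.toSubmodule (Algebra.adjoin R {b}) from
        one_mem (Algebra.adjoin R {b}))
      simpa using this
    · intro w hw
      have := Submodule.mul_mem_mul (show (1 : L) ∈ Subalgebra.toSubmodule (Algebra.adjoin R {a}) from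
        one_mem (Algebra.adjoin R {a})) hw
      simpa using this
  · rw [Submodule.mul_le]
    intro u hu v hv
    rw [Algebra.adjoin_eq_span, ← Submonoid.powers_eq_closure] at hu hv
    have hmul : Submodule.span R (Submonoid.powers a : Set L) * Submodule.span R (Submonoid.powers b : Set L) ≤
        Subalgebra.toSubmodule (Algebra.adjoin R {a}) ⊔ Subalgebra.toSubmodule (Algebra.adjoin R {b}) := by
      rw [Submodule.span_mul_span, Submodule.span_le]
      rintro _ ⟨_, ⟨i, rfl⟩, _, ⟨j, rfl⟩, rfl⟩
      show a ^ i * b ^ j ∈ _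
      rw [pow_mul_pow_of_mul_eq_one hab]
      split_ifs with hji
      · exact Submodule.mem_sup_left (pow_mem (Algebra.self_mem_adjoin_singleton R a) _)
      · exact Submodule.mem_sup_right (pow_mem (Algebra.self_mem_adjoin_singleton R b) _)
    exact hmul (Submodule.mul_mem_mul hu hv)

end general

theorem mem_bot_of_mem_adjoin_inf {R : Type*} [CommRing R] (x y : R) (hx : x ∈ nonZeroDivisors R)
    (hy : y ∈ nonZeroDivisors R) (L : Type*) [CommRing L] [Algebra R L] [IsLocalization.Away (x * y) L]
    [IsIntegrallyClosedIn R (Localization.Away x)]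
    (a b : L) (hab : a * b = 1) (hb : b * algebraMap R L x = algebraMap R L y) {z : L}
    (hza : z ∈ Algebra.adjoin R {a}) (hzb : z ∈ Algebra.adjoin R {b}) : z ∈ (⊥ : Subalgebra R L) := by
  have hint : IsIntegral R z := isIntegral_of_mem_adjoin_inf hab hza hzb
  have hxyu : IsUnit (algebraMap R L (x * y)) := IsLocalization.Away.algebraMap_isUnit (x * y)
  have hxu : IsUnit (algebraMap R L x) := by
    rw [map_mul] at hxyu
    exact isUnit_of_mul_isUnit_left hxyu
  have hxu' : IsUnit ((Algebra.ofId R L) x) := hxu
  let φ : Localization.Away x →ₐ[R] L := IsLocalization.Away.liftAlgHom (A := R) x (f := Algebra.ofId R L) hxu'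
  have hφalg : ∀ r : R, φ (algebraMap R _ r) = algebraMap R L r := fun r => φ.commutes r
  have hinjL : Function.Injective (algebraMap R L) :=
    IsLocalization.injective L (Submonoid.powers_le.mpr (mul_mem hx hy))
  have hφ : Function.Injective φ := by
    rw [injective_iff_map_eq_zero]
    intro w hw
    obtain ⟨n, r, hr⟩ := IsLocalization.Away.surj x w
    have h1 : algebraMap R L r = 0 := by
      rw [← hφalg, ← hr, map_mul, hw, zero_mul]
    have h2 : r = 0 := hinjL (by rw [h1, map_zero])
    rw [h2, map_zero] at hr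
    exact (((IsLocalization.Away.algebraMap_isUnit x).pow n).mul_left_eq_zero).mp hr
  have hbr : b ∈ φ.range := by
    refine ⟨algebraMap R _ y * IsLocalization.Away.invSelf x, ?_⟩
    apply hxu.mul_left_injective
    show φ (algebraMap R _ y * IsLocalization.Away.invSelf x) * algebraMap R L x = b * algebraMap R L x
    rw [hb, ← hφalg x, ← map_mul, mul_assoc, mul_comm (IsLocalization.Away.invSelf x),
      IsLocalization.Away.mul_invSelf, mul_one, hφalg]
  have hle : Algebra.adjoin R {b} ≤ φ.range := Algebra.adjoin_le (by simpa using hbr)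
  obtain ⟨z', rfl⟩ := hle hzb
  have hint' : IsIntegral R z' := (isIntegral_algHom_iff φ hφ).mp hint
  obtain ⟨r, rfl⟩ := IsIntegrallyClosedIn.algebraMap_eq_of_integral hint'
  show φ (algebraMap R _ r) ∈ (⊥ : Subalgebra R L)
  rw [hφalg]
  exact Subalgebra.algebraMap_mem _ r



/-- Let R be a ring and x, y ∈ R nonzerodivisors. In the localization R_{xy} let a = x/y and b = y/x,
and let R[a], R[b], R[a, b] be the R-subalgebras they generate. If R is integrally closed in R_x or
in R_y, then the sequence 0 → R → R[a] ⊕ R[b] → R[a, b] → 0 (difference map, then sum map) is short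
exact; equivalently R[a] ∩ R[b] is the image of R and R[a] + R[b] = R[a, b] inside R_{xy}. -/
theorem result {R : Type u} [CommRing R] (x y : R) (hx : x ∈ nonZeroDivisors R) (hy : y ∈ nonZeroDivisors R)
    (hint : IsIntegrallyClosedIn R (Localization.Away x) ∨ IsIntegrallyClosedIn R (Localization.Away y)) :
    (Algebra.adjoin R {algebraMap R (Localization.Away (x * y)) (x * x) * IsLocalization.Away.invSelf (x * y)}).toSubmodule ⊓
        (Algebra.adjoin R {algebraMap R (Localization.Away (x * y)) (y * y) * IsLocalization.Away.invSelf (x * y)}).toSubmodule =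
        (⊥ : Subalgebra R (Localization.Away (x * y))).toSubmodule ∧
      (Algebra.adjoin R {algebraMap R (Localization.Away (x * y)) (x * x) * IsLocalization.Away.invSelf (x * y)}).toSubmodule ⊔
        (Algebra.adjoin R {algebraMap R (Localization.Away (x * y)) (y * y) * IsLocalization.Away.invSelf (x * y)}).toSubmodule =
        (Algebra.adjoin R {algebraMap R (Localization.Away (x * y)) (x * x) * IsLocalization.Away.invSelf (x * y), algebraMap R (Localization.Away (x * y)) (y * y) * IsLocalization.Away.invSelf (x * y)}).toSubmodule := by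
  set L := Localization.Away (x * y)
  have hinv : algebraMap R L (x * y) * IsLocalization.Away.invSelf (x * y) = 1 :=
    IsLocalization.Away.mul_invSelf _
  set a : L := algebraMap R L (x * x) * IsLocalization.Away.invSelf (x * y) with ha
  set b : L := algebraMap R L (y * y) * IsLocalization.Away.invSelf (x * y) with hb
  have hab : a * b = 1 := by
    calc a * b = (algebraMap R L (x * y) * IsLocalization.Away.invSelf (x * y)) *
          (algebraMap R L (x * y) * IsLocalization.Away.invSelf (x * y)) := by
          simp only [ha, hb, map_mul]; ring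
      _ = 1 := by rw [hinv, one_mul]
  have hbx : b * algebraMap R L x = algebraMap R L y := by
    calc b * algebraMap R L x =
          algebraMap R L y * (algebraMap R L (x * y) * IsLocalization.Away.invSelf (x * y)) := by
          simp only [hb, map_mul]; ring
      _ = _ := by rw [hinv, mul_one]
  have hay : a * algebraMap R L y = algebraMap R L x := by
    calc a * algebraMap R L y =
          algebraMap R L x * (algebraMap R L (x * y) * IsLocalization.Away.invSelf (x * y)) := by
          simp only [ha, map_mul]; ring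
      _ = _ := by rw [hinv, mul_one]
  refine ⟨?_, sup_eq_adjoin_pair hab⟩
  apply le_antisymm
  · intro z hz
    obtain ⟨hza, hzb⟩ := hz
    rcases hint with h | h
    · exact mem_bot_of_mem_adjoin_inf x y hx hy L a b hab hbx hza hzb
    · have : IsLocalization.Away (y * x) L := by rw [mul_comm]; infer_instance
      exact mem_bot_of_mem_adjoin_inf y x hy hx L b a (by rw [mul_comm]; exact hab) hay hzb hza
  · exact le_inf (Subalgebra.toSubmodule.monotone bot_le) (Subalgebra.toSubmodule.monotone bot_le)

end Groth.Agent.S9654
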