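import Groth.Statements.S9656
-- import your own Groth.Agent.* helpers here

set_option autoImplicit false
universe u
open CAlg

namespace Groth.Agent.S9656

/-- Let R_i → S_i be ring maps indexed by a finite type ι, with product map R = Π R_i → S = Π S_i. Then
an element (s_i) of S is integral over R exactly when s_i is integral over R_i for every i; so
integral closure in a finite product is computed factor by factor. -/
theorem result {ι : Type u} [Fintype ι] {R S : ι → Type u} [∀ i, CommRing (R i)] [∀ i, CommRing (S i)] (f : ∀ i, R i →+* S i) (s : ∀ i, S i) :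
    (RingHom.pi fun i => (f i).comp (Pi.evalRingHom R i)).IsIntegralElem s ↔ ∀ i, (f i).IsIntegralElem (s i) := by
  classical
  have hcomp : ∀ i, (Pi.evalRingHom S i).comp (RingHom.pi fun i => (f i).comp (Pi.evalRingHom R i)) =
      (f i).comp (Pi.evalRingHom R i) := by
    intro i
    ext x
    rfl
  constructor
  · rintro ⟨p, hp, hps⟩ i
    refine ⟨p.map (Pi.evalRingHom R i), hp.map _, ?_⟩
    rw [Polynomial.eval₂_map]
    have := congrArg (Pi.evalRingHom S i) hps
    rw [Polynomial.hom_eval₂, hcomp] at this
    simpa using this
  · intro h
    choose p hp hps using h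
    set N := Finset.univ.sup fun i => (p i).natDegree with hN
    have hpN : ∀ i, (p i).natDegree ≤ N := fun i =>
      Finset.le_sup (f := fun i => (p i).natDegree) (Finset.mem_univ i)
    set q : ∀ i, Polynomial (R i) := fun i => p i * Polynomial.X ^ (N - (p i).natDegree) with hq
    have hqd : ∀ i, (q i).natDegree ≤ N := by
      intro i
      rw [hq]
      simp only
      refine Polynomial.natDegree_mul_le.trans ?_
      have := Polynomial.natDegree_X_pow_le (R := R i) (N - (p i).natDegree)
      have := hpN i
      omega
    have hqc : ∀ i, (q i).coeff N = 1 := by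
      intro i
      rw [hq]
      simp only
      obtain ⟨k, hk⟩ := Nat.exists_eq_add_of_le (hpN i)
      have h2 : N - (p i).natDegree = k := by omega
      rw [h2, hk, Polynomial.coeff_mul_X_pow]
      exact hp i
    have hqs : ∀ i, Polynomial.eval₂ (f i) (s i) (q i) = 0 := by
      intro i
      rw [hq]
      simp only
      rw [Polynomial.eval₂_mul, hps i, zero_mul]
    set P : Polynomial (∀ i, R i) :=
      ∑ n ∈ Finset.range (N + 1), Polynomial.monomial n (fun i => (q i).coeff n) with hP
    have hPmap : ∀ i, P.map (Pi.evalRingHom R i) = q i := by
      intro i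
      rw [hP, Polynomial.map_sum]
      simp only [Polynomial.map_monomial, Pi.evalRingHom_apply]
      conv_rhs => rw [(q i).as_sum_range' (N + 1) (by have := hqd i; omega)]
    have hPcoeff : ∀ n, P.coeff n = fun i => (q i).coeff n := by
      intro n
      funext i
      have := congrArg (fun r => Polynomial.coeff r n) (hPmap i)
      simpa [Polynomial.coeff_map] using this
    have hPdeg : P.natDegree ≤ N := by
      rw [Polynomial.natDegree_le_iff_coeff_eq_zero]
      intro n hn
      rw [hPcoeff]
      funext i
      exact Polynomial.coeff_eq_zero_of_natDegree_lt (lt_of_le_of_lt (hqd i) hn)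
    refine ⟨P, Polynomial.monic_of_natDegree_le_of_coeff_eq_one N hPdeg ?_, ?_⟩
    · rw [hPcoeff]
      funext i
      exact hqc i
    · funext i
      change Pi.evalRingHom S i (Polynomial.eval₂ _ s P) = 0
      rw [Polynomial.hom_eval₂, hcomp, ← Polynomial.eval₂_map, hPmap i]
      exact hqs i

end Groth.Agent.S9656
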