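import Groth.Statements.S9658
import Mathlib.RingTheory.Ideal.Basic
import Mathlib.RingTheory.Ideal.Operations
import Mathlib.Algebra.Module.BigOperators
import Mathlib.Algebra.BigOperators.GroupWithZero.Action
-- import your own Groth.Agent.* helpers here

set_option autoImplicit false
universe u
open CAlg

namespace Groth.Agent.S9658

theorem exists_uniform {ι : Type*} [Fintype ι] (Q : ι → ℕ → Prop)
    (hmono : ∀ i n n', n ≤ n' → Q i n → Q i n') (h : ∀ i, ∃ n, Q i n) : ∃ n, ∀ i, Q i n := by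
  choose n hn using h
  exact ⟨Finset.univ.sup n, fun i => hmono i _ _ (Finset.le_sup (Finset.mem_univ i)) (hn i)⟩

theorem exists_partition {R : Type*} [CommRing R] {ι : Type*} [Fintype ι] (f : ι → R)
    (hf : Ideal.span (Set.range f) = ⊤) (n : ℕ) : ∃ a : ι → R, ∑ i, a i * f i ^ n = 1 := by
  have h := Ideal.span_pow_eq_top (Set.range f) hf n
  rw [← Set.range_comp] at h
  have h1 : (1 : R) ∈ Ideal.span (Set.range ((fun x : R => x ^ n) ∘ f)) := by
    rw [h]; trivial
  exact Ideal.mem_span_range_iff_exists_fun.mp h1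


/-- Let R be a ring, f_1, …, f_n ∈ R generating the unit ideal and M an R-module. With M_i = M_{f_i},
M_ij = M_{f_i f_j} (any localizations, with the canonical compatible maps M → M_i → M_ij), the
sequence 0 → M → ⊕ M_i → ⊕ M_ij is exact: an element of M whose image vanishes in every M_i is zero,
and every family (m_i ∈ M_i) such that m_i and m_j have the same image in M_ij for all i, j is the
image of an element of M. -/
theorem result {R : Type u} [CommRing R] {ι : Type u} [Fintype ι] (f : ι → R) (hf : Ideal.span (Set.range f) = ⊤)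
    (M : Type u) [AddCommGroup M] [Module R M]
    (Mi : ι → Type u) [∀ i, AddCommGroup (Mi i)] [∀ i, Module R (Mi i)] (g : ∀ i, M →ₗ[R] Mi i) [∀ i, IsLocalizedModule (Submonoid.powers (f i)) (g i)]
    (Mij : ι → ι → Type u) [∀ i j, AddCommGroup (Mij i j)] [∀ i j, Module R (Mij i j)] (gij : ∀ i j, M →ₗ[R] Mij i j) [∀ i j, IsLocalizedModule (Submonoid.powers (f i * f j)) (gij i j)]
    (ρ₁ : ∀ i j, Mi i →ₗ[R] Mij i j) (hρ₁ : ∀ i j, ρ₁ i j ∘ₗ g i = gij i j) (ρ₂ : ∀ i j, Mi j →ₗ[R] Mij i j) (hρ₂ : ∀ i j, ρ₂ i j ∘ₗ g j = gij i j) :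
    (∀ m : M, (∀ i, g i m = 0) → m = 0) ∧
      ∀ s : ∀ i, Mi i, (∀ i j, ρ₁ i j (s i) = ρ₂ i j (s j)) → ∃ m : M, ∀ i, g i m = s i := by
  classical
  constructor
  · intro m hm
    have h1 : ∀ i, ∃ n, f i ^ n • m = 0 := by
      intro i
      have : g i m = g i 0 := by rw [hm i, map_zero]
      obtain ⟨⟨_, n, rfl⟩, hc⟩ :=
        (IsLocalizedModule.eq_iff_exists (Submonoid.powers (f i)) (g i)).mp this
      exact ⟨n, by simpa [Submonoid.smul_def] using hc⟩
    obtain ⟨n, hn⟩ := exists_uniform (fun i n => f i ^ n • m = 0) (by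
      intro i n n' hnn' h
      obtain ⟨k, rfl⟩ := Nat.exists_eq_add_of_le hnn'
      rw [pow_add, mul_comm, mul_smul, h, smul_zero]) h1
    obtain ⟨a, ha⟩ := exists_partition f hf n
    calc m = (∑ i, a i * f i ^ n) • m := by rw [ha, one_smul]
      _ = ∑ i, a i • (f i ^ n • m) := by rw [Finset.sum_smul]; simp only [mul_smul]
      _ = 0 := by simp only [hn, smul_zero, Finset.sum_const_zero]
  · intro s hs
    -- Step 1: uniform exponent for numerators
    have h1 : ∀ i, ∃ n, ∃ m : M, f i ^ n • s i = g i m := by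
      intro i
      obtain ⟨⟨m, ⟨_, n, rfl⟩⟩, hm⟩ := IsLocalizedModule.surj (Submonoid.powers (f i)) (g i) (s i)
      exact ⟨n, m, by simpa [Submonoid.smul_def] using hm⟩
    obtain ⟨N, hN⟩ := exists_uniform (fun i n => ∃ m : M, f i ^ n • s i = g i m) (by
      rintro i n n' hnn' ⟨m, hm⟩
      obtain ⟨k, rfl⟩ := Nat.exists_eq_add_of_le hnn'
      exact ⟨f i ^ k • m, by rw [pow_add, mul_comm, mul_smul, hm, map_smul]⟩) h1
    choose m hm using hN
    -- Step 2: compatibility on overlaps
    have h2 : ∀ p : ι × ι, gij p.1 p.2 (f p.2 ^ N • m p.1) = gij p.1 p.2 (f p.1 ^ N • m p.2) := by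
      rintro ⟨i, j⟩
      simp only
      have e1 : gij i j (m i) = ρ₁ i j (g i (m i)) := by rw [← hρ₁ i j]; rfl
      have e2 : gij i j (m j) = ρ₂ i j (g j (m j)) := by rw [← hρ₂ i j]; rfl
      rw [map_smul, map_smul, e1, e2, ← hm i, ← hm j, map_smul, map_smul, hs i j, smul_smul,
        smul_smul, mul_comm]
    have h2' : ∀ p : ι × ι, ∃ k, (f p.1 * f p.2) ^ k • (f p.2 ^ N • m p.1) =
        (f p.1 * f p.2) ^ k • (f p.1 ^ N • m p.2) := by
      intro p
      obtain ⟨⟨_, k, rfl⟩, hc⟩ :=
        (IsLocalizedModule.eq_iff_exists (Submonoid.powers (f p.1 * f p.2)) (gij p.1 p.2)).mp (h2 p)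
      exact ⟨k, by simpa [Submonoid.smul_def] using hc⟩
    obtain ⟨K, hK⟩ := exists_uniform (fun (p : ι × ι) k =>
        (f p.1 * f p.2) ^ k • (f p.2 ^ N • m p.1) = (f p.1 * f p.2) ^ k • (f p.1 ^ N • m p.2)) (by
      intro p n n' hnn' h
      obtain ⟨k, rfl⟩ := Nat.exists_eq_add_of_le hnn'
      rw [pow_add, mul_comm, mul_smul, mul_smul, h]) h2'
    -- Step 3: new numerators
    have h3a : ∀ i, f i ^ (N + K) • s i = g i (f i ^ K • m i) := by
      intro i
      rw [pow_add, mul_comm, mul_smul, hm i, map_smul]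
    have h3b : ∀ i j, f j ^ (N + K) • (f i ^ K • m i) = f i ^ (N + K) • (f j ^ K • m j) := by
      intro i j
      have := hK (i, j)
      simp only at this
      calc f j ^ (N + K) • (f i ^ K • m i) = (f i * f j) ^ K • (f j ^ N • m i) := by
            rw [smul_smul, smul_smul]; congr 1; ring
        _ = (f i * f j) ^ K • (f i ^ N • m j) := this
        _ = f i ^ (N + K) • (f j ^ K • m j) := by
            rw [smul_smul, smul_smul]; congr 1; ring
    -- Step 4: glue
    obtain ⟨a, ha⟩ := exists_partition f hf (N + K)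
    refine ⟨∑ j, a j • (f j ^ K • m j), fun i => ?_⟩
    have h4 : f i ^ (N + K) • (∑ j, a j • (f j ^ K • m j)) = f i ^ K • m i := by
      calc f i ^ (N + K) • (∑ j, a j • (f j ^ K • m j))
          = ∑ j, a j • (f i ^ (N + K) • (f j ^ K • m j)) := by
            rw [Finset.smul_sum]
            refine Finset.sum_congr rfl fun j _ => ?_
            rw [smul_comm]
        _ = ∑ j, a j • (f j ^ (N + K) • (f i ^ K • m i)) := by
            refine Finset.sum_congr rfl fun j _ => ?_
            rw [h3b i j]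
        _ = (∑ j, a j * f j ^ (N + K)) • (f i ^ K • m i) := by
            rw [Finset.sum_smul]; simp only [mul_smul]
        _ = f i ^ K • m i := by rw [ha, one_smul]
    have h5 : f i ^ (N + K) • g i (∑ j, a j • (f j ^ K • m j)) = f i ^ (N + K) • s i := by
      rw [← map_smul, h4, h3a i]
    have hinj := IsLocalizedModule.smul_injective (g i)
      (⟨f i ^ (N + K), ⟨N + K, rfl⟩⟩ : Submonoid.powers (f i))
    exact hinj (by simpa [Submonoid.smul_def] using h5)

end Groth.Agent.S9658
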