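import Groth.Statements.S9659
import Mathlib

set_option autoImplicit false
universe u
open CAlg

namespace Groth.Agent.S9659

open DirectSum

variable {R S : Type u} [CommRing R] [CommRing S] [Algebra R S] (𝒜 : ℤ → Submodule R S)
  [GradedAlgebra 𝒜]

lemma inv_mem {f f' : S} {d : ℤ} (hf : f ∈ 𝒜 d) (h : f * f' = 1) : f' ∈ 𝒜 (-d) := by
  classical
  have h1 := DirectSum.coe_decompose_mul_add_of_left_mem 𝒜 (i := d) (j := -d) (b := f') hf
  rw [h, add_neg_cancel] at h1
  have h2 : ((DirectSum.decompose 𝒜 (1:S)) 0 : S) = 1 := by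
    rw [DirectSum.decompose_of_mem_same 𝒜 (SetLike.GradedOne.one_mem)]
  rw [h2] at h1
  have : f' = (decompose 𝒜 f' (-d) : S) := by
    calc f' = f' * 1 := (mul_one _).symm
      _ = f' * (f * (decompose 𝒜 f' (-d) : S)) := by rw [← h1]
      _ = (f * f') * (decompose 𝒜 f' (-d) : S) := by ring
      _ = _ := by rw [h, one_mul]
  rw [this]; exact Submodule.coe_mem _

lemma zpow_mem (u : Sˣ) {d : ℤ} (hu : (u : S) ∈ 𝒜 d) (k : ℤ) :
    ((u ^ k : Sˣ) : S) ∈ 𝒜 (k * d) := by
  have hinv : ((u⁻¹ : Sˣ) : S) ∈ 𝒜 (-d) := inv_mem 𝒜 hu (by simp)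
  induction k using Int.induction_on with
  | zero => simpa using (SetLike.GradedOne.one_mem : (1 : S) ∈ 𝒜 0)
  | succ k ih =>
    rw [zpow_add_one, Units.val_mul, add_mul, one_mul]; exact SetLike.mul_mem_graded ih hu
  | pred k ih =>
    rw [zpow_sub_one, Units.val_mul, sub_mul, one_mul, sub_eq_add_neg]
    exact SetLike.mul_mem_graded ih hinv

/-- the degree-zero element attached to the `i`-th component of `x` -/
noncomputable def e (u : Sˣ) {d : ℤ} (hu : (u : S) ∈ 𝒜 d) (hd : 0 < d) (x : S) (i : ℤ) :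
    SetLike.GradeZero.subring 𝒜 :=
  ⟨((decompose 𝒜 x i : S)) ^ (d.toNat) * ((u ^ (-i) : Sˣ) : S), by
    have h1 : ((decompose 𝒜 x i : S)) ^ (d.toNat) ∈ 𝒜 (d.toNat • i) :=
      SetLike.pow_mem_graded _ (Submodule.coe_mem _)
    have h2 := SetLike.mul_mem_graded h1 (zpow_mem 𝒜 u hu (-i))
    have h3 : d.toNat • i + -i * d = 0 := by
      rw [nsmul_eq_mul, Int.toNat_of_nonneg hd.le]; ring
    rw [h3] at h2
    exact h2⟩

lemma e_mem_iff (u : Sˣ) {d : ℤ} (hu : (u : S) ∈ 𝒜 d) (hd : 0 < d) (x : S) (i : ℤ)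
    (p : Ideal S) [p.IsPrime] :
    ((e 𝒜 u hu hd x i : SetLike.GradeZero.subring 𝒜) : S) ∈ p ↔ (decompose 𝒜 x i : S) ∈ p := by
  have hD : d.toNat ≠ 0 := by
    intro h
    have := Int.toNat_of_nonneg hd.le
    omega
  constructor
  · intro h
    simp only [e] at h
    rcases Ideal.IsPrime.mem_or_mem ‹p.IsPrime› h with h | h
    · exact Ideal.IsPrime.mem_of_pow_mem ‹p.IsPrime› _ h
    · exact absurd (Ideal.eq_top_of_isUnit_mem _ h (Units.isUnit _)) (Ideal.IsPrime.ne_top ‹_›)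
  · intro h
    simp only [e]
    exact Ideal.mul_mem_right _ _ (Ideal.pow_mem_of_mem _ h _ (Nat.pos_of_ne_zero hD))


lemma mem_iff_forall (P : Ideal S) (hP : P.IsHomogeneous 𝒜) (x : S) :
    x ∈ P ↔ ∀ i, (decompose 𝒜 x i : S) ∈ P := by
  classical
  constructor
  · intro hx i; exact hP i hx
  · intro h
    rw [← DirectSum.sum_support_decompose 𝒜 x]
    exact Ideal.sum_mem _ (fun i _ => h i)

lemma hom_le (u : Sˣ) {d : ℤ} (hu : (u : S) ∈ 𝒜 d) (hd : 0 < d)
    (P P' : Ideal S) [P.IsPrime] [P'.IsPrime] (hP : P.IsHomogeneous 𝒜) (hP' : P'.IsHomogeneous 𝒜)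
    (h : P.comap (SetLike.GradeZero.subring 𝒜).subtype ≤ P'.comap (SetLike.GradeZero.subring 𝒜).subtype) :
    P ≤ P' := by
  intro x hx
  rw [mem_iff_forall 𝒜 P' hP']
  intro i
  rw [← e_mem_iff 𝒜 u hu hd x i P']
  have h1 : e 𝒜 u hu hd x i ∈ P.comap (SetLike.GradeZero.subring 𝒜).subtype := by
    rw [Ideal.mem_comap]
    exact (e_mem_iff 𝒜 u hu hd x i P).mpr (hP i hx)
  exact h h1

/-- projection to degree zero, as an element of the degree-zero subring -/
noncomputable def pi0 (y : S) : SetLike.GradeZero.subring 𝒜 :=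
  ⟨(decompose 𝒜 y 0 : S), (decompose 𝒜 y 0).2⟩

lemma comap_map (q : Ideal (SetLike.GradeZero.subring 𝒜)) :
    (q.map (SetLike.GradeZero.subring 𝒜).subtype).comap (SetLike.GradeZero.subring 𝒜).subtype = q := by
  classical
  refine le_antisymm ?_ Ideal.le_comap_map
  intro z hz
  rw [Ideal.mem_comap] at hz
  have key : ∀ x ∈ q.map (SetLike.GradeZero.subring 𝒜).subtype, ∀ s : S, pi0 𝒜 (s * x) ∈ q := by
    intro x hx
    refine Submodule.span_induction (p := fun x _ => ∀ s : S, pi0 𝒜 (s * x) ∈ q) ?_ ?_ ?_ ?_ hx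
    · rintro _ ⟨w, hw, rfl⟩ s
      have : pi0 𝒜 (s * (SetLike.GradeZero.subring 𝒜).subtype w) = pi0 𝒜 s * w := by
        apply Subtype.ext
        have := DirectSum.coe_decompose_mul_add_of_right_mem 𝒜 (i := 0) (j := 0) (a := s)
          (b := (w : S)) w.2
        rw [add_zero] at this
        exact this
      rw [this]
      exact Ideal.mul_mem_left _ _ hw
    · intro s
      have : pi0 𝒜 (s * 0) = 0 := by
        apply Subtype.ext
        show (decompose 𝒜 (s * 0) 0 : S) = 0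
        rw [mul_zero, DirectSum.decompose_zero, DirectSum.zero_apply, Submodule.coe_zero]
      rw [this]; exact Ideal.zero_mem _
    · intro x y _ _ hx hy s
      have : pi0 𝒜 (s * (x + y)) = pi0 𝒜 (s * x) + pi0 𝒜 (s * y) := by
        apply Subtype.ext
        show (decompose 𝒜 (s * (x + y)) 0 : S) =
          (decompose 𝒜 (s * x) 0 : S) + (decompose 𝒜 (s * y) 0 : S)
        rw [mul_add, DirectSum.decompose_add, DirectSum.add_apply, Submodule.coe_add]
      rw [this]; exact Ideal.add_mem _ (hx s) (hy s)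
    · intro t x _ hx s
      have : s * (t • x) = (s * t) * x := by rw [smul_eq_mul]; ring
      rw [this]; exact hx _
  have h1 := key _ hz 1
  have h2 : pi0 𝒜 (1 * (SetLike.GradeZero.subring 𝒜).subtype z) = z := by
    apply Subtype.ext
    simp only [pi0, one_mul, Subring.subtype_apply]
    rw [DirectSum.decompose_of_mem_same 𝒜 z.2]
  rwa [h2] at h1


theorem result' {R S : Type u} [CommRing R] [CommRing S] [Algebra R S] (𝒜 : ℤ → Submodule R S)
    [GradedAlgebra 𝒜]
    (f : S) (d : ℤ) (hd : 0 < d) (hf : f ∈ 𝒜 d) (hu : IsUnit f) :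
    IsHomeomorph (fun p : {p : PrimeSpectrum S // p.asIdeal.IsHomogeneous 𝒜} =>
      PrimeSpectrum.comap (SetLike.GradeZero.subring 𝒜).subtype p.1) := by
  classical
  obtain ⟨u, rfl⟩ := hu
  have hcont : Continuous (fun p : {p : PrimeSpectrum S // p.asIdeal.IsHomogeneous 𝒜} =>
      PrimeSpectrum.comap (SetLike.GradeZero.subring 𝒜).subtype p.1) :=
    (PrimeSpectrum.continuous_comap _).comp continuous_subtype_val
  rw [isHomeomorph_iff_isEmbedding_surjective]
  refine ⟨⟨⟨?_⟩, ?_⟩, ?_⟩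
  · refine le_antisymm (continuous_iff_le_induced.mp hcont) ?_
    intro U hU
    rw [isOpen_induced_iff]
    obtain ⟨W, hW, rfl⟩ := isOpen_induced_iff.mp hU
    obtain ⟨s, hs⟩ := (PrimeSpectrum.isOpen_iff W).mp hW
    refine ⟨(PrimeSpectrum.zeroLocus {z | ∃ x ∈ s, ∃ i, z = e 𝒜 u hf hd x i})ᶜ,
      (PrimeSpectrum.isOpen_iff _).mpr ⟨_, compl_compl _⟩, ?_⟩
    ext p
    have hW' : p.1 ∈ W ↔ ¬ (s ⊆ p.1.asIdeal) := by
      rw [← PrimeSpectrum.mem_zeroLocus, ← hs]; simp
    simp only [Set.mem_preimage, Set.mem_compl_iff, PrimeSpectrum.mem_zeroLocus]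
    rw [hW', not_iff_not]
    constructor
    · intro h x hx
      rw [SetLike.mem_coe, mem_iff_forall 𝒜 _ p.2]
      intro i
      rw [← e_mem_iff 𝒜 u hf hd x i p.1.asIdeal]
      exact h ⟨x, hx, i, rfl⟩
    · rintro h _ ⟨x, hx, i, rfl⟩
      show ((e 𝒜 u hf hd x i : SetLike.GradeZero.subring 𝒜) : S) ∈ p.1.asIdeal
      rw [e_mem_iff]
      exact p.2 i (h hx)
  · intro p p' h
    apply Subtype.ext
    apply PrimeSpectrum.ext
    have h' : p.1.asIdeal.comap (SetLike.GradeZero.subring 𝒜).subtype =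
        p'.1.asIdeal.comap (SetLike.GradeZero.subring 𝒜).subtype :=
      congrArg PrimeSpectrum.asIdeal h
    exact le_antisymm (hom_le 𝒜 u hf hd _ _ p.2 p'.2 h'.le) (hom_le 𝒜 u hf hd _ _ p'.2 p.2 h'.ge)
  · intro q
    obtain ⟨P, hP⟩ := (PrimeSpectrum.mem_range_comap_iff
      (f := (SetLike.GradeZero.subring 𝒜).subtype) (p := q)).mpr (comap_map 𝒜 q.asIdeal)
    have hprime := Ideal.IsPrime.homogeneousCore (𝒜 := 𝒜) P.isPrime
    refine ⟨⟨⟨(P.asIdeal.homogeneousCore 𝒜).toIdeal, hprime⟩,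
      (P.asIdeal.homogeneousCore 𝒜).isHomogeneous⟩, ?_⟩
    apply PrimeSpectrum.ext
    rw [← hP]
    ext z
    simp only [PrimeSpectrum.comap_asIdeal, Ideal.mem_comap]
    constructor
    · intro h; exact Ideal.toIdeal_homogeneousCore_le 𝒜 _ h
    · intro h; exact Ideal.mem_homogeneousCore_of_homogeneous_of_mem ⟨0, z.2⟩ h


/-- Let S be a ℤ-graded ring which contains an invertible homogeneous element of positive degree. Then
the set of homogeneous prime ideals of S, with the topology induced from Spec(S), maps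
homeomorphically onto Spec(S₀) by p ↦ p ∩ S₀. -/
theorem result {R S : Type u} [CommRing R] [CommRing S] [Algebra R S] (𝒜 : ℤ → Submodule R S) [GradedAlgebra 𝒜]
    (f : S) (d : ℤ) (hd : 0 < d) (hf : f ∈ 𝒜 d) (hu : IsUnit f) :
    IsHomeomorph (fun p : {p : PrimeSpectrum S // p.asIdeal.IsHomogeneous 𝒜} => PrimeSpectrum.comap (SetLike.GradeZero.subring 𝒜).subtype p.1) := by
  exact result' 𝒜 f d hd hf hu

end Groth.Agent.S9659
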