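import Mathlib
import Groth.Statements.S9663

set_option autoImplicit false
universe u
open CAlg

namespace Groth.Agent.S9663

section Helpers

section Loc
variable {R : Type*} [CommRing R] {N N' : Type*} [AddCommGroup N] [AddCommGroup N']
  [Module R N] [Module R N'] (s : R) (φ : N →ₗ[R] N') [IsLocalizedModule (Submonoid.powers s) φ]

lemma loc_surj (y : N') : ∃ (n : ℕ) (x : N), s ^ n • y = φ x := by
  obtain ⟨⟨x, ⟨_, n, rfl⟩⟩, h⟩ := IsLocalizedModule.surj (Submonoid.powers s) φ y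
  exact ⟨n, x, h⟩

lemma loc_ker (x : N) (h : φ x = 0) : ∃ n : ℕ, s ^ n • x = 0 := by
  obtain ⟨⟨_, n, rfl⟩, h'⟩ := (IsLocalizedModule.eq_zero_iff (Submonoid.powers s) φ).mp h
  exact ⟨n, h'⟩

include φ in
lemma loc_smul_inj (n : ℕ) (y : N') (h : s ^ n • y = 0) : y = 0 := by
  have := IsLocalizedModule.map_units φ (⟨s ^ n, n, rfl⟩ : Submonoid.powers s)
  have hinj := ((Module.End.isUnit_iff _).mp this).injective
  apply hinj
  rw [map_zero]
  show (algebraMap R (Module.End R N') (s ^ n)) y = 0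
  rw [Module.algebraMap_end_apply]
  exact h

lemma isUnit_pow_end (hs : IsUnit (algebraMap R (Module.End R N) s)) (n : ℕ) :
    Function.Bijective (fun x : N => s ^ n • x) := by
  have : IsUnit (algebraMap R (Module.End R N) (s ^ n)) := by
    rw [map_pow]; exact hs.pow n
  exact (Module.End.isUnit_iff _).mp this

lemma loc_bijective (hs : IsUnit (algebraMap R (Module.End R N) s)) : Function.Bijective φ := by
  constructor
  · rw [← LinearMap.ker_eq_bot, LinearMap.ker_eq_bot']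
    intro x hx
    obtain ⟨n, hn⟩ := loc_ker s φ x hx
    apply (isUnit_pow_end s hs n).injective
    simpa using hn
  · intro y
    obtain ⟨n, x, hx⟩ := loc_surj s φ y
    obtain ⟨x', rfl⟩ := (isUnit_pow_end s hs n).surjective x
    refine ⟨x', ?_⟩
    have : s ^ n • (φ x' - y) = 0 := by
      simp only [map_smul] at hx
      rw [smul_sub, hx, sub_self]
    exact sub_eq_zero.mp (loc_smul_inj s φ n _ this)

end Loc

section Main

variable {R : Type u} [CommRing R] {ι : Type u} [Finite ι] (f : ι → R)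
    (Mi : ι → Type u) [∀ i, AddCommGroup (Mi i)] [∀ i, Module R (Mi i)]
    (hMi : ∀ i, IsUnit (algebraMap R (Module.End R (Mi i)) (f i)))
    (Mij : ι → ι → Type u) [∀ i j, AddCommGroup (Mij i j)] [∀ i j, Module R (Mij i j)]
    (g : ∀ i j, Mi i →ₗ[R] Mij i j) [∀ i j, IsLocalizedModule (Submonoid.powers (f j)) (g i j)]
    (ψ : ∀ i j, Mij i j ≃ₗ[R] Mij j i)
    (T : ι → ι → ι → Type u) [∀ i j k, AddCommGroup (T i j k)] [∀ i j k, Module R (T i j k)]
    (t : ∀ i j k, Mi i →ₗ[R] T i j k)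
    [∀ i j k, IsLocalizedModule (Submonoid.powers (f j * f k)) (t i j k)]
    (u : ∀ i j k, Mij i j →ₗ[R] T i j k) (hu : ∀ i j k, u i j k ∘ₗ g i j = t i j k)
    (v : ∀ i j k, Mij i k →ₗ[R] T i j k) (hv : ∀ i j k, v i j k ∘ₗ g i k = t i j k)
    (Ψ₁ : ∀ i j k, T i j k →ₗ[R] T j i k)
    (hΨ₁ : ∀ i j k, Ψ₁ i j k ∘ₗ u i j k = u j i k ∘ₗ (ψ i j).toLinearMap)
    (Ψ₂ : ∀ i j k, T j i k →ₗ[R] T k i j)
    (hΨ₂ : ∀ i j k, Ψ₂ i j k ∘ₗ v j i k = v k i j ∘ₗ (ψ j k).toLinearMap)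
    (Ψ₃ : ∀ i j k, T i j k →ₗ[R] T k i j)
    (hΨ₃ : ∀ i j k, Ψ₃ i j k ∘ₗ v i j k = u k i j ∘ₗ (ψ i k).toLinearMap)
    (hcoc : ∀ i j k, Ψ₂ i j k ∘ₗ Ψ₁ i j k = Ψ₃ i j k)

omit [Finite ι] in
include hMi hu hv hΨ₁ hΨ₂ hΨ₃ hcoc in
/-- `ψ i i` is the identity. -/
lemma psi_self (i : ι) (x : Mij i i) : ψ i i x = x := by
  have hg : Function.Bijective (g i i) := loc_bijective (f i) (g i i) (hMi i)
  have ht : Function.Bijective (t i i i) :=
    loc_bijective (f i * f i) (t i i i) (by rw [map_mul]; exact (hMi i).mul (hMi i))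
  have huv : ∀ x, u i i i x = v i i i x := by
    intro x
    obtain ⟨a, rfl⟩ := hg.2 x
    have h1 := LinearMap.congr_fun (hu i i i) a
    have h2 := LinearMap.congr_fun (hv i i i) a
    simp only [LinearMap.comp_apply] at h1 h2
    rw [h1, h2]
  have huinj : Function.Injective (u i i i) := by
    intro x x' hxx
    obtain ⟨a, rfl⟩ := hg.2 x
    obtain ⟨a', rfl⟩ := hg.2 x'
    have h1 := LinearMap.congr_fun (hu i i i) a
    have h2 := LinearMap.congr_fun (hu i i i) a'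
    simp only [LinearMap.comp_apply] at h1 h2
    rw [h1, h2] at hxx
    rw [ht.1 hxx]
  have e1 : ∀ x, Ψ₁ i i i (u i i i x) = u i i i (ψ i i x) := fun x =>
    LinearMap.congr_fun (hΨ₁ i i i) x
  have e2 : ∀ x, Ψ₂ i i i (u i i i x) = u i i i (ψ i i x) := fun x => by
    have := LinearMap.congr_fun (hΨ₂ i i i) x
    simp only [LinearMap.comp_apply, LinearEquiv.coe_coe] at this
    rw [huv, this, huv]
  have e3 : ∀ x, Ψ₃ i i i (u i i i x) = u i i i (ψ i i x) := fun x => by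
    have := LinearMap.congr_fun (hΨ₃ i i i) x
    simp only [LinearMap.comp_apply, LinearEquiv.coe_coe] at this
    rw [huv, this]
  have hc := LinearMap.congr_fun (hcoc i i i) (u i i i x)
  simp only [LinearMap.comp_apply] at hc
  rw [e1, e2, e3] at hc
  exact (ψ i i).injective (huinj hc)

omit [Finite ι] in
include hv in
/-- the kernel of `v j i k : Mij j k → T j i k` is `f i`-power torsion. -/
lemma v_ker (j i k : ι) (z : Mij j k) (hz : v j i k z = 0) : ∃ n : ℕ, f i ^ n • z = 0 := by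
  obtain ⟨a, x, hx⟩ := loc_surj (f k) (g j k) z
  have h1 : t j i k x = 0 := by
    have := LinearMap.congr_fun (hv j i k) x
    simp only [LinearMap.comp_apply] at this
    rw [← this, ← hx, map_smul, hz, smul_zero]
  obtain ⟨b, hb⟩ := loc_ker (f i * f k) (t j i k) x h1
  refine ⟨b, ?_⟩
  apply loc_smul_inj (f k) (g j k) (a + b)
  have : g j k ((f i * f k) ^ b • x) = 0 := by rw [hb, map_zero]
  rw [map_smul, ← hx] at this
  rw [← this, smul_smul, smul_smul]
  congr 1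
  ring

omit [Finite ι] in
include hu hv hΨ₁ hΨ₂ hΨ₃ hcoc in
/-- the cocycle computation. -/
lemma cocycle_calc (i j k : ι) (y' : Mi i) (mj : Mi j) (mk : Mi k)
    (hj : g j i mj = ψ i j (g i j y')) (hk : g k i mk = ψ i k (g i k y')) :
    v j i k (g j k mj - ψ k j (g k j mk)) = 0 := by
  have hu' : ∀ a b c (x : Mi a), u a b c (g a b x) = t a b c x := fun a b c x =>
    LinearMap.congr_fun (hu a b c) x
  have hv' : ∀ a b c (x : Mi a), v a b c (g a c x) = t a b c x := fun a b c x =>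
    LinearMap.congr_fun (hv a b c) x
  have h1' : ∀ a b c (x : Mij a b), Ψ₁ a b c (u a b c x) = u b a c (ψ a b x) := fun a b c x =>
    LinearMap.congr_fun (hΨ₁ a b c) x
  have h2' : ∀ a b c (x : Mij b c), Ψ₂ a b c (v b a c x) = v c a b (ψ b c x) := fun a b c x =>
    LinearMap.congr_fun (hΨ₂ a b c) x
  have h3' : ∀ a b c (x : Mij a c), Ψ₃ a b c (v a b c x) = u c a b (ψ a c x) := fun a b c x =>
    LinearMap.congr_fun (hΨ₃ a b c) x
  have hc' : ∀ a b c (x : T a b c), Ψ₂ a b c (Ψ₁ a b c x) = Ψ₃ a b c x := fun a b c x =>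
    LinearMap.congr_fun (hcoc a b c) x
  rw [map_sub, sub_eq_zero]
  calc v j i k (g j k mj) = t j i k mj := hv' j i k mj
    _ = u j i k (g j i mj) := (hu' j i k mj).symm
    _ = u j i k (ψ i j (g i j y')) := by rw [hj]
    _ = Ψ₃ i k j (v i k j (g i j y')) := (h3' i k j _).symm
    _ = Ψ₃ i k j (t i k j y') := by rw [hv' i k j]
    _ = Ψ₃ i k j (u i k j (g i k y')) := by rw [hu' i k j]
    _ = Ψ₂ i k j (Ψ₁ i k j (u i k j (g i k y'))) := (hc' i k j _).symm
    _ = Ψ₂ i k j (u k i j (ψ i k (g i k y'))) := by rw [h1' i k j]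
    _ = Ψ₂ i k j (u k i j (g k i mk)) := by rw [hk]
    _ = Ψ₂ i k j (t k i j mk) := by rw [hu' k i j]
    _ = Ψ₂ i k j (v k i j (g k j mk)) := by rw [hv' k i j]
    _ = v j i k (ψ k j (g k j mk)) := h2' i k j _

include hMi hu hv hΨ₁ hΨ₂ hΨ₃ hcoc in
theorem main_aux
    (M : Submodule R (∀ i, Mi i))
    (hM : ∀ m : ∀ i, Mi i, m ∈ M ↔ ∀ i j, g i j (m i) = ψ j i (g j i (m j))) (i : ι) :
    IsLocalizedModule (Submonoid.powers (f i))
      ((LinearMap.proj i).comp M.subtype : ↥M →ₗ[R] Mi i) := by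
  classical
  let _ : Fintype ι := Fintype.ofFinite ι
  refine ⟨?_, ?_, ?_⟩
  · -- map_units
    rintro ⟨_, n, rfl⟩
    show IsUnit (algebraMap R (Module.End R (Mi i)) (f i ^ n))
    rw [map_pow]
    exact (hMi i).pow n
  · -- surj
    intro y
    -- step 1: choose m_j
    have h1 : ∀ j, ∃ (n : ℕ) (m : Mi j), f i ^ n • ψ i j (g i j y) = g j i m := fun j =>
      loc_surj (f i) (g j i) _
    choose n m hm using h1
    set N₁ := Finset.univ.sup n with hN₁
    set y' : Mi i := f i ^ N₁ • y with hy'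
    set m' : ∀ j, Mi j := fun j => f i ^ (N₁ - n j) • m j with hm'
    have hstar : ∀ j, g j i (m' j) = ψ i j (g i j y') := by
      intro j
      have hle : n j ≤ N₁ := Finset.le_sup (Finset.mem_univ j)
      simp only [hm', hy', map_smul, ← hm j, smul_smul]
      rw [← pow_add, Nat.sub_add_cancel hle]
    -- step 2: the discrepancies are f i-power torsion
    have h2 : ∀ p : ι × ι, ∃ N : ℕ,
        f i ^ N • (g p.1 p.2 (m' p.1) - ψ p.2 p.1 (g p.2 p.1 (m' p.2))) = 0 := fun p =>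
      v_ker f Mi Mij g T t v hv p.1 i p.2 _
        (cocycle_calc Mi Mij g ψ T t u hu v hv Ψ₁ hΨ₁ Ψ₂ hΨ₂ Ψ₃ hΨ₃ hcoc i p.1 p.2 y'
          (m' p.1) (m' p.2) (hstar p.1) (hstar p.2))
    choose Np hNp using h2
    set N₂ := Finset.univ.sup Np with hN₂
    have hmem : (fun j => f i ^ N₂ • m' j) ∈ M := by
      rw [hM]
      intro j k
      have hle : Np (j, k) ≤ N₂ := Finset.le_sup (Finset.mem_univ (j, k))
      have := hNp (j, k)
      simp only at this
      have h3 : f i ^ N₂ • (g j k (m' j) - ψ k j (g k j (m' k))) = 0 := by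
        rw [← Nat.sub_add_cancel hle, pow_add, mul_smul, this, smul_zero]
      rw [smul_sub, sub_eq_zero] at h3
      simpa only [map_smul] using h3
    -- m' i = y'
    have hi : m' i = y' := by
      have hg : Function.Bijective (g i i) := loc_bijective (f i) (g i i) (hMi i)
      apply hg.1
      rw [hstar i, psi_self f Mi hMi Mij g ψ T t u hu v hv Ψ₁ hΨ₁ Ψ₂ hΨ₂ Ψ₃ hΨ₃ hcoc i]
    refine ⟨(⟨_, hmem⟩, ⟨f i ^ (N₂ + N₁), N₂ + N₁, rfl⟩), ?_⟩
    show f i ^ (N₂ + N₁) • y = f i ^ N₂ • m' i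
    rw [hi, hy', smul_smul, pow_add]
  · -- exists_of_eq
    intro x₁ x₂ hx
    have hx' : (x₁ : ∀ i, Mi i) i = (x₂ : ∀ i, Mi i) i := hx
    have hd : ((x₁ - x₂ : M) : ∀ i, Mi i) ∈ M := (x₁ - x₂).2
    rw [hM] at hd
    have h1 : ∀ j, ∃ n : ℕ, f i ^ n • ((x₁ - x₂ : M) : ∀ i, Mi i) j = 0 := by
      intro j
      apply loc_ker (f i) (g j i)
      rw [hd j i]
      have : ((x₁ - x₂ : M) : ∀ i, Mi i) i = 0 := by
        simp [hx']
      rw [this, map_zero, map_zero]
    choose n hn using h1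
    set N := Finset.univ.sup n with hN
    refine ⟨⟨f i ^ N, N, rfl⟩, ?_⟩
    show f i ^ N • x₁ = f i ^ N • x₂
    have key : f i ^ N • (x₁ - x₂) = 0 := by
      apply Subtype.ext
      funext j
      have hle : n j ≤ N := Finset.le_sup (Finset.mem_univ j)
      show f i ^ N • ((x₁ - x₂ : M) : ∀ i, Mi i) j = 0
      rw [← Nat.sub_add_cancel hle, pow_add, mul_smul, hn j, smul_zero]
    rwa [smul_sub, sub_eq_zero] at key

end Main

end Helpers

/-- Let R be a ring and f_i, i in a finite index set, elements of R (no condition on the ideal they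
generate). Suppose given for each i an R-module M_i on which f_i acts invertibly, for each pair (i,
j) an R-linear isomorphism ψ_ij : (M_i)_{f_j} → (M_j)_{f_i}, and suppose the cocycle condition ψ_jk
∘ ψ_ij = ψ_ik holds as maps (M_i)_{f_j f_k} → (M_k)_{f_i f_j} for all triples (i, j, k). All
localizations are given through their universal properties: (M_i)_{f_j} with its map g from M_i;
(M_i)_{f_j f_k} with its map t from M_i and the compatible maps u from (M_i)_{f_j} and v from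
(M_i)_{f_k}; and the three localized isomorphisms Ψ₁ (ψ_ij on (M_i)_{f_j f_k}), Ψ₂ (ψ_jk on
(M_j)_{f_i f_k}) and Ψ₃ (ψ_ik on (M_i)_{f_j f_k}) are given as maps compatible with the ψ's. Let M ⊆
Π_i M_i be the submodule of families (m_i) with m_i/1 = ψ_ji(m_j/1) in (M_i)_{f_j} for all i, j.
Then for each i the projection M → M_i exhibits M_i as the localization of M at f_i. -/
theorem result {R : Type u} [CommRing R] {ι : Type u} [Finite ι] (f : ι → R)
    (Mi : ι → Type u) [∀ i, AddCommGroup (Mi i)] [∀ i, Module R (Mi i)]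
    (hMi : ∀ i, IsUnit (algebraMap R (Module.End R (Mi i)) (f i)))
    (Mij : ι → ι → Type u) [∀ i j, AddCommGroup (Mij i j)] [∀ i j, Module R (Mij i j)]
    (g : ∀ i j, Mi i →ₗ[R] Mij i j) [∀ i j, IsLocalizedModule (Submonoid.powers (f j)) (g i j)]
    (ψ : ∀ i j, Mij i j ≃ₗ[R] Mij j i)
    (T : ι → ι → ι → Type u) [∀ i j k, AddCommGroup (T i j k)] [∀ i j k, Module R (T i j k)]
    (t : ∀ i j k, Mi i →ₗ[R] T i j k) [∀ i j k, IsLocalizedModule (Submonoid.powers (f j * f k)) (t i j k)]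
    (u : ∀ i j k, Mij i j →ₗ[R] T i j k) (hu : ∀ i j k, u i j k ∘ₗ g i j = t i j k)
    (v : ∀ i j k, Mij i k →ₗ[R] T i j k) (hv : ∀ i j k, v i j k ∘ₗ g i k = t i j k)
    (Ψ₁ : ∀ i j k, T i j k →ₗ[R] T j i k) (hΨ₁ : ∀ i j k, Ψ₁ i j k ∘ₗ u i j k = u j i k ∘ₗ (ψ i j).toLinearMap)
    (Ψ₂ : ∀ i j k, T j i k →ₗ[R] T k i j) (hΨ₂ : ∀ i j k, Ψ₂ i j k ∘ₗ v j i k = v k i j ∘ₗ (ψ j k).toLinearMap)
    (Ψ₃ : ∀ i j k, T i j k →ₗ[R] T k i j) (hΨ₃ : ∀ i j k, Ψ₃ i j k ∘ₗ v i j k = u k i j ∘ₗ (ψ i k).toLinearMap)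
    (hcoc : ∀ i j k, Ψ₂ i j k ∘ₗ Ψ₁ i j k = Ψ₃ i j k)
    (M : Submodule R (∀ i, Mi i)) (hM : ∀ m : ∀ i, Mi i, m ∈ M ↔ ∀ i j, g i j (m i) = ψ j i (g j i (m j))) (i : ι) :
    IsLocalizedModule (Submonoid.powers (f i)) ((LinearMap.proj i).comp M.subtype : ↥M →ₗ[R] Mi i) := by
  exact main_aux f Mi hMi Mij g ψ T t u hu v hv Ψ₁ hΨ₁ Ψ₂ hΨ₂ Ψ₃ hΨ₃ hcoc M hM i

end Groth.Agent.S9663
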