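import Groth.Statements.S9665
import Groth.Agent.Lib.H47FiberMod

set_option autoImplicit false
universe u
open CAlg

namespace Groth.Agent.S9665

/-- Part (2): (A_fin ⊆ A): let R → S be a ring map, N an S-module, q a prime of S and p the prime of R
below q; an associated prime of a module is a prime ideal equal to the annihilator of some element.
If q is an associated prime of the S-module N/pN, then q is an associated prime of the S-module N
⊗_R κ(p) (the fibre module over p, an S-module by restriction of scalars). -/
theorem result {R S : Type u} [CommRing R] [CommRing S] [Algebra R S] (N : Type u) [AddCommGroup N] [Module S N] [Module R N] [IsScalarTower R S N]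
    (p : Ideal R) [p.IsPrime] (q : Ideal S) [q.IsPrime] (hq : q.comap (algebraMap R S) = p)
    (h : q ∈ FlatCA.ass S (N ⧸ (p.map (algebraMap R S)) • (⊤ : Submodule S N))) :
    q ∈ FlatCA.ass S (FlatCA.fiberMod p S N) := by
  obtain ⟨_, nbar, hn⟩ := h
  obtain ⟨n, rfl⟩ := Submodule.Quotient.mk_surjective _ nbar
  refine ⟨inferInstance, FlatCA.toFiberMod p S N n, ?_⟩
  ext s
  rw [Lib.H47FiberMod.mem_annihilator_toFiberMod_iff, ← hn]
  constructor
  · intro hs
    exact ⟨1, fun h1 => (Ideal.IsPrime.ne_top ‹p.IsPrime›) ((Ideal.eq_top_iff_one _).mpr h1),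
      by rw [map_one, one_mul]; exact hs⟩
  · rintro ⟨r, hr, hrs⟩
    rcases Ideal.IsPrime.mem_or_mem ‹q.IsPrime› hrs with h | h
    · exfalso
      apply hr
      rw [← hq]
      exact h
    · exact h

end Groth.Agent.S9665
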