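import Groth.Statements.S9666
import Groth.Agent.Lib.H47FiberMod

set_option autoImplicit false
universe u
open CAlg

namespace Groth.Agent.S9666

/-- Part (3): (A ⊆ A_fin): let R → S be a ring map with S Noetherian, N an S-module, q a prime of S and
p the prime of R below q; an associated prime of a module is a prime ideal equal to the annihilator
of some element. If q is an associated prime of the S-module N ⊗_R κ(p) (the fibre module over p, an
S-module by restriction of scalars), then q is an associated prime of the S-module N/pN. -/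
theorem result {R S : Type u} [CommRing R] [CommRing S] [Algebra R S] (N : Type u) [AddCommGroup N] [Module S N] [Module R N] [IsScalarTower R S N] [IsNoetherianRing S]
    (p : Ideal R) [p.IsPrime] (q : Ideal S) [q.IsPrime] (hq : q.comap (algebraMap R S) = p)
    (h : q ∈ FlatCA.ass S (FlatCA.fiberMod p S N)) :
    q ∈ FlatCA.ass S (N ⧸ (p.map (algebraMap R S)) • (⊤ : Submodule S N)) := by
  classical
  obtain ⟨_, x, hx⟩ := h
  obtain ⟨n, hn⟩ := Lib.H47FiberMod.exists_annihilator_eq_toFiberMod N p x
  rw [hn] at hx
  -- `q = Ann (toFiberMod n)`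
  have hmem : ∀ s : S, s ∈ q → ∃ r, r ∉ p ∧ (algebraMap R S r) * s ∈ (Submodule.span S
      {(Submodule.Quotient.mk n : N ⧸ (p.map (algebraMap R S)) • (⊤ : Submodule S N))}).annihilator := by
    intro s hs
    rw [hx, Lib.H47FiberMod.mem_annihilator_toFiberMod_iff] at hs
    exact hs
  choose! f hf using hmem
  obtain ⟨G, hG⟩ := (IsNoetherian.noetherian q : q.FG)
  have hGq : ∀ s ∈ G, s ∈ q := fun s hs => hG ▸ Submodule.subset_span hs
  set r : R := ∏ s ∈ G, f s with hr
  have hrp : r ∉ p := by
    rw [hr, Ideal.IsPrime.prod_mem_iff]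
    rintro ⟨s, hs, hfs⟩
    exact (hf s (hGq s hs)).1 hfs
  refine ⟨inferInstance, Submodule.Quotient.mk ((algebraMap R S r) • n), ?_⟩
  apply le_antisymm
  · rw [← hG, Ideal.span_le]
    intro s hs
    rw [SetLike.mem_coe, Submodule.mem_annihilator_span_singleton]
    obtain ⟨c, hc⟩ := Finset.dvd_prod_of_mem f hs
    have h1 := (hf s (hGq s hs)).2
    rw [Submodule.mem_annihilator_span_singleton] at h1
    rw [Submodule.Quotient.mk_smul, smul_smul, hr, hc, map_mul,
      show s * (algebraMap R S (f s) * algebraMap R S c) =
        algebraMap R S c * (algebraMap R S (f s) * s) by ring, mul_smul, h1, smul_zero]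
  · intro s hs
    rw [Submodule.mem_annihilator_span_singleton, Submodule.Quotient.mk_smul, smul_smul] at hs
    rw [hx, Lib.H47FiberMod.mem_annihilator_toFiberMod_iff]
    refine ⟨r, hrp, ?_⟩
    rw [Submodule.mem_annihilator_span_singleton, mul_comm]
    exact hs

end Groth.Agent.S9666
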