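import Groth.Statements.S9667
import Mathlib.RingTheory.TensorProduct.DirectLimitFG
-- import your own Groth.Agent.* helpers here

set_option autoImplicit false
universe u
open CAlg

namespace Groth.Agent.S9667

open TensorProduct LinearMap in
theorem eq_zero_of_fg_of_lTensor_subtype_eq_zero {R : Type*} [CommRing R] {N M : Type*}
    [AddCommGroup N] [Module R N] [AddCommGroup M] [Module R M] {P : Submodule R M} (hP : P.FG)
    (t : N ⊗[R] P) (h : lTensor N P.subtype t = 0) :
    ∃ (Q : Submodule R M) (hPQ : P ≤ Q), Q.FG ∧ lTensor N (Submodule.inclusion hPQ) t = 0 := by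
  classical
  rw [← (lTensor N P.subtype).map_zero] at h
  simp only [← Submodule.FG.lTensor.directLimit_apply' R N M P hP,
    EmbeddingLike.apply_eq_iff_eq] at h
  obtain ⟨Q, hPQ, h⟩ := Module.DirectLimit.exists_eq_of_of_eq h
  exact ⟨Q.val, Subtype.coe_le_coe.mpr hPQ, Q.property, by simpa using h⟩

open TensorProduct LinearMap in
theorem lTensor_smul {R S : Type u} [CommRing R] [CommRing S] [Algebra R S] (N : Type u)
    [AddCommGroup N] [Module S N] [Module R N] [IsScalarTower R S N]
    {P Q : Type u} [AddCommGroup P] [Module R P] [AddCommGroup Q] [Module R Q]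
    (f : P →ₗ[R] Q) (s : S) (y : N ⊗[R] P) : f.lTensor N (s • y) = s • f.lTensor N y := by
  induction y using TensorProduct.induction_on with
  | zero => simp
  | tmul n m => simp [TensorProduct.smul_tmul']
  | add a b ha hb => simp only [smul_add, map_add, ha, hb]


open TensorProduct in
/-- Part (3): (B = B_fin): let R → S be a ring map with S Noetherian, N an S-module, M an R-module and q
a prime of S; an associated prime of a module is a prime ideal equal to the annihilator of some
element. If q is an associated prime of the S-module N ⊗_R M, then there is a finitely generated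
R-submodule M' ⊆ M such that q is an associated prime of the S-module N ⊗_R M'. -/
theorem result {R S : Type u} [CommRing R] [CommRing S] [Algebra R S] (N : Type u) [AddCommGroup N] [Module S N] [Module R N] [IsScalarTower R S N] [IsNoetherianRing S]
    (M : Type u) [AddCommGroup M] [Module R M] (q : Ideal S) [q.IsPrime] (h : q ∈ FlatCA.ass S (N ⊗[R] M)) :
    ∃ M' : Submodule R M, M'.FG ∧ q ∈ FlatCA.ass S (N ⊗[R] ↥M') := by
  classical
  obtain ⟨hqp, x, hx⟩ := h
  obtain ⟨M', hfin, hM'⟩ :=
    TensorProduct.exists_finite_submodule_right_of_setFinite {x} (Set.finite_singleton x)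
  obtain ⟨x', hx'⟩ := hM' (Set.mem_singleton x)
  have hM'fg : M'.FG := Module.Finite.iff_fg.mp hfin
  have key : ∀ F : Finset S, (∀ s ∈ F, s ∈ q) → ∃ (Q : Submodule R M) (hQ : M' ≤ Q), Q.FG ∧
      ∀ s ∈ F, s • LinearMap.lTensor N (Submodule.inclusion hQ) x' = 0 := by
    intro F
    induction F using Finset.induction_on with
    | empty => intro _; exact ⟨M', le_rfl, hM'fg, by simp⟩
    | insert a F ha ih =>
      intro hF
      obtain ⟨Q, hQ, hQfg, hkill⟩ := ih (fun s hs => hF s (Finset.mem_insert_of_mem hs))
      have ha0 : LinearMap.lTensor N Q.subtype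
          (a • LinearMap.lTensor N (Submodule.inclusion hQ) x') = 0 := by
        rw [lTensor_smul, ← LinearMap.comp_apply, ← LinearMap.lTensor_comp,
          Submodule.subtype_comp_inclusion, hx']
        have : a ∈ (Submodule.span S {x}).annihilator := hx ▸ hF a (Finset.mem_insert_self a F)
        exact (Submodule.mem_annihilator_span_singleton _ _).mp this
      obtain ⟨Q', hQQ', hQ'fg, h0⟩ := eq_zero_of_fg_of_lTensor_subtype_eq_zero hQfg _ ha0
      refine ⟨Q', hQ.trans hQQ', hQ'fg, ?_⟩
      have hcomp : LinearMap.lTensor N (Submodule.inclusion (hQ.trans hQQ')) x' =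
          LinearMap.lTensor N (Submodule.inclusion hQQ')
            (LinearMap.lTensor N (Submodule.inclusion hQ) x') := by
        rw [← LinearMap.comp_apply, ← LinearMap.lTensor_comp]
        rfl
      intro s hs
      rw [hcomp, ← lTensor_smul]
      rcases Finset.mem_insert.mp hs with rfl | hs
      · exact h0
      · rw [hkill s hs, map_zero]
  obtain ⟨F, hF⟩ := (IsNoetherian.noetherian q : q.FG)
  obtain ⟨Q, hQ, hQfg, hkill⟩ := key F (fun s hs => hF ▸ Ideal.subset_span hs)
  refine ⟨Q, hQfg, hqp, LinearMap.lTensor N (Submodule.inclusion hQ) x', ?_⟩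
  apply le_antisymm
  · rw [← hF, Ideal.span_le]
    intro s hs
    exact (Submodule.mem_annihilator_span_singleton _ _).mpr (hkill s hs)
  · intro s hs
    rw [hx, Submodule.mem_annihilator_span_singleton]
    have := (Submodule.mem_annihilator_span_singleton _ _).mp hs
    have h2 := congrArg (LinearMap.lTensor N Q.subtype) this
    rw [lTensor_smul, ← LinearMap.comp_apply, ← LinearMap.lTensor_comp,
      Submodule.subtype_comp_inclusion, hx', map_zero] at h2
    exact h2

end Groth.Agent.S9667
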