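import Groth.Statements.S9669
import Groth.Agent.Lib.H47FiberMod
import Groth.Agent.S9665

set_option autoImplicit false
universe u
open CAlg

namespace Groth.Agent.S9669

/-- Part (4): (A = A_fin = A'_fin): let R → S be a ring map, N an S-module flat over R and p a prime of
R; an associated prime of a module is a prime ideal equal to the annihilator of some element. Then
the set of associated primes of the S-module N/pN equals the set of associated primes of the
S-module N ⊗_R κ(p) (the fibre module over p, an S-module by restriction of scalars), and every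
prime in this set lies over p. -/
theorem result {R S : Type u} [CommRing R] [CommRing S] [Algebra R S] (N : Type u) [AddCommGroup N] [Module S N] [Module R N] [IsScalarTower R S N] [Module.Flat R N] (p : Ideal R) [p.IsPrime] :
    FlatCA.ass S (N ⧸ (p.map (algebraMap R S)) • (⊤ : Submodule S N)) = FlatCA.ass S (FlatCA.fiberMod p S N) ∧
      ∀ q ∈ FlatCA.ass S (N ⧸ (p.map (algebraMap R S)) • (⊤ : Submodule S N)), q.comap (algebraMap R S) = p := by
  have hb : ∀ q ∈ FlatCA.ass S (N ⧸ (p.map (algebraMap R S)) • (⊤ : Submodule S N)),
      q.comap (algebraMap R S) = p := by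
    rintro q ⟨hqp, nbar, hn⟩
    obtain ⟨n, rfl⟩ := Submodule.Quotient.mk_surjective _ nbar
    ext r
    rw [Ideal.mem_comap, hn, Submodule.mem_annihilator_span_singleton,
      ← Submodule.Quotient.mk_smul, Submodule.Quotient.mk_eq_zero]
    constructor
    · intro hr
      by_contra hrp
      have hnp := Lib.H47FiberMod.mem_of_smul_mem_of_flat N p hrp hr
      apply hqp.ne_top
      rw [hn, Ideal.eq_top_iff_one, Submodule.mem_annihilator_span_singleton, one_smul]
      exact (Submodule.Quotient.mk_eq_zero _).mpr hnp
    · intro hr
      exact Submodule.smul_mem_smul (Ideal.mem_map_of_mem _ hr) Submodule.mem_top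
  refine ⟨?_, hb⟩
  ext q
  constructor
  · intro hq
    have : q.IsPrime := hq.1
    exact Groth.Agent.S9665.result N p q (hb q hq) hq
  · rintro ⟨hqp, x, hx⟩
    obtain ⟨n, hn⟩ := Lib.H47FiberMod.exists_annihilator_eq_toFiberMod N p x
    refine ⟨hqp, Submodule.Quotient.mk n, ?_⟩
    rw [hx, hn]
    ext s
    rw [Lib.H47FiberMod.mem_annihilator_toFiberMod_iff]
    constructor
    · rintro ⟨r, hr, hrs⟩
      rw [Submodule.mem_annihilator_span_singleton, ← Submodule.Quotient.mk_smul,
        Submodule.Quotient.mk_eq_zero, mul_smul] at hrs
      rw [Submodule.mem_annihilator_span_singleton, ← Submodule.Quotient.mk_smul,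
        Submodule.Quotient.mk_eq_zero]
      exact Lib.H47FiberMod.mem_of_smul_mem_of_flat N p hr hrs
    · intro hs
      exact ⟨1, fun h1 => (Ideal.IsPrime.ne_top ‹p.IsPrime›) ((Ideal.eq_top_iff_one _).mpr h1),
        by rw [map_one, one_mul]; exact hs⟩

end Groth.Agent.S9669
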