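import Groth.Statements.S9670
import Groth.Agent.Lib.H47FiberMod
import Groth.Agent.S9669

set_option autoImplicit false
universe u
open CAlg

namespace Groth.Agent.S9670

open TensorProduct in
/-- the quotient case: `M ≃ R/p'`. -/
theorem ass_quotient_case {R S : Type u} [CommRing R] [CommRing S] [Algebra R S] (N : Type u)
    [AddCommGroup N] [Module S N] [Module R N] [IsScalarTower R S N]
    (M : Type u) [AddCommGroup M] [Module R M] (p' : Ideal R) (e : M ≃ₗ[R] R ⧸ p')
    (q : Ideal S) (hq : q ∈ FlatCA.ass S (N ⊗[R] M)) :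
    q ∈ FlatCA.ass S (N ⧸ (p'.map (algebraMap R S)) • (⊤ : Submodule S N)) := by
  obtain ⟨hqp, x, hx⟩ := hq
  set m₀ : M := e.symm 1 with hm₀
  -- every element is `n ⊗ m₀`
  have hsurj : ∀ x : N ⊗[R] M, ∃ n : N, x = n ⊗ₜ[R] m₀ := by
    intro x
    induction x using TensorProduct.induction_on with
    | zero => exact ⟨0, by rw [TensorProduct.zero_tmul]⟩
    | tmul n m =>
      obtain ⟨r, hr⟩ := Ideal.Quotient.mk_surjective (e m)
      refine ⟨r • n, ?_⟩
      have : m = r • m₀ := by
        apply e.injective
        rw [map_smul, hm₀, e.apply_symm_apply, ← hr, Algebra.smul_def, mul_one,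
          Ideal.Quotient.algebraMap_eq]
      rw [this, TensorProduct.smul_tmul]
    | add x y hx hy =>
      obtain ⟨n1, rfl⟩ := hx
      obtain ⟨n2, rfl⟩ := hy
      exact ⟨n1 + n2, by rw [TensorProduct.add_tmul]⟩
  have hker : ∀ n : N, n ⊗ₜ[R] m₀ = (0 : N ⊗[R] M) ↔
      n ∈ (p'.map (algebraMap R S)) • (⊤ : Submodule S N) := by
    intro n
    rw [Lib.H47FiberMod.mem_smul_top_iff]
    let Ψ : N ⊗[R] M ≃ₗ[R] N ⧸ p' • (⊤ : Submodule R N) :=
      (LinearEquiv.lTensor N e) ≪≫ₗ TensorProduct.tensorQuotEquivQuotSMul N p'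
    have hΨ : Ψ (n ⊗ₜ[R] m₀) = Submodule.Quotient.mk n := by
      simp only [Ψ, LinearEquiv.trans_apply, LinearEquiv.lTensor_tmul, hm₀,
        e.apply_symm_apply]
      rw [← map_one (Ideal.Quotient.mk p'), TensorProduct.tensorQuotEquivQuotSMul_tmul_mk, one_smul]
    rw [← Submodule.Quotient.mk_eq_zero, ← hΨ, LinearEquiv.map_eq_zero_iff]
  obtain ⟨n, rfl⟩ := hsurj x
  refine ⟨hqp, Submodule.Quotient.mk n, ?_⟩
  rw [hx]
  ext s
  rw [Submodule.mem_annihilator_span_singleton, Submodule.mem_annihilator_span_singleton,
    TensorProduct.smul_tmul', hker, ← Submodule.Quotient.mk_smul, Submodule.Quotient.mk_eq_zero]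


open TensorProduct in
theorem key {R S : Type u} [CommRing R] [CommRing S] [Algebra R S] (N : Type u) [AddCommGroup N]
    [Module S N] [Module R N] [IsScalarTower R S N] [IsNoetherianRing R] [Module.Flat R N]
    (M : Type u) [AddCommGroup M] [Module R M] [hM : Module.Finite R M] :
    ∀ q : Ideal S, q ∈ FlatCA.ass S (N ⊗[R] M) →
      ∃ p' : Ideal R, p'.IsPrime ∧
        q ∈ FlatCA.ass S (N ⧸ (p'.map (algebraMap R S)) • (⊤ : Submodule S N)) := by
  induction hM using
    IsNoetherianRing.induction_on_isQuotientEquivQuotientPrime R with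
  | subsingleton M =>
    rintro q ⟨hqp, x, hx⟩
    exfalso
    apply hqp.ne_top
    have hx0 : ∀ x : N ⊗[R] M, x = 0 := by
      intro x
      induction x using TensorProduct.induction_on with
      | zero => rfl
      | tmul n m => rw [Subsingleton.elim m 0, TensorProduct.tmul_zero]
      | add x y hx hy => rw [hx, hy, add_zero]
    rw [hx, Ideal.eq_top_iff_one, Submodule.mem_annihilator_span_singleton, hx0 x, smul_zero]
  | quotient M p' e =>
    intro q hq
    exact ⟨p'.1, p'.2, ass_quotient_case N M p'.1 e q hq⟩
  | exact M₁ M₂ M₃ f g hf hg hfg ih₁ ih₃ =>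
    intro q hq
    have hinj : Function.Injective (TensorProduct.AlgebraTensorModule.lTensor S N f) := by
      rw [TensorProduct.AlgebraTensorModule.coe_lTensor]
      exact Module.Flat.lTensor_preserves_injective_linearMap f hf
    have hex : Function.Exact (TensorProduct.AlgebraTensorModule.lTensor S N f)
        (TensorProduct.AlgebraTensorModule.lTensor S N g) := by
      rw [TensorProduct.AlgebraTensorModule.coe_lTensor,
        TensorProduct.AlgebraTensorModule.coe_lTensor]
      exact Module.Flat.lTensor_exact N hfg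
    rcases Lib.H47FiberMod.ass_subset_union_of_exact _ _ hinj hex hq with h | h
    · exact ih₁ q h
    · exact ih₃ q h


open TensorProduct in
/-- Part (5): (B_fin ⊆ A_fin): let R → S be a ring map with R Noetherian, N an S-module flat over R, M a
finite R-module, q a prime of S and p the prime of R below q; an associated prime of a module is a
prime ideal equal to the annihilator of some element. If q is an associated prime of the S-module N
⊗_R M, then q is an associated prime of the S-module N/pN. -/
theorem result {R S : Type u} [CommRing R] [CommRing S] [Algebra R S] (N : Type u) [AddCommGroup N] [Module S N] [Module R N] [IsScalarTower R S N] [IsNoetherianRing R] [Module.Flat R N]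
    (M : Type u) [AddCommGroup M] [Module R M] [Module.Finite R M] (p : Ideal R) [p.IsPrime] (q : Ideal S) [q.IsPrime] (hq : q.comap (algebraMap R S) = p)
    (h : q ∈ FlatCA.ass S (N ⊗[R] M)) :
    q ∈ FlatCA.ass S (N ⧸ (p.map (algebraMap R S)) • (⊤ : Submodule S N)) := by
  obtain ⟨p', hp', hq'⟩ := key N M q h
  have := (Groth.Agent.S9669.result (R := R) (S := S) N p').2 q hq'
  rw [hq] at this
  rw [this]
  exact hq'

end Groth.Agent.S9670
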