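import Groth.Statements.S9671
import Mathlib

set_option autoImplicit false
universe u
open CAlg

namespace Groth.Agent.S9671

/-- abstract interface to the ambient graded ring `(R × R')[T]`. -/
structure AmbData (R R' B : Type u) [CommRing R] [CommRing R'] [Algebra R R'] [CommRing B]
    [Algebra R B] where
  mono : ℕ → (R × R') →ₗ[R] B
  co : ℕ → B →ₗ[R] (R × R')
  ev : B →ₐ[R] (R × R')
  mono_mul : ∀ i j x y, mono i x * mono j y = mono (i + j) (x * y)
  mono_zero_one : mono 0 1 = 1
  co_mono : ∀ i j x, co i (mono j x) = if j = i then x else 0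
  co_zero_mul : ∀ x y, co 0 (x * y) = co 0 x * co 0 y
  ev_mono : ∀ n x, ev (mono n x) = x

section Generic

variable {R R' B : Type u} [CommRing R] [CommRing R'] [Algebra R R'] [CommRing B] [Algebra R B]
variable (D : AmbData R R' B) (t : Finset R')

/-- the degree one element `(0, c) T`. -/
noncomputable def gen (c : R') : B := D.mono 1 ((0 : R), c)

/-- the generating set: `(0,1)T` and `(0,x)T` for `x ∈ t`. -/
noncomputable def gens : Set B :=
  insert (gen D (1 : R')) ((fun x => gen D x) '' (t : Set R'))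

/-- the graded algebra `S`. -/
noncomputable def SAlg : Subalgebra R B := Algebra.adjoin R (gens D t)

/-- the homogeneous pieces. -/
noncomputable def piece (n : ℕ) : Submodule R (SAlg D t) :=
  Submodule.comap (SAlg D t).val.toLinearMap (LinearMap.range (D.mono n))

theorem mem_piece_iff (n : ℕ) (s : SAlg D t) :
    s ∈ piece D t n ↔ ∃ b : R × R', D.mono n b = (s : B) := by
  simp [piece]

theorem one_mem_piece : (1 : SAlg D t) ∈ piece D t 0 := by
  rw [mem_piece_iff]
  exact ⟨1, by rw [D.mono_zero_one]; rfl⟩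

theorem mul_mem_piece {i j : ℕ} {a b : SAlg D t} (ha : a ∈ piece D t i)
    (hb : b ∈ piece D t j) : a * b ∈ piece D t (i + j) := by
  rw [mem_piece_iff] at ha hb ⊢
  obtain ⟨x, hx⟩ := ha
  obtain ⟨y, hy⟩ := hb
  exact ⟨x * y, by rw [Subalgebra.coe_mul, ← hx, ← hy, D.mono_mul]⟩

theorem algebraMap_eq (r : R) : algebraMap R B r = D.mono 0 (r, algebraMap R R' r) := by
  rw [Algebra.algebraMap_eq_smul_one, ← D.mono_zero_one, ← map_smul]
  congr 1
  ext
  · simp
  · simp [Algebra.smul_def]

theorem algebraMap_mem_piece (r : R) : algebraMap R (SAlg D t) r ∈ piece D t 0 := by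
  rw [mem_piece_iff]
  exact ⟨_, (algebraMap_eq D r).symm⟩

theorem gen_mem_adjoin (c : R') (hc : c = 1 ∨ c ∈ t) : gen D c ∈ SAlg D t := by
  apply Algebra.subset_adjoin
  rcases hc with rfl | hc
  · exact Set.mem_insert _ _
  · exact Set.mem_insert_of_mem _ ⟨c, hc, rfl⟩

theorem co_eq_zero_of_mem_piece {i j : ℕ} (hij : j ≠ i) {s : SAlg D t}
    (hs : s ∈ piece D t j) : D.co i (s : B) = 0 := by
  rw [mem_piece_iff] at hs
  obtain ⟨b, hb⟩ := hs
  rw [← hb, D.co_mono, if_neg hij]

theorem iSupIndep_piece : iSupIndep (piece D t) := by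
  rw [iSupIndep_def]
  intro i
  rw [Submodule.disjoint_def]
  intro x hx hx'
  let Z : Submodule R (SAlg D t) :=
    Submodule.comap (SAlg D t).val.toLinearMap (LinearMap.ker (D.co i))
  have hle : (⨆ j, ⨆ (_ : j ≠ i), piece D t j) ≤ Z := by
    refine iSup₂_le fun j hj s hs => ?_
    change D.co i (s : B) = 0
    exact co_eq_zero_of_mem_piece D t hj hs
  have h0 : D.co i (x : B) = 0 := hle hx'
  rw [mem_piece_iff] at hx
  obtain ⟨b, hb⟩ := hx
  apply Subtype.ext
  rw [← hb] at h0 ⊢
  rw [D.co_mono, if_pos rfl] at h0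
  rw [h0, map_zero]
  rfl

theorem iSup_piece : (⨆ n, piece D t n) = ⊤ := by
  rw [eq_top_iff]
  rintro ⟨p, hp⟩ -
  have hmul : ∀ x y : SAlg D t, x ∈ (⨆ n, piece D t n) → y ∈ (⨆ n, piece D t n) →
      x * y ∈ (⨆ n, piece D t n) := by
    intro x y hx hy
    induction hx using Submodule.iSup_induction' with
    | mem i x hx =>
      induction hy using Submodule.iSup_induction' with
      | mem j y hy => exact Submodule.mem_iSup_of_mem _ (mul_mem_piece D t hx hy)
      | zero => rw [mul_zero]; exact zero_mem _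
      | add y y' _ _ h h' => rw [mul_add]; exact add_mem h h'
    | zero => rw [zero_mul]; exact zero_mem _
    | add x x' _ _ h h' => rw [add_mul]; exact add_mem h h'
  induction hp using Algebra.adjoin_induction with
  | mem x hx =>
    apply Submodule.mem_iSup_of_mem 1
    rw [mem_piece_iff]
    rcases hx with rfl | ⟨c, -, rfl⟩
    · exact ⟨_, rfl⟩
    · exact ⟨_, rfl⟩
  | algebraMap r => exact Submodule.mem_iSup_of_mem 0 (algebraMap_mem_piece D t r)
  | add x y hx hy h h' => exact add_mem h h'
  | mul x y hx hy h h' => exact hmul ⟨x, hx⟩ ⟨y, hy⟩ h h'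

theorem isInternal_piece : DirectSum.IsInternal (piece D t) :=
  DirectSum.isInternal_submodule_of_iSupIndep_of_iSup_eq_top (iSupIndep_piece D t)
    (iSup_piece D t)

/-- the graded algebra structure. -/
@[instance_reducible]
noncomputable def gradedAlgebra : GradedAlgebra (piece D t) :=
  letI := (isInternal_piece D t).chooseDecomposition
  { one_mem := one_mem_piece D t
    mul_mem := fun _ _ _ _ ha hb => mul_mem_piece D t ha hb }

theorem algebraMap_injective : Function.Injective (algebraMap R (SAlg D t)) := by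
  rw [injective_iff_map_eq_zero]
  intro r hr
  have h : D.co 0 ((algebraMap R (SAlg D t) r : SAlg D t) : B) = 0 := by
    rw [hr]; exact map_zero _
  rw [Subalgebra.coe_algebraMap, algebraMap_eq D, D.co_mono, if_pos rfl] at h
  exact congrArg Prod.fst h

theorem co_zero_snd (p : B) (hp : p ∈ SAlg D t) :
    (D.co 0 p).2 = algebraMap R R' (D.co 0 p).1 := by
  induction hp using Algebra.adjoin_induction with
  | mem x hx =>
    rcases hx with rfl | ⟨c, -, rfl⟩
    · simp [gen, D.co_mono]
    · simp [gen, D.co_mono]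
  | algebraMap r => rw [algebraMap_eq D, D.co_mono, if_pos rfl]
  | add x y _ _ hx hy => simp [map_add, hx, hy]
  | mul x y _ _ hx hy => rw [D.co_zero_mul]; simp [hx, hy]

theorem mem_range_of_mem_piece_zero (x : SAlg D t) (hx : x ∈ piece D t 0) :
    x ∈ Set.range (algebraMap R (SAlg D t)) := by
  rw [mem_piece_iff] at hx
  obtain ⟨b, hb⟩ := hx
  have h := co_zero_snd D t x x.2
  rw [← hb, D.co_mono, if_pos rfl] at h
  refine ⟨b.1, Subtype.ext ?_⟩
  rw [Subalgebra.coe_algebraMap, algebraMap_eq D, ← hb, ← h]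

theorem exists_finset : ∃ s : Finset (SAlg D t),
    (↑s ⊆ (piece D t 1 : Set (SAlg D t))) ∧ Algebra.adjoin R (s : Set (SAlg D t)) = ⊤ := by
  classical
  have hfin : (gens D t).Finite :=
    Set.Finite.insert _ (Set.Finite.image _ t.finite_toSet)
  have hfin' : ((↑) ⁻¹' gens D t : Set (SAlg D t)).Finite :=
    hfin.preimage Subtype.val_injective.injOn
  refine ⟨hfin'.toFinset, ?_, ?_⟩
  · intro x hx
    rw [Set.Finite.coe_toFinset] at hx
    show x ∈ piece D t 1
    rw [mem_piece_iff]
    rcases hx with h | ⟨c, -, h⟩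
    · exact ⟨_, h.symm⟩
    · exact ⟨_, h⟩
  · rw [Set.Finite.coe_toFinset]
    exact Algebra.adjoin_adjoin_coe_preimage

/-- evaluation at `T = 1` followed by the second projection. -/
noncomputable def evS : SAlg D t →+* R' :=
  (RingHom.snd R R').comp ((D.ev : B →+* R × R').comp (SAlg D t).val.toRingHom)

theorem evS_apply (s : SAlg D t) : evS D t s = (D.ev (s : B)).2 := rfl

/-- the degree one element `f = (0,1)T`. -/
noncomputable def fS : SAlg D t := ⟨gen D 1, gen_mem_adjoin D t 1 (Or.inl rfl)⟩

theorem fS_mem : fS D t ∈ piece D t 1 := (mem_piece_iff D t 1 _).2 ⟨_, rfl⟩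

theorem evS_fS : evS D t (fS D t) = 1 := by
  rw [evS_apply]
  show (D.ev (D.mono 1 (0, 1))).2 = 1
  rw [D.ev_mono]

theorem evS_of_mono {n : ℕ} {b : R × R'} {s : SAlg D t} (h : D.mono n b = (s : B)) :
    evS D t s = b.2 := by
  rw [evS_apply, ← h, D.ev_mono]

theorem evS_algebraMap (r : R) : evS D t (algebraMap R (SAlg D t) r) = algebraMap R R' r := by
  rw [evS_apply, Subalgebra.coe_algebraMap, AlgHom.commutes]
  rfl

theorem mono_succ (n : ℕ) (c : R') :
    D.mono n ((0 : R), c) * gen D (1 : R') = D.mono (n + 1) ((0 : R), c) := by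
  unfold gen
  rw [D.mono_mul]
  congr 1
  ext <;> simp

theorem bump {n : ℕ} {c : R'} (h : D.mono n ((0 : R), c) ∈ SAlg D t) (k : ℕ) :
    D.mono (n + k) ((0 : R), c) ∈ SAlg D t := by
  induction k with
  | zero => exact h
  | succ k ih =>
    rw [← add_assoc, ← mono_succ]
    exact mul_mem ih (gen_mem_adjoin D t 1 (Or.inl rfl))

theorem exists_mono_mem (ht : Algebra.adjoin R (t : Set R') = ⊤) (c : R') :
    ∃ n, D.mono n ((0 : R), c) ∈ SAlg D t := by
  have hc : c ∈ Algebra.adjoin R (t : Set R') := ht ▸ Algebra.mem_top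
  induction hc using Algebra.adjoin_induction with
  | mem x hx => exact ⟨1, gen_mem_adjoin D t x (Or.inr hx)⟩
  | algebraMap r =>
    refine ⟨1, ?_⟩
    have : D.mono 1 ((0 : R), algebraMap R R' r) = r • gen D (1 : R') := by
      unfold gen
      rw [← map_smul]
      congr 1
      ext <;> simp [Algebra.smul_def]
    rw [this]
    exact Subalgebra.smul_mem _ (gen_mem_adjoin D t 1 (Or.inl rfl)) r
  | add x y _ _ hx hy =>
    obtain ⟨n, hn⟩ := hx
    obtain ⟨m, hm⟩ := hy
    refine ⟨n + m, ?_⟩
    have : D.mono (n + m) ((0 : R), x + y)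
        = D.mono (n + m) ((0 : R), x) + D.mono (n + m) ((0 : R), y) := by
      rw [← map_add]
      congr 1
      ext <;> simp
    rw [this]
    exact add_mem (bump D t hn m) (by rw [add_comm n m]; exact bump D t hm n)
  | mul x y _ _ hx hy =>
    obtain ⟨n, hn⟩ := hx
    obtain ⟨m, hm⟩ := hy
    refine ⟨n + m, ?_⟩
    have : D.mono (n + m) ((0 : R), x * y)
        = D.mono n ((0 : R), x) * D.mono m ((0 : R), y) := by
      rw [D.mono_mul]
      congr 1
      ext <;> simp
    rw [this]
    exact mul_mem hn hm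

section Iso

attribute [local instance] gradedAlgebra

theorem isUnit_evS_fS : IsUnit (evS D t (fS D t)) :=
  isUnit_iff_exists_inv.mpr ⟨1, by rw [evS_fS, mul_one]⟩

/-- the comparison map `S_(f) → R'`. -/
noncomputable def Phi : HomogeneousLocalization.Away (piece D t) (fS D t) →+* R' :=
  (Localization.awayLift (evS D t) (fS D t) (isUnit_evS_fS D t)).comp
    (algebraMap (HomogeneousLocalization.Away (piece D t) (fS D t))
      (Localization.Away (fS D t)))

theorem Phi_apply (x : HomogeneousLocalization.Away (piece D t) (fS D t)) :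
    Phi D t x = Localization.awayLift (evS D t) (fS D t) (isUnit_evS_fS D t) x.val := rfl

theorem Phi_mk (n : ℕ) (a : SAlg D t) (ha : a ∈ piece D t (n • 1)) :
    Phi D t (HomogeneousLocalization.Away.mk (piece D t) (fS_mem D t) n a ha) = evS D t a := by
  rw [Phi_apply, HomogeneousLocalization.Away.val_mk,
    Localization.awayLift_mk (evS D t) (fS D t) a 1 (by rw [evS_fS, mul_one]) n, one_pow,
    mul_one]

theorem Phi_surjective (ht : Algebra.adjoin R (t : Set R') = ⊤) :
    Function.Surjective (Phi D t) := by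
  intro c
  obtain ⟨n, hn⟩ := exists_mono_mem D t ht c
  refine ⟨HomogeneousLocalization.Away.mk (piece D t) (fS_mem D t) n ⟨_, hn⟩ ?_, ?_⟩
  · rw [mem_piece_iff]
    exact ⟨(0, c), by rw [smul_eq_mul, mul_one]⟩
  · rw [Phi_mk, evS_of_mono D t (n := n) (b := (0, c)) rfl]

theorem Phi_injective : Function.Injective (Phi D t) := by
  rw [injective_iff_map_eq_zero]
  intro x hx
  obtain ⟨n, a, ha, rfl⟩ :=
    HomogeneousLocalization.Away.mk_surjective (piece D t) (fS_mem D t) x
  rw [Phi_mk] at hx
  have ha' := ha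
  rw [mem_piece_iff] at ha'
  obtain ⟨b, hb⟩ := ha'
  rw [evS_of_mono D t hb] at hx
  apply HomogeneousLocalization.val_injective
  rw [HomogeneousLocalization.Away.val_mk, HomogeneousLocalization.val_zero,
    Localization.mk_eq_mk', IsLocalization.mk'_eq_zero_iff]
  refine ⟨⟨fS D t, 1, pow_one _⟩, Subtype.ext ?_⟩
  show gen D (1 : R') * (a : B) = 0
  rw [← hb]
  unfold gen
  rw [D.mono_mul]
  have : ((0 : R), (1 : R')) * b = 0 := by
    ext <;> simp [hx]
  rw [this, map_zero]

/-- the isomorphism `S_(f) ≃ R'`. -/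
noncomputable def eIso (ht : Algebra.adjoin R (t : Set R') = ⊤) :
    HomogeneousLocalization.Away (piece D t) (fS D t) ≃+* R' :=
  RingEquiv.ofBijective (Phi D t) ⟨Phi_injective D t, Phi_surjective D t ht⟩

theorem eIso_symm_val (ht : Algebra.adjoin R (t : Set R') = ⊤) (r : R) :
    ((eIso D t ht).symm (algebraMap R R' r)).val
      = algebraMap (SAlg D t) (Localization.Away (fS D t)) (algebraMap R (SAlg D t) r) := by
  have h0 : algebraMap R (SAlg D t) r ∈ piece D t (0 • 1) := by
    rw [zero_smul]
    exact algebraMap_mem_piece D t r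
  have h1 : (eIso D t ht).symm (algebraMap R R' r)
      = HomogeneousLocalization.Away.mk (piece D t) (fS_mem D t) 0 _ h0 := by
    rw [RingEquiv.symm_apply_eq]
    show _ = Phi D t _
    rw [Phi_mk, evS_algebraMap]
  rw [h1, HomogeneousLocalization.Away.val_mk, ← Localization.mk_one_eq_algebraMap]
  congr 1
  exact Subtype.ext (pow_zero _)

end Iso

include D in
theorem generic (ht : Algebra.adjoin R (t : Set R') = ⊤) :
    ∃ (S : Type u) (_ : CommRing S) (_ : Algebra R S) (𝒜 : ℕ → Submodule R S)
      (_ : GradedAlgebra 𝒜) (f : S) (_ : f ∈ 𝒜 1) (s : Finset S)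
      (e : HomogeneousLocalization.Away 𝒜 f ≃+* R'),
      Function.Injective (algebraMap R S) ∧ (∀ x ∈ 𝒜 0, x ∈ Set.range (algebraMap R S)) ∧
      (↑s ⊆ (𝒜 1 : Set S)) ∧ Algebra.adjoin R (s : Set S) = ⊤ ∧
      ∀ r : R, (e.symm (algebraMap R R' r)).val
        = algebraMap S (Localization.Away f) (algebraMap R S r) := by
  obtain ⟨s, hs1, hs2⟩ := exists_finset D t
  exact ⟨SAlg D t, inferInstance, inferInstance, piece D t, gradedAlgebra D t, fS D t,
    fS_mem D t, s, eIso D t ht, algebraMap_injective D t,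
    fun x hx => mem_range_of_mem_piece_zero D t x hx, hs1, hs2, eIso_symm_val D t ht⟩

end Generic

/-- the concrete ambient ring `(R × R')[T]`. -/
noncomputable def ambData (R R' : Type u) [CommRing R] [CommRing R'] [Algebra R R'] :
    AmbData R R' (Polynomial (R × R')) where
  mono n := (Polynomial.monomial n : (R × R') →ₗ[R × R'] Polynomial (R × R')).restrictScalars R
  co n := (Polynomial.lcoeff (R × R') n).restrictScalars R
  ev := (Polynomial.aeval (1 : R × R') : Polynomial (R × R') →ₐ[R × R'] R × R').restrictScalars R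
  mono_mul i j x y := Polynomial.monomial_mul_monomial i j x y
  mono_zero_one := Polynomial.monomial_zero_one
  co_mono i j x := by
    show (Polynomial.monomial j x).coeff i = _
    rw [Polynomial.coeff_monomial]
  co_zero_mul x y := Polynomial.mul_coeff_zero x y
  ev_mono n x := by
    show Polynomial.aeval (1 : R × R') (Polynomial.monomial n x) = x
    rw [Polynomial.aeval_monomial, one_pow, mul_one]
    rfl


/-- Let R be a ring and R' an R-algebra of finite type. Then there are an ℕ-graded R-algebra S such that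
R → S₀ is bijective and S is generated as an R-algebra by a finite set of degree-1 elements, an
element f ∈ S₁, and a ring isomorphism e between the degree-zero part S_(f) of the localization S_f
and R' which matches r/1 with the image of r in R' for every r ∈ R (so R' is identified with S_(f)
as an R-algebra). The published statement also produces, from a finite R'-module, a finite graded
S-module whose degree-zero localization at f recovers it; that half is not part of this row. -/
theorem result (R R' : Type u) [CommRing R] [CommRing R'] [Algebra R R'] [Algebra.FiniteType R R'] :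
    ∃ (S : Type u) (_ : CommRing S) (_ : Algebra R S) (𝒜 : ℕ → Submodule R S) (_ : GradedAlgebra 𝒜) (f : S) (_ : f ∈ 𝒜 1) (s : Finset S)
      (e : HomogeneousLocalization.Away 𝒜 f ≃+* R'),
      Function.Injective (algebraMap R S) ∧ (∀ x ∈ 𝒜 0, x ∈ Set.range (algebraMap R S)) ∧
      (↑s ⊆ (𝒜 1 : Set S)) ∧ Algebra.adjoin R (s : Set S) = ⊤ ∧
      ∀ r : R, (e.symm (algebraMap R R' r)).val = algebraMap S (Localization.Away f) (algebraMap R S r) := by
  obtain ⟨t, ht⟩ := (Algebra.FiniteType.out : (⊤ : Subalgebra R R').FG)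
  exact generic (ambData R R') t ht

end Groth.Agent.S9671
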