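import Groth.Statements.S9682
import Groth.Agent.Lib.QFAt91
import Groth.Agent.Lib.SpecDim
import Groth.Agent.Lib.TopKrullDim

set_option autoImplicit false
universe u
open CategoryTheory CategoryTheory.Limits AlgebraicGeometry
open Mor

namespace Groth.Agent.S9682

/-- a point whose closure is an irreducible component has no proper generizations -/
theorem eq_of_specializes_generic {T : Type*} [TopologicalSpace T] [T0Space T] {η y : T}
    (hη : closure {η} ∈ irreducibleComponents T) (h : y ⤳ η) : y = η := by
  have h1 : closure {η} ⊆ closure {y} :=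
    closure_minimal (Set.singleton_subset_iff.mpr (specializes_iff_mem_closure.mp h))
      isClosed_closure
  have h2 : closure {y} ⊆ closure {η} := hη.2 isIrreducible_singleton.closure h1
  have h3 : η ⤳ y := specializes_iff_mem_closure.mpr (h2 (subset_closure rfl))
  exact (h.antisymm h3).eq

/-- every point is a specialization of a generic point of an irreducible component -/
theorem exists_generic_specializes {T : Type*} [TopologicalSpace T] [QuasiSober T] (x : T) :
    ∃ x' : T, x' ⤳ x ∧ closure {x'} ∈ irreducibleComponents T := by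
  have hZ := irreducibleComponent_mem_irreducibleComponents x
  obtain ⟨x', hx'⟩ := QuasiSober.sober hZ.1 isClosed_irreducibleComponent
  refine ⟨x', ?_, ?_⟩
  · rw [specializes_iff_mem_closure, hx'.def]
    exact mem_irreducibleComponent
  · rw [hx'.def]; exact hZ

/-- a point where `f` is quasi-finite is closed in its fibre -/
theorem eq_of_quasiFiniteAt_of_specializes {X Y : Scheme.{u}} (f : X ⟶ Y) [LocallyOfFiniteType f]
    (x x' : X) (hx : f.QuasiFiniteAt x) (h1 : f x' = f x) (h2 : x ⤳ x') : x' = x := by
  have hc : IsClosed {f.asFiber x} := hx.isClopen_singleton_asFiber.1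
  rw [← (f.fiberHomeo (f x)).isClosed_image] at hc
  have himg : (f.fiberHomeo (f x)) '' {f.asFiber x} = {(⟨x, rfl⟩ : ↥(f ⁻¹' {f x}))} := by
    rw [Set.image_singleton]
    simp [Scheme.Hom.asFiber]
  rw [himg] at hc
  have hs : (⟨x, rfl⟩ : ↥(f ⁻¹' {f x})) ⤳ (⟨x', h1⟩ : ↥(f ⁻¹' {f x})) := by
    rw [← Topology.IsInducing.subtypeVal.specializes_iff]
    exact h2
  have := hs.mem_closed hc rfl
  exact congrArg Subtype.val this


/-- Take f : X ⟶ Y locally of finite type and η the generic point of some irreducible component of Y.
Three conditions turn out to coincide: (1) each point of X mapping to η is the generic point of some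
irreducible component of X; (2) f is quasi-finite at every point over η; (3) f is quasi-finite at
each point over η that is generic in some irreducible component of X. Stated as (1) iff (2) together
with (1) iff (3). -/
theorem result {X Y : Scheme.{u}} (f : X ⟶ Y)
    [LocallyOfFiniteType f] (η : Y) (hη : closure {η} ∈ irreducibleComponents ↥Y) :
    ((∀ x : X, f.base x = η → closure {x} ∈ irreducibleComponents ↥X) ↔
      (∀ x : X, f.base x = η → f.QuasiFiniteAt x)) ∧
    ((∀ x : X, f.base x = η → closure {x} ∈ irreducibleComponents ↥X) ↔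
      (∀ x : X, f.base x = η → closure {x} ∈ irreducibleComponents ↥X → f.QuasiFiniteAt x)) := by
  -- (1) ⇒ (2)
  have h12 : (∀ x : X, f x = η → closure {x} ∈ irreducibleComponents ↥X) →
      ∀ x : X, f x = η → f.QuasiFiniteAt x := by
    intro h1 x hx
    rw [← Groth.Agent.Lib.QFAt91.fibreDimAt_eq_zero_iff]
    apply le_antisymm _ (Groth.Agent.Lib.TopKrullDim.localDim_nonneg _)
    refine (Groth.Agent.Lib.TopKrullDim.localDim_le_dim_open _ ⊤ trivial).trans ?_
    refine (topologicalKrullDim_subspace_le _ _).trans ?_
    rw [Groth.Agent.Lib.SpecDim.topologicalKrullDim_eq_krullDim]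
    letI := specializationOrder (f.fiber (f x))
    apply Order.krullDim_nonpos_iff_forall_isMax.mpr ?_
    intro a b hab
    have hab' : b ⤳ a := hab
    have h3 : f.fiberι (f x) b ⤳ f.fiberι (f x) a := hab'.map (f.fiberι (f x)).continuous
    have ha : f (f.fiberι (f x) a) = η := ((f.fiberHomeo (f x) a).2).trans hx
    have h4 := eq_of_specializes_generic (h1 _ ha) h3
    have h5 : b = a := (f.fiberι (f x)).isEmbedding.injective h4
    rw [h5]
  -- quasi-finite at a point over `η` ⇒ generic
  have h21 : ∀ x : X, f x = η → f.QuasiFiniteAt x → closure {x} ∈ irreducibleComponents ↥X := by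
    intro x hx hq
    obtain ⟨x', hx'x, hx'⟩ := exists_generic_specializes x
    have h3 : f x' = η := by
      have h4 : f x' ⤳ f x := hx'x.map f.continuous
      rw [hx] at h4
      exact eq_of_specializes_generic hη h4
    obtain ⟨O, hO, hxO, hOx⟩ := (Groth.Agent.Lib.QFAt91.quasiFiniteAt_iff_isolated f x).mp hq
    have h5 : x' ∈ O := hx'x.mem_open hO hxO
    have h6 : x' = x := hOx x' h5 (h3.trans hx.symm)
    rwa [h6] at hx'
  -- (3) ⇒ (1)
  have h31 : (∀ x : X, f x = η → closure {x} ∈ irreducibleComponents ↥X → f.QuasiFiniteAt x) →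
      ∀ x : X, f x = η → closure {x} ∈ irreducibleComponents ↥X := by
    intro h3 x hx
    obtain ⟨x', hx'x, hx'⟩ := exists_generic_specializes x
    have h4 : f x' = η := by
      have h5 : f x' ⤳ f x := hx'x.map f.continuous
      rw [hx] at h5
      exact eq_of_specializes_generic hη h5
    have hq := h3 x' h4 hx'
    have h6 : x = x' := eq_of_quasiFiniteAt_of_specializes f x' x hq (hx.trans h4.symm) hx'x
    rwa [h6]
  refine ⟨⟨h12, fun h2 x hx => h21 x hx (h2 x hx)⟩, ⟨fun h1 x hx _ => h12 h1 x hx, h31⟩⟩

end Groth.Agent.S9682
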