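import Groth.Statements.S9683
import Groth.Agent.Lib.SpecDim
import Mathlib.RingTheory.Ideal.GoingUp

set_option autoImplicit false
universe u
open CategoryTheory CategoryTheory.Limits AlgebraicGeometry
open Mor

namespace Groth.Agent.S9683

/-- Incomparability for integral ring maps, on prime spectra. -/
theorem eq_of_specializes_of_comap_eq {A B : Type u} [CommRing A] [CommRing B] (φ : A →+* B)
    (hφ : φ.IsIntegral) {p p' : PrimeSpectrum B} (h : p ⤳ p')
    (hc : PrimeSpectrum.comap φ p = PrimeSpectrum.comap φ p') : p = p' := by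
  algebraize [φ]
  have : Algebra.IsIntegral A B := ⟨hφ⟩
  have hle : p.asIdeal ≤ p'.asIdeal := (PrimeSpectrum.le_iff_specializes p p').mpr h
  by_contra hne
  have hlt : p.asIdeal < p'.asIdeal :=
    lt_of_le_of_ne hle (fun h' => hne (PrimeSpectrum.ext h'))
  have h1 := Ideal.IsIntegral.comap_lt_comap (R := A) hlt
  have h2 : p.asIdeal.comap (algebraMap A B) = p'.asIdeal.comap (algebraMap A B) :=
    congrArg PrimeSpectrum.asIdeal hc
  exact (ne_of_lt h1) h2

/-- No nontrivial specializations in the fibres of an integral morphism of affine schemes. -/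
theorem eq_of_specializes_of_isAffine {X Y : Scheme.{u}} [IsAffine X] [IsAffine Y] (f : X ⟶ Y)
    [IsIntegralHom f] {a a' : X} (h : a ⤳ a') (hf : f.base a = f.base a') : a = a' := by
  have hint : (f.appTop).hom.IsIntegral := IsIntegralHom.isIntegral_app f ⊤ (isAffineOpen_top Y)
  have h1 : X.isoSpec.hom.base a ⤳ X.isoSpec.hom.base a' := h.map X.isoSpec.hom.continuous
  have hnat : ∀ x : X, (Spec.map f.appTop).base (X.isoSpec.hom.base x) =
      Y.isoSpec.hom.base (f.base x) := by
    intro x
    have := Scheme.isoSpec_hom_naturality f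
    rw [← Scheme.Hom.comp_apply, ← Scheme.Hom.comp_apply, this]
  have h2 : (Spec.map f.appTop).base (X.isoSpec.hom.base a) =
      (Spec.map f.appTop).base (X.isoSpec.hom.base a') := by
    rw [hnat, hnat, hf]
  have h3 := eq_of_specializes_of_comap_eq f.appTop.hom hint h1 h2
  exact X.isoSpec.hom.homeomorph.injective h3

/-- No nontrivial specializations in the fibres of an integral morphism. -/
theorem eq_of_specializes {X Y : Scheme.{u}} (f : X ⟶ Y)
    [IsIntegralHom f] {a a' : X} (h : a ⤳ a') (hf : f.base a = f.base a') : a = a' := by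
  obtain ⟨_, ⟨V, hV : IsAffineOpen V, rfl⟩, ha'V, -⟩ :=
    (Y.isBasis_affineOpens).exists_subset_of_mem_open (Set.mem_univ (f.base a')) isOpen_univ
  have hU : IsAffineOpen (f ⁻¹ᵁ V) := IsAffineHom.isAffine_preimage V hV
  have ha' : a' ∈ f ⁻¹ᵁ V := ha'V
  have ha : a ∈ f ⁻¹ᵁ V := h.mem_open (f ⁻¹ᵁ V).isOpen ha'
  have : IsAffine (V : Scheme.{u}) := hV
  have : IsAffine ((f ⁻¹ᵁ V : X.Opens) : Scheme.{u}) := hU
  let b : ↥(f ⁻¹ᵁ V) := ⟨a, ha⟩
  let b' : ↥(f ⁻¹ᵁ V) := ⟨a', ha'⟩
  have hb : b ⤳ b' := (subtype_specializes_iff b b').mpr h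
  have hfb : (f ∣_ V).base b = (f ∣_ V).base b' := by
    apply Subtype.ext
    rw [morphismRestrict_base_coe, morphismRestrict_base_coe]
    exact hf
  have := eq_of_specializes_of_isAffine (f ∣_ V) hb hfb
  exact congrArg Subtype.val this

section
variable {A B : Type*} [TopologicalSpace A] [TopologicalSpace B]

attribute [local instance] specializationOrder

theorem topologicalKrullDim_le_of_fibres [QuasiSober A] [T0Space A] [QuasiSober B]
    [T0Space B] (φ : A → B) (hc : Continuous φ)
    (hfib : ∀ a a' : A, a ⤳ a' → φ a = φ a' → a = a') :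
    topologicalKrullDim A ≤ topologicalKrullDim B := by
  rw [Groth.Agent.Lib.SpecDim.topologicalKrullDim_eq_krullDim,
    Groth.Agent.Lib.SpecDim.topologicalKrullDim_eq_krullDim]
  have hmono : StrictMono φ := by
    intro a b hab
    obtain ⟨h1, h2⟩ := hab
    refine ⟨h1.map hc, fun h3 => h2 ?_⟩
    have : φ a = φ b := (h3.antisymm (h1.map hc)).eq
    have := hfib b a h1 this.symm
    rw [this]
  exact Order.krullDim_le_of_strictMono φ hmono

theorem topologicalKrullDim_eq_of_specializingMap [QuasiSober A] [T0Space A] [QuasiSober B]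
    [T0Space B] (φ : A → B) (hc : Continuous φ) (hs : Function.Surjective φ)
    (hg : SpecializingMap φ) (hfib : ∀ a a' : A, a ⤳ a' → φ a = φ a' → a = a') :
    topologicalKrullDim A = topologicalKrullDim B := by
  rw [Groth.Agent.Lib.SpecDim.topologicalKrullDim_eq_krullDim,
    Groth.Agent.Lib.SpecDim.topologicalKrullDim_eq_krullDim]
  have hmono : StrictMono φ := by
    intro a b hab
    obtain ⟨h1, h2⟩ := hab
    refine ⟨h1.map hc, fun h3 => h2 ?_⟩
    have : φ a = φ b := (h3.antisymm (h1.map hc)).eq
    have := hfib b a h1 this.symm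
    rw [this]
  have hlift : ∀ a : A, ∀ b : B, b < φ a → ∃ a' : A, a' < a ∧ φ a' = b := by
    intro a b hab
    obtain ⟨a', ha', rfl⟩ := hg hab.1
    refine ⟨a', ⟨ha', fun h => hab.2 (h.map hc)⟩, rfl⟩
  have hco : ∀ a : A, Order.height a = Order.height (φ a) :=
    Order.height_eq_of_strictMono φ hmono hlift
  rw [Order.krullDim_eq_iSup_height, Order.krullDim_eq_iSup_height]
  rw [← hs.iSup_comp]
  simp only [hco]

end

/-- For any integral morphism of schemes f : X ⟶ Y, the dimension of X is at most that of Y, and if f is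
surjective then dim X = dim Y (dimensions of the underlying topological spaces). -/
theorem result {X Y : Scheme.{u}} (f : X ⟶ Y) [IsIntegralHom f] :
    topologicalKrullDim ↥X ≤ topologicalKrullDim ↥Y ∧
      (Surjective f → topologicalKrullDim ↥X = topologicalKrullDim ↥Y) := by
  refine ⟨topologicalKrullDim_le_of_fibres f.base f.continuous
    (fun a a' h hf => eq_of_specializes f h hf), fun hs => ?_⟩
  exact topologicalKrullDim_eq_of_specializingMap f.base f.continuous hs.surj
    f.isClosedMap.specializingMap (fun a a' h hf => eq_of_specializes f h hf)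

end Groth.Agent.S9683
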