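import Groth.Statements.S9685
import Groth.Agent.S9686
import Groth.Agent.Lib.GenericFibrePoint
import Groth.Agent.Lib.SpecDim

set_option autoImplicit false
universe u
open CategoryTheory CategoryTheory.Limits AlgebraicGeometry
open Mor

namespace Groth.Agent.S9685

/-- Let X and Y be integral schemes with Y locally Noetherian and f : X ⟶ Y dominant and locally of
finite type. If n is the transcendence degree of the function field of X over the function field of
Y (computed on residue fields at the generic points), then dim X ≤ dim Y + n, and equality holds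
when the underlying map of f is closed. -/
theorem result {X Y : Scheme.{u}} [IsIntegral X] [IsIntegral Y]
    [IsLocallyNoetherian Y] (f : X ⟶ Y) [IsDominant f] [LocallyOfFiniteType f] (n : ℕ)
    (hn : letI := (f.residueFieldMap (genericPoint ↥X)).hom.toAlgebra
      Algebra.trdeg (Y.residueField (f.base (genericPoint ↥X))) (X.residueField (genericPoint ↥X)) = n) :
    topologicalKrullDim ↥X ≤ topologicalKrullDim ↥Y + n ∧
      (IsClosedMap f.base → topologicalKrullDim ↥X = topologicalKrullDim ↥Y + n) := by
  have hgen : ∀ ξ : X, closure {ξ} ∈ irreducibleComponents ↥X → ξ = genericPoint ↥X := by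
    intro ξ hξ
    rw [irreducibleComponents_eq_singleton, Set.mem_singleton_iff] at hξ
    exact IsGenericPoint.eq (S := Set.univ) hξ (genericPoint_spec ↥X)
  have part1 : topologicalKrullDim ↥X ≤ topologicalKrullDim ↥Y + n :=
    Groth.Agent.S9686.result f n (fun ξ hξ => by rw [hgen ξ hξ]; exact hn.le)
  refine ⟨part1, fun hcl => le_antisymm part1 ?_⟩
  obtain ⟨z, -, hfz, hdim⟩ :=
    Groth.Agent.Lib.GenericFibrePoint.exists_point_stalk_dim_ge f (genericPoint ↥X) n hn
  rw [Groth.Agent.Lib.SpecDim.topologicalKrullDim_eq_krullDim (A := X),
    Groth.Agent.Lib.SpecDim.topologicalKrullDim_eq_krullDim (A := Y)]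
  have h1 : Order.height (f.base z) ≤ Order.height z :=
    Groth.Agent.Lib.GenericFibrePoint.height_le_height_of_isClosedMap f.base f.continuous hcl z
  have hgenY : IsGenericPoint (f.base z) (Set.univ : Set Y) := by
    rw [hfz]
    have := (genericPoint_spec ↥X).image f.continuous
    rwa [Set.image_univ, f.denseRange.closure_range] at this
  have h2 : Order.krullDim Y ≤ Order.height (f.base z) := by
    rw [Order.krullDim_eq_iSup_height]
    apply iSup_le
    intro y
    have : y ≤ f.base z := hgenY.specializes (Set.mem_univ y)
    exact_mod_cast Order.height_mono this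
  have h3 : (n : WithBot ℕ∞) ≤ Order.coheight z := by
    rw [← ringKrullDim_stalk_eq_coheight]
    exact hdim
  have h4 : ((Order.height z + Order.coheight z : ℕ∞) : WithBot ℕ∞) ≤ Order.krullDim X := by
    rw [Order.krullDim_eq_iSup_height_add_coheight_of_nonempty]
    exact_mod_cast le_iSup (fun a : X => Order.height a + Order.coheight a) z
  calc Order.krullDim Y + (n : WithBot ℕ∞)
      ≤ (Order.height (f.base z) : WithBot ℕ∞) + (Order.coheight z : WithBot ℕ∞) := by
        gcongr
    _ ≤ (Order.height z : WithBot ℕ∞) + (Order.coheight z : WithBot ℕ∞) := by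
        have h5 : (Order.height (f.base z) : WithBot ℕ∞) ≤ (Order.height z : WithBot ℕ∞) := by
          exact_mod_cast h1
        gcongr
    _ ≤ Order.krullDim X := by exact_mod_cast h4

end Groth.Agent.S9685
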