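import Groth.Statements.S9688
import Groth.Agent.Lib.NormFieldFin85
import Groth.Agent.Lib.H87Japanese

set_option autoImplicit false
universe u
open CategoryTheory CategoryTheory.Limits AlgebraicGeometry
open Mor

namespace Groth.Agent.S9688

/-- Let X be an integral Japanese scheme (every nonempty affine open has Japanese, i.e. N-2, coordinate
ring). Then the normalization morphism X^ν ⟶ X is finite. (The quasi-compactness and
quasi-separatedness binders on Spec K(X) ⟶ X always hold; they are only needed to form the
normalization.) -/
theorem result (X : Scheme.{u}) [IsIntegral X] [QuasiCompact (X.fromSpecStalk (genericPoint ↥X))] [QuasiSeparated (X.fromSpecStalk (genericPoint ↥X))]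
    (hJ : ∀ (U : X.Opens), IsAffineOpen U → ∀ (hne : Nonempty ↥U),
      @CAlg.IsN2 ↑Γ(X, U) _ (@IsIntegral.component_integral X _ U hne)) :
    IsFinite (Curv2.normalizationι X) := by
  have hR : IsField (X.presheaf.stalk (genericPoint X)) :=
    Groth.Agent.Lib.NormField85.isField_stalk_of_eq_genericPoint rfl
  have hg : X.fromSpecStalk (genericPoint X) =
      Spec.map (𝟙 (X.presheaf.stalk (genericPoint X))) ≫ X.fromSpecStalk (genericPoint X) := by
    simp
  unfold Curv2.normalizationι
  refine Groth.Agent.Lib.NormFieldFin85.isFinite_fromNormalization hR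
    (𝟙 (X.presheaf.stalk (genericPoint X))) (X.fromSpecStalk (genericPoint X)) hg
    (RingHom.Finite.id _) ?_
  intro V hV hne L _ _ _ _ hfd
  have hfr : IsFractionRing Γ(X, V) X.functionField :=
    functionField_isFractionRing_of_isAffineOpen X V hV
  exact @Groth.Agent.Lib.H87Japanese.finite_of_isN2 Γ(X, V) _
    (@IsIntegral.component_integral X _ V hne) (hJ V hV hne)
    X.functionField _ _ hfr L _ _ _ _ hfd

end Groth.Agent.S9688
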