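import Groth.Statements.S9689
import Groth.Agent.Lib.NormBranchesM96
import Groth.Agent.Lib.UnivHomeo
import Groth.Agent.S9236

set_option autoImplicit false
set_option linter.style.haveILetI false
universe u
open CategoryTheory CategoryTheory.Limits AlgebraicGeometry
open Mor

namespace Groth.Agent.S9689

theorem unique_of_tsum_eq_one {ι : Type*} (c : ι → ℕ∞) (hc : ∀ i, 1 ≤ c i)
    (h : ∑' i, c i = 1) : Nonempty ι ∧ Subsingleton ι ∧ ∀ i, c i = 1 := by
  classical
  have hle : ∀ s : Finset ι, ∑ i ∈ s, c i ≤ 1 := by
    intro s
    rw [← h, Groth.Agent.Lib.NormBranches96.tsum_eq_iSup_sum]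
    exact le_iSup (fun s : Finset ι => ∑ i ∈ s, c i) s
  refine ⟨?_, ⟨fun a b => ?_⟩, fun i => ?_⟩
  · by_contra hne
    rw [not_nonempty_iff] at hne
    rw [tsum_empty] at h
    exact zero_ne_one h
  · by_contra hab
    have h2 := hle {a, b}
    rw [Finset.sum_pair hab] at h2
    have h3 : (1 : ℕ∞) + 1 ≤ c a + c b := add_le_add (hc a) (hc b)
    have h4 : (1 : ℕ∞) + 1 ≤ 1 := h3.trans h2
    rw [one_add_one_eq_two] at h4
    have h5 : ((2 : ℕ) : ℕ∞) ≤ ((1 : ℕ) : ℕ∞) := by exact_mod_cast h4
    exact absurd (Nat.cast_le.mp h5) (by norm_num)
  · have h2 := hle {i}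
    rw [Finset.sum_singleton] at h2
    exact le_antisymm h2 (hc i)

/-- For an integral scheme X: if every local ring of X is geometrically unibranch, then the
normalization morphism X^ν ⟶ X is a universal homeomorphism. (The published statement assumes only X
irreducible; this row takes X integral, which loses nothing since the normalization of X equals that
of its reduction.) (The quasi-compactness and quasi-separatedness binders on Spec K(X) ⟶ X always
hold; they are only needed to form the normalization.) -/
theorem result (X : Scheme.{u}) [IsIntegral X] [QuasiCompact (X.fromSpecStalk (genericPoint ↥X))] [QuasiSeparated (X.fromSpecStalk (genericPoint ↥X))]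
    (hX : ∀ x : X, CAlg2.IsGeomUnibranch (X.presheaf.stalk x)) :
    FlatMor.IsUnivHomeo (Curv2.normalizationι X) := by
  classical
  have hν : Curv2.normalizationι X = (X.fromSpecStalk (genericPoint X)).fromNormalization := rfl
  change @FlatMor.IsUnivHomeo (X.fromSpecStalk (genericPoint X)).normalization X
    (X.fromSpecStalk (genericPoint X)).fromNormalization
  rw [Groth.Agent.Lib.UnivHomeo.iff_isIntegralHom_universallyInjective_surjective]
  have key : ∀ x : X, Nonempty {x' : (X.fromSpecStalk (genericPoint X)).normalization //
          (X.fromSpecStalk (genericPoint X)).fromNormalization x' = x} ∧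
      Subsingleton {x' : (X.fromSpecStalk (genericPoint X)).normalization //
          (X.fromSpecStalk (genericPoint X)).fromNormalization x' = x} ∧
      ∀ x' : {x' : (X.fromSpecStalk (genericPoint X)).normalization //
          (X.fromSpecStalk (genericPoint X)).fromNormalization x' = x},
          (letI := (((X.fromSpecStalk (genericPoint X)).fromNormalization).residueFieldMap
              x'.1).hom.toAlgebra
           ENat.card (Field.Emb
             (X.residueField ((X.fromSpecStalk (genericPoint X)).fromNormalization x'.1))
             ((X.fromSpecStalk (genericPoint X)).normalization.residueField x'.1))) = 1 := by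
    intro x
    apply unique_of_tsum_eq_one
    · intro x'
      letI := (((X.fromSpecStalk (genericPoint X)).fromNormalization).residueFieldMap
              x'.1).hom.toAlgebra
      rw [Order.one_le_iff_ne_zero, Ne, ENat.card_eq_zero_iff_empty, not_isEmpty_iff]
      infer_instance
    · rw [← (Groth.Agent.Lib.NormBranches96.main X x).2]
      exact (Groth.Agent.S9236.result _).mpr (hX x)
  refine ⟨inferInstance, ?_, ⟨fun x => ?_⟩⟩
  · have htfae := (tfae_universallyInjective
      (X.fromSpecStalk (genericPoint X)).fromNormalization).out 2 0
    refine htfae.mp ⟨?_, fun x' => ?_⟩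
    · intro a b hab
      obtain ⟨-, hs, -⟩ := key ((X.fromSpecStalk (genericPoint X)).fromNormalization b)
      exact congrArg Subtype.val (hs.elim ⟨a, hab⟩ ⟨b, rfl⟩)
    · obtain ⟨-, -, h1⟩ := key ((X.fromSpecStalk (genericPoint X)).fromNormalization x')
      have h2 := h1 ⟨x', rfl⟩
      letI := (((X.fromSpecStalk (genericPoint X)).fromNormalization).residueFieldMap
              x').hom.toAlgebra
      show IsPurelyInseparable _ _
      rw [isPurelyInseparable_iff_subsingleton_emb]
      have h3 : ENat.card (Field.Emb
             (X.residueField ((X.fromSpecStalk (genericPoint X)).fromNormalization x'))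
             ((X.fromSpecStalk (genericPoint X)).normalization.residueField x')) = 1 := h2
      have hfin : Finite (Field.Emb
             (X.residueField ((X.fromSpecStalk (genericPoint X)).fromNormalization x'))
             ((X.fromSpecStalk (genericPoint X)).normalization.residueField x')) := by
        rw [← ENat.card_lt_top, h3]
        exact ENat.one_lt_top
      rw [ENat.card_eq_coe_natCard] at h3
      have h4 : Nat.card (Field.Emb
             (X.residueField ((X.fromSpecStalk (genericPoint X)).fromNormalization x'))
             ((X.fromSpecStalk (genericPoint X)).normalization.residueField x')) = 1 := by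
        exact_mod_cast h3
      exact (Nat.card_eq_one_iff_unique.mp h4).1
  · obtain ⟨⟨x', hx'⟩⟩ := (key x).1
    exact ⟨x', hx'⟩

end Groth.Agent.S9689
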