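import Groth.Statements.S9692
import Groth.Agent.S1616
import Mathlib.AlgebraicGeometry.Morphisms.ClosedImmersion

set_option autoImplicit false
universe u
open CategoryTheory CategoryTheory.Limits AlgebraicGeometry
open Mor

namespace Groth.Agent.S9692

/-- A composition of H-projective morphisms (closed immersions into a projective space P^n over the
target, followed by the projection) is H-projective. -/
theorem result {X Y Z : Scheme.{u}} (f : X ⟶ Y) (g : Y ⟶ Z)
    (hf : RelProj.IsHProjective f) (hg : RelProj.IsHProjective g) :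
    RelProj.IsHProjective (f ≫ g) := by
  obtain ⟨n, i, hi, rfl⟩ := hf
  obtain ⟨m, j, hj, rfl⟩ := hg
  obtain ⟨φ, hφ, hφc⟩ := Groth.Agent.S1616.result Z n m
  -- base change square for projective space along `j ≫ toBase m Z : Y ⟶ Z`
  have t : IsPullback (pullback.fst (CohB1.ProjSpace.toSpec n (ULift.{u} ℤ))
        (specULiftZIsTerminal.from Z)) (CohB1.ProjSpaceOver.toBase n Z)
      (CohB1.ProjSpace.toSpec n (ULift.{u} ℤ)) (specULiftZIsTerminal.from Z) :=
    IsPullback.of_hasPullback _ _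
  have s : IsPullback (pullback.fst (CohB1.ProjSpace.toSpec n (ULift.{u} ℤ))
        (specULiftZIsTerminal.from Y)) (CohB1.ProjSpaceOver.toBase n Y)
      (CohB1.ProjSpace.toSpec n (ULift.{u} ℤ))
      ((j ≫ CohB1.ProjSpaceOver.toBase m Z) ≫ specULiftZIsTerminal.from Z) := by
    have h : (j ≫ CohB1.ProjSpaceOver.toBase m Z) ≫ specULiftZIsTerminal.from Z =
        specULiftZIsTerminal.from Y := specULiftZIsTerminal.hom_ext _ _
    rw [h]
    exact IsPullback.of_hasPullback _ _
  have sqA := IsPullback.of_right' s t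
  obtain ⟨α, sqA⟩ : ∃ α : CohB1.ProjSpaceOver n Y ⟶ CohB1.ProjSpaceOver n Z,
      IsPullback α (CohB1.ProjSpaceOver.toBase n Y) (CohB1.ProjSpaceOver.toBase n Z)
        (j ≫ CohB1.ProjSpaceOver.toBase m Z) := ⟨_, sqA⟩
  -- the right-hand pullback square `P^n_Z ×_Z P^m_Z`
  have sqR : IsPullback (pullback.fst (CohB1.ProjSpaceOver.toBase n Z)
      (CohB1.ProjSpaceOver.toBase m Z)) (pullback.snd (CohB1.ProjSpaceOver.toBase n Z)
      (CohB1.ProjSpaceOver.toBase m Z)) (CohB1.ProjSpaceOver.toBase n Z)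
      (CohB1.ProjSpaceOver.toBase m Z) := IsPullback.of_hasPullback _ _
  let β : CohB1.ProjSpaceOver n Y ⟶ pullback (CohB1.ProjSpaceOver.toBase n Z)
      (CohB1.ProjSpaceOver.toBase m Z) :=
    pullback.lift α (CohB1.ProjSpaceOver.toBase n Y ≫ j)
      (sqA.w.trans (Category.assoc _ _ _).symm)
  have hβ1 : β ≫ pullback.fst (CohB1.ProjSpaceOver.toBase n Z)
      (CohB1.ProjSpaceOver.toBase m Z) = α := pullback.lift_fst _ _ _
  have hβ2 : β ≫ pullback.snd (CohB1.ProjSpaceOver.toBase n Z)
      (CohB1.ProjSpaceOver.toBase m Z) = CohB1.ProjSpaceOver.toBase n Y ≫ j :=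
    pullback.lift_snd _ _ _
  have sqL : IsPullback β (CohB1.ProjSpaceOver.toBase n Y)
      (pullback.snd (CohB1.ProjSpaceOver.toBase n Z) (CohB1.ProjSpaceOver.toBase m Z)) j := by
    refine IsPullback.of_right ?_ hβ2 sqR
    rw [hβ1]
    exact sqA
  haveI : IsClosedImmersion β :=
    MorphismProperty.of_isPullback (P := @IsClosedImmersion) sqL.flip hj
  refine ⟨n * m + n + m, i ≫ β ≫ φ, inferInstance, ?_⟩
  rw [Category.assoc, Category.assoc, hφc, ← Category.assoc β, hβ1, Category.assoc]
  exact congrArg (i ≫ ·) sqA.w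

end Groth.Agent.S9692
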