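import Groth.Statements.S9693
import Mathlib.AlgebraicGeometry.Morphisms.ClosedImmersion

set_option autoImplicit false
universe u
open CategoryTheory CategoryTheory.Limits AlgebraicGeometry
open Mor

namespace Groth.Agent.S9693

/-- A base change of an H-projective morphism (a closed immersion into some P^n over the base followed
by the projection) is H-projective. -/
theorem result {X S S' : Scheme.{u}} (f : X ⟶ S) (hf : RelProj.IsHProjective f)
    (g : S' ⟶ S) : RelProj.IsHProjective (pullback.snd f g) := by
  obtain ⟨n, i, hi, rfl⟩ := hf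
  -- the base change square for projective space
  have t : IsPullback (pullback.fst (CohB1.ProjSpace.toSpec n (ULift.{u} ℤ))
        (specULiftZIsTerminal.from S)) (CohB1.ProjSpaceOver.toBase n S)
      (CohB1.ProjSpace.toSpec n (ULift.{u} ℤ)) (specULiftZIsTerminal.from S) :=
    IsPullback.of_hasPullback _ _
  have s : IsPullback (pullback.fst (CohB1.ProjSpace.toSpec n (ULift.{u} ℤ))
        (specULiftZIsTerminal.from S')) (CohB1.ProjSpaceOver.toBase n S')
      (CohB1.ProjSpace.toSpec n (ULift.{u} ℤ)) (g ≫ specULiftZIsTerminal.from S) := by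
    have h : g ≫ specULiftZIsTerminal.from S = specULiftZIsTerminal.from S' :=
      specULiftZIsTerminal.hom_ext _ _
    rw [h]
    exact IsPullback.of_hasPullback _ _
  have sq1 := IsPullback.of_right' s t
  have s2 : IsPullback (pullback.fst (i ≫ CohB1.ProjSpaceOver.toBase n S) g)
      (pullback.snd (i ≫ CohB1.ProjSpaceOver.toBase n S) g)
      (i ≫ CohB1.ProjSpaceOver.toBase n S) g := IsPullback.of_hasPullback _ _
  have sq2 := IsPullback.of_bot' s2 sq1
  refine ⟨n, sq1.lift (pullback.fst (i ≫ CohB1.ProjSpaceOver.toBase n S) g ≫ i)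
    (pullback.snd (i ≫ CohB1.ProjSpaceOver.toBase n S) g)
    ((Category.assoc _ _ _).trans s2.w), ?_, ?_⟩
  · exact MorphismProperty.of_isPullback (P := @IsClosedImmersion) sq2 hi
  · exact sq1.lift_snd _ _ _

end Groth.Agent.S9693
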