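import Groth.Statements.S9702
import Groth.Agent.Lib.GenFinFF45

set_option autoImplicit false
universe u
open CategoryTheory CategoryTheory.Limits AlgebraicGeometry
open Mor

namespace Groth.Agent.S9702

/-- Let X, Y be integral and f : X ⟶ Y dominant and locally of finite type, with ξ the generic point of
X (so f ξ is the generic point of Y). Then the following are equivalent: the residue field of ξ is
finite over that of f ξ; some nonempty affine opens U ⊆ X and V ⊆ Y with f(U) ⊆ V have U ⟶ V finite;
every point of X that f sends to the generic point of Y equals ξ. Under the extra assumption that f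
is quasi-compact or separated, these are also equivalent to: f⁻¹(V) ⟶ V is finite for some nonempty
affine open V ⊆ Y. (The published statement also lists transcendence degree 0 of the function field
extension, which for this finitely generated extension is equivalent to finiteness; this row omits
it.) -/
theorem result {X Y : Scheme.{u}} [IsIntegral X] [IsIntegral Y] (f : X ⟶ Y)
    [IsDominant f] [LocallyOfFiniteType f] :
    let ξ := genericPoint ↥X
    let A := letI := (f.residueFieldMap ξ).hom.toAlgebra
      Module.Finite (Y.residueField (f.base ξ)) (X.residueField ξ)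
    let B := ∃ (U : X.Opens) (V : Y.Opens) (hUV : U ≤ f ⁻¹ᵁ V), IsAffineOpen U ∧ IsAffineOpen V ∧
      Nonempty ↥U ∧ IsFinite (f.resLE V U hUV)
    let C := ∀ x : X, f.base x = genericPoint ↥Y → x = ξ
    let D := ∃ V : Y.Opens, IsAffineOpen V ∧ Nonempty ↥V ∧ IsFinite (f ∣_ V)
    (A ↔ B) ∧ (A ↔ C) ∧ (IsSeparated f ∨ QuasiCompact f → (A ↔ D)) := by
  intro ξ A B C D
  have hAC : A → C := fun hA x hx =>
    Groth.Agent.Lib.GenFinFF45.eq_genericPoint_of_finite_residueField f hA x hx
  have hCB : C → B := fun hC => Groth.Agent.Lib.GenFinFF45.exists_isFinite_resLE_of_fibre f hC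
  have hBA : B → A := by
    rintro ⟨U, V, e, hU, hV, ⟨u⟩, hfin⟩
    have hξU : ξ ∈ U :=
      ((genericPoint_spec X).mem_open_set_iff U.isOpen).mpr ⟨u.1, Set.mem_univ _, u.2⟩
    exact Groth.Agent.Lib.GenFinFF45.finite_residueField_of_isFinite_resLE f e ξ hξU
  have hDB : D → B := fun ⟨V, hV, hne, hfin⟩ =>
    Groth.Agent.Lib.GenFinFF45.exists_resLE_of_morphismRestrict f V hV hne hfin
  refine ⟨⟨fun h => hCB (hAC h), hBA⟩, ⟨hAC, fun h => hBA (hCB h)⟩, ?_⟩
  rintro (hsep | hqc)
  · refine ⟨fun hA => ?_, fun hD => hBA (hDB hD)⟩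
    obtain ⟨U, V, e, hU, hV, hne, hfin⟩ := hCB (hAC hA)
    exact Groth.Agent.Lib.GenFinFF45.exists_morphismRestrict_of_resLE_of_isSeparated f U V e hV
      hne hfin
  · exact ⟨fun hA =>
      Groth.Agent.Lib.GenFinFF45.exists_morphismRestrict_of_fibre_of_quasiCompact f (hAC hA),
      fun hD => hBA (hDB hD)⟩

end Groth.Agent.S9702
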