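import Groth.Statements.S9709
-- import your own Groth.Agent.* helpers here

set_option autoImplicit false
universe u
open CategoryTheory CategoryTheory.Limits AlgebraicGeometry
open Mor

namespace Groth.Agent.S9709

/-- Incomparability for an integral ring map: two comparable primes with the same contraction
are equal. -/
theorem eq_of_le_of_comap_eq {R A : Type*} [CommRing R] [CommRing A] (φ : R →+* A)
    (hφ : φ.IsIntegral) (p q : PrimeSpectrum A) (hpq : p ≤ q)
    (h : p.asIdeal.comap φ = q.asIdeal.comap φ) : p = q := by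
  let : Algebra R A := φ.toAlgebra
  have : Algebra.IsIntegral R A := ⟨hφ⟩
  by_contra hne
  have hlt : p.asIdeal < q.asIdeal := lt_of_le_of_ne hpq (fun h' => hne (PrimeSpectrum.ext h'))
  have := Ideal.IsIntegral.comap_lt_comap (R := R) hlt
  exact (ne_of_lt this) h

/-- Let f : X ⟶ S be an integral morphism. Then every point x of X is closed in its fibre: a point of
f⁻¹(f x) specialising from x equals x. -/
theorem result {X S : Scheme.{u}} (f : X ⟶ S) [IsIntegralHom f] (x : X) :
    closure {x} ∩ f.base ⁻¹' {f.base x} = {x} := by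
  apply Set.Subset.antisymm
  · rintro y ⟨hy, hfy⟩
    simp only [Set.mem_preimage, Set.mem_singleton_iff] at hfy
    rw [← specializes_iff_mem_closure] at hy
    -- affine open around f x
    obtain ⟨_, ⟨V, hV : IsAffineOpen V, rfl⟩, hxV, -⟩ :=
      S.isBasis_affineOpens.exists_subset_of_mem_open (Set.mem_univ (f.base x)) isOpen_univ
    have hU : IsAffineOpen (f ⁻¹ᵁ V) := hV.preimage f
    have hxU : x ∈ f ⁻¹ᵁ V := hxV
    have hyU : y ∈ f ⁻¹ᵁ V := by
      show f.base y ∈ V
      rw [hfy]; exact hxV
    have hxU' : x ∈ Set.range hU.fromSpec := by rw [hU.range_fromSpec]; exact hxU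
    have hyU' : y ∈ Set.range hU.fromSpec := by rw [hU.range_fromSpec]; exact hyU
    obtain ⟨px, rfl⟩ := hxU'
    obtain ⟨py, rfl⟩ := hyU'
    have hsp : px ⤳ py :=
      (hU.fromSpec.isOpenEmbedding.isInducing.specializes_iff).mp hy
    have hle : (show PrimeSpectrum Γ(X, f ⁻¹ᵁ V) from px) ≤ (show PrimeSpectrum Γ(X, f ⁻¹ᵁ V) from py) :=
      (PrimeSpectrum.le_iff_specializes _ _).mpr hsp
    have key := hV.SpecMap_appLE_fromSpec f hU le_rfl
    have e1 : ∀ p, f.base (hU.fromSpec.base p) =
        hV.fromSpec.base ((Spec.map (f.appLE V (f ⁻¹ᵁ V) le_rfl)).base p) := by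
      intro p
      have := congrArg (fun g => g.base p) key
      simpa using this.symm
    rw [e1, e1] at hfy
    have hinj := hV.fromSpec.isOpenEmbedding.injective hfy
    have hint : (f.appLE V (f ⁻¹ᵁ V) le_rfl).hom.IsIntegral := by
      rw [← Scheme.Hom.app_eq_appLE]
      exact f.isIntegral_app V hV
    have : px = py := by
      refine eq_of_le_of_comap_eq _ hint px py hle ?_
      have := congrArg PrimeSpectrum.asIdeal hinj
      exact this.symm
    simp [this]
  · rintro y rfl
    exact ⟨subset_closure rfl, rfl⟩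

end Groth.Agent.S9709
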