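import Groth.Statements.S9714
import Mathlib.AlgebraicGeometry.Artinian
import Mathlib.RingTheory.Unramified.Field
import Mathlib.RingTheory.Unramified.Finite

set_option autoImplicit false
universe u
open CategoryTheory CategoryTheory.Limits AlgebraicGeometry
open Mor

namespace Groth.Agent.S9714

section fwd

variable (k : Type u) [Field k] {X : Scheme.{u}} (f : X ⟶ Spec (CommRingCat.of k))

/-- The structure map `k → Γ(X, U)`. -/
noncomputable def strMap (U : X.Opens) : k →+* Γ(X, U) :=
  (f.appLE ⊤ U (fun _ _ => trivial)).hom.comp (Scheme.ΓSpecIso (CommRingCat.of k)).inv.hom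

theorem strMap_unram [FormallyUnramified f] {U : X.Opens} (hU : IsAffineOpen U) :
    (strMap k f U).FormallyUnramified := by
  refine RingHom.FormallyUnramified.comp ?_
    (f.formallyUnramified_appLE (isAffineOpen_top _) hU _)
  exact RingHom.FormallyUnramified.of_surjective
    (ConcreteCategory.bijective_of_isIso (Scheme.ΓSpecIso (CommRingCat.of k)).inv).2

theorem strMap_finiteType [LocallyOfFiniteType f] {U : X.Opens} (hU : IsAffineOpen U) :
    (strMap k f U).FiniteType := by
  refine RingHom.FiniteType.comp
    (f.finiteType_appLE (isAffineOpen_top _) hU _) ?_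
  exact RingHom.FiniteType.of_surjective _
    (ConcreteCategory.bijective_of_isIso (Scheme.ΓSpecIso (CommRingCat.of k)).inv).2

theorem finite_of_affine [FormallyUnramified f] [LocallyOfFiniteType f] {U : X.Opens}
    (hU : IsAffineOpen U) :
    let := (strMap k f U).toAlgebra
    Module.Finite k Γ(X, U) ∧ IsReduced Γ(X, U) := by
  let := (strMap k f U).toAlgebra
  have h1 : Algebra.FormallyUnramified k Γ(X, U) := strMap_unram k f hU
  have h2 : Algebra.FiniteType k Γ(X, U) := strMap_finiteType k f hU
  exact ⟨Algebra.FormallyUnramified.finite_of_free k _,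
    Algebra.FormallyUnramified.isReduced_of_field k _⟩

theorem isLocallyArtinian [FormallyUnramified f] [LocallyOfFiniteType f] :
    IsLocallyArtinian X where
  isArtinianRing_presheaf_obj U := by
    let := (strMap k f U.1).toAlgebra
    have := (finite_of_affine k f U.2).1
    exact IsArtinianRing.of_finite k _

open scoped Function in
/-- Gluing: disjoint covering open immersions from spectra of fields give the coproduct
decomposition. -/
theorem glue (ι : Type u) (K : ι → Type u) [∀ i, Field (K i)] [∀ i, Algebra k (K i)]
    (α : ∀ i, Spec (CommRingCat.of (K i)) ⟶ X) [∀ i, IsOpenImmersion (α i)]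
    (hcov : ⨆ i, (α i).opensRange = ⊤) (hdisj : Pairwise (Disjoint on (α · |>.opensRange)))
    (hα : ∀ i, α i ≫ f = Spec.map (CommRingCat.ofHom (algebraMap k (K i)))) :
    ∃ e : X ≅ ∐ (fun i => Spec (CommRingCat.of (K i))),
      e.hom ≫ Sigma.desc (fun i => Spec.map (CommRingCat.ofHom (algebraMap k (K i)))) = f := by
  obtain ⟨hc⟩ := nonempty_isColimit_cofanMk_of α hcov hdisj
  let e : X ≅ ∐ (fun i => Spec (CommRingCat.of (K i))) :=
    hc.coconePointUniqueUpToIso (colimit.isColimit _)
  refine ⟨e, ?_⟩
  apply Cofan.IsColimit.hom_ext hc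
  intro i
  have h1 : α i ≫ e.hom = Sigma.ι (fun i => Spec (CommRingCat.of (K i))) i :=
    hc.comp_coconePointUniqueUpToIso_hom (colimit.isColimit _) ⟨i⟩
  show α i ≫ e.hom ≫ _ = α i ≫ f
  rw [← Category.assoc, h1, hα]
  simp

theorem fromSpec_comp {U : X.Opens} (hU : IsAffineOpen U) :
    hU.fromSpec ≫ f = Spec.map (CommRingCat.ofHom (strMap k f U)) := by
  have h1 := (isAffineOpen_top (Spec (CommRingCat.of k))).SpecMap_appLE_fromSpec f hU
    (fun _ _ => trivial)
  rw [← h1, IsAffineOpen.fromSpec_top, Scheme.isoSpec_Spec_inv, ← Spec.map_comp]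
  rfl

theorem forward [FormallyUnramified f] [LocallyOfFiniteType f] :
    ∃ (ι : Type u) (K : ι → Type u) (_ : ∀ i, Field (K i)) (_ : ∀ i, Algebra k (K i)),
        (∀ i, FiniteDimensional k (K i) ∧ Algebra.IsSeparable k (K i)) ∧
        ∃ e : X ≅ ∐ (fun i => Spec (CommRingCat.of (K i))),
          e.hom ≫ Sigma.desc (fun i => Spec.map (CommRingCat.ofHom (algebraMap k (K i)))) = f := by
  have := isLocallyArtinian k f
  have : DiscreteTopology X := inferInstance
  let U : X → X.Opens := fun x => ⟨{x}, isOpen_discrete _⟩
  have hU : ∀ x, IsAffineOpen (U x) := fun x => .of_subsingleton Set.subsingleton_singleton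
  have hfield : ∀ x, IsField Γ(X, U x) := by
    intro x
    let := (strMap k f (U x)).toAlgebra
    have := (finite_of_affine k f (hU x)).2
    have e : U x ≃ₜ PrimeSpectrum Γ(X, U x) := (hU x).isoSpec.hom.homeomorph
    have : Subsingleton (U x) := Set.subsingleton_singleton.coe_sort
    have : Subsingleton (PrimeSpectrum Γ(X, U x)) := e.symm.subsingleton
    have : Nontrivial Γ(X, U x) := PrimeSpectrum.nonempty_iff_nontrivial.mp ⟨e ⟨x, rfl⟩⟩
    exact PrimeSpectrum.subsingleton_iff_isField_of_isReduced.mp inferInstance
  refine ⟨X, fun x => Γ(X, U x), fun x => (hfield x).toField,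
    fun x => (strMap k f (U x)).toAlgebra, ?_, ?_⟩
  · intro x
    let := (hfield x).toField
    let := (strMap k f (U x)).toAlgebra
    refine ⟨(finite_of_affine k f (hU x)).1, ?_⟩
    have h1 : Algebra.FormallyUnramified k Γ(X, U x) := strMap_unram k f (hU x)
    have h2 : Algebra.FiniteType k Γ(X, U x) := strMap_finiteType k f (hU x)
    exact Algebra.FormallyUnramified.isSeparable k _
  · let : ∀ x : X, Field Γ(X, U x) := fun x => (hfield x).toField
    let : ∀ x : X, Algebra k Γ(X, U x) := fun x => (strMap k f (U x)).toAlgebra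
    have : ∀ x : X, IsOpenImmersion ((hU x).fromSpec) := fun x => inferInstance
    refine glue k f X (fun x => Γ(X, U x)) (fun x => (hU x).fromSpec) ?_ ?_ ?_
    · rw [eq_top_iff]
      intro x _
      simp only [IsAffineOpen.opensRange_fromSpec]
      exact TopologicalSpace.Opens.mem_iSup.mpr ⟨x, rfl⟩
    · intro x y hxy
      simp only [Function.onFun, IsAffineOpen.opensRange_fromSpec]
      rw [disjoint_iff]
      ext z
      simp only [TopologicalSpace.Opens.coe_inf, Set.mem_inter_iff, SetLike.mem_coe,
        TopologicalSpace.Opens.coe_bot, Set.mem_empty_iff_false, iff_false, not_and]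
      rintro (h1 : z = x) (h2 : z = y)
      exact hxy (h1.symm.trans h2)
    · intro x
      exact fromSpec_comp k f (hU x)

end fwd

theorem converse (k : Type u) [Field k] {X : Scheme.{u}}
    (f : X ⟶ Spec (CommRingCat.of k))
    (ι : Type u) (K : ι → Type u) [∀ i, Field (K i)] [∀ i, Algebra k (K i)]
    (hK : ∀ i, FiniteDimensional k (K i) ∧ Algebra.IsSeparable k (K i))
    (e : X ≅ ∐ (fun i => Spec (CommRingCat.of (K i))))
    (he : e.hom ≫ Sigma.desc (fun i => Spec.map (CommRingCat.ofHom (algebraMap k (K i)))) = f) :
    FormallyUnramified f ∧ LocallyOfFiniteType f := by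
  subst he
  constructor
  · have : FormallyUnramified
        (Sigma.desc (fun i => Spec.map (CommRingCat.ofHom (algebraMap k (K i))))) := by
      rw [IsZariskiLocalAtSource.iff_of_openCover (P := @FormallyUnramified) (sigmaOpenCover _)]
      intro (i : ι)
      show FormallyUnramified (Sigma.ι (fun i => Spec (CommRingCat.of (K i))) i ≫
          Sigma.desc (fun i => Spec.map (CommRingCat.ofHom (algebraMap k (K i)))))
      rw [Sigma.ι_desc, HasRingHomProperty.Spec_iff (P := @FormallyUnramified)]
      have := (hK i).2
      simp only [CommRingCat.hom_ofHom]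
      rw [RingHom.formallyUnramified_algebraMap]
      exact Algebra.FormallyUnramified.of_isSeparable k (K i)
    exact MorphismProperty.comp_mem _ e.hom _ inferInstance this
  · have : LocallyOfFiniteType
        (Sigma.desc (fun i => Spec.map (CommRingCat.ofHom (algebraMap k (K i))))) := by
      rw [IsZariskiLocalAtSource.iff_of_openCover (P := @LocallyOfFiniteType) (sigmaOpenCover _)]
      intro (i : ι)
      show LocallyOfFiniteType (Sigma.ι (fun i => Spec (CommRingCat.of (K i))) i ≫
          Sigma.desc (fun i => Spec.map (CommRingCat.ofHom (algebraMap k (K i)))))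
      rw [Sigma.ι_desc, HasRingHomProperty.Spec_iff (P := @LocallyOfFiniteType)]
      have := (hK i).1
      simp only [CommRingCat.hom_ofHom]
      rw [RingHom.finiteType_algebraMap]
      infer_instance
    exact MorphismProperty.comp_mem _ e.hom _ inferInstance this

/-- Let k be a field and X a scheme over k. The structure morphism X ⟶ Spec k is unramified (formally
unramified and locally of finite type) if and only if X is isomorphic over k to a disjoint union of
spectra of finite separable field extensions of k. -/
theorem result (k : Type u) [Field k] {X : Scheme.{u}}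
    (f : X ⟶ Spec (CommRingCat.of k)) :
    (FormallyUnramified f ∧ LocallyOfFiniteType f) ↔
      ∃ (ι : Type u) (K : ι → Type u) (_ : ∀ i, Field (K i)) (_ : ∀ i, Algebra k (K i)),
        (∀ i, FiniteDimensional k (K i) ∧ Algebra.IsSeparable k (K i)) ∧
        ∃ e : X ≅ ∐ (fun i => Spec (CommRingCat.of (K i))),
          e.hom ≫ Sigma.desc (fun i => Spec.map (CommRingCat.ofHom (algebraMap k (K i)))) = f := by
  constructor
  · rintro ⟨h1, h2⟩
    exact forward k f
  · rintro ⟨ι, K, hF, hA, hK, e, he⟩
    exact converse k f ι K hK e he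

end Groth.Agent.S9714
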