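import Groth.Statements.S9718
-- import your own Groth.Agent.* helpers here

set_option autoImplicit false
universe u
open Mor

namespace Groth.Agent.S9718

section helpers
open CategoryTheory AlgebraicGeometry TopologicalSpace

variable {X Y S : Scheme.{u}} (sX : X ⟶ S) (sY : Y ⟶ S) {R A : CommRingCat.{u}}

/-- Lifting a map from a finitely presented algebra to a stalk to a neighbourhood
(no germ-injectivity needed). -/
theorem exists_lift_of_finitePresentation {x : X} {U : X.Opens} (hxU : x ∈ U)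
    (φ : A ⟶ X.presheaf.stalk x) (φRA : R ⟶ A) (φRX : R ⟶ Γ(X, U))
    (hφRA : RingHom.FinitePresentation φRA.hom)
    (e : φRA ≫ φ = φRX ≫ X.presheaf.germ U x hxU) :
    ∃ (V : X.Opens) (hxV : x ∈ V) (φ' : A ⟶ Γ(X, V)) (i : V ≤ U), IsAffineOpen V ∧
      φ = φ' ≫ X.presheaf.germ V x hxV ∧ φRX ≫ X.presheaf.map i.hom.op = φRA ≫ φ' := by
  classical
  let := φRA.hom.toAlgebra
  have hfp : Algebra.FinitePresentation R A := hφRA
  obtain ⟨n, f, hf, gs, hgs⟩ := Algebra.FinitePresentation.out (R := R) (A := A)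
  choose W hxW s hs using fun i : Fin n ↦ X.presheaf.exists_germ_eq (φ (f (MvPolynomial.X i)))
  let W₀ : X.Opens := (Finset.univ.inf W) ⊓ U
  have hxW₀ : x ∈ W₀ := by
    rw [← SetLike.mem_coe, TopologicalSpace.Opens.coe_inf, TopologicalSpace.Opens.coe_finset_inf]
    exact ⟨by simpa using fun i ↦ hxW i, hxU⟩
  have hW₀U : W₀ ≤ U := inf_le_right
  have hW₀W : ∀ i, W₀ ≤ W i := fun i => inf_le_left.trans (Finset.inf_le (Finset.mem_univ i))
  let ρ₀ : R →+* Γ(X, W₀) := (φRX ≫ X.presheaf.map (homOfLE hW₀U).op).hom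
  let ψ : MvPolynomial (Fin n) R →+* Γ(X, W₀) :=
    MvPolynomial.eval₂Hom ρ₀ (fun i => X.presheaf.map (homOfLE (hW₀W i)).op (s i))
  have hψ : (X.presheaf.germ W₀ x hxW₀).hom.comp ψ = φ.hom.comp f.toRingHom := by
    apply MvPolynomial.ringHom_ext
    · intro r
      have h1 : φ.hom (f (MvPolynomial.C r)) = (φRA ≫ φ).hom r := by
        have : f (MvPolynomial.C r) = φRA.hom r := by
          rw [← MvPolynomial.algebraMap_eq, AlgHom.commutes]; rfl
        rw [this]; rfl
      simp only [RingHom.coe_comp, Function.comp_apply, AlgHom.toRingHom_eq_coe, RingHom.coe_coe]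
      rw [h1, e]
      simp only [ψ, ρ₀, MvPolynomial.coe_eval₂Hom, MvPolynomial.eval₂_C, CommRingCat.hom_comp,
        RingHom.coe_comp, Function.comp_apply]
      exact X.presheaf.germ_res_apply _ _ _ _
    · intro i
      simp only [RingHom.coe_comp, Function.comp_apply, AlgHom.toRingHom_eq_coe, RingHom.coe_coe,
        ψ, MvPolynomial.coe_eval₂Hom, MvPolynomial.eval₂_X]
      rw [← hs i]
      exact X.presheaf.germ_res_apply _ _ _ _
  -- kill the generators of the kernel
  have hzero : ∀ g : gs, ∃ (Vg : X.Opens) (_ : x ∈ Vg) (hle : Vg ≤ W₀),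
      X.presheaf.map (homOfLE hle).op (ψ g.1) = 0 := by
    intro g
    have hg : g.1 ∈ RingHom.ker f.toRingHom := by
      rw [← hgs]; exact Ideal.subset_span g.2
    have h0 : X.presheaf.germ W₀ x hxW₀ (ψ g.1) = X.presheaf.germ W₀ x hxW₀ 0 := by
      have := congrArg (fun h => h g.1) hψ
      simp only [RingHom.coe_comp, Function.comp_apply] at this
      rw [this, map_zero]
      have : f.toRingHom g.1 = 0 := hg
      rw [this, map_zero]
    obtain ⟨Vg, hxVg, i1, i2, h⟩ := X.presheaf.germ_eq x hxW₀ hxW₀ _ _ h0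
    refine ⟨Vg, hxVg, i1.le, ?_⟩
    rw [show homOfLE i1.le = i1 from rfl, h, map_zero]
  choose Vg hxVg hVg hzero using hzero
  let V' : X.Opens := (Finset.univ.inf Vg) ⊓ W₀
  have hxV' : x ∈ V' := by
    rw [← SetLike.mem_coe, TopologicalSpace.Opens.coe_inf, TopologicalSpace.Opens.coe_finset_inf]
    exact ⟨by simpa using fun i hi ↦ hxVg ⟨i, hi⟩, hxW₀⟩
  obtain ⟨V, hV, hxV, hVV'⟩ : ∃ V : X.Opens, IsAffineOpen V ∧ x ∈ V ∧ V ≤ V' := by
    obtain ⟨_, ⟨V, hV, rfl⟩, hxV, hVV'⟩ :=
      X.isBasis_affineOpens.exists_subset_of_mem_open hxV' V'.2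
    exact ⟨V, hV, hxV, hVV'⟩
  have hVW₀ : V ≤ W₀ := hVV'.trans inf_le_right
  let ψV : MvPolynomial (Fin n) R →+* Γ(X, V) := (X.presheaf.map (homOfLE hVW₀).op).hom.comp ψ
  have hkill : RingHom.ker f.toRingHom ≤ RingHom.ker ψV := by
    rw [← hgs, Ideal.span_le]
    intro g hg
    have hVVg : V ≤ Vg ⟨g, hg⟩ :=
      hVV'.trans (inf_le_left.trans (Finset.inf_le (Finset.mem_univ _)))
    show ψV g = 0
    have h1 : ψV g = X.presheaf.map (homOfLE hVVg).op
        (X.presheaf.map (homOfLE (hVg ⟨g, hg⟩)).op (ψ g)) := by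
      simp only [ψV, RingHom.coe_comp, Function.comp_apply]
      rw [← ConcreteCategory.comp_apply, ← Functor.map_comp]
      rfl
    rw [h1, hzero ⟨g, hg⟩, map_zero]
  let φ' : A →+* Γ(X, V) := RingHom.liftOfSurjective f.toRingHom hf ⟨ψV, hkill⟩
  have hφ' : ∀ p, φ' (f p) = ψV p := fun p =>
    RingHom.liftOfSurjective_comp_apply f.toRingHom hf ⟨ψV, hkill⟩ p
  refine ⟨V, hxV, CommRingCat.ofHom φ', hVW₀.trans hW₀U, hV, ?_, ?_⟩
  · ext a
    obtain ⟨p, rfl⟩ := hf a
    simp only [CommRingCat.hom_comp, CommRingCat.hom_ofHom, RingHom.coe_comp, Function.comp_apply]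
    rw [hφ']
    have := congrArg (fun h => h p) hψ
    simp only [RingHom.coe_comp, Function.comp_apply] at this
    rw [show (f.toRingHom p) = f p from rfl] at this
    rw [← this]
    simp only [ψV, RingHom.coe_comp, Function.comp_apply]
    exact (X.presheaf.germ_res_apply _ _ _ _).symm
  · ext r
    have : φRA.hom r = f (MvPolynomial.C r) := by
      rw [← MvPolynomial.algebraMap_eq, AlgHom.commutes]; rfl
    simp only [CommRingCat.hom_comp, CommRingCat.hom_ofHom, RingHom.coe_comp, Function.comp_apply]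
    rw [this, hφ']
    simp only [ψV, ψ, ρ₀, RingHom.coe_comp, Function.comp_apply, MvPolynomial.coe_eval₂Hom,
      MvPolynomial.eval₂_C, CommRingCat.hom_comp]
    have hcomp : X.presheaf.map (homOfLE hW₀U).op ≫ X.presheaf.map (homOfLE hVW₀).op =
        X.presheaf.map (hVW₀.trans hW₀U).hom.op := by
      rw [← Functor.map_comp]; rfl
    exact (congrArg (fun h => h.hom (φRX.hom r)) hcomp).symm

set_option backward.isDefEq.respectTransparency.types false in
/-- Spreading out for a target locally of finite presentation (no germ-injectivity). -/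
theorem spread_out_of_lfp [LocallyOfFinitePresentation sY] {x : X} {y : Y}
    (e : sX x = sY y) (φ : Y.presheaf.stalk y ⟶ X.presheaf.stalk x)
    (h : sY.stalkMap y ≫ φ =
      S.presheaf.stalkSpecializes (Inseparable.of_eq e).specializes ≫ sX.stalkMap x) :
    ∃ (U : X.Opens) (hxU : x ∈ U) (f : U.toScheme ⟶ Y),
      Spec.map φ ≫ Y.fromSpecStalk y = U.fromSpecStalkOfMem x hxU ≫ f ∧
      f ≫ sY = U.ι ≫ sX := by
  obtain ⟨_, ⟨U, hU, rfl⟩, hxU, -⟩ :=
    S.isBasis_affineOpens.exists_subset_of_mem_open (Set.mem_univ (sX x)) isOpen_univ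
  have hyU : sY y ∈ U := e ▸ hxU
  obtain ⟨_, ⟨V : Y.Opens, hV, rfl⟩, hyV, iVU⟩ :=
    Y.isBasis_affineOpens.exists_subset_of_mem_open hyU (sY ⁻¹ᵁ U).2
  have : sY.appLE U V iVU ≫ Y.presheaf.germ V y hyV ≫ φ =
      sX.app U ≫ X.presheaf.germ (sX ⁻¹ᵁ U) x hxU := by
    rw [Scheme.Hom.appLE, Category.assoc, Y.presheaf.germ_res_assoc,
      ← Scheme.Hom.germ_stalkMap_assoc, h]
    simp
  obtain ⟨W, hxW, φ', i, hW, h₁, h₂⟩ :=
    exists_lift_of_finitePresentation (R := Γ(S, U)) (A := Γ(Y, V)) (U := sX ⁻¹ᵁ U) (x := x) hxU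
    (Y.presheaf.germ _ y hyV ≫ φ) (sY.appLE U V iVU) (sX.app U)
    (sY.finitePresentation_appLE hU hV _) this
  refine ⟨W, hxW, W.toSpecΓ ≫ Spec.map φ' ≫ hV.fromSpec, ?_, ?_⟩
  · rw [W.fromSpecStalkOfMem_toSpecΓ_assoc x hxW, ← Spec.map_comp_assoc, ← h₁,
      Spec.map_comp, Category.assoc, ← IsAffineOpen.fromSpecStalk,
      IsAffineOpen.fromSpecStalk_eq_fromSpecStalk]
  · simp only [Category.assoc]
    rw [← IsAffineOpen.SpecMap_appLE_fromSpec sY hU hV iVU, ← Spec.map_comp_assoc, ← h₂,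
      ← Scheme.Hom.appLE, ← hW.isoSpec_hom, IsAffineOpen.SpecMap_appLE_fromSpec sX hU hW i,
      ← Iso.eq_inv_comp, IsAffineOpen.isoSpec_inv_ι_assoc]

set_option backward.isDefEq.respectTransparency.types false in
theorem spread_out_of_lfp' [LocallyOfFinitePresentation sY] {x : X}
    (φ : Spec (X.presheaf.stalk x) ⟶ Y)
    (h : φ ≫ sY = X.fromSpecStalk x ≫ sX) :
    ∃ (U : X.Opens) (hxU : x ∈ U) (f : U.toScheme ⟶ Y),
      φ = U.fromSpecStalkOfMem x hxU ≫ f ∧ f ≫ sY = U.ι ≫ sX := by
  have := spread_out_of_lfp sX sY ?_ (Scheme.stalkClosedPointTo φ) ?_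
  · simpa only [Scheme.Spec_stalkClosedPointTo_fromSpecStalk] using this
  · rw [← Scheme.Hom.comp_apply, h, Scheme.Hom.comp_apply, Scheme.fromSpecStalk_closedPoint]
  · apply Spec.map_injective
    rw [← cancel_mono (S.fromSpecStalk _)]
    simpa only [Spec.map_comp, Category.assoc, Scheme.SpecMap_stalkMap_fromSpecStalk,
      Scheme.Spec_stalkClosedPointTo_fromSpecStalk_assoc,
      Scheme.SpecMap_stalkSpecializes_fromSpecStalk]

end helpers

open AlgebraicGeometry in
open CategoryTheory in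
/-- Let X and Y be S-schemes with X irreducible, with generic point x, and Y locally of finite
presentation over S. Then every S-morphism Spec(O_{X,x}) ⟶ Y is induced by an S-rational map from X
to Y. (The published statement allows X with finitely many irreducible components and asks for such
data at each generic point; this row is the case of one component, to which the general case reduces
on the dense open where the components are disjoint. Injectivity of the assignment, for Y locally of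
finite type, is a separate result.) -/
theorem result
    (S X Y : Scheme.{u}) [X.Over S] [Y.Over S] [IrreducibleSpace X]
    [LocallyOfFinitePresentation (Y ↘ S)]
    (φ : Spec (X.presheaf.stalk (genericPoint X)) ⟶ Y)
    (hφ : φ ≫ (Y ↘ S) = X.fromSpecStalk (genericPoint X) ≫ (X ↘ S)) :
    ∃ f : X ⤏ Y, f.IsOver S ∧ f.fromFunctionField = φ := by
  obtain ⟨U, hxU, g, hg1, hg2⟩ := spread_out_of_lfp' (X ↘ S) (Y ↘ S) φ hφ
  have hdense : Dense (U : Set X) := U.2.dense ⟨_, hxU⟩
  let p : X.PartialMap Y := ⟨U, hdense, g⟩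
  have hp : p.IsOver S := ⟨hg2⟩
  refine ⟨p.toRationalMap, inferInstance, ?_⟩
  rw [Scheme.RationalMap.fromFunctionField_toRationalMap]
  exact hg1.symm

end Groth.Agent.S9718
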