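import Groth.Statements.S9720
import Groth.Agent.S9714
import Mathlib.RingTheory.Unramified.Locus
import Mathlib.RingTheory.LocalRing.ResidueField.Fiber
import Mathlib.RingTheory.Kaehler.TensorProduct
import Mathlib.RingTheory.LocalRing.Module
import Mathlib.AlgebraicGeometry.Morphisms.SmoothFiber
import Mathlib.AlgebraicGeometry.Fiber

set_option autoImplicit false
universe u
open CategoryTheory CategoryTheory.Limits AlgebraicGeometry
open Mor

namespace Groth.Agent.S9720

open TensorProduct in
attribute [local instance] Algebra.TensorProduct.rightAlgebra in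
/-- A finite type algebra all of whose fibres are formally unramified is formally unramified. -/
theorem formallyUnramified_of_fiber {R S : Type u} [CommRing R] [CommRing S] [Algebra R S]
    [Algebra.FiniteType R S]
    (H : ∀ (p : Ideal R) [p.IsPrime], Algebra.FormallyUnramified p.ResidueField (p.Fiber S)) :
    Algebra.FormallyUnramified R S := by
  rw [Algebra.formallyUnramified_iff, ← Module.support_eq_empty_iff (R := S),
    Set.eq_empty_iff_forall_notMem]
  intro q
  rw [Module.mem_support_iff_nontrivial_residueField_tensorProduct,
    not_nontrivial_iff_subsingleton]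
  let p := q.asIdeal.under R
  have := H p
  have h0 : Subsingleton (Ω[p.Fiber S⁄p.ResidueField]) := inferInstance
  have h1 : Subsingleton (p.Fiber S ⊗[S] Ω[S⁄R]) :=
    (KaehlerDifferential.tensorKaehlerEquiv R p.ResidueField S (p.Fiber S)).toEquiv.subsingleton
  let φ : p.Fiber S →ₐ[R] q.asIdeal.ResidueField :=
    Algebra.TensorProduct.lift
      (Ideal.ResidueField.mapₐ p q.asIdeal (Algebra.ofId R S) rfl)
      (IsScalarTower.toAlgHom R S q.asIdeal.ResidueField) (fun _ _ => Commute.all _ _)
  let : Algebra (p.Fiber S) q.asIdeal.ResidueField := φ.toRingHom.toAlgebra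
  have : IsScalarTower S (p.Fiber S) q.asIdeal.ResidueField := by
    refine IsScalarTower.of_algebraMap_eq' ?_
    ext s
    simp [RingHom.algebraMap_toAlgebra, φ]
  have h2 : Subsingleton (q.asIdeal.ResidueField ⊗[p.Fiber S] (p.Fiber S ⊗[S] Ω[S⁄R])) :=
    inferInstance
  exact (AlgebraTensorModule.cancelBaseChange S (p.Fiber S) q.asIdeal.ResidueField
    q.asIdeal.ResidueField Ω[S⁄R]).symm.toEquiv.subsingleton

set_option backward.isDefEq.respectTransparency false in
/-- If `f : X ⟶ Y` is locally of finite type with formally unramified fibres, then `f` is formally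
unramified. -/
theorem formallyUnramified_of_fiberToSpecResidueField {X Y : Scheme.{u}} (f : X ⟶ Y)
    [LocallyOfFiniteType f]
    (h : ∀ y, FormallyUnramified (f.fiberToSpecResidueField y)) :
    FormallyUnramified f := by
  wlog h : ∃ R, Y = Spec R
  · rw [IsZariskiLocalAtTarget.iff_of_openCover (P := @FormallyUnramified) Y.affineCover]
    intro i
    dsimp [Scheme.Cover.pullbackHom]
    refine this _ (fun y ↦ ?_) ⟨_, rfl⟩
    apply MorphismProperty.of_isPullback
    · exact isPullback_fiberToSpecResidueField_of_isPullback (IsPullback.of_hasPullback _ _) _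
    · infer_instance
  obtain ⟨R, rfl⟩ := h
  wlog h : ∃ S, X = Spec S generalizing f X
  · rw [IsZariskiLocalAtSource.iff_of_openCover (P := @FormallyUnramified) X.affineCover]
    intro i
    have _ (y) : FormallyUnramified (pullback.snd f ((Spec R).fromSpecResidueField y)) :=
      inferInstanceAs <| FormallyUnramified (f.fiberToSpecResidueField y)
    refine this _ (fun y ↦ ?_) ⟨_, rfl⟩
    rw [Scheme.Hom.fiberToSpecResidueField, ← pullbackRightPullbackFstIso_inv_snd_snd]
    have h1 : FormallyUnramified (pullback.snd (X.affineCover.f i)
        (pullback.fst f ((Spec R).fromSpecResidueField y))) := inferInstance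
    have h2 : FormallyUnramified (pullback.snd (X.affineCover.f i)
        (pullback.fst f ((Spec R).fromSpecResidueField y)) ≫
          pullback.snd f ((Spec R).fromSpecResidueField y)) :=
      MorphismProperty.comp_mem _ _ _ h1 inferInstance
    exact MorphismProperty.comp_mem _ _ _ inferInstance h2
  obtain ⟨S, rfl⟩ := h
  obtain ⟨φ, rfl⟩ := Spec.map_surjective f
  simp only [HasRingHomProperty.Spec_iff] at *
  algebraize [φ.hom]
  refine formallyUnramified_of_fiber fun p hp ↦ ?_
  rw [← RingHom.formallyUnramified_algebraMap]
  rw [← CommRingCat.hom_ofHom (algebraMap p.ResidueField (p.Fiber ↑S)),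
    ← HasRingHomProperty.Spec_iff (P := @FormallyUnramified),
    ← MorphismProperty.arrow_mk_iso_iff (P := @FormallyUnramified)
    (Spec.fiberToSpecResidueFieldIso R S ⟨p, hp⟩)]
  exact h ⟨p, hp⟩

/-- Let f : X ⟶ S be locally of finite type such that for every point s of S the fibre X_s is isomorphic
over κ(s) to a coproduct of schemes Spec K_i, each K_i a finite separable extension field of κ(s).
In that case f is formally unramified (so unramified, being locally of finite type). -/
theorem result {X S : Scheme.{u}} (f : X ⟶ S) [LocallyOfFiniteType f]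
    (H : ∀ s : S, ∃ (ι : Type u) (K : ι → Type u) (_ : ∀ i, Field (K i))
      (_ : ∀ i, Algebra (S.residueField s) (K i)),
      (∀ i, FiniteDimensional (S.residueField s) (K i) ∧ Algebra.IsSeparable (S.residueField s) (K i)) ∧
        ∃ e : f.fiber s ≅ ∐ (fun i => Spec (CommRingCat.of (K i))),
          e.hom ≫ Sigma.desc (fun i => Spec.map (CommRingCat.ofHom (algebraMap (S.residueField s) (K i)))) =
            f.fiberToSpecResidueField s) :
    FormallyUnramified f := by
  apply formallyUnramified_of_fiberToSpecResidueField
  intro s
  obtain ⟨ι, K, hF, hA, hK, e, he⟩ := H s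
  exact (Groth.Agent.S9714.converse (S.residueField s) (f.fiberToSpecResidueField s) ι K hK e he).1

end Groth.Agent.S9720
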