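import Groth.Statements.S9722
import Groth.Agent.S9721
import Mathlib.RingTheory.Unramified.LocalStructure

set_option autoImplicit false
universe u
open CategoryTheory AlgebraicGeometry
open Mor

namespace Groth.Agent.S9722

/-- Let f : X ⟶ S be a morphism, x a point of X and V an affine open neighbourhood of f(x) in S. Then f
is étale on some open neighbourhood of x if and only if there is an affine open neighbourhood U of x
with f(U) ⊆ V such that Γ(X, U) is a standard étale algebra over Γ(S, V) through the induced ring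
map. -/
theorem result {X S : Scheme.{u}} (f : X ⟶ S) (x : X)
    (V : S.Opens) (hV : IsAffineOpen V) (hxV : f x ∈ V) :
    (∃ W : X.Opens, x ∈ W ∧ Etale (W.ι ≫ f)) ↔
      ∃ (U : X.Opens) (_ : IsAffineOpen U) (_ : x ∈ U) (e : U ≤ f ⁻¹ᵁ V),
        letI := (f.appLE V U e).hom.toAlgebra
        Algebra.IsStandardEtale Γ(S, V) Γ(X, U) := by
  constructor
  · rintro ⟨W, hxW, hW⟩
    obtain ⟨U₀, hU₀, hxU₀, hU₀le⟩ : ∃ U₀ : X.Opens, IsAffineOpen U₀ ∧ x ∈ U₀ ∧
        U₀ ≤ W ⊓ f ⁻¹ᵁ V := by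
      obtain ⟨_, ⟨U₀, hU₀, rfl⟩, hxU₀, hU₀le⟩ :=
        X.isBasis_affineOpens.exists_subset_of_mem_open
          (show x ∈ ((W ⊓ f ⁻¹ᵁ V : X.Opens) : Set X) from ⟨hxW, hxV⟩) (W ⊓ f ⁻¹ᵁ V).2
      exact ⟨U₀, hU₀, hxU₀, hU₀le⟩
    have hU₀W : U₀ ≤ W := fun y hy => (hU₀le hy).1
    have e₀ : U₀ ≤ f ⁻¹ᵁ V := fun y hy => (hU₀le hy).2
    have het : Etale (U₀.ι ≫ f) := by
      rw [← X.homOfLE_ι hU₀W, Category.assoc]
      infer_instance
    have hQ : (f.appLE V U₀ e₀).hom.Etale :=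
      Groth.Agent.S9721.appLE_of_ι_comp (P := @Etale) f hU₀ hV e₀ het
    let algA : Algebra Γ(S, V) Γ(X, U₀) := (f.appLE V U₀ e₀).hom.toAlgebra
    have hEt : Algebra.Etale Γ(S, V) Γ(X, U₀) := hQ
    -- the prime of `x`
    let q := hU₀.primeIdealOf ⟨x, hxU₀⟩
    have hq : hU₀.fromSpec q = x := hU₀.fromSpec_primeIdealOf ⟨x, hxU₀⟩
    have hqe : Algebra.IsEtaleAt Γ(S, V) q.asIdeal := by
      have : q ∈ Algebra.etaleLocus Γ(S, V) Γ(X, U₀) := by
        rw [Algebra.etaleLocus_eq_univ_iff.mpr inferInstance]; trivial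
      exact this
    obtain ⟨r, hr, hstd⟩ := Algebra.IsEtaleAt.exists_isStandardEtale (R := Γ(S, V)) q.asIdeal
    have hrs : x ∈ X.basicOpen r := by
      rw [← hq]
      show q ∈ hU₀.fromSpec ⁻¹ᵁ X.basicOpen r
      rw [hU₀.fromSpec_preimage_basicOpen]
      exact hr
    refine ⟨X.basicOpen r, hU₀.basicOpen r, hrs, (X.basicOpen_le r).trans e₀, ?_⟩
    let algB : Algebra Γ(X, U₀) Γ(X, X.basicOpen r) :=
      (X.presheaf.map (homOfLE (X.basicOpen_le r)).op).hom.toAlgebra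
    have hloc : IsLocalization.Away r Γ(X, X.basicOpen r) := hU₀.isLocalization_basicOpen r
    let algC : Algebra Γ(S, V) Γ(X, X.basicOpen r) :=
      (f.appLE V (X.basicOpen r) ((X.basicOpen_le r).trans e₀)).hom.toAlgebra
    have htower : IsScalarTower Γ(S, V) Γ(X, U₀) Γ(X, X.basicOpen r) := by
      refine IsScalarTower.of_algebraMap_eq' ?_
      have := f.appLE_map e₀ (homOfLE (X.basicOpen_le r)).op
      exact (congrArg CommRingCat.Hom.hom this).symm
    let eB : Localization.Away r ≃ₐ[Γ(X, U₀)] Γ(X, X.basicOpen r) :=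
      IsLocalization.algEquiv (Submonoid.powers r) _ _
    exact Algebra.IsStandardEtale.of_equiv (eB.restrictScalars Γ(S, V))
  · rintro ⟨U, hU, hxU, e, h⟩
    refine ⟨U, hxU, ?_⟩
    let := (f.appLE V U e).hom.toAlgebra
    have hE : Algebra.Etale Γ(S, V) Γ(X, U) := inferInstance
    have h1 : Etale (f.resLE V U e) :=
      (Groth.Agent.S9721.resLE_iff (P := @Etale) f hU hV e).mpr hE
    rw [← Scheme.Hom.resLE_comp_ι f e]
    infer_instance

end Groth.Agent.S9722
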