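import Groth.Statements.S9724
import Groth.Agent.Lib.H87SmoothDiv3

set_option autoImplicit false
universe u
open FlatMor

namespace Groth.Agent.S9724

open AlgebraicGeometry CategoryTheory Limits in
/-- Let f : X ⟶ S be a morphism and x a point such that f is smooth on an open neighbourhood of x, the
residue field extension κ(x)/κ(f x) is separable (formally smooth), and x is not the generic point
of any irreducible component of the fibre over f x, i.e. (the fibre being smooth over a field near
x) the maximal ideal of the local ring of the fibre at x is nonzero. Then there are an affine open U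
∋ x and a nonzerodivisor h' of Γ(X, U) vanishing at x such that the closed subscheme V(h') of U, an
effective Cartier divisor through x, is smooth over S. -/
theorem result {X S : Scheme.{u}} (f : X ⟶ S) (x : X)
    (W : X.Opens) (hxW : x ∈ W) (hW : Smooth (W.ι ≫ f))
    (hsep : letI := (f.residueFieldMap x).hom.toAlgebra
      Algebra.FormallySmooth (S.residueField (f x)) (X.residueField x))
    (hgen : IsLocalRing.maximalIdeal ↑((f.fiber (f x)).presheaf.stalk (f.asFiber x)) ≠ ⊥) :
    ∃ (U : X.Opens) (hU : IsAffineOpen U) (hx : x ∈ U) (h' : Γ(X, U)), h' ∈ nonZeroDivisors Γ(X, U) ∧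
      X.presheaf.germ U x hx h' ∈ IsLocalRing.maximalIdeal ↑(X.presheaf.stalk x) ∧
      Smooth (Spec.map (CommRingCat.ofHom (Ideal.Quotient.mk (Ideal.span {h'}))) ≫ hU.fromSpec ≫ f) := by
  have key : ∀ (x₁ : X), x₁ = x →
      (letI := (f.stalkMap x₁).hom.toAlgebra
       ∃ h ∈ IsLocalRing.maximalIdeal ↑(X.presheaf.stalk x₁),
        (1 : IsLocalRing.ResidueField ↑(X.presheaf.stalk x₁)) ⊗ₜ[↑(X.presheaf.stalk x₁)]
          KaehlerDifferential.D ↑(S.presheaf.stalk (f x₁)) ↑(X.presheaf.stalk x₁) h ≠ 0) →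
      (letI := (f.stalkMap x).hom.toAlgebra
       ∃ h ∈ IsLocalRing.maximalIdeal ↑(X.presheaf.stalk x),
        (1 : IsLocalRing.ResidueField ↑(X.presheaf.stalk x)) ⊗ₜ[↑(X.presheaf.stalk x)]
          KaehlerDifferential.D ↑(S.presheaf.stalk (f x)) ↑(X.presheaf.stalk x) h ≠ 0) := by
    rintro _ rfl h
    exact h
  have hx₁ := f.fiberι_asFiber x
  have hsep' : ∀ x₁, x₁ = x → (f.residueFieldMap x₁).hom.FormallySmooth := by
    rintro _ rfl
    exact hsep
  obtain ⟨h, hm, hne⟩ := key _ hx₁
    (Groth.Agent.Lib.H87SmoothDiv.exists_tmul_D_ne_zero_of_fiber f (f x) (f.asFiber x) W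
      (hx₁.symm ▸ hxW) hW (hsep' _ hx₁) hgen)
  obtain ⟨U, hU, hx, h', hgerm, hnzd, hsm⟩ :=
    Groth.Agent.Lib.H87SmoothDiv.exists_smooth_divisor f x W hxW hW h hne
  exact ⟨U, hU, hx, h', hnzd, hgerm ▸ hm, hsm⟩

end Groth.Agent.S9724
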