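import Groth.Statements.S9728
import Groth.Agent.Lib.KRegImmSmooth

set_option autoImplicit false
universe u
open FlatMor

namespace Groth.Agent.S9728

open AlgebraicGeometry CategoryTheory Limits in
/-- Given S-schemes U, P, P' with P and P' smooth over S, immersions i : U ⟶ P and i' : U ⟶ P'
compatible with the structure maps to S, and a point u of U, some restriction of i to an open
neighbourhood of u is a Koszul-regular immersion exactly when some restriction of i' to an open
neighbourhood of u is. -/
theorem result {S U P P' : Scheme.{u}} (q : U ⟶ S)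
    (p : P ⟶ S) (p' : P' ⟶ S) [Smooth p] [Smooth p'] (i : U ⟶ P) (i' : U ⟶ P') [IsImmersion i] [IsImmersion i']
    (hi : i ≫ p = q) (hi' : i' ≫ p' = q) (u : U) :
    (∃ V : U.Opens, u ∈ V ∧ RegImm.IsRegularImmersion RegImm.Kind.koszul (V.ι ≫ i)) ↔
      (∃ V : U.Opens, u ∈ V ∧ RegImm.IsRegularImmersion RegImm.Kind.koszul (V.ι ≫ i')) := by
  subst hi
  let i'' : U ⟶ pullback p p' := pullback.lift i i' hi'.symm
  have h1 : i'' ≫ pullback.fst p p' = i := pullback.lift_fst _ _ _
  have h2 : i'' ≫ pullback.snd p p' = i' := pullback.lift_snd _ _ _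
  haveI : IsImmersion i'' := by
    haveI : IsImmersion (i'' ≫ pullback.fst p p') := by rw [h1]; infer_instance
    exact IsImmersion.of_comp i'' (pullback.fst p p')
  have key : ∀ V : U.Opens, RegImm.IsRegularImmersion RegImm.Kind.koszul (V.ι ≫ i) ↔
      RegImm.IsRegularImmersion RegImm.Kind.koszul (V.ι ≫ i') := by
    intro V
    haveI : IsImmersion ((V.ι ≫ i'') ≫ pullback.fst p p') := by
      rw [Category.assoc, h1]; infer_instance
    haveI : IsImmersion ((V.ι ≫ i'') ≫ pullback.snd p p') := by
      rw [Category.assoc, h2]; infer_instance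
    have e1 := Groth.Agent.Lib.KRegImmSmooth.isRegularImmersion_koszul_comp_iff_of_smooth
      (V.ι ≫ i'') (pullback.fst p p')
    have e2 := Groth.Agent.Lib.KRegImmSmooth.isRegularImmersion_koszul_comp_iff_of_smooth
      (V.ι ≫ i'') (pullback.snd p p')
    rw [Category.assoc, h1] at e1
    rw [Category.assoc, h2] at e2
    exact e1.trans e2.symm
  exact exists_congr fun V => and_congr Iff.rfl (key V)

end Groth.Agent.S9728

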