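import Groth.Statements.S9739
import Mathlib
import Groth.Agent.Lib.H79FlatGenDimSch

set_option autoImplicit false
universe u
open FlatMor

namespace Groth.Agent.S9739

open AlgebraicGeometry CategoryTheory Limits in
/-- Let f : X ⟶ S be flat and locally of finite presentation, and let x' ⤳ x be points of X. Assume the
closure of x in its fibre is one of that fibre's irreducible components. Then the fibre through x'
has the same local dimension at x' as the fibre through x has at x. -/
theorem result {X S : Scheme.{u}} (f : X ⟶ S) [Flat f] [LocallyOfFinitePresentation f]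
    (x x' : X) (hsp : x' ⤳ x) (hgen : ∃ Z ∈ irreducibleComponents ↥(f.fiber (f x)), IsGenericPoint (f.asFiber x) Z) :
    FlatMor.fibreDimAt f x' = FlatMor.fibreDimAt f x := by
  obtain ⟨Z, hZ, hgenZ⟩ := hgen
  have hmax := (Groth.Agent.Lib.H30FlatDim.dim_component_eq_rt f x (f x) rfl (f.asFiber x)
    (f.fiberι_asFiber x) Z hZ hgenZ).2
  exact Groth.Agent.Lib.H79FlatGenDimSch.fibreDimAt_eq_of_specializes_of_maximal f x x' hsp hmax

end Groth.Agent.S9739
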