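import Groth.Statements.S9744
import Groth.Agent.Lib.H72RelFPScheme
import Groth.Agent.Lib.H72RelFPPushout
import Groth.Agent.Lib.H72PullbackNat
import Groth.Agent.Lib.FlatBaseChangeQcqs

set_option autoImplicit false
universe u
open Flatn

namespace Groth.Agent.S9744

open AlgebraicGeometry CategoryTheory Limits in
/-- Let f : X ⟶ S be locally of finite type and F a quasi-coherent O_X-module of finite presentation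
relative to S. For a base change f' : X' ⟶ S' of f along S' ⟶ S with projection g' : X' ⟶ X, the
pullback (g')^*F is of finite presentation relative to S'. -/
theorem result {X S X' S' : Scheme.{u}} (f : X ⟶ S) [LocallyOfFiniteType f] (F : X.Modules) [Coh.IsQCoh F]
    (g : S' ⟶ S) (f' : X' ⟶ S') (g' : X' ⟶ X) (hc : IsPullback g' f' f g) (hF : Flatn.IsRelFP f F) :
    Flatn.IsRelFP f' ((Scheme.Modules.pullback g').obj F) := by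
  haveI : F.IsQuasicoherent := ‹Coh.IsQCoh F›
  haveI : LocallyOfFiniteType f' :=
    CategoryTheory.MorphismProperty.of_isPullback (P := @LocallyOfFiniteType) hc ‹_›
  rw [Groth.Agent.Lib.H72RelFP.isRelFP_iff f' ((Scheme.Modules.pullback g').obj F)]
  rw [Groth.Agent.Lib.H72RelFP.isRelFP_iff f F] at hF
  intro U₀ V₀ hU₀ hV₀ h₀
  refine Groth.Agent.Lib.H72RelFP.relFPHom_of_local f' _ hU₀ hV₀ h₀ fun x' _ => ?_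
  -- affine charts
  obtain ⟨V, hV, hxV⟩ : ∃ V : S.Opens, AlgebraicGeometry.IsAffineOpen V ∧ g (f' x') ∈ V := by
    obtain ⟨_, ⟨V, hV, rfl⟩, hxV, -⟩ :=
      S.isBasis_affineOpens.exists_subset_of_mem_open (Set.mem_univ (g (f' x'))) isOpen_univ
    exact ⟨V, hV, hxV⟩
  obtain ⟨V', hV', hxV', hV'V⟩ : ∃ V' : S'.Opens, AlgebraicGeometry.IsAffineOpen V' ∧
      f' x' ∈ V' ∧ V' ≤ g ⁻¹ᵁ V := by
    obtain ⟨_, ⟨V', hV', rfl⟩, hxV', hV'V⟩ :=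
      S'.isBasis_affineOpens.exists_subset_of_mem_open
        (show f' x' ∈ ((g ⁻¹ᵁ V : S'.Opens) : Set S') from hxV) (g ⁻¹ᵁ V).isOpen
    exact ⟨V', hV', hxV', hV'V⟩
  have hfx : f (g' x') ∈ V := by
    have h1 : f (g' x') = g (f' x') := by
      rw [← Scheme.Hom.comp_apply, ← Scheme.Hom.comp_apply, hc.w]
    rw [h1]
    exact hxV
  obtain ⟨U, hU, hxU, hUV⟩ : ∃ U : X.Opens, AlgebraicGeometry.IsAffineOpen U ∧ g' x' ∈ U ∧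
      U ≤ f ⁻¹ᵁ V := by
    obtain ⟨_, ⟨U, hU, rfl⟩, hxU, hUV⟩ :=
      X.isBasis_affineOpens.exists_subset_of_mem_open
        (show g' x' ∈ ((f ⁻¹ᵁ V : X.Opens) : Set X) from hfx) (f ⁻¹ᵁ V).isOpen
    exact ⟨U, hU, hxU, hUV⟩
  obtain ⟨hU'a, hPO⟩ :=
    Groth.Agent.Lib.FlatBaseChangeQcqs.isAffineOpen_inf_and_isPushout hc hV hV' hU hV'V hUV
  refine ⟨g' ⁻¹ᵁ U ⊓ f' ⁻¹ᵁ V', V', hU'a, hV', inf_le_right, ⟨hxU, hxV'⟩, ?_⟩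
  -- algebra instances
  letI : Algebra Γ(S, V) Γ(S', V') := (g.appLE V V' hV'V).hom.toAlgebra
  letI : Algebra Γ(S, V) Γ(X, U) := (f.appLE V U hUV).hom.toAlgebra
  letI : Algebra Γ(X, U) Γ(X', g' ⁻¹ᵁ U ⊓ f' ⁻¹ᵁ V') :=
    (g'.appLE U (g' ⁻¹ᵁ U ⊓ f' ⁻¹ᵁ V') inf_le_left).hom.toAlgebra
  letI : Algebra Γ(S', V') Γ(X', g' ⁻¹ᵁ U ⊓ f' ⁻¹ᵁ V') :=
    (f'.appLE V' (g' ⁻¹ᵁ U ⊓ f' ⁻¹ᵁ V') inf_le_right).hom.toAlgebra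
  letI : Algebra Γ(S, V) Γ(X', g' ⁻¹ᵁ U ⊓ f' ⁻¹ᵁ V') :=
    (g.appLE V V' hV'V ≫ f'.appLE V' (g' ⁻¹ᵁ U ⊓ f' ⁻¹ᵁ V') inf_le_right).hom.toAlgebra
  haveI : IsScalarTower Γ(S, V) Γ(S', V') Γ(X', g' ⁻¹ᵁ U ⊓ f' ⁻¹ᵁ V') :=
    .of_algebraMap_eq fun _ => rfl
  haveI : IsScalarTower Γ(S, V) Γ(X, U) Γ(X', g' ⁻¹ᵁ U ⊓ f' ⁻¹ᵁ V') :=
    .of_algebraMap_eq fun x => (congrArg
      (fun t : Γ(S, V) ⟶ Γ(X', g' ⁻¹ᵁ U ⊓ f' ⁻¹ᵁ V') => t.hom x) hPO.w).symm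
  haveI : Algebra.IsPushout Γ(S, V) Γ(X, U) Γ(S', V') Γ(X', g' ⁻¹ᵁ U ⊓ f' ⁻¹ᵁ V') :=
    CommRingCat.isPushout_iff_isPushout.mp hPO
  letI : Module Γ(X, U) Γ((Scheme.Modules.pullback g').obj F, g' ⁻¹ᵁ U ⊓ f' ⁻¹ᵁ V') :=
    Module.compHom _ (g'.appLE U (g' ⁻¹ᵁ U ⊓ f' ⁻¹ᵁ V') inf_le_left).hom
  haveI : IsScalarTower Γ(X, U) Γ(X', g' ⁻¹ᵁ U ⊓ f' ⁻¹ᵁ V')
      Γ((Scheme.Modules.pullback g').obj F, g' ⁻¹ᵁ U ⊓ f' ⁻¹ᵁ V') :=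
    .of_algebraMap_smul fun _ _ => rfl
  obtain ⟨θ, hθ, -⟩ :=
    Groth.Agent.Lib.H72PullbackNat.exists_isBaseChange_sections' g' F hU'a hU inf_le_left
  exact Groth.Agent.Lib.H72RelFP.RelFPHom.baseChange_of_isPushout (A := Γ(S, V))
    (A' := Γ(S', V')) (B := Γ(X, U)) (B' := Γ(X', g' ⁻¹ᵁ U ⊓ f' ⁻¹ᵁ V')) θ hθ
    (hF U V hU hV hUV)

end Groth.Agent.S9744
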