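import Groth.Statements.S9745
import Groth.Agent.Lib.H72RelFPScheme
import Groth.Agent.Lib.H72RelFPBaseChange
import Groth.Agent.Lib.H72PullbackNat
import Mathlib.AlgebraicGeometry.Morphisms.FinitePresentation

set_option autoImplicit false
universe u
open Flatn

namespace Groth.Agent.S9745

open AlgebraicGeometry CategoryTheory Limits in
/-- Let f : X ⟶ Y be locally of finite presentation and g : Y ⟶ S locally of finite type, and let G be a
quasi-coherent O_Y-module that is finitely presented relative to S. Then the pullback f^*G is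
finitely presented relative to S along f ≫ g. -/
theorem result {X Y S : Scheme.{u}} (f : X ⟶ Y) (g : Y ⟶ S) [LocallyOfFinitePresentation f] [LocallyOfFiniteType g]
    (G : Y.Modules) [Coh.IsQCoh G] (hG : Flatn.IsRelFP g G) : Flatn.IsRelFP (f ≫ g) ((Scheme.Modules.pullback f).obj G) := by
  haveI : G.IsQuasicoherent := ‹Coh.IsQCoh G›
  rw [Groth.Agent.Lib.H72RelFP.isRelFP_iff (f ≫ g) ((Scheme.Modules.pullback f).obj G)]
  rw [Groth.Agent.Lib.H72RelFP.isRelFP_iff g G] at hG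
  intro U V hU hV h
  refine Groth.Agent.Lib.H72RelFP.relFPHom_of_local (f ≫ g) _ hU hV h fun x hx => ?_
  obtain ⟨W, hW, hxW, hWV⟩ : ∃ W : Y.Opens, AlgebraicGeometry.IsAffineOpen W ∧ f x ∈ W ∧
      W ≤ g ⁻¹ᵁ V := by
    obtain ⟨_, ⟨W, hW, rfl⟩, hxW, hWV⟩ :=
      Y.isBasis_affineOpens.exists_subset_of_mem_open
        (show f x ∈ ((g ⁻¹ᵁ V : Y.Opens) : Set Y) from h hx) (g ⁻¹ᵁ V).isOpen
    exact ⟨W, hW, hxW, hWV⟩
  obtain ⟨U', hU', hxU', hU'W⟩ : ∃ U' : X.Opens, AlgebraicGeometry.IsAffineOpen U' ∧ x ∈ U' ∧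
      U' ≤ f ⁻¹ᵁ W := by
    obtain ⟨_, ⟨U', hU', rfl⟩, hxU', hU'W⟩ :=
      X.isBasis_affineOpens.exists_subset_of_mem_open
        (show x ∈ ((f ⁻¹ᵁ W : X.Opens) : Set X) from hxW) (f ⁻¹ᵁ W).isOpen
    exact ⟨U', hU', hxU', hU'W⟩
  have hU'V : U' ≤ (f ≫ g) ⁻¹ᵁ V := fun y hy => hWV (hU'W hy)
  refine ⟨U', V, hU', hV, hU'V, hxU', ?_⟩
  letI : Algebra Γ(Y, W) Γ(X, U') := (f.appLE W U' hU'W).hom.toAlgebra
  letI : Module Γ(Y, W) Γ((Scheme.Modules.pullback f).obj G, U') :=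
    Module.compHom _ (f.appLE W U' hU'W).hom
  haveI : IsScalarTower Γ(Y, W) Γ(X, U') Γ((Scheme.Modules.pullback f).obj G, U') :=
    .of_algebraMap_smul fun _ _ => rfl
  haveI : Algebra.FinitePresentation Γ(Y, W) Γ(X, U') :=
    AlgebraicGeometry.HasRingHomProperty.appLE (P := @LocallyOfFinitePresentation) f ‹_›
      ⟨W, hW⟩ ⟨U', hU'⟩ hU'W
  obtain ⟨θ, hθ, -⟩ :=
    Groth.Agent.Lib.H72PullbackNat.exists_isBaseChange_sections' f G hU' hW hU'W
  have key := Groth.Agent.Lib.H72RelFP.RelFPHom.baseChange (g.appLE V W hWV).hom θ hθ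
    (hG W V hW hV hWV)
  have e : (algebraMap Γ(Y, W) Γ(X, U')).comp (g.appLE V W hWV).hom =
      ((f ≫ g).appLE V U' hU'V).hom := by
    have := AlgebraicGeometry.Scheme.Hom.appLE_comp_appLE f g V W U' hWV hU'W
    rw [← this]
    rfl
  rw [e] at key
  exact key

end Groth.Agent.S9745
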