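import Groth.Statements.S9747
import Groth.Agent.Lib.H72RelFPExact

set_option autoImplicit false
universe u
open Flatn

namespace Groth.Agent.S9747

open AlgebraicGeometry CategoryTheory Limits in
/-- Let f : X ⟶ S be locally of finite type and 0 → F' → F → F'' → 0 an exact sequence in quasi-coherent
O_X-modules. When both outer terms are of finite presentation relative to S, the middle term is also
of finite presentation relative to S. -/
theorem result {X S : Scheme.{u}} (f : X ⟶ S) [LocallyOfFiniteType f] (E : ShortComplex X.Modules) (hE : E.ShortExact)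
    [Coh.IsQCoh E.X₁] [Coh.IsQCoh E.X₂] [Coh.IsQCoh E.X₃] (h₁ : Flatn.IsRelFP f E.X₁) (h₃ : Flatn.IsRelFP f E.X₃) :
    Flatn.IsRelFP f E.X₂ := by
  haveI : E.X₁.IsQuasicoherent := ‹Coh.IsQCoh E.X₁›
  haveI : E.X₂.IsQuasicoherent := ‹Coh.IsQCoh E.X₂›
  haveI : E.X₃.IsQuasicoherent := ‹Coh.IsQCoh E.X₃›
  exact Groth.Agent.Lib.H72RelFP.isRelFP_of_shortExact f E hE h₁ h₃

end Groth.Agent.S9747
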