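import Groth.Statements.S9749
-- import your own Groth.Agent.* helpers here

set_option autoImplicit false
universe u
open Flatn

namespace Groth.Agent.S9749

/-- A retract of a finitely presented module is finitely presented. -/
theorem finitePresentation_of_retract {R M N : Type*} [Ring R] [AddCommGroup M] [Module R M]
    [AddCommGroup N] [Module R N] [Module.FinitePresentation R N]
    (s : M →ₗ[R] N) (r : N →ₗ[R] M) (hrs : ∀ m, r (s m) = m) :
    Module.FinitePresentation R M := by
  have hsurj : Function.Surjective r := fun m => ⟨s m, hrs m⟩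
  refine Module.finitePresentation_of_surjective r hsurj ?_
  have hker : LinearMap.ker r = LinearMap.range (LinearMap.id - s.comp r) := by
    ext x
    constructor
    · intro hx
      refine ⟨x, ?_⟩
      have : r x = 0 := hx
      simp [this]
    · rintro ⟨y, rfl⟩
      simp [hrs]
  rw [hker]
  exact Submodule.fg_range _

open AlgebraicGeometry CategoryTheory Limits Opposite in
/-- Relative finite presentation on a pair of affine opens passes to retracts. -/
theorem relFPOn_of_retract {X S : Scheme.{u}} (f : X ⟶ S) {F G : X.Modules} (s : F ⟶ G) (r : G ⟶ F)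
    (hsr : s ≫ r = 𝟙 F) (U : X.affineOpens) (V : S.affineOpens)
    (h : (U : X.Opens) ≤ f ⁻¹ᵁ (V : S.Opens)) (hG : Flatn.RelFPOn f G U V h) :
    Flatn.RelFPOn f F U V h := by
  unfold Flatn.RelFPOn at hG ⊢
  let _ := (f.appLE (V : S.Opens) (U : X.Opens) h).hom.toAlgebra
  obtain ⟨n, φ, hφ, hfp⟩ := hG
  refine ⟨n, φ, hφ, ?_⟩
  let _ : Module (MvPolynomial (Fin n) Γ(S, (V : S.Opens))) (F.val.obj (op (U : X.Opens))) :=
    Module.compHom _ φ.toRingHom
  let _ : Module (MvPolynomial (Fin n) Γ(S, (V : S.Opens))) (G.val.obj (op (U : X.Opens))) :=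
    Module.compHom _ φ.toRingHom
  have : Module.FinitePresentation (MvPolynomial (Fin n) Γ(S, (V : S.Opens)))
    (G.val.obj (op (U : X.Opens))) := hfp
  let s' : (F.val.obj (op (U : X.Opens))) →ₗ[MvPolynomial (Fin n) Γ(S, (V : S.Opens))]
      (G.val.obj (op (U : X.Opens))) :=
    { toFun := fun m => (s.val.app (op (U : X.Opens))).hom m
      map_add' := fun a b => map_add _ a b
      map_smul' := fun p m => (s.val.app (op (U : X.Opens))).hom.map_smul (φ p) m }
  let r' : (G.val.obj (op (U : X.Opens))) →ₗ[MvPolynomial (Fin n) Γ(S, (V : S.Opens))]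
      (F.val.obj (op (U : X.Opens))) :=
    { toFun := fun m => (r.val.app (op (U : X.Opens))).hom m
      map_add' := fun a b => map_add _ a b
      map_smul' := fun p m => (r.val.app (op (U : X.Opens))).hom.map_smul (φ p) m }
  refine finitePresentation_of_retract s' r' fun m => ?_
  have := congrArg (fun t : F ⟶ F => (t.val.app (op (U : X.Opens))).hom m) hsr
  exact this

open AlgebraicGeometry CategoryTheory Limits in
/-- For f : X ⟶ S locally of finite type and quasi-coherent O_X-modules F, F', relative finite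
presentation over S of the biproduct F ⊞ F' implies the same property for each summand. -/
theorem result {X S : Scheme.{u}} (f : X ⟶ S) [LocallyOfFiniteType f] (F F' : X.Modules) [Coh.IsQCoh F] [Coh.IsQCoh F']
    (h : Flatn.IsRelFP f (F ⊞ F')) : Flatn.IsRelFP f F ∧ Flatn.IsRelFP f F' := by
  obtain ⟨𝒱, h𝒱, H⟩ := h
  constructor
  · refine ⟨𝒱, h𝒱, fun V hV => ?_⟩
    obtain ⟨𝒰, h𝒰, HU⟩ := H V hV
    exact ⟨𝒰, h𝒰, fun U hU hUV =>
      relFPOn_of_retract f biprod.inl biprod.fst (by simp) U V hUV (HU U hU hUV)⟩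
  · refine ⟨𝒱, h𝒱, fun V hV => ?_⟩
    obtain ⟨𝒰, h𝒰, HU⟩ := H V hV
    exact ⟨𝒰, h𝒰, fun U hU hUV =>
      relFPOn_of_retract f biprod.inr biprod.snd (by simp) U V hUV (HU U hU hUV)⟩

end Groth.Agent.S9749
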