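import Groth.Statements.S9750
import Groth.Agent.Lib.UnivThickLocal24
import Groth.Agent.Lib.H4FirstOrderBC
import Groth.Agent.S1487
import Groth.Agent.Lib.Conormal81
import Groth.Agent.Lib.PinchZero
import Groth.Agent.Lib.PullbackAffine
import Groth.Agent.Lib.H77QCohKernel

set_option autoImplicit false
universe u
open FlatMor

namespace Groth.Agent.S9750

open AlgebraicGeometry CategoryTheory Limits

/-- Normal form of a first order thickening of an affine scheme. -/
theorem exists_affine_normalForm {T T' : Scheme.{u}} [IsAffine T'] (j : T ⟶ T')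
    (hj : MoreMor.IsFirstOrderThickening j) :
    ∃ (A : Type u) (_ : CommRing A) (I : Ideal A) (_ : I ^ 2 = ⊥)
      (eT' : T' ≅ Spec (CommRingCat.of A)) (eT : T ≅ Spec (CommRingCat.of (A ⧸ I))),
      j ≫ eT'.hom = eT.hom ≫ Spec.map (CommRingCat.ofHom (Ideal.Quotient.mk I)) := by
  obtain ⟨⟨hcl, -⟩, hsq⟩ := hj
  obtain ⟨hTaff, hsurj⟩ := IsClosedImmersion.isAffine_surjective_of_isAffine j
  have hI : RingHom.ker j.appTop.hom ^ 2 = ⊥ := by
    rw [pow_two]
    exact (Groth.Agent.Lib.H4FirstOrderBC.ker_mul_ker_eq_bot_iff_of_isAffine j).mp hsq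
  let e : Γ(T', ⊤) ⧸ RingHom.ker j.appTop.hom ≃+* Γ(T, ⊤) :=
    RingHom.quotientKerEquivOfSurjective hsurj
  refine ⟨Γ(T', ⊤), inferInstance, RingHom.ker j.appTop.hom, hI, T'.isoSpec,
    T.isoSpec ≪≫ Scheme.Spec.mapIso e.toCommRingCatIso.op, ?_⟩
  have h1 : j.appTop = CommRingCat.ofHom (Ideal.Quotient.mk (RingHom.ker j.appTop.hom)) ≫
      e.toCommRingCatIso.hom := by
    ext x
    exact (RingHom.quotientKerEquivOfSurjective_apply_mk hsurj x).symm
  rw [← Scheme.isoSpec_hom_naturality, Iso.trans_hom, Category.assoc]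
  congr 1
  show Spec.map j.appTop = Spec.map e.toCommRingCatIso.hom ≫ _
  rw [← Spec.map_comp, ← h1]

theorem isFirstOrderThickening_id (X : Scheme.{u}) : MoreMor.IsFirstOrderThickening (𝟙 X) := by
  refine ⟨⟨inferInstance, inferInstance⟩, ?_⟩
  rw [Scheme.Hom.ker_eq_bot_of_isIso, Scheme.IdealSheafData.bot_mul]

/-- Part 1. -/
theorem part1 {X S : Scheme.{u}} (f : X ⟶ S) :
    MoreMor.IsFormallyEtaleHom f ↔ FormallyUnramified f ∧ OmegaSh.IsUnivThickening f (𝟙 X) f := by
  constructor
  · intro hfe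
    have hfu : FormallyUnramified f := by
      refine ⟨fun {V} hV {U} hU e => ?_⟩
      have := (Groth.Agent.S1487.main f).mp hfe U V hU hV e
      let _ := (f.appLE V U e).hom.toAlgebra
      exact (inferInstance : Algebra.FormallyUnramified Γ(S, V) Γ(X, U))
    refine ⟨hfu, ?_⟩
    refine Groth.Agent.Lib.UnivThickLocal24.isUnivThickening_of_affine f (𝟙 X) f
      (isFirstOrderThickening_id X) (Category.id_comp f) ?_
    intro T T' _ j b a hj hw
    obtain ⟨A, _, I, hI, eT', eT, hcomm⟩ := exists_affine_normalForm j hj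
    have hcomm' : Spec.map (CommRingCat.ofHom (Ideal.Quotient.mk I)) ≫ eT'.inv = eT.inv ≫ j := by
      rw [Iso.eq_inv_comp, ← Category.assoc, ← hcomm, Category.assoc, Iso.hom_inv_id,
        Category.comp_id]
    obtain ⟨l, ⟨hl1, hl2⟩, hlu⟩ := hfe A I hI (eT.inv ≫ a) (eT'.inv ≫ b)
      (by rw [← Category.assoc, hcomm', Category.assoc, hw, Category.assoc])
    refine ⟨eT'.hom ≫ l, ⟨?_, ?_⟩, ?_⟩
    · rw [← Category.assoc, hcomm, Category.assoc, hl1, Iso.hom_inv_id_assoc, Category.comp_id]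
    · rw [Category.assoc, hl2, Iso.hom_inv_id_assoc]
    · rintro a'' ⟨h1, h2⟩
      rw [Category.comp_id] at h1
      have : eT'.inv ≫ a'' = l := by
        apply hlu
        constructor
        · rw [← Category.assoc, hcomm', Category.assoc, h1]
        · rw [Category.assoc, h2]
      rw [← this, Iso.hom_inv_id_assoc]
  · rintro ⟨-, huniv⟩ A _ I hI a b hcomm
    have hFOT : MoreMor.IsFirstOrderThickening
        (Spec.map (CommRingCat.ofHom (Ideal.Quotient.mk I))) := by
      refine Groth.Agent.Lib.H4FirstOrderBC.isFirstOrderThickening_SpecMap _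
        Ideal.Quotient.mk_surjective ?_
      intro x y hx hy
      have hx' : x ∈ I := Ideal.Quotient.eq_zero_iff_mem.mp hx
      have hy' : y ∈ I := Ideal.Quotient.eq_zero_iff_mem.mp hy
      have : x * y ∈ I ^ 2 := by rw [pow_two]; exact Ideal.mul_mem_mul hx' hy'
      rw [hI] at this
      exact this
    have := huniv.2.2 _ _ _ b a hFOT hcomm
    simpa only [Category.comp_id] using this

/-- A base change of a subsingleton module is a subsingleton. -/
theorem subsingleton_of_isBaseChange {R S M N : Type u} [CommRing R] [CommRing S] [Algebra R S]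
    [AddCommGroup M] [Module R M] [AddCommGroup N] [Module R N] [Module S N]
    [IsScalarTower R S N] (g : M →ₗ[R] N) (hg : IsBaseChange S g) [Subsingleton M] :
    Subsingleton N :=
  hg.equiv.symm.injective.subsingleton

/-- If the base change of a square zero ideal `I` to `S = R ⧸ I` vanishes then `I = 0`. -/
theorem ideal_eq_bot_of_isBaseChange {R S N : Type u} [CommRing R] [CommRing S] [Algebra R S]
    (hS : Function.Surjective (algebraMap R S))
    [AddCommGroup N] [Module R N] [Module S N] [IsScalarTower R S N]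
    (g : RingHom.ker (algebraMap R S) →ₗ[R] N) (hg : IsBaseChange S g) [Subsingleton N]
    (hsq : RingHom.ker (algebraMap R S) * RingHom.ker (algebraMap R S) = ⊥) :
    RingHom.ker (algebraMap R S) = ⊥ := by
  set I := RingHom.ker (algebraMap R S) with hIdef
  have h1 : Subsingleton (TensorProduct R S I) := hg.equiv.injective.subsingleton
  let eS : (R ⧸ I) ≃ₐ[R] S := Ideal.quotientKerAlgEquivOfSurjective (f := Algebra.ofId R S) hS
  have h2 : Subsingleton (TensorProduct R (R ⧸ I) I) :=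
    (TensorProduct.congr eS.toLinearEquiv (LinearEquiv.refl R I)).injective.subsingleton
  have h3 : Subsingleton (I ⧸ (I • (⊤ : Submodule R I))) :=
    (TensorProduct.quotTensorEquivQuotSMul I I).symm.injective.subsingleton
  rw [Submodule.Quotient.subsingleton_iff] at h3
  rw [eq_bot_iff]
  intro x hx
  have hx' : (⟨x, hx⟩ : I) ∈ (I • (⊤ : Submodule R I)) := by rw [h3]; trivial
  have h4 : x ∈ (I • (⊤ : Submodule R I)).map (Submodule.subtype I) := ⟨⟨x, hx⟩, hx', rfl⟩
  rw [Submodule.map_smul'', Submodule.map_top, Submodule.range_subtype] at h4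
  have h5 : x ∈ I * I := h4
  rw [hsq] at h5
  exact h5


open AlgebraicGeometry CategoryTheory Limits in
/-- (1) ⇔ (2) ⇔ (3): a morphism f : X ⟶ S is formally étale (unique infinitesimal lifting against
square-zero thickenings of affine schemes) if and only if f is formally unramified and X, through
the identity and f, is its own universal square-zero (first order) thickening relative to f; and,
for f formally unramified with universal first order thickening data (i : X ⟶ X', h' : X' ⟶ S), f is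
formally étale if and only if the conormal sheaf of i (the conormal sheaf of f) is zero. The
published statement also lists a fourth equivalent condition, the vanishing of both the sheaf of
differentials and the conormal sheaf; this row omits it. -/
theorem result {X S : Scheme.{u}} (f : X ⟶ S) :
    (MoreMor.IsFormallyEtaleHom f ↔ FormallyUnramified f ∧ OmegaSh.IsUnivThickening f (𝟙 X) f) ∧
    (∀ {X' : Scheme.{u}} (i : X ⟶ X') (h' : X' ⟶ S) [QuasiCompact i], FormallyUnramified f →
      OmegaSh.IsUnivThickening f i h' → (MoreMor.IsFormallyEtaleHom f ↔ IsZero (Omega.conormal i))) := by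
  refine ⟨part1 f, ?_⟩
  intro X' i h' _ hfu huniv
  obtain ⟨⟨⟨hcl, hsurj⟩, hsq⟩, hc, -⟩ := id huniv
  constructor
  · intro hfe
    have hu₁ := ((part1 f).mp hfe).2
    obtain ⟨e, he, -⟩ := Groth.Agent.Lib.UnivThickLocal24.exists_iso_of_isUnivThickening f
      (𝟙 X) f i h' hu₁ huniv
    rw [Category.id_comp] at he
    have hiso : IsIso i := by rw [← he]; infer_instance
    have hker : i.ker = ⊥ := Scheme.Hom.ker_eq_bot_of_isIso i
    haveI : (Omega.conormal i).IsQuasicoherent :=
      Groth.Agent.Lib.PullbackAffine.isQuasicoherent_pullback i (ClSub.idealMod i.ker)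
    apply Groth.Agent.Lib.PinchZero.isZero_of_forall_affine_subsingleton
    rintro ⟨V, hV⟩
    have hU : IsAffineOpen ((inv i) ⁻¹ᵁ V) := hV.preimage_of_isIso (inv i)
    have hWU : i ⁻¹ᵁ ((inv i) ⁻¹ᵁ V) = V := by
      rw [← Scheme.Hom.comp_preimage, IsIso.hom_inv_id, Scheme.Hom.id_preimage]
    have hWa : IsAffineOpen (i ⁻¹ᵁ ((inv i) ⁻¹ᵁ V)) := by rw [hWU]; exact hV
    suffices h : Subsingleton Γ((Scheme.Modules.pullback i).obj (ClSub.idealMod i.ker),
        i ⁻¹ᵁ ((inv i) ⁻¹ᵁ V)) by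
      show Subsingleton Γ((Scheme.Modules.pullback i).obj (ClSub.idealMod i.ker), V)
      exact hWU ▸ h
    obtain ⟨uI, hbc, -⟩ := Groth.Agent.Lib.Conormal81.exists_uI i hU hWa rfl
    letI : Algebra Γ(X', (inv i) ⁻¹ᵁ V) Γ(X, i ⁻¹ᵁ ((inv i) ⁻¹ᵁ V)) :=
      (i.appLE _ _ le_rfl).hom.toAlgebra
    letI : Module Γ(X', (inv i) ⁻¹ᵁ V)
        Γ((Scheme.Modules.pullback i).obj (ClSub.idealMod i.ker), i ⁻¹ᵁ ((inv i) ⁻¹ᵁ V)) :=
      Module.compHom _ (i.appLE ((inv i) ⁻¹ᵁ V) (i ⁻¹ᵁ ((inv i) ⁻¹ᵁ V)) le_rfl).hom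
    haveI : IsScalarTower Γ(X', (inv i) ⁻¹ᵁ V) Γ(X, i ⁻¹ᵁ ((inv i) ⁻¹ᵁ V))
        Γ((Scheme.Modules.pullback i).obj (ClSub.idealMod i.ker), i ⁻¹ᵁ ((inv i) ⁻¹ᵁ V)) :=
      .of_algebraMap_smul fun _ _ => rfl
    haveI : Subsingleton (RingHom.ker (algebraMap Γ(X', (inv i) ⁻¹ᵁ V)
        Γ(X, i ⁻¹ᵁ ((inv i) ⁻¹ᵁ V)))) := by
      have hk : RingHom.ker (algebraMap Γ(X', (inv i) ⁻¹ᵁ V) Γ(X, i ⁻¹ᵁ ((inv i) ⁻¹ᵁ V))) = ⊥ := by
        have h1 := Scheme.Hom.ker_apply i ⟨_, hU⟩
        rw [hker, Scheme.Hom.app_eq_appLE] at h1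
        exact h1.symm
      rw [hk]
      infer_instance
    exact subsingleton_of_isBaseChange uI hbc
  · intro hz
    have hker : i.ker = ⊥ := by
      apply Scheme.IdealSheafData.ext
      funext U
      obtain ⟨U, hU⟩ := U
      have hW : IsAffineOpen (i ⁻¹ᵁ U) := hU.preimage i
      obtain ⟨uI, hbc, -⟩ := Groth.Agent.Lib.Conormal81.exists_uI i hU hW rfl
      letI : Algebra Γ(X', U) Γ(X, i ⁻¹ᵁ U) := (i.appLE U (i ⁻¹ᵁ U) le_rfl).hom.toAlgebra
      letI : Module Γ(X', U)
          Γ((Scheme.Modules.pullback i).obj (ClSub.idealMod i.ker), i ⁻¹ᵁ U) :=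
        Module.compHom _ (i.appLE U (i ⁻¹ᵁ U) le_rfl).hom
      haveI : IsScalarTower Γ(X', U) Γ(X, i ⁻¹ᵁ U)
          Γ((Scheme.Modules.pullback i).obj (ClSub.idealMod i.ker), i ⁻¹ᵁ U) :=
        .of_algebraMap_smul fun _ _ => rfl
      haveI : Subsingleton Γ((Scheme.Modules.pullback i).obj (ClSub.idealMod i.ker), i ⁻¹ᵁ U) := by
        refine ⟨fun s t => ?_⟩
        have h0 : (𝟙 (Omega.conormal i)) = 0 := (IsZero.iff_id_eq_zero _).mp hz
        have hs : ∀ s : Γ(Omega.conormal i, i ⁻¹ᵁ U), s = 0 := fun s => by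
          have := congr($(h0).app (i ⁻¹ᵁ U) s)
          simpa using this
        exact (hs s).trans (hs t).symm
      have hkerU : i.ker.ideal ⟨U, hU⟩ = RingHom.ker (algebraMap Γ(X', U) Γ(X, i ⁻¹ᵁ U)) := by
        rw [Scheme.Hom.ker_apply, Scheme.Hom.app_eq_appLE]
        rfl
      have hS : Function.Surjective (algebraMap Γ(X', U) Γ(X, i ⁻¹ᵁ U)) := by
        have := i.app_surjective U hU
        rw [Scheme.Hom.app_eq_appLE] at this
        exact this
      have hsqU : RingHom.ker (algebraMap Γ(X', U) Γ(X, i ⁻¹ᵁ U)) *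
          RingHom.ker (algebraMap Γ(X', U) Γ(X, i ⁻¹ᵁ U)) = ⊥ := by
        rw [← hkerU]
        have := congr(($hsq).ideal ⟨U, hU⟩)
        exact this
      rw [hkerU]
      exact ideal_eq_bot_of_isBaseChange hS uI hbc hsqU
    have hiso : IsIso i := IsClosedImmersion.isIso_iff_ker_eq_bot.mpr hker
    have hu₁ := Groth.Agent.Lib.UnivThickLocal24.isUnivThickening_comp_iso f i h' huniv
      (asIso i).symm
    have e1 : i ≫ (asIso i).symm.hom = 𝟙 X := IsIso.hom_inv_id i
    have e2 : (asIso i).symm.inv ≫ h' = f := hc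
    rw [e1, e2] at hu₁
    exact (part1 f).mpr ⟨hfu, hu₁⟩

end Groth.Agent.S9750
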