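import Groth.Statements.S9754
import Groth.Agent.S9238
import Groth.Agent.S9753
import Groth.Agent.Lib.FibreBranchesD96
import Groth.Agent.Lib.StrictHensQuotB96
import Groth.Agent.Lib.StrictHenselizationProps
import Groth.Agent.Lib.H56ShGen

set_option autoImplicit false
universe u
open Brnch

namespace Groth.Agent.S9754

open AlgebraicGeometry CategoryTheory Limits in
/-- For a morphism f : X ⟶ S and a point x of X over s = f x, the geometric branch count of the fibre
X_s at x equals the supremum, over étale neighbourhoods (U, u) of (X, x), of how many irreducible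
components of U_s (the fibre of U ⟶ X ⟶ S over s) contain the point of U_s lying over u. -/
theorem result {X S : Scheme.{u}} (f : X ⟶ S) (x : X) :
    Brnch.numGeomBranchesAt (f.fiber (f x)) (f.asFiber x) = ⨆ (U : Scheme.{u}) (g : U ⟶ X) (u : U) (_ : Etale g ∧ g u = x),
      {Z : Set ↑((g ≫ f).fiber (f x)) | Z ∈ irreducibleComponents ↑((g ≫ f).fiber (f x)) ∧
        ∃ u' ∈ Z, (g ≫ f).fiberι (f x) u' = u}.encard := by
  classical
  have hx : f.fiberι (f x) (f.asFiber x) = x := f.fiberι_asFiber x
  apply le_antisymm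
  · -- `≤`: lift finitely many minimal primes of the strict henselization of the fibre's local ring
    let R := X.presheaf.stalk (f.fiberι (f x) (f.asFiber x))
    let ρ : R →+* (f.fiber (f x)).presheaf.stalk (f.asFiber x) :=
      ((f.fiberι (f x)).stalkMap (f.asFiber x)).hom
    have hρ : Function.Surjective ρ := (f.fiberι (f x)).stalkMap_surjective (f.asFiber x)
    obtain ⟨S', _, _, _, _, hS', π, hπ, hcomm⟩ :=
      Groth.Agent.Lib.StrictHensQuot96.exists_isStrictHenselization_quotient
        (Groth.Agent.Lib.StrictHenselization.Sh R) ρ hρ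
    have hcard : ENat.card (minimalPrimes S') =
        Brnch.numGeomBranches ((f.fiber (f x)).presheaf.stalk (f.asFiber x)) :=
      Groth.Agent.S9238.result _ S'
    have hflat : Module.Flat ((f.fiber (f x)).presheaf.stalk (f.asFiber x)) S' :=
      (Groth.Agent.Lib.StrictHenselization.faithfullyFlat_of_isStrictHenselization _ S').toFlat
    show Brnch.numGeomBranches ((f.fiber (f x)).presheaf.stalk (f.asFiber x)) ≤ _
    rw [← hcard]
    show (minimalPrimes S').encard ≤ _
    rw [← ENat.forall_natCast_le_iff_le]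
    intro k hk
    obtain ⟨T, hTsub, hTcard⟩ := Set.exists_subset_encard_eq hk
    have hTfin : T.Finite := Set.finite_of_encard_eq_coe hTcard
    obtain ⟨U, g, u, hg, hgu, -, hle⟩ :=
      Groth.Agent.Lib.FibreBranches96.exists_nbhd_fibre_encard_ge f (f x) (f.asFiber x)
        (Groth.Agent.Lib.StrictHenselization.Sh R)
        (fun F => Groth.Agent.Lib.H56ShGen.exists_etale_of_finset _ _ F) S' π hπ hcomm
        T hTfin hTsub
    rw [← hTcard]
    exact hle.trans (le_iSup_of_le U (le_iSup_of_le g (le_iSup_of_le u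
      (le_iSup_of_le ⟨hg, hgu.trans hx⟩ le_rfl))))
  · refine iSup_le fun U => iSup_le fun g => iSup_le fun u => iSup_le fun h => ?_
    obtain ⟨hg, hgu⟩ := h
    haveI : Etale g := hg
    by_cases hne : {Z : Set ↑((g ≫ f).fiber (f x)) |
        Z ∈ irreducibleComponents ↑((g ≫ f).fiber (f x)) ∧
        ∃ u' ∈ Z, (g ≫ f).fiberι (f x) u' = u}.Nonempty
    · obtain ⟨Z₀, -, u'₀, -, hu'₀⟩ := hne
      have hsub : {Z : Set ↑((g ≫ f).fiber (f x)) |
          Z ∈ irreducibleComponents ↑((g ≫ f).fiber (f x)) ∧
          ∃ u' ∈ Z, (g ≫ f).fiberι (f x) u' = u} ⊆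
          {Z : Set ↑((g ≫ f).fiber (f x)) |
            Z ∈ irreducibleComponents ↑((g ≫ f).fiber (f x)) ∧ u'₀ ∈ Z} := by
        rintro Z ⟨hZ, u', hu'Z, hu'⟩
        have : u' = u'₀ :=
          ((g ≫ f).fiberι (f x)).isEmbedding.injective (hu'.trans hu'₀.symm)
        exact ⟨hZ, this ▸ hu'Z⟩
      refine (Set.encard_le_encard hsub).trans ?_
      rw [Groth.Agent.S9753.result (f.fiber (f x)) (f.asFiber x)]
      exact le_iSup_of_le _ (le_iSup_of_le (Groth.Agent.Lib.FibreBranches96.fiberMap g f (f x))
        (le_iSup_of_le u'₀ (le_iSup_of_le ⟨inferInstance,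
          Groth.Agent.Lib.FibreBranches96.fiberMap_eq_asFiber g f hgu u'₀ hu'₀⟩ le_rfl)))
    · rw [Set.not_nonempty_iff_eq_empty] at hne
      rw [hne, Set.encard_empty]
      exact zero_le

end Groth.Agent.S9754
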