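import Groth.Statements.S9757
import Mathlib
import Groth.Agent.Lib.H79FibDimStrata

set_option autoImplicit false
universe u
open FlatMor

namespace Groth.Agent.S9757

open AlgebraicGeometry CategoryTheory Limits in
/-- Suppose the morphism f : X ⟶ S is flat and locally of finite presentation. Then X contains open
subsets U_d, indexed by d ∈ ℕ, such that for every s ∈ S the union of all U_d intersects the fibre
X_s in a dense subset of X_s, and each U_d ⟶ S is of relative dimension d. Because U_d is open in X,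
this is the same as requiring that at every point x of U_d the fibre of f containing x has local
dimension d at x; that pointwise form is the one this row uses. -/
theorem result {X S : Scheme.{u}} (f : X ⟶ S) [Flat f] [LocallyOfFinitePresentation f] :
    ∃ U : ℕ → X.Opens, (∀ s : S, Dense ((f.fiberι s) ⁻¹' ((⨆ d, U d : X.Opens) : Set ↑X))) ∧
      ∀ (d : ℕ) (x : ↑X), x ∈ U d → FlatMor.fibreDimAt f x = d := by
  classical
  refine ⟨fun d => ⟨interior {x : X | FlatMor.fibreDimAt f x = d}, isOpen_interior⟩, ?_, ?_⟩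
  · intro s z
    set x : X := f.fiberι s z with hx
    have hfx : f x = s := (f.fiberHomeo s z).2
    obtain ⟨w, hw1, hw2, hw3, hw⟩ := Groth.Agent.Lib.H30IrrFib.exists_rt_eq_fibreDimAt f x
    have hmax : ∀ y : X, f y = f w → y ⤳ w → y = w := fun y hy hyw => hw3 y (hy.trans hw1) hyw
    obtain ⟨w', h1, h2, -, h4⟩ := Groth.Agent.Lib.H30IrrFib.exists_rt_eq_fibreDimAt f w
    rw [hmax w' h1 h2] at h4
    have hnhds := Groth.Agent.Lib.H79FibDimStrata.setOf_fibreDimAt_eq_mem_nhds f w hmax
    rw [← h4] at hnhds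
    have hwU : w ∈ interior {x : X | FlatMor.fibreDimAt f x =
        ((Groth.Agent.Lib.H30DimRel.rt f w : ℕ) : WithBot ℕ∞)} := mem_interior_iff_mem_nhds.mpr hnhds
    set ζ : f.fiber s := (f.fiberHomeo s).symm ⟨w, hw1.trans hfx⟩ with hζ
    have hζw : f.fiberι s ζ = w := f.fiberι_fiberHomeo_symm s ⟨w, hw1.trans hfx⟩
    have hζz : ζ ⤳ z := by
      rw [← (f.fiberι s).isEmbedding.isInducing.specializes_iff, hζw]
      exact hw2
    have hζmem : ζ ∈ (f.fiberι s) ⁻¹' ((⨆ d : ℕ, (⟨interior {x : X | FlatMor.fibreDimAt f x =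
        ((d : ℕ) : WithBot ℕ∞)}, isOpen_interior⟩ : X.Opens) : X.Opens) : Set ↑X) := by
      rw [Set.mem_preimage, hζw]
      simp only [TopologicalSpace.Opens.coe_iSup, TopologicalSpace.Opens.coe_mk, Set.mem_iUnion]
      exact ⟨_, hwU⟩
    exact closure_mono (Set.singleton_subset_iff.mpr hζmem) (specializes_iff_mem_closure.mp hζz)
  · intro d x hx
    have hx' : x ∈ interior {x : X | FlatMor.fibreDimAt f x = ((d : ℕ) : WithBot ℕ∞)} := hx
    exact (interior_subset (s := {x : X | FlatMor.fibreDimAt f x = ((d : ℕ) : WithBot ℕ∞)})) hx'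

end Groth.Agent.S9757
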