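import Groth.Statements.S9759
import Groth.Agent.Lib.FlatModel64

set_option autoImplicit false
universe u
open FlatMor

namespace Groth.Agent.S9759

open AlgebraicGeometry CategoryTheory Limits in
/-- Let f : X ⟶ S be a flat morphism of finite presentation between affine schemes. Then f is the base
change of a morphism of finite type f₀ : X₀ ⟶ S₀ between affine schemes with S₀ of finite type over
ℤ and f₀ flat. -/
theorem result {X S : Scheme.{u}} (f : X ⟶ S) [IsAffine X] [IsAffine S] [LocallyOfFinitePresentation f] [Flat f] :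
    ∃ (X₀ S₀ : Scheme.{u}) (f₀ : X₀ ⟶ S₀) (g : S ⟶ S₀) (g' : X ⟶ X₀), IsAffine X₀ ∧ IsAffine S₀ ∧ IsPullback g' f f₀ g ∧
      Algebra.FiniteType ℤ Γ(S₀, ⊤) ∧ LocallyOfFiniteType f₀ ∧ Flat f₀ := by
  have hfp : (f.appTop).hom.FinitePresentation :=
    (HasRingHomProperty.iff_of_isAffine (P := @LocallyOfFinitePresentation)).mp inferInstance
  have hfl : (f.appTop).hom.Flat :=
    (HasRingHomProperty.iff_of_isAffine (P := @Flat)).mp inferInstance
  algebraize [(f.appTop).hom]
  obtain ⟨R₀, B₀, _, _, φ₀, a, b, hpo, hft, hφ₀, hφ₀fl⟩ :=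
    Groth.Agent.Lib.FlatModel64.exists_model_flat Γ(S, ⊤) Γ(X, ⊤)
  have hpb := isPullback_SpecMap_of_isPushout _ _ _ _ hpo
  have hsq : IsPullback X.isoSpec.hom f (Spec.map f.appTop) S.isoSpec.hom :=
    IsPullback.of_horiz_isIso ⟨Scheme.isoSpec_hom_naturality f⟩
  have hfa : CommRingCat.ofHom (algebraMap Γ(S, ⊤) Γ(X, ⊤)) = f.appTop := rfl
  rw [hfa] at hpb
  refine ⟨Spec (CommRingCat.of B₀), Spec (CommRingCat.of R₀), Spec.map (CommRingCat.ofHom φ₀),
    S.isoSpec.hom ≫ Spec.map (CommRingCat.ofHom a), X.isoSpec.hom ≫ Spec.map (CommRingCat.ofHom b),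
    inferInstance, inferInstance, ?_, ?_, ?_, ?_⟩
  · exact hsq.paste_horiz hpb.flip
  · exact Algebra.FiniteType.equiv hft
      (Scheme.ΓSpecIso (CommRingCat.of R₀)).symm.commRingCatIsoToRingEquiv.toIntAlgEquiv
  · exact (HasRingHomProperty.Spec_iff (P := @LocallyOfFiniteType)).mpr hφ₀
  · exact (HasRingHomProperty.Spec_iff (P := @Flat)).mpr hφ₀fl

end Groth.Agent.S9759
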