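import Groth.Statements.S9760
import Groth.Agent.S4788
import Groth.Agent.Lib.DescFPMod

set_option autoImplicit false
universe u
open FlatMor

namespace Groth.Agent.S9760

open AlgebraicGeometry CategoryTheory Limits in
/-- Given affine schemes X and S, a finitely presented morphism f : X ⟶ S, and a finitely presented
quasi-coherent O_X-module F, the morphism f is a pullback, along some g' : X ⟶ X₀, of a finite type
morphism f₀ : X₀ ⟶ S₀ of affine schemes with Γ(S₀) of finite type over ℤ, and there is a coherent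
O_{X₀}-module F₀ whose pullback along g' is isomorphic to F. -/
theorem result {X S : Scheme.{u}} (f : X ⟶ S) [IsAffine X] [IsAffine S] [LocallyOfFinitePresentation f]
    (F : X.Modules) [Coh.IsQCoh F] (hF : CohB1.IsFP F) :
    ∃ (X₀ S₀ : Scheme.{u}) (f₀ : X₀ ⟶ S₀) (g : S ⟶ S₀) (g' : X ⟶ X₀), IsAffine X₀ ∧ IsAffine S₀ ∧ IsPullback g' f f₀ g ∧
      Algebra.FiniteType ℤ Γ(S₀, ⊤) ∧ LocallyOfFiniteType f₀ ∧
      ∃ F₀ : X₀.Modules, Coh.IsCoh F₀ ∧ Nonempty ((Scheme.Modules.pullback g').obj F₀ ≅ F) := by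
  have H : Groth.Agent.Lib.ConsLocusMod.ModDescent.{u} :=
    fun D c hc _ i₀ _ _ F _ hF => Groth.Agent.S4788.result D c hc i₀ F hF
  let e := S.isoSpec
  haveI : LocallyOfFinitePresentation (f ≫ e.hom) := inferInstance
  haveI : IsAffineHom (f ≫ e.hom) := inferInstance
  obtain ⟨A₀, hfg, X₀, f₀, g', F₀, hX₀, hlfp, sq, hF₀, iso⟩ :=
    Groth.Agent.Lib.ConsLocusMod.exists_affine_model_mod H Γ(S, ⊤) (f ≫ e.hom) F hF
  refine ⟨X₀, Spec (CommRingCat.of ↥A₀), f₀,
    e.hom ≫ Spec.map (CommRingCat.ofHom A₀.val.toRingHom), g', hX₀, inferInstance, ?_, ?_,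
    inferInstance, F₀, Groth.Agent.Lib.ConsLocusMod.isCoh_of_isFP F₀ hF₀, iso⟩
  · refine IsPullback.of_iso sq (Iso.refl _) (Iso.refl _) e.symm (Iso.refl _) ?_ ?_ ?_ ?_
    · simp
    · simp
    · simp
    · simp
  · haveI : Algebra.FiniteType ℤ ↥A₀ := (Subalgebra.fg_iff_finiteType _).mp hfg
    exact Algebra.FiniteType.equiv (inferInstance : Algebra.FiniteType ℤ ↥A₀)
      ((Scheme.ΓSpecIso (CommRingCat.of ↥A₀)).commRingCatIsoToRingEquiv.symm.toIntAlgEquiv)

end Groth.Agent.S9760
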