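import Groth.Statements.S9778
import Groth.Agent.Lib.EtLocPI3

set_option autoImplicit false
universe u
open FlatMor

namespace Groth.Agent.S9778

open AlgebraicGeometry CategoryTheory Limits in
/-- Let f : X ⟶ S be separated and locally of finite type, s a point of S and x_1, …, x_n pairwise
distinct points of X over s at which f is quasi-finite (isolated points of the fibre). Then there
are an étale morphism g : U ⟶ S with a point u over s and finitely many pairwise disjoint open and
closed subschemes V_{i,j} of X_U = X ×_S U, each finite over U and containing exactly one point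
v_{i,j} over u, with v_{i,j} mapping to x_i and κ(v_{i,j}) purely inseparable over κ(u), such that
every point of X_U over u mapping to some x_i lies in one of the V_{i,j} (so the open and closed
complement W of their union has no point over u mapping to any x_i). -/
theorem result {X S : Scheme.{u}} (f : X ⟶ S) [LocallyOfFiniteType f] [IsSeparated f] (s : S)
    {ι : Type} [Finite ι] (x : ι → ↑X) (hinj : Function.Injective x) (hs : ∀ i, f (x i) = s) (hx : ∀ i, f.QuasiFiniteAt (x i)) :
    ∃ (U : Scheme.{u}) (g : U ⟶ S) (u : U), Etale g ∧ g u = s ∧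
      ∃ (J : ι → Type) (_ : ∀ i, Finite (J i)) (V : ∀ i, J i → (pullback f g).Opens) (v : ∀ i, J i → ↑(pullback f g)),
        (∀ i j, IsClopen ((V i j : Set ↑(pullback f g)))) ∧
        (∀ i j i' j', ((V i j : Set ↑(pullback f g)) ∩ (V i' j')).Nonempty → i = i' ∧ HEq j j') ∧
        (∀ i j, v i j ∈ V i j ∧ IsFinite ((V i j).ι ≫ pullback.snd f g) ∧ pullback.snd f g (v i j) = u ∧
          (∀ w : ↑(pullback f g), w ∈ V i j → pullback.snd f g w = u → w = v i j) ∧
          (letI := ((pullback.snd f g).residueFieldMap (v i j)).hom.toAlgebra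
           IsPurelyInseparable ↑(U.residueField (pullback.snd f g (v i j))) ↑((pullback f g).residueField (v i j))) ∧
          pullback.fst f g (v i j) = x i) ∧
        (∀ (w : ↑(pullback f g)) (i : ι), pullback.snd f g w = u → pullback.fst f g w = x i → ∃ j, w ∈ V i j) := by
  obtain ⟨U, g, u, hg, hgu, n, V, v, H, hdisj, hcov⟩ :=
    Groth.Agent.Lib.EtLocQF.exists_etaleNbhd_purelyInseparable_clopen f s x hs hx
  refine ⟨U, g, u, hg, hgu, fun i => {m : Fin n // pullback.fst f g (v m) = x i},
    fun i => inferInstance, fun i j => V j.1, fun i j => v j.1, ?_, ?_, ?_, ?_⟩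
  · intro i j
    exact (H j.1).1
  · intro i j i' j' h
    have hjj : j.1 = j'.1 := hdisj _ _ h
    have hii : i = i' := by
      apply hinj
      rw [← j.2, ← j'.2, hjj]
    subst hii
    exact ⟨rfl, heq_of_eq (Subtype.ext hjj)⟩
  · intro i j
    obtain ⟨-, h1, h2, h3, h4, h5, -, -⟩ := H j.1
    exact ⟨h1, h2, h3, h4, h5, j.2⟩
  · intro w i hw1 hw2
    obtain ⟨m, hm⟩ := hcov w hw1 ⟨i, hw2⟩
    subst hm
    exact ⟨⟨m, hw2⟩, (H m).2.1⟩

end Groth.Agent.S9778
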