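import Groth.Statements.S9779
import Mathlib
import Groth.Agent.S1411

set_option autoImplicit false
set_option linter.style.haveILetI false
universe u
open FlatMor

namespace Groth.Agent.S9779

section helpers

open TopologicalSpace AlgebraicGeometry CategoryTheory

theorem exists_specializes_of_mem_closure {T : Type*} [TopologicalSpace T] [NoetherianSpace T]
    [QuasiSober T] (U : Set T) (hU : IsOpen U) (x : T) (hx : x ∈ closure U) :
    ∃ x' ∈ U, x' ⤳ x := by
  have hfin : (irreducibleComponents T).Finite := NoetherianSpace.finite_irreducibleComponents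
  have hcov : U = ⋃ Z ∈ irreducibleComponents T, (U ∩ Z) := by
    rw [← Set.inter_iUnion₂, ← Set.sUnion_eq_biUnion, sUnion_irreducibleComponents, Set.inter_univ]
  rw [hcov, hfin.closure_biUnion] at hx
  simp only [Set.mem_iUnion] at hx
  obtain ⟨Z, hZ, hxZ⟩ := hx
  have hZirr : IsIrreducible Z := hZ.1
  have hZcl : IsClosed Z := isClosed_of_mem_irreducibleComponents Z hZ
  have hne : (Z ∩ U).Nonempty := by
    by_contra hempty
    rw [Set.not_nonempty_iff_eq_empty] at hempty
    rw [Set.inter_comm, hempty, closure_empty] at hxZ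
    exact hxZ
  have hgen := hZirr.isGenericPoint_genericPoint_closure
  rw [hZcl.closure_eq] at hgen
  refine ⟨hZirr.genericPoint, (hgen.mem_open_set_iff hU).mpr hne, ?_⟩
  rw [specializes_iff_mem_closure, hgen.def]
  exact hZcl.closure_subset_iff.mpr Set.inter_subset_right hxZ

/-- in a locally Noetherian scheme, a point in the closure of an open set is a specialization of a
point of that open set -/
theorem exists_specializes_of_mem_closure_scheme {X : Scheme.{u}} [IsLocallyNoetherian X]
    (U : X.Opens) (x : X) (hx : x ∈ closure (U : Set X)) : ∃ x' : X, x' ∈ U ∧ x' ⤳ x := by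
  obtain ⟨_, ⟨W, hW, rfl⟩, hxW, -⟩ :=
    X.isBasis_affineOpens.exists_subset_of_mem_open (Set.mem_univ x) isOpen_univ
  haveI : IsNoetherianRing Γ(X, W) := IsLocallyNoetherian.component_noetherian ⟨W, hW⟩
  haveI : NoetherianSpace (↥W) := noetherianSpace_of_isAffineOpen W hW
  haveI : QuasiSober (↥W) := inferInstanceAs (QuasiSober (W : Scheme.{u}))
  have hx' : (⟨x, hxW⟩ : W) ∈ closure ((Subtype.val : W → X) ⁻¹' (U : Set X)) := by
    rw [closure_subtype]
    have : ((Subtype.val : W → X) '' ((Subtype.val : W → X) ⁻¹' (U : Set X)) : Set X) =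
        (W : Set X) ∩ U := by
      ext y
      constructor
      · rintro ⟨⟨z, hz⟩, hzU, rfl⟩
        exact ⟨hz, hzU⟩
      · rintro ⟨hyW, hyU⟩
        exact ⟨⟨y, hyW⟩, hyU, rfl⟩
    rw [this]
    exact W.isOpen.inter_closure ⟨hxW, hx⟩
  obtain ⟨x', hx'U, hspec⟩ := exists_specializes_of_mem_closure _
    (U.isOpen.preimage continuous_subtype_val) _ hx'
  exact ⟨x'.1, hx'U, hspec.map continuous_subtype_val⟩

end helpers

open AlgebraicGeometry CategoryTheory Limits in
/-- Suppose S is locally Noetherian and the morphism f : X ⟶ S is locally of finite type; take x a point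
of X closed in its fibre, and U ⊆ X an open subscheme not meeting the fibre through x but with x in
the closure of U. Then there is a closed subscheme Z of X passing through x such that Z ⟶ S is
quasi-finite at x and Z contains a point z of U specializing to x with f z ≠ f x. -/
theorem result {X S : Scheme.{u}} (f : X ⟶ S) [LocallyOfFiniteType f] [IsLocallyNoetherian S] (x : X)
    (hcl : IsClosed (Subtype.val ⁻¹' {x} : Set ↑(f ⁻¹' {f x}))) (U : X.Opens)
    (hU : ∀ x' ∈ U, f x' ≠ f x) (hxU : x ∈ closure (U : Set ↑X)) :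
    ∃ (I : X.IdealSheafData) (z₀ x₀ : ↑I.subscheme), I.subschemeι x₀ = x ∧ (I.subschemeι ≫ f).QuasiFiniteAt x₀ ∧
      I.subschemeι z₀ ∈ U ∧ I.subschemeι z₀ ⤳ x ∧ f (I.subschemeι z₀) ≠ f x := by
  haveI : IsLocallyNoetherian X := LocallyOfFiniteType.isLocallyNoetherian f
  obtain ⟨x', hx'U, hspec⟩ := exists_specializes_of_mem_closure_scheme U x hxU
  exact Groth.Agent.S1411.result f x hcl U ⟨x', hx'U, hspec, hU x' hx'U⟩

end Groth.Agent.S9779
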