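import Groth.Statements.S9782
import Groth.Agent.Lib.GeomUnibranchNbhd96
import Groth.Agent.Lib.EtaleIrredComp96
import Groth.Agent.Lib.StrictHenselizationProps
import Groth.Agent.Lib.H56ShGen
import Groth.Agent.S2135

set_option autoImplicit false
set_option linter.style.haveILetI false
universe u
open Brnch

namespace Groth.Agent.S9782

open AlgebraicGeometry CategoryTheory Limits IsLocalRing

/-- If the nilradical of the local ring at `x` is prime, exactly one irreducible component passes
through `x`. -/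
theorem encard_irreducibleComponents_eq_one {X : Scheme.{u}} (x : X)
    (hx : (nilradical (X.presheaf.stalk x)).IsPrime) :
    {Z : Set X | Z ∈ irreducibleComponents X ∧ x ∈ Z}.encard = 1 := by
  have : IrreducibleSpace (Spec (X.presheaf.stalk x)) :=
    PrimeSpectrum.irreducibleSpace_iff_isPrime_nilradical.2 hx
  let g := X.fromSpecStalk x
  let η := g (genericPoint (Spec (X.presheaf.stalk x)))
  rw [Set.encard_eq_one]
  refine ⟨closure {η}, ?_⟩
  have key : ∀ Z, Z ∈ irreducibleComponents X → x ∈ Z → Z = closure {η} := by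
    intro Z hZ hxZ
    have hZc : IsClosed Z := isClosed_of_mem_irreducibleComponents Z hZ
    obtain ⟨ζ, hζ⟩ := QuasiSober.sober hZ.1 hZc
    have hζx : ζ ⤳ x := by
      rw [specializes_iff_mem_closure, hζ.def]
      exact hxZ
    obtain ⟨q, rfl⟩ : ζ ∈ Set.range g := by
      rw [Scheme.range_fromSpecStalk]
      exact hζx
    have hηζ : η ⤳ g q := (genericPoint_specializes q).map g.continuous
    have hsub : Z ⊆ closure {η} := by
      rw [← hζ.def]
      exact closure_minimal (Set.singleton_subset_iff.2 (specializes_iff_mem_closure.1 hηζ))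
        isClosed_closure
    exact hsub.antisymm (hZ.2 isIrreducible_singleton.closure hsub)
  ext Z
  constructor
  · rintro ⟨hZ, hxZ⟩
    exact key Z hZ hxZ
  · rintro rfl
    have h0 := key (irreducibleComponent x) (irreducibleComponent_mem_irreducibleComponents x)
      mem_irreducibleComponent
    rw [← h0]
    exact ⟨irreducibleComponent_mem_irreducibleComponents x, mem_irreducibleComponent⟩

/-- Two minimal primes of an étale algebra over an affine open below a prime over `x` agree when
only one component passes through each point over `x` of each étale `X`-scheme. -/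
theorem minimalPrimes_eq_of_encard {X : Scheme.{u}} (x : X)
    (H : ∀ (U : Scheme.{u}) (g : U ⟶ X) (u : U), Etale g → g u = x →
      {Z : Set ↑U | Z ∈ irreducibleComponents ↑U ∧ u ∈ Z}.encard = 1)
    (V : X.Opens) (hV : IsAffineOpen V) (hxV : x ∈ V)
    (C : Type u) [CommRing C] [Algebra Γ(X, V) C] [Algebra.Etale Γ(X, V) C]
    (Q : Ideal C) [Q.IsPrime]
    (hQ : Q.comap (algebraMap Γ(X, V) C) = (hV.primeIdealOf ⟨x, hxV⟩).asIdeal)
    (P₁ P₂ : Ideal C) (h₁ : P₁ ∈ minimalPrimes C) (h₂ : P₂ ∈ minimalPrimes C)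
    (hle₁ : P₁ ≤ Q) (hle₂ : P₂ ≤ Q) : P₁ = P₂ := by
  let φ : Γ(X, V) ⟶ CommRingCat.of C := CommRingCat.ofHom (algebraMap Γ(X, V) C)
  let g : Spec (CommRingCat.of C) ⟶ X := Spec.map φ ≫ hV.fromSpec
  have hφ : Etale (Spec.map φ) := by
    rw [HasRingHomProperty.Spec_iff (P := @Etale)]
    show (algebraMap Γ(X, V) C).Etale
    rw [RingHom.etale_algebraMap]
    infer_instance
  have hg : Etale g := inferInstance
  let u : Spec (CommRingCat.of C) := ⟨Q, inferInstance⟩
  have hgu : g u = x := by
    have h1 : Spec.map φ u = hV.primeIdealOf ⟨x, hxV⟩ := by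
      apply PrimeSpectrum.ext
      exact hQ
    show hV.fromSpec (Spec.map φ u) = x
    rw [h1, hV.fromSpec_primeIdealOf]
  have h1 := H _ g u hg hgu
  rw [Set.encard_eq_one] at h1
  obtain ⟨Z₀, hZ₀⟩ := h1
  have hmem : ∀ P : Ideal C, P ∈ minimalPrimes C → P ≤ Q →
      PrimeSpectrum.zeroLocus (P : Set C) = Z₀ := by
    intro P hP hle
    have : PrimeSpectrum.zeroLocus (P : Set C) ∈
        {Z : Set (Spec (CommRingCat.of C)) | Z ∈ irreducibleComponents _ ∧ u ∈ Z} := by
      refine ⟨?_, ?_⟩
      · have := PrimeSpectrum.zeroLocus_minimalPrimes C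
        show PrimeSpectrum.zeroLocus (P : Set C) ∈ irreducibleComponents (PrimeSpectrum C)
        rw [← this]
        exact ⟨P, hP, rfl⟩
      · exact hle
    rw [hZ₀] at this
    exact this
  have h2 : PrimeSpectrum.zeroLocus (P₁ : Set C) = PrimeSpectrum.zeroLocus (P₂ : Set C) := by
    rw [hmem P₁ h₁ hle₁, hmem P₂ h₂ hle₂]
  have hp₁ : P₁.IsPrime := Ideal.IsMinimalPrime.isPrime h₁
  have hp₂ : P₂.IsPrime := Ideal.IsMinimalPrime.isPrime h₂
  have h3 := congrArg PrimeSpectrum.vanishingIdeal h2
  rwa [PrimeSpectrum.vanishingIdeal_zeroLocus_eq_radical,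
    PrimeSpectrum.vanishingIdeal_zeroLocus_eq_radical, hp₁.radical, hp₂.radical] at h3

open AlgebraicGeometry CategoryTheory Limits in
/-- The local ring of X at x is geometrically unibranch exactly when, for each étale morphism g : U ⟶ X
and each point u over x, the point u lies on a single irreducible component of U. -/
theorem result (X : Scheme.{u}) (x : X) :
    CAlg2.IsGeomUnibranch ↑(X.presheaf.stalk x) ↔ ∀ (U : Scheme.{u}) (g : U ⟶ X) (u : U), Etale g → g u = x →
      {Z : Set ↑U | Z ∈ irreducibleComponents ↑U ∧ u ∈ Z}.encard = 1 := by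
  constructor
  · intro hx U g u hg hgu
    subst hgu
    have hu : CAlg2.IsGeomUnibranch (U.presheaf.stalk u) :=
      Groth.Agent.Lib.UnramGeomUnibranchSch96.isGeomUnibranch_stalk_of_etale g u hx
        ⟨⊤, trivial, inferInstance⟩
    exact encard_irreducibleComponents_eq_one u
      (Groth.Agent.Lib.UnramGeomUnibranch96.isPrime_nilradical_of_isGeomUnibranch hu)
  · intro H
    obtain ⟨V, hV, hxV⟩ : ∃ V : X.Opens, IsAffineOpen V ∧ x ∈ V := by
      obtain ⟨_, ⟨V, hV, rfl⟩, hxV, -⟩ :=
        X.isBasis_affineOpens.exists_subset_of_mem_open (Set.mem_univ x) isOpen_univ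
      exact ⟨V, hV, hxV⟩
    let R := X.presheaf.stalk x
    let S := Groth.Agent.Lib.StrictHenselization.Sh R
    rw [Groth.Agent.S2135.result (A := R) (Ash := S)]
    letI : Algebra Γ(X, V) R := X.presheaf.algebra_section_stalk ⟨x, hxV⟩
    haveI : IsLocalization.AtPrime R (hV.primeIdealOf ⟨x, hxV⟩).asIdeal :=
      hV.isLocalization_stalk ⟨x, hxV⟩
    letI : Algebra Γ(X, V) S := ((algebraMap R S).comp (algebraMap Γ(X, V) R)).toAlgebra
    haveI : IsScalarTower Γ(X, V) R S := IsScalarTower.of_algebraMap_eq fun _ => rfl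
    have hcomap : (maximalIdeal S).comap (algebraMap Γ(X, V) S) =
        (hV.primeIdealOf ⟨x, hxV⟩).asIdeal := by
      ext a
      rw [Ideal.mem_comap, IsScalarTower.algebraMap_apply Γ(X, V) R S, ← Ideal.mem_comap,
        IsLocalRing.maximalIdeal_comap,
        IsLocalization.AtPrime.to_map_mem_maximal_iff R (hV.primeIdealOf ⟨x, hxV⟩).asIdeal]
    have hsub := Groth.Agent.Lib.GeomUnibranchNbhd96.minimalPrimes_subsingleton_of_etale_nbhds
      (hV.primeIdealOf ⟨x, hxV⟩).asIdeal R S
      (fun s => by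
        obtain ⟨E, i1, i2, i3, φ, hφ⟩ := Groth.Agent.Lib.H56ShGen.exists_etale_of_finset R S {s}
        exact ⟨E, i1, i2, i3, φ, hφ s (by simp)⟩)
      (fun C _ _ _ χ P₁ P₂ h₁ h₂ hle₁ hle₂ => by
        haveI : ((maximalIdeal S).comap χ).IsPrime := Ideal.comap_isPrime _ _
        refine minimalPrimes_eq_of_encard x H V hV hxV C ((maximalIdeal S).comap χ) ?_
          P₁ P₂ h₁ h₂ hle₁ hle₂
        rw [← hcomap]
        ext a
        simp only [Ideal.mem_comap, AlgHom.commutes])
    obtain ⟨𝔞, h𝔞, -⟩ := Ideal.exists_minimalPrimes_le (bot_le : (⊥ : Ideal S) ≤ maximalIdeal S)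
    exact ⟨𝔞, h𝔞, fun 𝔟 h𝔟 => hsub 𝔟 𝔞 h𝔟 h𝔞⟩

end Groth.Agent.S9782
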