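import Groth.Statements.S9781
import Groth.Agent.S9782
import Groth.Agent.S2052
import Groth.Agent.Lib.ElemEtaleNbhd96
import Groth.Agent.Lib.GeomUnibranchNbhd96
import Groth.Agent.Lib.LocalEtaleNbhd
import Groth.Agent.Lib.HenselizationFlat
import Groth.Agent.Lib.HenselizationUP
import Groth.Agent.Lib.H56ShNormal
import Groth.Agent.Lib.Unibranch98

set_option autoImplicit false
set_option linter.style.haveILetI false
universe u
open Brnch

namespace Groth.Agent.S9781

open AlgebraicGeometry CategoryTheory Limits IsLocalRing Groth.Agent.Lib.ElemEtaleNbhd96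
  Groth.Agent.Lib.HenselizationConstr Groth.Agent.Lib.HznNormal96

/-- At a point of an elementary étale neighbourhood of a unibranch point, the nilradical of the
local ring is prime. -/
theorem isPrime_nilradical_stalk_of_isEtaleNbhd {U X : Scheme.{u}} (g : U ⟶ X) (u : U) [Etale g]
    (hres : Function.Bijective (g.residueFieldMap u))
    (hx : CAlg2.IsUnibranch (X.presheaf.stalk (g u))) :
    (nilradical (U.presheaf.stalk u)).IsPrime := by
  obtain ⟨V, hV, hyV⟩ : ∃ V : X.Opens, IsAffineOpen V ∧ g u ∈ V := by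
    obtain ⟨_, ⟨V, hV, rfl⟩, hyV, -⟩ :=
      X.isBasis_affineOpens.exists_subset_of_mem_open (Set.mem_univ (g u)) isOpen_univ
    exact ⟨V, hV, hyV⟩
  obtain ⟨U', hU', huU', e⟩ : ∃ U' : U.Opens, IsAffineOpen U' ∧ u ∈ U' ∧ U' ≤ g ⁻¹ᵁ V := by
    obtain ⟨_, ⟨U', hU', rfl⟩, huU', hle⟩ :=
      U.isBasis_affineOpens.exists_subset_of_mem_open
        (show u ∈ ((g ⁻¹ᵁ V : U.Opens) : Set U) from hyV) (g ⁻¹ᵁ V).2
    exact ⟨U', hU', huU', hle⟩
  have het : Etale (U'.ι ≫ g) := inferInstance
  have hQ : (g.appLE V U' e).hom.Etale :=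
    Groth.Agent.S9721.appLE_of_ι_comp (P := @Etale) g hU' hV e het
  algebraize [(g.appLE V U' e).hom]
  have hetA : Algebra.Etale Γ(X, V) Γ(U, U') := RingHom.etale_algebraMap.mp hQ
  let p := (hV.primeIdealOf ⟨g u, e huU'⟩).asIdeal
  let q := (hU'.primeIdealOf ⟨u, huU'⟩).asIdeal
  have hqp : q.LiesOver p :=
    ⟨congr($(IsAffineOpen.comap_primeIdealOf_appLE V hV U' hU' e huU').1).symm⟩
  have hrs := (bijective_residueFieldMap_iff_of_affine g V hV U' hU' e huU').1 hres
  let R := X.presheaf.stalk (g u)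
  let S := Hzn R
  have hS : CAlgX.HasUniqueMinimalPrime S := (Groth.Agent.S2052.result (A := R) (Ah := S)).1 hx
  letI : Algebra Γ(X, V) R := X.presheaf.algebra_section_stalk ⟨g u, e huU'⟩
  haveI : IsLocalization.AtPrime R p := hV.isLocalization_stalk ⟨g u, e huU'⟩
  letI : Algebra Γ(X, V) S := ((algebraMap R S).comp (algebraMap Γ(X, V) R)).toAlgebra
  haveI : IsScalarTower Γ(X, V) R S := IsScalarTower.of_algebraMap_eq fun _ => rfl
  have hcomap : (maximalIdeal S).comap (algebraMap Γ(X, V) S) = p := by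
    ext a
    rw [Ideal.mem_comap, IsScalarTower.algebraMap_apply Γ(X, V) R S, ← Ideal.mem_comap,
      IsLocalRing.maximalIdeal_comap, IsLocalization.AtPrime.to_map_mem_maximal_iff R p]
  obtain ⟨σ, hσ⟩ := exists_algHom_comap_eq_of_resSurj (S := S) q p hcomap hrs
  haveI : Module.Flat Γ(X, V) R := IsLocalization.flat R p.primeCompl
  haveI : Module.Flat R S := Groth.Agent.Lib.HenselizationFlat.flat_Hzn R
  haveI : Module.Flat Γ(X, V) S := Module.Flat.trans Γ(X, V) R S
  have hinj := Groth.Agent.Lib.H56ShNormal.toLoc_injective σ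
  have hQ' : nbhdPrime σ = q := hσ
  have hnilS : (nilradical S).IsPrime := Groth.Agent.Lib.Unibranch98.nilradical_isPrime hS
  have hnilL : (nilradical (Localization.AtPrime (nbhdPrime σ))).IsPrime :=
    Groth.Agent.Lib.Unibranch98.isPrime_nilradical_of_injective _ hinj hnilS
  let α := IsAffineOpen.arrowStalkMapIso g V hV U' hU' e huU'
  let eR : U.presheaf.stalk u ≃+* Localization.AtPrime q :=
    (Arrow.rightFunc.mapIso α).commRingCatIsoToRingEquiv
  have hnilq : (nilradical (Localization.AtPrime q)).IsPrime := by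
    have : ∀ (q' : Ideal Γ(U, U')) [q'.IsPrime], nbhdPrime σ = q' →
        (nilradical (Localization.AtPrime q')).IsPrime := by
      intro q' _ h
      subst h
      exact hnilL
    exact this q hQ'
  exact Groth.Agent.Lib.Unibranch98.isPrime_nilradical_of_injective (eR : _ →+* _) eR.injective
    hnilq

/-- Elementary version of `S9782.minimalPrimes_eq_of_encard`. -/
theorem minimalPrimes_eq_of_encard {X : Scheme.{u}} (x : X)
    (H : ∀ (U : Scheme.{u}) (g : U ⟶ X) (u : U), Hens2.IsEtaleNbhd g u x →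
      {Z : Set ↑U | Z ∈ irreducibleComponents ↑U ∧ u ∈ Z}.encard = 1)
    (V : X.Opens) (hV : IsAffineOpen V) (hxV : x ∈ V)
    (C : Type u) [CommRing C] [Algebra Γ(X, V) C] [Algebra.Etale Γ(X, V) C]
    (Q : Ideal C) [Q.IsPrime]
    (hQ : Q.comap (algebraMap Γ(X, V) C) = (hV.primeIdealOf ⟨x, hxV⟩).asIdeal)
    (hres : ResSurj (Localization.localRingHom (Q.comap (algebraMap Γ(X, V) C)) Q
      (algebraMap Γ(X, V) C) rfl))
    (P₁ P₂ : Ideal C) (h₁ : P₁ ∈ minimalPrimes C) (h₂ : P₂ ∈ minimalPrimes C)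
    (hle₁ : P₁ ≤ Q) (hle₂ : P₂ ≤ Q) : P₁ = P₂ := by
  let φ : Γ(X, V) ⟶ CommRingCat.of C := CommRingCat.ofHom (algebraMap Γ(X, V) C)
  let g : Spec (CommRingCat.of C) ⟶ X := Spec.map φ ≫ hV.fromSpec
  have hφ : Etale (Spec.map φ) := by
    rw [HasRingHomProperty.Spec_iff (P := @Etale)]
    show (algebraMap Γ(X, V) C).Etale
    rw [RingHom.etale_algebraMap]
    infer_instance
  have hg : Etale g := inferInstance
  let u : Spec (CommRingCat.of C) := ⟨Q, inferInstance⟩
  have hgu : g u = x := by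
    have h1 : Spec.map φ u = hV.primeIdealOf ⟨x, hxV⟩ := by
      apply PrimeSpectrum.ext
      exact hQ
    show hV.fromSpec (Spec.map φ u) = x
    rw [h1, hV.fromSpec_primeIdealOf]
  have hbij : Function.Bijective (g.residueFieldMap u) := by
    have h1 : Function.Bijective ((Spec.map φ).residueFieldMap u) :=
      (bijective_residueFieldMap_SpecMap_iff φ u).2 hres
    have h2 : Function.Bijective (hV.fromSpec.residueFieldMap (Spec.map φ u)) :=
      ConcreteCategory.bijective_of_isIso _
    have h3 : g.residueFieldMap u =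
        hV.fromSpec.residueFieldMap (Spec.map φ u) ≫ (Spec.map φ).residueFieldMap u :=
      Scheme.residueFieldMap_comp _ _ _
    rw [h3]
    exact h1.comp h2
  have h1 := H _ g u ⟨hg, hgu, hbij⟩
  rw [Set.encard_eq_one] at h1
  obtain ⟨Z₀, hZ₀⟩ := h1
  have hmem : ∀ P : Ideal C, P ∈ minimalPrimes C → P ≤ Q →
      PrimeSpectrum.zeroLocus (P : Set C) = Z₀ := by
    intro P hP hle
    have : PrimeSpectrum.zeroLocus (P : Set C) ∈
        {Z : Set (Spec (CommRingCat.of C)) | Z ∈ irreducibleComponents _ ∧ u ∈ Z} := by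
      refine ⟨?_, ?_⟩
      · have := PrimeSpectrum.zeroLocus_minimalPrimes C
        show PrimeSpectrum.zeroLocus (P : Set C) ∈ irreducibleComponents (PrimeSpectrum C)
        rw [← this]
        exact ⟨P, hP, rfl⟩
      · exact hle
    rw [hZ₀] at this
    exact this
  have h2 : PrimeSpectrum.zeroLocus (P₁ : Set C) = PrimeSpectrum.zeroLocus (P₂ : Set C) := by
    rw [hmem P₁ h₁ hle₁, hmem P₂ h₂ hle₂]
  have hp₁ : P₁.IsPrime := Ideal.IsMinimalPrime.isPrime h₁
  have hp₂ : P₂.IsPrime := Ideal.IsMinimalPrime.isPrime h₂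
  have h3 := congrArg PrimeSpectrum.vanishingIdeal h2
  rwa [PrimeSpectrum.vanishingIdeal_zeroLocus_eq_radical,
    PrimeSpectrum.vanishingIdeal_zeroLocus_eq_radical, hp₁.radical, hp₂.radical] at h3

open AlgebraicGeometry CategoryTheory Limits in
/-- The local ring of X at x is unibranch exactly when, for each étale morphism g : U ⟶ X and point u
over x with trivial residue field extension (an elementary étale neighbourhood), the point u lies on
a single irreducible component of U. -/
theorem result (X : Scheme.{u}) (x : X) :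
    CAlg2.IsUnibranch ↑(X.presheaf.stalk x) ↔ ∀ (U : Scheme.{u}) (g : U ⟶ X) (u : U), Hens2.IsEtaleNbhd g u x →
      {Z : Set ↑U | Z ∈ irreducibleComponents ↑U ∧ u ∈ Z}.encard = 1 := by
  constructor
  · intro hx U g u hnb
    obtain ⟨hg, hgu, hbij⟩ := hnb
    have hgu' : g u = x := hgu
    subst hgu'
    exact Groth.Agent.S9782.encard_irreducibleComponents_eq_one u
      (isPrime_nilradical_stalk_of_isEtaleNbhd g u hbij hx)
  · intro H
    obtain ⟨V, hV, hxV⟩ : ∃ V : X.Opens, IsAffineOpen V ∧ x ∈ V := by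
      obtain ⟨_, ⟨V, hV, rfl⟩, hxV, -⟩ :=
        X.isBasis_affineOpens.exists_subset_of_mem_open (Set.mem_univ x) isOpen_univ
      exact ⟨V, hV, hxV⟩
    let R := X.presheaf.stalk x
    let S := Hzn R
    rw [Groth.Agent.S2052.result (A := R) (Ah := S)]
    let p := (hV.primeIdealOf ⟨x, hxV⟩).asIdeal
    letI : Algebra Γ(X, V) R := X.presheaf.algebra_section_stalk ⟨x, hxV⟩
    haveI : IsLocalization.AtPrime R p := hV.isLocalization_stalk ⟨x, hxV⟩
    letI : Algebra Γ(X, V) S := ((algebraMap R S).comp (algebraMap Γ(X, V) R)).toAlgebra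
    haveI : IsScalarTower Γ(X, V) R S := IsScalarTower.of_algebraMap_eq fun _ => rfl
    haveI : Module.Flat R S := Groth.Agent.Lib.HenselizationFlat.flat_Hzn R
    have hcomap : (maximalIdeal S).comap (algebraMap Γ(X, V) S) = p := by
      ext a
      rw [Ideal.mem_comap, IsScalarTower.algebraMap_apply Γ(X, V) R S, ← Ideal.mem_comap,
        IsLocalRing.maximalIdeal_comap, IsLocalization.AtPrime.to_map_mem_maximal_iff R p]
    have hsurj : ∀ s : S, ∃ a t : Γ(X, V), t ∉ p ∧
        algebraMap Γ(X, V) S t * s - algebraMap Γ(X, V) S a ∈ maximalIdeal S := by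
      intro s
      obtain ⟨y, hy⟩ := (Groth.Agent.Lib.HenselizationUP.residueFieldMap_bijective R S).2
        (residue S s)
      obtain ⟨r, rfl⟩ := residue_surjective y
      obtain ⟨a, t, rfl⟩ := IsLocalization.exists_mk'_eq p.primeCompl r
      refine ⟨a, t.1, t.2, ?_⟩
      rw [ResidueField.map_residue] at hy
      have h0 : s - algebraMap R S (IsLocalization.mk' R a t) ∈ maximalIdeal S := by
        rw [← residue_eq_zero_iff, map_sub, hy, sub_self]
      have h1 : algebraMap Γ(X, V) S t.1 * s - algebraMap Γ(X, V) S a =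
          algebraMap Γ(X, V) S t.1 * (s - algebraMap R S (IsLocalization.mk' R a t)) := by
        have e1 := IsLocalization.mk'_spec R a t
        rw [IsScalarTower.algebraMap_apply Γ(X, V) R S, IsScalarTower.algebraMap_apply Γ(X, V) R S,
          ← e1, map_mul]
        ring
      rw [h1]
      exact Ideal.mul_mem_left _ _ h0
    have hsub := Groth.Agent.Lib.GeomUnibranchNbhd96.minimalPrimes_subsingleton_of_etale_nbhds
      p R S
      (fun s => by
        obtain ⟨E, i1, i2, i3, -, φ, hφ⟩ :=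
          Groth.Agent.Lib.LocalEtaleNbhd.exists_etale_of_finset R S {s}
        exact ⟨E, i1, i2, i3, φ, hφ s (by simp)⟩)
      (fun C _ _ _ χ P₁ P₂ h₁ h₂ hle₁ hle₂ => by
        haveI : ((maximalIdeal S).comap χ).IsPrime := Ideal.comap_isPrime _ _
        have hQp : ((maximalIdeal S).comap χ).comap (algebraMap Γ(X, V) C) = p := by
          rw [← hcomap]
          ext a
          simp only [Ideal.mem_comap, AlgHom.commutes]
        refine minimalPrimes_eq_of_encard x H V hV hxV C ((maximalIdeal S).comap χ) hQp ?_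
          P₁ P₂ h₁ h₂ hle₁ hle₂
        refine resSurj_localRingHom_of_ringHom (algebraMap Γ(X, V) C) (χ : C →+* S) _ rfl _ rfl ?_
        intro s
        obtain ⟨a, t, ht, hat⟩ := hsurj s
        refine ⟨a, t, ?_, ?_⟩
        · intro hmem
          exact ht (hQp.le hmem)
        · simpa only [RingHom.coe_coe, AlgHom.commutes] using hat)
    obtain ⟨𝔞, h𝔞, -⟩ := Ideal.exists_minimalPrimes_le (bot_le : (⊥ : Ideal S) ≤ maximalIdeal S)
    exact ⟨𝔞, h𝔞, fun 𝔟 h𝔟 => hsub 𝔟 𝔞 h𝔟 h𝔞⟩

end Groth.Agent.S9781
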