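import Groth.Statements.S9793
import Mathlib.RingTheory.Ideal.KrullsHeightTheorem
import Mathlib.AlgebraicGeometry.Properties
-- import your own Groth.Agent.* helpers here

set_option autoImplicit false
universe u
open CategoryTheory AlgebraicGeometry TopologicalSpace
open Props

namespace Groth.Agent.S9793

open Order in
theorem coheight_lt_top (S : Scheme.{u}) [IsNoetherian S] (x : S) : coheight x < ⊤ := by
  have h1 : ringKrullDim (S.presheaf.stalk x) = coheight x := ringKrullDim_stalk_eq_coheight x
  have h2 : ringKrullDim (S.presheaf.stalk x) < ⊤ := ringKrullDim_lt_top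
  rw [h1] at h2
  exact WithBot.coe_lt_coe.mp (by simpa using h2)


/-- Let S be a Noetherian scheme and T a set of points of S. Every point of T is a specialization of
some point of T which admits no non-trivial generization lying in T. -/
theorem result (S : Scheme.{u}) [IsNoetherian S]
    (T : Set S) (t : S) (ht : t ∈ T) :
    ∃ t₀ ∈ T, (∀ t' ∈ T, t' ⤳ t₀ → t' = t₀) ∧ t₀ ⤳ t := by
  classical
  let T' : Set S := {t' | t' ∈ T ∧ t' ⤳ t}
  have hne : T'.Nonempty := ⟨t, ht, specializes_rfl⟩
  let t₀ := Function.argminOn (fun x : S => Order.coheight x) T' hne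
  have ht₀ : t₀ ∈ T' := Function.argminOn_mem _ T' hne
  refine ⟨t₀, ht₀.1, ?_, ht₀.2⟩
  intro t' ht' hsp
  by_contra hne'
  have hmem : t' ∈ T' := ⟨ht', hsp.trans ht₀.2⟩
  have hlt : t₀ < t' := by
    refine lt_of_le_not_ge hsp ?_
    intro h
    exact hne' (Specializes.antisymm hsp h).eq
  have h1 : Order.coheight t' < Order.coheight t₀ :=
    Order.coheight_strictAnti hlt (coheight_lt_top S t')
  exact Function.not_lt_argminOn (fun x : S => Order.coheight x) T' hmem h1

end Groth.Agent.S9793
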