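import Groth.Statements.S9792
import Groth.Agent.S9793

set_option autoImplicit false
universe u
open CategoryTheory AlgebraicGeometry TopologicalSpace
open Props

namespace Groth.Agent.S9792

/-- pigeonhole: an infinite set covered by finitely many sets meets one of them infinitely. -/
theorem exists_infinite_inter {α ι : Type*} {T : Set α} (hT : T.Infinite) {M : Set ι}
    (hM : M.Finite) (A : ι → Set α) (hcov : T ⊆ ⋃ m ∈ M, A m) :
    ∃ m ∈ M, (T ∩ A m).Infinite := by
  by_contra hcon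
  push Not at hcon
  apply hT
  have : T ⊆ ⋃ m ∈ M, (T ∩ A m) := by
    intro t ht
    obtain ⟨m, hm, htm⟩ := Set.mem_iUnion₂.mp (hcov ht)
    exact Set.mem_iUnion₂.mpr ⟨m, hm, ht, htm⟩
  exact (hM.biUnion fun m hm => hcon m hm).subset this

/-- the set of maximal points of `T` (no nontrivial generization inside `T`). -/
def maxPts {S : Type*} [TopologicalSpace S] (T : Set S) : Set S :=
  {t | t ∈ T ∧ ∀ t' ∈ T, t' ⤳ t → t' = t}

theorem maxPts_antichain {S : Type*} [TopologicalSpace S] (T : Set S) :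
    ∀ a ∈ maxPts T, ∀ b ∈ maxPts T, a ⤳ b → a = b :=
  fun a ha _ hb hab => hb.2 a ha.1 hab

theorem aux (S : Scheme.{u}) [IsNoetherian S] (Z : Closeds S) :
    ∀ T : Set S, T ⊆ (Z : Set S) → T.Infinite →
      ∃ T' : Set S, T' ⊆ T ∧ T'.Infinite ∧ ∀ a ∈ T', ∀ b ∈ T', a ⤳ b → a = b := by
  induction Z using WellFoundedLT.induction with
  | ind Z ih =>
    intro T hTZ hT
    by_cases hM : (maxPts T).Infinite
    · exact ⟨maxPts T, fun t ht => ht.1, hM, maxPts_antichain T⟩
    rw [Set.not_infinite] at hM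
    -- T minus its maximal points is infinite, covered by proper specializations of maximal points
    have hT1 : (T \ maxPts T).Infinite := hT.sdiff hM
    have hcov : T \ maxPts T ⊆ ⋃ m ∈ maxPts T, {t | m ⤳ t ∧ t ≠ m} := by
      intro t ht
      obtain ⟨t₀, ht₀, hmax, hsp⟩ := Groth.Agent.S9793.result S T t ht.1
      refine Set.mem_iUnion₂.mpr ⟨t₀, ⟨ht₀, hmax⟩, hsp, ?_⟩
      rintro rfl
      exact ht.2 ⟨ht₀, hmax⟩
    obtain ⟨m, hm, hTm⟩ := exists_infinite_inter hT1 hM _ hcov
    set T₁ : Set S := (T \ maxPts T) ∩ {t | m ⤳ t ∧ t ≠ m} with hT₁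
    have hT₁T : T₁ ⊆ T := fun t ht => ht.1.1
    by_cases hM' : (maxPts T₁).Infinite
    · exact ⟨maxPts T₁, fun t ht => hT₁T ht.1, hM', maxPts_antichain T₁⟩
    rw [Set.not_infinite] at hM'
    have hcov' : T₁ ⊆ ⋃ m' ∈ maxPts T₁, closure {m'} := by
      intro t ht
      obtain ⟨t₀, ht₀, hmax, hsp⟩ := Groth.Agent.S9793.result S T₁ t ht
      exact Set.mem_iUnion₂.mpr ⟨t₀, ⟨ht₀, hmax⟩, hsp.mem_closure⟩
    obtain ⟨m', hm', hTm'⟩ := exists_infinite_inter hTm hM' _ hcov'
    -- closure {m'} is strictly smaller than Z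
    have hm'1 : m ⤳ m' ∧ m' ≠ m := hm'.1.2
    have hmZ : m ∈ (Z : Set S) := hTZ hm.1
    let Z' : Closeds S := ⟨closure {m'}, isClosed_closure⟩
    have hlt : Z' < Z := by
      refine lt_of_le_of_ne ?_ ?_
      · change closure {m'} ⊆ (Z : Set S)
        exact closure_minimal (Set.singleton_subset_iff.mpr (hTZ (hT₁T hm'.1))) Z.isClosed
      · intro heq
        have h1 : m ∈ closure ({m'} : Set S) := by
          have : m ∈ (Z' : Set S) := by rw [heq]; exact hmZ
          exact this
        have h2 : m' ⤳ m := specializes_iff_mem_closure.mpr h1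
        exact hm'1.2 (h2.antisymm hm'1.1).eq
    obtain ⟨T', hT'sub, hT'inf, hT'anti⟩ := ih Z' hlt (T₁ ∩ closure {m'})
      (fun t ht => ht.2) hTm'
    exact ⟨T', fun t ht => hT₁T (hT'sub ht).1, hT'inf, hT'anti⟩


/-- In a Noetherian scheme, every infinite set of points contains an infinite subset no two distinct
members of which are related by specialization. -/
theorem result (S : Scheme.{u}) [IsNoetherian S]
    (T : Set S) (hT : T.Infinite) :
    ∃ T' : Set S, T' ⊆ T ∧ T'.Infinite ∧ ∀ a ∈ T', ∀ b ∈ T', a ⤳ b → a = b := by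
  exact aux S ⊤ T (fun _ _ => trivial) hT

end Groth.Agent.S9792
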