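import Groth.Statements.S9794
import Groth.Agent.S9793

set_option autoImplicit false
universe u
open CategoryTheory AlgebraicGeometry TopologicalSpace
open Props

namespace Groth.Agent.S9794

/-- irredundant finite decomposition of a closed subset of a Noetherian space into irreducible
closed subsets. -/
theorem exists_irredundant {α : Type*} [TopologicalSpace α] [NoetherianSpace α] (C : Set α)
    (hC : IsClosed C) :
    ∃ 𝒲 : Finset (Set α), (∀ W ∈ 𝒲, IsClosed W ∧ IsIrreducible W) ∧
      (∀ W ∈ 𝒲, ∀ W' ∈ 𝒲, W ⊆ W' → W = W') ∧ C = ⋃₀ (↑𝒲 : Set (Set α)) := by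
  classical
  obtain ⟨S, hSf, hSi, hCS⟩ := NoetherianSpace.exists_finite_set_closeds_irreducible ⟨C, hC⟩
  let S' : Finset (Closeds α) := hSf.toFinset
  let 𝒲 : Finset (Set α) := (S'.filter (fun W => Maximal (· ∈ S') W)).image (fun W : Closeds α => (W : Set α))
  have hmem : ∀ W ∈ 𝒲, ∃ V : Closeds α, V ∈ S ∧ Maximal (· ∈ S') V ∧ (V : Set α) = W := by
    intro W hW
    obtain ⟨V, hV, rfl⟩ := Finset.mem_image.mp hW
    rw [Finset.mem_filter] at hV
    exact ⟨V, hSf.mem_toFinset.mp hV.1, hV.2, rfl⟩
  refine ⟨𝒲, ?_, ?_, ?_⟩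
  · intro W hW
    obtain ⟨V, hVS, -, rfl⟩ := hmem W hW
    exact ⟨V.isClosed, hSi V hVS⟩
  · intro W hW W' hW' hsub
    obtain ⟨V, hVS, hVmax, rfl⟩ := hmem W hW
    obtain ⟨V', hV'S, hV'max, rfl⟩ := hmem W' hW'
    have h1 : V ≤ V' := hsub
    have h2 : V' ≤ V := hVmax.2 (hSf.mem_toFinset.mpr hV'S) h1
    rw [le_antisymm h1 h2]
  · have hC' : C = ((sSup S : Closeds α) : Set α) := by rw [← hCS]; rfl
    apply Set.Subset.antisymm
    · intro x hx
      rw [hC', Closeds.coe_sSup] at hx
      have hcl : IsClosed (⋃₀ ((fun W : Closeds α => (W : Set α)) '' S)) := by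
        rw [Set.sUnion_image]
        exact hSf.isClosed_biUnion fun V _ => V.isClosed
      rw [hcl.closure_eq] at hx
      obtain ⟨_, ⟨V, hVS, rfl⟩, hxV⟩ := hx
      obtain ⟨b, hVb, hb⟩ := S'.exists_le_maximal (hSf.mem_toFinset.mpr hVS)
      refine ⟨(b : Set α), ?_, hVb hxV⟩
      exact Finset.mem_coe.mpr (Finset.mem_image.mpr ⟨b, Finset.mem_filter.mpr ⟨hb.1, hb⟩, rfl⟩)
    · rintro x ⟨W, hW, hxW⟩
      obtain ⟨V, hVS, -, rfl⟩ := hmem W (Finset.mem_coe.mp hW)
      rw [hC']
      exact (le_sSup hVS : V ≤ sSup S) hxW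

/-- For a countable `F`, every member of an irredundant decomposition of `closure F` is the closure
of a countable subset of `F`. -/
theorem closure_inter_eq {α : Type*} [TopologicalSpace α] (F : Set α) (𝒲 : Finset (Set α))
    (h1 : ∀ W ∈ 𝒲, IsClosed W ∧ IsIrreducible W)
    (h2 : ∀ W ∈ 𝒲, ∀ W' ∈ 𝒲, W ⊆ W' → W = W') (h3 : closure F = ⋃₀ (↑𝒲 : Set (Set α)))
    (W : Set α) (hW : W ∈ 𝒲) : closure (F ∩ W) = W := by
  classical
  apply Set.Subset.antisymm
  · exact closure_minimal Set.inter_subset_right (h1 W hW).1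
  · -- W ⊆ closure F = ⋃ closure (F ∩ W')
    let t : Finset (Set α) := 𝒲.image (fun W' => closure (F ∩ W'))
    have hcov : W ⊆ ⋃₀ (↑t : Set (Set α)) := by
      have hF : F ⊆ ⋃₀ (↑t : Set (Set α)) := by
        intro x hx
        obtain ⟨W', hW', hxW'⟩ : x ∈ ⋃₀ (↑𝒲 : Set (Set α)) := h3 ▸ subset_closure hx
        exact ⟨closure (F ∩ W'), Finset.mem_coe.mpr (Finset.mem_image.mpr ⟨W', hW', rfl⟩),
          subset_closure ⟨hx, hxW'⟩⟩
      have hcl : IsClosed (⋃₀ (↑t : Set (Set α))) := by
        rw [Set.sUnion_eq_biUnion]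
        refine t.finite_toSet.isClosed_biUnion ?_
        intro z hz
        obtain ⟨W', -, rfl⟩ := Finset.mem_image.mp (Finset.mem_coe.mp hz)
        exact isClosed_closure
      have : W ⊆ closure F := by rw [h3]; exact Set.subset_sUnion_of_mem (Finset.mem_coe.mpr hW)
      exact this.trans (closure_minimal hF hcl)
    obtain ⟨z, hz, hWz⟩ := isIrreducible_iff_sUnion_isClosed.mp (h1 W hW).2 t
      (by
        intro z hz
        obtain ⟨W', -, rfl⟩ := Finset.mem_image.mp hz
        exact isClosed_closure) hcov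
    obtain ⟨W', hW', rfl⟩ := Finset.mem_image.mp hz
    have hWW' : W ⊆ W' := hWz.trans (closure_minimal Set.inter_subset_right (h1 W' hW').1)
    have := h2 W hW W' hW' hWW'
    subst this
    exact hWz


/-- In a Noetherian scheme, an infinite dense set of points contains a countable subset which is dense. -/
theorem result (S : Scheme.{u}) [IsNoetherian S]
    (T : Set S) (hT : T.Infinite) (hd : Dense T) :
    ∃ E : Set S, E ⊆ T ∧ E.Countable ∧ Dense E := by
  classical
  -- points whose closure is the closure of a countable subset of T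
  let T' : Set S := {s | ∃ E : Set S, E ⊆ T ∧ E.Countable ∧ closure E = closure {s}}
  have hTT' : T ⊆ T' := fun t ht =>
    ⟨{t}, Set.singleton_subset_iff.mpr ht, Set.countable_singleton t, rfl⟩
  -- choice of the countable subsets
  have hch : ∀ s : S, ∃ E : Set S, s ∈ T' → (E ⊆ T ∧ E.Countable ∧ closure E = closure {s}) := by
    intro s
    by_cases hs : s ∈ T'
    · obtain ⟨E, hE⟩ := hs
      exact ⟨E, fun _ => hE⟩
    · exact ⟨∅, fun h => absurd h hs⟩
  choose Es hEs using hch
  -- maximal points of T'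
  let T₀ : Set S := {t | t ∈ T' ∧ ∀ t' ∈ T', t' ⤳ t → t' = t}
  have hT₀fin : T₀.Finite := by
    by_contra hinf
    obtain ⟨E', hE'sub, hE'c, hE'inf⟩ := Set.Infinite.exists_subset_countable_infinite hinf
    let F : Set S := ⋃ s ∈ E', Es s
    have hFc : F.Countable := hE'c.biUnion fun s hs => (hEs s (hE'sub hs).1).2.1
    have hFT : F ⊆ T := Set.iUnion₂_subset fun s hs => (hEs s (hE'sub hs).1).1
    have hFcl : closure F = closure E' := by
      apply Set.Subset.antisymm
      · apply closure_minimal _ isClosed_closure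
        refine Set.iUnion₂_subset fun s hs => ?_
        have h1 : Es s ⊆ closure (Es s) := subset_closure
        rw [(hEs s (hE'sub hs).1).2.2] at h1
        exact h1.trans (closure_mono (Set.singleton_subset_iff.mpr hs))
      · apply closure_minimal _ isClosed_closure
        intro s hs
        have h1 : s ∈ closure ({s} : Set S) := subset_closure rfl
        rw [← (hEs s (hE'sub hs).1).2.2] at h1
        exact closure_mono (Set.subset_biUnion_of_mem hs) h1
    obtain ⟨𝒲, h1, h2, h3⟩ := exists_irredundant (closure F) isClosed_closure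
    rw [← closure_closure] at h3
    rw [closure_closure] at h3
    -- every point of E' is the generic point of a member of 𝒲
    have hgen : ∀ W ∈ 𝒲, ∃ w : S, IsGenericPoint w W := fun W hW =>
      ⟨(h1 W hW).2.genericPoint, (h1 W hW).2.isGenericPoint_genericPoint_closure |> fun h => by
        rw [(h1 W hW).1.closure_eq] at h; exact h⟩
    choose gp hgp using hgen
    have hsub : E' ⊆ (𝒲.attach.image fun W => gp W.1 W.2 : Finset S) := by
      intro e he
      have heC : e ∈ closure F := by rw [hFcl]; exact subset_closure he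
      rw [h3] at heC
      obtain ⟨W, hW, heW⟩ := heC
      have hW' : W ∈ 𝒲 := Finset.mem_coe.mp hW
      have hw := hgp W hW'
      -- the generic point of W is in T'
      have hwT' : gp W hW' ∈ T' := by
        refine ⟨F ∩ W, Set.inter_subset_left.trans hFT, hFc.mono Set.inter_subset_left, ?_⟩
        rw [closure_inter_eq F 𝒲 h1 h2 h3 W hW', hw.def]
      have hsp : gp W hW' ⤳ e := by
        rw [specializes_iff_mem_closure, hw.def]
        exact heW
      have := (hE'sub he).2 _ hwT' hsp
      rw [Finset.coe_image]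
      exact ⟨⟨W, hW'⟩, Finset.mem_coe.mpr (Finset.mem_attach _ _), this⟩
    exact hE'inf ((Finset.finite_toSet _).subset hsub)
  refine ⟨⋃ s ∈ T₀, Es s, Set.iUnion₂_subset fun s hs => (hEs s hs.1).1,
    hT₀fin.countable.biUnion fun s hs => (hEs s hs.1).2.1, ?_⟩
  rw [dense_iff_closure_eq, ← Set.univ_subset_iff, ← hd.closure_eq]
  apply closure_minimal _ isClosed_closure
  intro t ht
  obtain ⟨t₀, ht₀, hmax, hsp⟩ := Groth.Agent.S9793.result S T' t (hTT' ht)
  have h1 : t ∈ closure ({t₀} : Set S) := hsp.mem_closure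
  rw [← (hEs t₀ ht₀).2.2] at h1
  exact closure_mono (Set.subset_biUnion_of_mem (show t₀ ∈ T₀ from ⟨ht₀, hmax⟩)) h1

end Groth.Agent.S9794
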