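import Groth.Statements.S9798
import Mathlib.AlgebraicGeometry.Artinian
-- import your own Groth.Agent.* helpers here

set_option autoImplicit false
universe u
open CategoryTheory AlgebraicGeometry TopologicalSpace
open Props

namespace Groth.Agent.S9798

/-- A point of a locally Noetherian scheme has local dimension zero exactly when it is isolated. -/
theorem result (X : Scheme.{u}) [IsLocallyNoetherian X] (x : X) :
    FlatMor.localDim X x = 0 ↔ IsOpen ({x} : Set X) := by
  unfold FlatMor.localDim
  constructor
  · intro h
    have hlt : (⨅ U : {U : TopologicalSpace.Opens X // x ∈ U}, topologicalKrullDim (U.1 : Set X)) < 1 := by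
      rw [h]; exact zero_lt_one
    obtain ⟨⟨U, hxU⟩, hU⟩ := iInf_lt_iff.mp hlt
    have hU0 : topologicalKrullDim (U : Set X) ≤ 0 := by
      revert hU
      generalize topologicalKrullDim (U : Set X) = d
      intro hd
      induction d using WithBot.recBotCoe with
      | bot => exact bot_le
      | coe n =>
        have : n < 1 := by exact_mod_cast hd
        have : n = 0 := Order.lt_one_iff.mp this
        subst this
        exact le_rfl
    have hU0' : topologicalKrullDim (U : Scheme.{u}) ≤ 0 := hU0
    have hA : IsLocallyArtinian (U : Scheme.{u}) := IsLocallyArtinian.of_topologicalKrullDim_le_zero hU0'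
    have hD : DiscreteTopology (U : Scheme.{u}) := inferInstance
    have hD' : DiscreteTopology (U : Set X) := hD
    have ho : IsOpen ({⟨x, hxU⟩} : Set (U : Set X)) := isOpen_discrete _
    have := U.isOpen.isOpenEmbedding_subtypeVal.isOpenMap _ ho
    rwa [Set.image_singleton] at this
  · intro h
    apply le_antisymm
    · refine (iInf_le _ (⟨⟨{x}, h⟩, Set.mem_singleton x⟩ : {U : TopologicalSpace.Opens X // x ∈ U})).trans ?_
      have : DiscreteTopology (({x} : Set X)) := inferInstance
      exact topologicalKrullDim_zero_of_discreteTopology _
    · refine le_iInf ?_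
      rintro ⟨U, hxU⟩
      have : Nonempty (IrreducibleCloseds (U : Set X)) :=
        ⟨⟨closure {⟨x, hxU⟩}, isIrreducible_singleton.closure, isClosed_closure⟩⟩
      exact Order.krullDim_nonneg

end Groth.Agent.S9798
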