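import Groth.Statements.S9799
import Groth.Agent.S9782
import Groth.Agent.Lib.EtaleIrredComp96

set_option autoImplicit false
universe u
open Props

namespace Groth.Agent.S9799

open AlgebraicGeometry CategoryTheory Limits Groth.Agent.Lib.UnramGeomUnibranchSch96 in
/-- Let X be a normal scheme (all local rings are integrally closed domains) such that every
quasi-compact open subset has finitely many irreducible components. Then the irreducible components
of X are open and pairwise disjoint; hence X is the disjoint union of its irreducible components,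
each an open subscheme which is normal and integral. -/
theorem result (X : Scheme.{u})
    (hfin : ∀ U : X.Opens, IsCompact (U : Set X) → (irreducibleComponents ↥U).Finite)
    (hN : Pi1.IsNormalScheme X) :
    (∀ Z ∈ irreducibleComponents X, IsOpen Z) ∧
      ∀ Z ∈ irreducibleComponents X, ∀ Z' ∈ irreducibleComponents X, Z ≠ Z' → Disjoint Z Z' := by
  classical
  let F : Set X := {ξ | closure {ξ} ∈ irreducibleComponents X}
  have hone : ∀ x : X, {Z : Set X | Z ∈ irreducibleComponents X ∧ x ∈ Z}.encard = 1 := by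
    intro x
    have := (hN x).1
    apply Groth.Agent.S9782.encard_irreducibleComponents_eq_one x
    rw [nilradical_eq_zero]
    exact Ideal.isPrime_bot
  have h1 : ∀ x : X, ∃ ξ ∈ F, ξ ⤳ x := by
    intro x
    have hZ := irreducibleComponent_mem_irreducibleComponents x
    obtain ⟨ξ, hξ⟩ := QuasiSober.sober hZ.1 (isClosed_of_mem_irreducibleComponents _ hZ)
    refine ⟨ξ, ?_, ?_⟩
    · show closure {ξ} ∈ irreducibleComponents X
      rw [hξ.def]
      exact hZ
    · rw [specializes_iff_mem_closure, hξ.def]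
      exact mem_irreducibleComponent
  have h2 : ∀ x ξ₁ ξ₂, ξ₁ ∈ F → ξ₂ ∈ F → ξ₁ ⤳ x → ξ₂ ⤳ x → ξ₁ = ξ₂ := by
    intro x ξ₁ ξ₂ h₁ h₂ hx₁ hx₂
    obtain ⟨Z₀, hZ₀⟩ := Set.encard_eq_one.1 (hone x)
    have e₁ : closure {ξ₁} = Z₀ := by
      have : closure {ξ₁} ∈ {Z : Set X | Z ∈ irreducibleComponents X ∧ x ∈ Z} :=
        ⟨h₁, specializes_iff_mem_closure.1 hx₁⟩
      rw [hZ₀] at this
      exact this
    have e₂ : closure {ξ₂} = Z₀ := by
      have : closure {ξ₂} ∈ {Z : Set X | Z ∈ irreducibleComponents X ∧ x ∈ Z} :=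
        ⟨h₂, specializes_iff_mem_closure.1 hx₂⟩
      rw [hZ₀] at this
      exact this
    have g₁ : IsGenericPoint ξ₁ Z₀ := e₁
    have g₂ : IsGenericPoint ξ₂ Z₀ := e₂
    exact g₁.eq g₂
  have h3 : ∀ x : X, ∃ U : Set X, IsOpen U ∧ x ∈ U ∧ (F ∩ U).Finite := by
    intro x
    obtain ⟨U, hU, hxU⟩ : ∃ U : X.Opens, IsAffineOpen U ∧ x ∈ U := by
      obtain ⟨_, ⟨U, hU, rfl⟩, hxU, -⟩ :=
        X.isBasis_affineOpens.exists_subset_of_mem_open (Set.mem_univ x) isOpen_univ
      exact ⟨U, hU, hxU⟩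
    refine ⟨U, U.2, hxU, ?_⟩
    have hfU := hfin U hU.isCompact
    -- generic points of the components of `U`
    let G : Set ↥U := {w | closure {w} ∈ irreducibleComponents ↥U}
    have hGfin : G.Finite := by
      refine Set.Finite.of_finite_image (f := fun w : ↥U => closure {w}) (hfU.subset ?_) ?_
      · rintro _ ⟨w, hw, rfl⟩
        exact hw
      · intro w₁ _ w₂ _ h
        have g₁ : IsGenericPoint w₁ (closure {w₂}) := h
        have g₂ : IsGenericPoint w₂ (closure {w₂}) := rfl
        exact g₁.eq g₂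
    refine (hGfin.image (fun w : ↥U => (w : X))).subset ?_
    rintro ξ ⟨hξF, hξU⟩
    let ξ' : ↥U := ⟨ξ, hξU⟩
    have : QuasiSober ↥U := U.2.isOpenEmbedding_subtypeVal.quasiSober
    have hW := irreducibleComponent_mem_irreducibleComponents ξ'
    obtain ⟨w, hw⟩ := QuasiSober.sober hW.1 (isClosed_of_mem_irreducibleComponents _ hW)
    have hwξ' : w ⤳ ξ' := by
      rw [specializes_iff_mem_closure, hw.def]
      exact mem_irreducibleComponent
    have hwξ : (w : X) ⤳ ξ := (subtype_specializes_iff w ξ').1 hwξ'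
    have hsub : closure {ξ} ⊆ closure {(w : X)} :=
      closure_minimal (Set.singleton_subset_iff.2 (specializes_iff_mem_closure.1 hwξ))
        isClosed_closure
    have heq : closure {(w : X)} = closure {ξ} :=
      (hξF.2 isIrreducible_singleton.closure hsub).antisymm hsub
    have g₁ : IsGenericPoint (w : X) (closure {ξ}) := heq
    have g₂ : IsGenericPoint ξ (closure {ξ}) := rfl
    refine ⟨w, ?_, g₁.eq g₂⟩
    show closure {w} ∈ irreducibleComponents ↥U
    rw [hw.def]
    exact hW
  refine ⟨fun Z hZ => (isOpen_and_existsUnique_of_mem_irreducibleComponents F h1 h2 h3 hZ).1, ?_⟩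
  intro Z hZ Z' hZ' hne
  rw [Set.disjoint_left]
  intro x hxZ hxZ'
  obtain ⟨Z₀, hZ₀⟩ := Set.encard_eq_one.1 (hone x)
  have e₁ : Z ∈ {Z : Set X | Z ∈ irreducibleComponents X ∧ x ∈ Z} := ⟨hZ, hxZ⟩
  have e₂ : Z' ∈ {Z : Set X | Z ∈ irreducibleComponents X ∧ x ∈ Z} := ⟨hZ', hxZ'⟩
  rw [hZ₀] at e₁ e₂
  exact hne (e₁.trans e₂.symm)

end Groth.Agent.S9799
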