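import Groth.Statements.S9800
import Mathlib.RingTheory.DedekindDomain.PID
import Mathlib.AlgebraicGeometry.Properties
import Mathlib.RingTheory.KrullDimension.Basic
-- import your own Groth.Agent.* helpers here

set_option autoImplicit false
universe u
open CategoryTheory AlgebraicGeometry TopologicalSpace
open Props

namespace Groth.Agent.S9800

open Order in
theorem coheight_le_topologicalKrullDim (X : Scheme.{u}) (x : X) :
    (coheight x : WithBot ℕ∞) ≤ topologicalKrullDim X := by
  have h1 : (coheight x : WithBot ℕ∞) ≤ krullDim X := coheight_le_krullDim x
  have h2 : krullDim X = topologicalKrullDim X :=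
    (Order.krullDim_eq_of_orderIso (irreducibleSetEquivPoints (α := X))).symm
  rw [← h2]
  exact h1


/-- A locally Noetherian normal scheme of dimension at most one is regular, that is, all of its local
rings are regular local rings. -/
theorem result (X : Scheme.{u})
    [IsLocallyNoetherian X] (hN : Pi1.IsNormalScheme X) (hd : topologicalKrullDim X ≤ 1) (x : X) :
    IsRegularLocalRing (X.presheaf.stalk x) := by
  obtain ⟨hdom, hic⟩ := hN x
  have hco : Order.coheight x ≤ 1 := by
    have := (coheight_le_topologicalKrullDim X x).trans hd
    exact_mod_cast this
  have hk : Ring.KrullDimLE 1 (X.presheaf.stalk x) := krullDimLE_of_coheight_le hco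
  have hdim : Ring.DimensionLEOne (X.presheaf.stalk x) :=
    ⟨fun {p} hp hp' => Ring.krullDimLE_one_iff_of_noZeroDivisors.mp hk p hp hp'⟩
  have hded : IsDedekindDomain (X.presheaf.stalk x) :=
    { toIsDomain := hdom
      toIsDedekindRing := { toIsNoetherian := inferInstance, toDimensionLEOne := hdim, toIsIntegralClosure := hic } }
  have hpid : IsPrincipalIdealRing (X.presheaf.stalk x) := by
    apply IsPrincipalIdealRing.of_finite_maximals
    refine (Set.finite_singleton (IsLocalRing.maximalIdeal (X.presheaf.stalk x))).subset ?_
    intro I hI
    exact IsLocalRing.eq_maximalIdeal hI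
  infer_instance

end Groth.Agent.S9800
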