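import Groth.Statements.S9801
import Groth.Agent.Lib.H14SerreNormal
import Groth.Agent.Lib.CMFlat33

set_option autoImplicit false
universe u
open CategoryTheory AlgebraicGeometry TopologicalSpace
open Props

namespace Groth.Agent.S9801

/-- A locally Noetherian normal scheme of dimension at most two is Cohen-Macaulay, that is, all of its
local rings are Cohen-Macaulay local rings. -/
theorem result (X : Scheme.{u})
    [IsLocallyNoetherian X] (hN : Pi1.IsNormalScheme X) (hd : topologicalKrullDim X ≤ 2) (x : X) :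
    LocCoh.IsCohenMacaulayLocalRing (X.presheaf.stalk x) := by
  obtain ⟨hdom, hic⟩ := hN x
  -- dimension bound via an affine neighbourhood
  obtain ⟨_, ⟨U, hU, rfl⟩, hxU, -⟩ :=
    (X.isBasis_affineOpens).exists_subset_of_mem_open (Set.mem_univ x) isOpen_univ
  have hU' : IsAffineOpen U := hU
  have hdimU : ringKrullDim Γ(X, U) ≤ 2 := by
    rw [← PrimeSpectrum.topologicalKrullDim_eq_ringKrullDim Γ(X, U)]
    change topologicalKrullDim (Spec Γ(X, U)) ≤ 2
    rw [← IsHomeomorph.topologicalKrullDim_eq _ hU'.isoSpec.hom.homeomorph.isHomeomorph]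
    exact (topologicalKrullDim_subspace_le X U).trans hd
  have hdim : ringKrullDim (X.presheaf.stalk x) ≤ 2 := by
    let ax := TopCat.Presheaf.algebra_section_stalk X.presheaf (⟨x, hxU⟩ : U)
    have locx := hU'.isLocalization_stalk ⟨x, hxU⟩
    rw [IsLocalization.AtPrime.ringKrullDim_eq_height (hU'.primeIdealOf ⟨x, hxU⟩).asIdeal
      (X.presheaf.stalk x)]
    exact (Ideal.height_le_ringKrullDim_of_ne_top
      (hU'.primeIdealOf ⟨x, hxU⟩).isPrime.ne_top).trans hdimU
  have h1 := Groth.Agent.Lib.H14SerreNormal.min_two_height_le_depth_of_normal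
    (X.presheaf.stalk x)
  have h2 := Groth.Agent.Lib.CMFlat33.depth_le_ringKrullDim (X.presheaf.stalk x)
  obtain ⟨n, hn⟩ := Groth.Agent.Lib.CMFlat33.exists_nat_ringKrullDim (X.presheaf.stalk x)
  obtain ⟨m, hm⟩ := Groth.Agent.Lib.CMFlat33.exists_nat_depth (X.presheaf.stalk x)
  have hht : ((IsLocalRing.maximalIdeal (X.presheaf.stalk x)).height : WithBot ℕ∞) = n := by
    rw [IsLocalRing.maximalIdeal_height_eq_ringKrullDim, hn]
  have hht' : (IsLocalRing.maximalIdeal (X.presheaf.stalk x)).height = n := by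
    exact_mod_cast hht
  rw [hht', hm] at h1
  rw [hm, hn] at h2
  rw [hn] at hdim
  have hn2 : n ≤ 2 := by exact_mod_cast hdim
  have hmn : m ≤ n := by exact_mod_cast h2
  have hnm : n ≤ m := by
    have h2n : ((n : ℕ) : ℕ∞) ≤ 2 := by exact_mod_cast hn2
    rw [min_eq_right h2n] at h1
    exact_mod_cast h1
  refine ⟨?_⟩
  rw [Module.supportDim_self_eq_ringKrullDim, hn, hm, le_antisymm hmn hnm]
  rfl

end Groth.Agent.S9801
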