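import Groth.Statements.S9835
import Groth.Agent.Lib.NagataLocal98
import Mathlib.AlgebraicGeometry.AffineScheme
import Mathlib.AlgebraicGeometry.Properties

set_option autoImplicit false
universe u
open CategoryTheory AlgebraicGeometry TopologicalSpace
open Props

namespace Groth.Agent.S9835

/-- If an integral scheme has an affine open covering by spectra of Japanese (N-2) domains, then the
coordinate ring of every nonempty affine open is a Japanese domain. -/
theorem result (X : Scheme.{u}) [IsIntegral X] {ι : Type u}
    (U : ι → X.Opens) [∀ i, Nonempty (U i)] (hU : iSup U = ⊤) (haff : ∀ i, IsAffineOpen (U i))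
    (hJ : ∀ i, CAlg.IsN2 Γ(X, U i)) (V : X.Opens) [Nonempty V] (hV : IsAffineOpen V) :
    CAlg.IsN2 Γ(X, V) := by
  have key : ∀ [Nonempty V], CAlg.IsN2 Γ(X, V) := by
    refine of_affine_open_cover
      (P := fun W : X.affineOpens => ∀ [Nonempty W.1], CAlg.IsN2 Γ(X, W.1))
      (fun i => (⟨U i, haff i⟩ : X.affineOpens)) hU ⟨V, hV⟩ ?_ ?_ ?_
    · intro W f hW hne
      have hne' : Nonempty (X.basicOpen f) := hne
      have : Nonempty W.1 := by
        obtain ⟨x, hx⟩ := hne'
        exact ⟨⟨x, X.basicOpen_le f hx⟩⟩
      have := W.2.isLocalization_basicOpen f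
      exact Groth.Agent.Lib.NagataLocal98.isN2_away f Γ(X, X.basicOpen f) hW
    · intro W s hs h hne
      have : Nonempty W.1 := hne
      refine Groth.Agent.Lib.NagataLocal98.isN2_of_span s hs (fun f hf hf0 => ?_)
      have hne' : Nonempty (X.basicOpen f) := by
        by_contra hcon
        apply hf0
        rw [← basicOpen_eq_bot_iff]
        ext x
        constructor
        · intro hx
          exact (hcon ⟨⟨x, hx⟩⟩).elim
        · intro hx
          exact hx.elim
      have := hne'
      have := W.2.isLocalization_basicOpen f
      exact ⟨Γ(X, X.basicOpen f), inferInstance, inferInstance, inferInstance, inferInstance,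
        @h ⟨f, hf⟩ hne'⟩
    · intro i
      exact fun {_} => hJ i
  exact key

end Groth.Agent.S9835
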