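import Groth.Statements.S9802
import Mathlib
import Groth.Agent.S9835
import Groth.Agent.Lib.H87FieldN2
set_option linter.style.haveILetI false

set_option autoImplicit false
universe u
open CategoryTheory AlgebraicGeometry TopologicalSpace
open Props

namespace Groth.Agent.S9802

section Aux

theorem fwd (X : Scheme.{u}) [IsLocallyNoetherian X]
    (h : ∀ U : X.Opens, IsAffineOpen U → CAlg.IsNagata Γ(X, U))
    (Z : Scheme.{u}) (i : Z ⟶ X) [IsClosedImmersion i] [IsIntegral Z]
    (V : Z.Opens) [Nonempty V] (hV : IsAffineOpen V) : CAlg.IsN2 Γ(Z, V) := by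
  let ι : Type u := {W : X.affineOpens // Nonempty (i ⁻¹ᵁ W.1)}
  haveI hne : ∀ W : ι, Nonempty (i ⁻¹ᵁ W.1.1) := fun W => W.2
  refine Groth.Agent.S9835.result Z (ι := ι) (fun W => i ⁻¹ᵁ W.1.1) ?_ ?_ ?_ V hV
  · rw [eq_top_iff]
    intro z _
    obtain ⟨_, ⟨W, hW, rfl⟩, hzW, -⟩ :=
      X.isBasis_affineOpens.exists_subset_of_mem_open (Set.mem_univ (i z)) isOpen_univ
    exact Opens.mem_iSup.mpr ⟨⟨⟨W, hW⟩, ⟨⟨z, hzW⟩⟩⟩, hzW⟩
  · intro W
    exact W.1.2.preimage i
  · intro W
    have hsurj : Function.Surjective (i.app W.1.1).hom := i.app_surjective W.1.1 W.1.2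
    haveI hp : (RingHom.ker (i.app W.1.1).hom).IsPrime := RingHom.ker_isPrime _
    have h2 : CAlg.IsN2 (Γ(X, W.1.1) ⧸ RingHom.ker (i.app W.1.1).hom) := (h W.1.1 W.1.2).2 _
    exact Groth.Agent.Lib.H87FieldN2.isN2_of_ringEquiv
      (RingHom.quotientKerEquivOfSurjective hsurj) h2


variable {X : Scheme.{u}} {U : X.Opens} (hU : IsAffineOpen U) (p : Ideal Γ(X, U))

/-- the morphism `Spec (A/p) ⟶ X` -/
noncomputable def gMap : Spec (CommRingCat.of (Γ(X, U) ⧸ p)) ⟶ X :=
  Spec.map (CommRingCat.ofHom (Ideal.Quotient.mk p)) ≫ hU.fromSpec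

theorem gMap_preimage : (⊤ : (Spec (CommRingCat.of (Γ(X, U) ⧸ p))).Opens) = gMap hU p ⁻¹ᵁ U := by
  unfold gMap
  rw [Scheme.Hom.comp_preimage, hU.fromSpec_preimage_self]
  rfl

theorem gMap_app : ∃ e : CommRingCat.of (Γ(X, U) ⧸ p) ≅
      Γ(Spec (CommRingCat.of (Γ(X, U) ⧸ p)), gMap hU p ⁻¹ᵁ U),
    (gMap hU p).app U = CommRingCat.ofHom (Ideal.Quotient.mk p) ≫ e.hom := by
  have hW := gMap_preimage hU p
  refine ⟨(Scheme.ΓSpecIso (CommRingCat.of (Γ(X, U) ⧸ p))).symm ≪≫
    (Spec (CommRingCat.of (Γ(X, U) ⧸ p))).presheaf.mapIso (eqToIso hW.symm).op, ?_⟩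
  have hnat := Scheme.ΓSpecIso_inv_naturality (CommRingCat.ofHom (Ideal.Quotient.mk p))
  simp only [Iso.trans_hom, Iso.symm_hom, Functor.mapIso_hom, Iso.op_hom, eqToIso.hom]
  rw [← Category.assoc, hnat]
  unfold gMap
  rw [Scheme.Hom.comp_app, hU.fromSpec_app_self]
  simp only [Category.assoc]
  rw [Scheme.Hom.naturality]
  rfl

theorem ker_gMap_app : RingHom.ker ((gMap hU p).app U).hom = p := by
  obtain ⟨e, he⟩ := gMap_app hU p
  rw [he]
  ext a
  simp only [RingHom.mem_ker, CommRingCat.hom_comp, RingHom.comp_apply, CommRingCat.hom_ofHom]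
  have hinj : Function.Injective e.hom.hom := e.commRingCatIsoToRingEquiv.injective
  rw [map_eq_zero_iff _ hinj, Ideal.Quotient.eq_zero_iff_mem]

theorem isReduced_image {Y : Scheme.{u}} [IsReduced Y] (g : Y ⟶ X) [QuasiCompact g] :
    IsReduced g.image := by
  haveI : ∀ i, IsReduced (g.ker.subschemeCover.openCover.X i) := by
    intro (W : X.affineOpens)
    change IsReduced (Spec (CommRingCat.of (Γ(X, W.1) ⧸ g.ker.ideal W)))
    haveI : _root_.IsReduced (Γ(X, W.1) ⧸ g.ker.ideal W) := by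
      rw [Scheme.Hom.ker_apply]
      exact isReduced_of_injective _ (RingHom.kerLift_injective (g.app W.1).hom)
    infer_instance
  exact IsReduced.of_openCover _ g.ker.subschemeCover.openCover

theorem irreducibleSpace_image {Y : Scheme.{u}} [IrreducibleSpace Y] (g : Y ⟶ X) [QuasiCompact g] :
    IrreducibleSpace g.image := by
  have hd : DenseRange g.toImage := g.toImage.denseRange
  have h1 : IsIrreducible (Set.range g.toImage) := by
    rw [← Set.image_univ]
    exact (IrreducibleSpace.isIrreducible_univ _).image _ g.toImage.continuous.continuousOn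
  have h3 := h1.closure
  rw [hd.closure_range] at h3
  exact (irreducibleSpace_def _).mpr h3

theorem bwd (X : Scheme.{u}) [IsLocallyNoetherian X]
    (h : ∀ (Z : Scheme.{u}) (i : Z ⟶ X) [IsClosedImmersion i] [IsIntegral Z]
        (V : Z.Opens) [Nonempty V], IsAffineOpen V → CAlg.IsN2 Γ(Z, V))
    (U : X.Opens) (hU : IsAffineOpen U) : CAlg.IsNagata Γ(X, U) := by
  haveI : IsNoetherianRing Γ(X, U) := IsLocallyNoetherian.component_noetherian ⟨U, hU⟩
  refine ⟨inferInstance, fun p hp => ?_⟩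
  haveI : QuasiCompact (gMap hU p) := by
    unfold gMap
    infer_instance
  haveI : IsIntegral (Spec (CommRingCat.of (Γ(X, U) ⧸ p))) := inferInstance
  haveI : IsReduced (gMap hU p).image := isReduced_image _
  haveI : IrreducibleSpace (gMap hU p).image := irreducibleSpace_image _
  haveI : IsIntegral (gMap hU p).image := isIntegral_of_irreducibleSpace_of_isReduced _
  haveI : Nonempty ((gMap hU p).imageι ⁻¹ᵁ U) := by
    obtain ⟨pt⟩ : Nonempty (Spec (CommRingCat.of (Γ(X, U) ⧸ p))) := inferInstance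
    refine ⟨⟨(gMap hU p).toImage pt, ?_⟩⟩
    change (gMap hU p).imageι ((gMap hU p).toImage pt) ∈ U
    rw [← Scheme.Hom.comp_apply, Scheme.Hom.toImage_imageι]
    have : pt ∈ gMap hU p ⁻¹ᵁ U := by rw [← gMap_preimage]; trivial
    exact this
  have hVaff : IsAffineOpen ((gMap hU p).imageι ⁻¹ᵁ U) := hU.preimage _
  have h2 := h (gMap hU p).image (gMap hU p).imageι ((gMap hU p).imageι ⁻¹ᵁ U) hVaff
  have hK : (gMap hU p).ker.ideal ⟨U, hU⟩ = p := by
    rw [Scheme.Hom.ker_apply]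
    exact ker_gMap_app hU p
  let e : Γ((gMap hU p).image, (gMap hU p).imageι ⁻¹ᵁ U) ≃+* Γ(X, U) ⧸ p :=
    ((gMap hU p).ker.subschemeObjIso ⟨U, hU⟩).commRingCatIsoToRingEquiv.trans
      (Ideal.quotEquivOfEq hK)
  exact Groth.Agent.Lib.H87FieldN2.isN2_of_ringEquiv e h2

end Aux

/-- A locally Noetherian scheme is Nagata (every affine open has a Nagata coordinate ring) if and only
if every integral closed subscheme is Japanese (every nonempty affine open of it has an N-2
coordinate ring). -/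
theorem result (X : Scheme.{u})
    [IsLocallyNoetherian X] :
    (∀ U : X.Opens, IsAffineOpen U → CAlg.IsNagata Γ(X, U)) ↔
      ∀ (Z : Scheme.{u}) (i : Z ⟶ X) [IsClosedImmersion i] [IsIntegral Z]
        (V : Z.Opens) [Nonempty V], IsAffineOpen V → CAlg.IsN2 Γ(Z, V) := by
  exact ⟨fun h Z i _ _ V _ hV => fwd X h Z i V hV, fun h U hU => bwd X (fun Z i _ _ V _ hV => h Z i V hV) U hU⟩

end Groth.Agent.S9802
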