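import Groth.Statements.S9804

set_option autoImplicit false
universe u
open CategoryTheory AlgebraicGeometry TopologicalSpace
open Props

namespace Groth.Agent.S9804

/-- On a quasi-affine scheme, the basic open `D(r) ⊆ Spec Γ(X)` of a global function with affine
`X_r` lies in the image of `X → Spec Γ(X)`. -/
theorem basicOpen_subset_range_toSpecΓ (X : Scheme.{u}) [X.IsQuasiAffine] (r : Γ(X, ⊤))
    (hr : IsAffineOpen (X.basicOpen r)) :
    (PrimeSpectrum.basicOpen r : Set (PrimeSpectrum Γ(X, ⊤))) ⊆ Set.range X.toSpecΓ.base := by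
  have hloc := isLocalization_basicOpen_of_qcqs (X := X) (U := ⊤) isCompact_univ
    isQuasiSeparated_univ r
  have h1 := Scheme.Opens.toSpecΓ_SpecMap_presheaf_map_top (X.basicOpen r)
  have hiso : IsIso (X.basicOpen r).toSpecΓ := hr.isoSpec.isIso_hom
  intro p hp
  have h2 : Set.range (PrimeSpectrum.comap (algebraMap Γ(X, ⊤) Γ(X, X.basicOpen r))) =
      PrimeSpectrum.basicOpen r :=
    PrimeSpectrum.localization_away_comap_range _ r
  rw [← h2] at hp
  obtain ⟨q, rfl⟩ := hp
  obtain ⟨w, rfl⟩ : ∃ w, (X.basicOpen r).toSpecΓ.base w = q :=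
    (ConcreteCategory.bijective_of_isIso (X.basicOpen r).toSpecΓ.base).2 q
  refine ⟨(X.basicOpen r).ι.base w, ?_⟩
  have h3 := congrArg (fun f => f.base w) h1
  simp only [Scheme.Hom.comp_base, TopCat.comp_app] at h3
  exact h3.symm


/-- For quasi-affine schemes U and V and an open immersion j : U → V, the scheme U is the fibre product
of the composite U → V → Spec Γ(V, O_V) and the morphism Spec Γ(U, O_U) → Spec Γ(V, O_V) induced by
restriction of sections along j: the square whose sides are the identity of U, the canonical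
morphism U → Spec Γ(U, O_U), that composite and that induced morphism is cartesian. -/
theorem result {U V : Scheme.{u}} (j : U ⟶ V)
    [IsOpenImmersion j] [U.IsQuasiAffine] [V.IsQuasiAffine] :
    IsPullback (𝟙 U) U.toSpecΓ (j ≫ V.toSpecΓ) (Spec.map j.appTop) := by
  refine IsOpenImmersion.isPullback (𝟙 U) U.toSpecΓ (j ≫ V.toSpecΓ) (Spec.map j.appTop)
    (by rw [Category.id_comp]; exact (Scheme.toSpecΓ_naturality j).symm) ?_
  apply le_antisymm
  · -- preimage of the range of `j ≫ toSpecΓ` is in the range of `U.toSpecΓ`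
    rintro p ⟨u, hu⟩
    -- hu : (j ≫ V.toSpecΓ) u = Spec.map j.appTop p
    obtain ⟨_, ⟨_, ⟨r, hr, rfl⟩, rfl⟩, hxr, hrU⟩ :=
      (Scheme.IsQuasiAffine.isBasis_basicOpen V).exists_subset_of_mem_open
        (show j.base u ∈ (j.opensRange : Set V) from ⟨u, rfl⟩) j.opensRange.2
    have hpre : U.basicOpen (j.appTop r) = j ⁻¹ᵁ (V.basicOpen r) :=
      (Scheme.preimage_basicOpen_top j r).symm
    have haff : IsAffineOpen (U.basicOpen (j.appTop r)) := by
      rw [hpre, ← Scheme.Hom.isAffineOpen_iff_of_isOpenImmersion j]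
      convert hr using 1
      apply SetLike.coe_injective
      exact Set.image_preimage_eq_of_subset hrU
    apply basicOpen_subset_range_toSpecΓ U (j.appTop r) haff
    -- p ∈ D(j^* r)
    change j.appTop r ∉ p.asIdeal
    intro hmem
    have h4 : r ∈ ((Spec.map j.appTop).base p).asIdeal := hmem
    rw [← hu] at h4
    have h5 : (j ≫ V.toSpecΓ).base u ∈ (PrimeSpectrum.basicOpen r : Set (PrimeSpectrum Γ(V, ⊤))) := by
      have := (V.toSpecΓ_preimage_basicOpen r).ge hxr
      exact this
    exact h5 h4
  · rintro _ ⟨u, rfl⟩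
    refine ⟨u, ?_⟩
    have := congrArg (fun f => f.base u) (Scheme.toSpecΓ_naturality j)
    simp only [Scheme.Hom.comp_base, TopCat.comp_app] at this
    exact this

end Groth.Agent.S9804
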