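import Groth.Statements.S9805
import Groth.Agent.Lib.LocFreeFP

set_option autoImplicit false
universe u
open CategoryTheory AlgebraicGeometry TopologicalSpace
open Props

namespace Groth.Agent.S9805

/-- A quasi-coherent module on a scheme is flat and of finite presentation if and only if it is finite
locally free. -/
theorem result (X : Scheme.{u}) (M : X.Modules) (hM : Coh.IsQCoh M) :
    (FlatMod.IsFlat M ∧ CohB1.IsFP M) ↔ FlatMod.IsFinLocFree M := by
  constructor
  · rintro ⟨hflat, hfp⟩
    exact Groth.Agent.Lib.LocFreeFP.isFinLocFree_of_isFP_of_flat M hfp hflat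
  · intro h
    refine ⟨fun x => ?_, Groth.Agent.Lib.H90Invertible.isFinitePresentation_of_isFinLocFree h⟩
    have := Groth.Agent.Lib.LocFreeFP.free_stalk_of_isFinLocFree h x
    exact (inferInstance : Module.Flat (X.presheaf.stalk x) (M.presheaf.stalk x))

end Groth.Agent.S9805
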