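import Groth.Statements.S9808
import Groth.Agent.S4713
import Groth.Agent.Lib.LocGen33
import Groth.Agent.Lib.H8CM6
import Groth.Agent.Lib.CMRingEquiv96

set_option autoImplicit false
universe u
open CategoryTheory AlgebraicGeometry TopologicalSpace
open Props

namespace Groth.Agent.S9808

/-- A locally Noetherian scheme is Cohen-Macaulay (all local rings Cohen-Macaulay) as soon as its local
rings at closed points are Cohen-Macaulay, and conversely. -/
theorem result (X : Scheme.{u}) [IsLocallyNoetherian X] :
    (∀ x : X, LocCoh.IsCohenMacaulayLocalRing (X.presheaf.stalk x)) ↔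
      ∀ x : X, IsClosed ({x} : Set X) → LocCoh.IsCohenMacaulayLocalRing (X.presheaf.stalk x) := by
  constructor
  · intro h x _
    exact h x
  · intro h x
    obtain ⟨y, hy, hyc⟩ := Groth.Agent.S4713.result X (closure {x}) isClosed_closure
      ⟨x, subset_closure (Set.mem_singleton x)⟩
    have hspec : x ⤳ y := specializes_iff_mem_closure.mpr hy
    exact Groth.Agent.Lib.LocGen33.of_specializes
      (fun S _ => LocCoh.IsCohenMacaulayLocalRing S)
      (fun S S' _ _ e hS => by
        have := hS
        exact Groth.Agent.Lib.CMRingEquiv96.isCohenMacaulayLocalRing_of_ringEquiv e)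
      (fun S _ hS p _ => by
        have := hS
        exact Groth.Agent.Lib.H8CM.isCMLocalRing_localization p)
      X hspec (h y hyc)

end Groth.Agent.S9808
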