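import Groth.Statements.S9809
import Groth.Agent.Lib.GeomUnibranchPunctured61
import Groth.Agent.S0540

set_option autoImplicit false
universe u
open CategoryTheory AlgebraicGeometry TopologicalSpace
open Props

namespace Groth.Agent.S9809

/-- A Noetherian scheme is geometrically unibranch (all local rings geometrically unibranch) if and only
if at every point which is not the generic point of an irreducible component, the punctured spectrum
of a strict henselization of the local ring is connected. -/
theorem result
    (X : Scheme.{u}) [IsNoetherian X] :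
    (∀ x : X, CAlg2.IsGeomUnibranch (X.presheaf.stalk x)) ↔
      ∀ (x : X), closure ({x} : Set X) ∉ irreducibleComponents X →
        ∀ (Ash : Type u) [CommRing Ash] [IsLocalRing Ash] [Algebra (X.presheaf.stalk x) Ash]
          [IsLocalHom (algebraMap (X.presheaf.stalk x) Ash)]
          [Hensel.IsStrictHenselization (X.presheaf.stalk x) Ash],
          ConnectedSpace ↥({IsLocalRing.closedPoint Ash}ᶜ : Set (PrimeSpectrum Ash)) := by
  constructor
  · intro hGU x hx Ash _ _ _ _ _
    have h1 : CAlgX.HasUniqueMinimalPrime Ash :=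
      (Groth.Agent.S2135.result (A := ↑(X.presheaf.stalk x)) (Ash := Ash)).1 (hGU x)
    apply Groth.Agent.Lib.PuncturedSpecConnected61.connectedSpace_punctured_of_hasUniqueMinimalPrime
      Ash h1
    obtain ⟨x', hx'x, hne⟩ := Groth.Agent.Lib.GeomUnibranchPunctured61.exists_generization_ne x hx
    obtain ⟨q₀, hq₀⟩ : x' ∈ Set.range (X.fromSpecStalk x) := by
      rw [Scheme.range_fromSpecStalk]
      exact hx'x
    have hq₀ne : q₀ ≠ IsLocalRing.closedPoint ↑(X.presheaf.stalk x) := fun h =>
      hne (by rw [← hq₀, h, Scheme.fromSpecStalk_closedPoint])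
    have hff : Module.FaithfullyFlat ↑(X.presheaf.stalk x) Ash :=
      Groth.Agent.Lib.StrictHenselization.faithfullyFlat_of_isStrictHenselization _ _
    obtain ⟨Q, hQ⟩ := PrimeSpectrum.comap_surjective_of_faithfullyFlat
      (A := ↑(X.presheaf.stalk x)) (B := Ash) q₀
    refine ⟨Q, fun h => hq₀ne ?_⟩
    rw [← hQ, h]
    exact IsLocalRing.comap_closedPoint (algebraMap ↑(X.presheaf.stalk x) Ash)
  · intro H
    have key : ∀ n : ℕ, ∀ x : X, Order.coheight x < (n : ℕ∞) →
        CAlg2.IsGeomUnibranch ↑(X.presheaf.stalk x) := by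
      intro n
      induction n with
      | zero =>
        intro x hx
        exact absurd hx (by simp)
      | succ n ih =>
        intro x hx
        let S := Groth.Agent.Lib.StrictHenselization.Sh ↑(X.presheaf.stalk x)
        have hSN : IsNoetherianRing S :=
          (Groth.Agent.S0540.result ↑(X.presheaf.stalk x) S).1 inferInstance
        rw [Groth.Agent.S2135.result (A := ↑(X.presheaf.stalk x)) (Ash := S)]
        by_cases hne : ∃ Q : PrimeSpectrum S, Q ≠ IsLocalRing.closedPoint S
        · obtain ⟨Q₀, hQ₀⟩ := hne
          have hxng : closure ({x} : Set X) ∉ irreducibleComponents X := fun hmem =>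
            hQ₀ (Groth.Agent.Lib.GeomUnibranchPunctured61.eq_closedPoint_of_mem_irreducibleComponents
              x S hmem Q₀)
          have hconn := H x hxng S
          refine Groth.Agent.Lib.PuncturedSpecConnected61.hasUniqueMinimalPrime_of_connectedSpace_punctured
            S ?_
          intro Q hQ p₁ hp₁ p₂ hp₂ h₁ h₂
          have hfin : Order.coheight x < ⊤ := lt_of_lt_of_le hx le_top
          have hlt := Groth.Agent.Lib.GeomUnibranchPunctured61.coheight_toX_lt x S Q hQ hfin
          have hx' : Order.coheight x ≤ (n : ℕ∞) := by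
            rw [Nat.cast_add, Nat.cast_one] at hx
            exact (ENat.lt_add_one_iff (ENat.natCast_ne_top n)).mp hx
          have hGU' := ih _ (lt_of_lt_of_le hlt hx')
          exact Groth.Agent.Lib.GeomUnibranchPunctured61.eq_of_mem_minimalPrimes_of_isGeomUnibranch
            x S Q hGU' hp₁ hp₂ h₁ h₂
        · simp only [ne_eq, not_exists, not_not] at hne
          refine ⟨IsLocalRing.maximalIdeal S, ⟨⟨inferInstance, bot_le⟩, fun p hp _ => ?_⟩, ?_⟩
          · exact (congrArg PrimeSpectrum.asIdeal (hne ⟨p, hp.1⟩)).ge
          · intro p hp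
            exact congrArg PrimeSpectrum.asIdeal (hne ⟨p, hp.1.1⟩)
    intro x
    have hfin : Order.coheight x < ⊤ := by
      have h1 : ringKrullDim ↑(X.presheaf.stalk x) < ⊤ := ringKrullDim_lt_top
      rw [AlgebraicGeometry.ringKrullDim_stalk_eq_coheight] at h1
      have h2 : ((Order.coheight x : ℕ∞) : WithBot ℕ∞) < ((⊤ : ℕ∞) : WithBot ℕ∞) := h1
      exact WithBot.coe_lt_coe.mp h2
    obtain ⟨n, hn⟩ := ENat.ne_top_iff_exists.mp hfin.ne
    exact key (n + 1) x (by rw [← hn]; exact_mod_cast Nat.lt_succ_self n)

end Groth.Agent.S9809
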