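import Groth.Statements.S9810
import Groth.Agent.Lib.BrnchSum98

set_option autoImplicit false
universe u
open Brnch

namespace Groth.Agent.S9810

open Groth.Agent.Lib.TotalFrac Groth.Agent.Lib.Brnch98 Groth.Agent.Lib.BrnchSum98

theorem numBranches_eq_card (B : Type u) [CommRing B] [IsLocalRing B] [IsDomain B] :
    Brnch.numBranches B = ENat.card (MaximalSpectrum (CAlg2.normRed B)) := by
  unfold Brnch.numBranches
  rw [if_pos]
  rw [IsDomain.minimalPrimes_eq_singleton_bot B]
  exact Set.finite_singleton _


/-- Branches, in terms of the local ring: for a local ring A with finitely many minimal prime ideals,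
the number of branches of A is the sum over the minimal primes p of the numbers of branches of the
local domains A/p. Geometrically: the number of branches of a scheme at a point is the sum of the
numbers of branches at that point of the irreducible components passing through it. -/
theorem result (A : Type u) [CommRing A] [IsLocalRing A]
    (h : (minimalPrimes A).Finite) :
    Brnch.numBranches A =
      ∑ᶠ p : minimalPrimes A,
        haveI : p.1.IsPrime := p.2.1.1
        Brnch.numBranches (A ⧸ p.1) := by
  classical
  have hred : IsReduced (CAlg2.red A) := isReduced_red A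
  have hfin' : Finite (MinPrime (CAlg2.red A)) :=
    Set.finite_coe_iff.mpr (finite_minimalPrimes_red A h)
  have : Fintype (MinPrime (CAlg2.red A)) := Fintype.ofFinite _
  have hL : Brnch.numBranches A = ENat.card (MaximalSpectrum (CAlg2.normRed A)) := by
    unfold Brnch.numBranches
    rw [if_pos h]
  rw [hL, card_maximalSpectrum_congr
      (Groth.Agent.Lib.TotalFracFin98.integralClosureEquivPi (CAlg2.red A)).toRingEquiv,
    card_maximalSpectrum_pi, ← finsum_comp (pOf A) (pOf_bijective A), finsum_eq_sum_of_fintype]
  refine Finset.sum_congr rfl (fun q _ => ?_)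
  have hp : (q.1.comap (Ideal.Quotient.mk (nilradical A))).IsPrime := (pOf A q).2.1.1
  haveI : (pOf A q).1.IsPrime := hp
  obtain ⟨ε, -⟩ := exists_compEquiv A q
  show _ = Brnch.numBranches (A ⧸ (pOf A q).1)
  rw [numBranches_eq_card (A ⧸ (pOf A q).1)]
  exact card_maximalSpectrum_congr ε

end Groth.Agent.S9810
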