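import Groth.Statements.S9817
import Groth.Agent.Lib.H4TwistCompact
import Groth.Agent.Lib.H4GenBy
import Groth.Agent.Lib.H4TwistUnit
-- import your own Groth.Agent.* helpers here

set_option autoImplicit false
universe u
open CategoryTheory CategoryTheory.Limits AlgebraicGeometry TopologicalSpace
open Props

namespace Groth.Agent.S9817

open CategoryTheory AlgebraicGeometry TopologicalSpace Opposite Twist
open Groth.Agent.Lib.H90Invertible Groth.Agent.Lib.H4TensorPair Groth.Agent.Lib.H4Twist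

variable {R A : Type u} [CommRing R] [CommRing A] [Algebra R A] {𝒜 : ℕ → Submodule R A} [GradedAlgebra 𝒜]

/-- Local version of `le_basicOpen_of_isGen_numSec`: only points of `U` need to avoid an element of degree `i`. -/
theorem le_basicOpen_of_isGen_numSec' {a : A} {i : ℕ} (ha : a ∈ 𝒜 i) (k : ℤ) (hk : k = i)
    {U : (Proj 𝒜).Opens}
    (hcov : ∀ x : ProjectiveSpectrum 𝒜, x ∈ U → ∃ g ∈ 𝒜 i, g ∉ x.asHomogeneousIdeal)
    (hgen : IsGen (twist 𝒜 k) U ((twist 𝒜 k).presheaf.map (homOfLE (le_top : U ≤ ⊤)).op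
      (numSec ha k hk))) : U ≤ Proj.basicOpen 𝒜 a := by
  intro x hxU
  obtain ⟨g, hgi, hgx⟩ := hcov x hxU
  set W : (Proj 𝒜).Opens := U ⊓ Proj.basicOpen 𝒜 g with hW
  have hWg : ∀ y : W, g ∉ y.1.asHomogeneousIdeal := fun y => y.2.2
  obtain ⟨c, hc⟩ := (hgen W inf_le_left).2 (genAt hgi hWg 1 k (by simp [hk]))
  have h1 := congrArg (fun t : Γ(twist 𝒜 k, W) => sval t (⟨x, ⟨hxU, hgx⟩⟩ : W)) hc
  simp only [sval_smul, sval_map, sval_numSec, sval_genAt, zpow_one] at h1
  have hunit : IsUnit (Localization.mk a 1 : Loc 𝒜 x) := by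
    have : IsUnit (oval c (⟨x, ⟨hxU, hgx⟩⟩ : W) * (Localization.mk a 1 : Loc 𝒜 x)) := by
      rw [h1]; exact Units.isUnit _
    exact isUnit_of_mul_isUnit_right this
  rw [Localization.mk_one_eq_algebraMap,
    IsLocalization.AtPrime.isUnit_to_map_iff (Loc 𝒜 x) x.asHomogeneousIdeal.toIdeal] at hunit
  exact hunit


/-- For a quasi-compact scheme X admitting an open immersion j into Proj of a graded ring, some positive
twist O(d) pulls back along j to an ample invertible module on X. -/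
theorem result {R A : Type u} [CommRing R] [CommRing A]
    [Algebra R A] (𝒜 : ℕ → Submodule R A) [GradedAlgebra 𝒜] (X : Scheme.{u}) [CompactSpace X]
    (j : X ⟶ Proj 𝒜) [IsOpenImmersion j] :
    ∃ d : ℕ, 0 < d ∧ CohB1.IsAmple ((Scheme.Modules.pullback j).obj (Twist.twist 𝒜 (d : ℤ))) := by
  classical
  set Y : (Proj 𝒜).Opens := j.opensRange with hY
  have hK : IsCompact (Y : Set (Proj 𝒜)) := by
    rw [hY, Scheme.Hom.coe_opensRange]
    exact isCompact_range j.continuous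
  obtain ⟨d, hd, hcov⟩ := exists_common_degree 𝒜 (Y : Set _) hK (fun U => U ≤ Y)
    (fun y hy => exists_pos_basicOpen_le 𝒜 Y y hy)
  refine ⟨d, hd, ?_⟩
  have e : (twist 𝒜 (d : ℤ)).restrict j ≅ (Scheme.Modules.pullback j).obj (twist 𝒜 (d : ℤ)) :=
    (Scheme.Modules.restrictFunctorIsoPullback j).app _
  refine Groth.Agent.Lib.H78AmpleUnit.isAmple_of_iso e ?_
  have hjY : ∀ x : X, (j x : Proj 𝒜) ∈ Y := fun x => ⟨x, rfl⟩
  have himg : ∀ g : A, Proj.basicOpen 𝒜 g ≤ Y → j ''ᵁ (j ⁻¹ᵁ Proj.basicOpen 𝒜 g) = Proj.basicOpen 𝒜 g := by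
    intro g hg
    rw [Scheme.Hom.image_preimage_eq_opensRange_inf]
    exact inf_eq_right.mpr hg
  refine ⟨?_, inferInstance, fun x => ?_⟩
  · rw [isInvertible_iff_exists_isGen]
    intro x
    obtain ⟨g, hgd, hgx, hgY⟩ := hcov (j x) (hjY x)
    refine ⟨j ⁻¹ᵁ Proj.basicOpen 𝒜 g, hgx, ?_⟩
    have hle : j ''ᵁ (j ⁻¹ᵁ Proj.basicOpen 𝒜 g) ≤ Proj.basicOpen 𝒜 g := j.image_preimage_le _
    have hex := exists_isGen_of_le_basicOpen 𝒜 hgd 1 hle
    rw [one_mul] at hex
    obtain ⟨s, hs⟩ := hex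
    exact ⟨s, (isGen_restrict_iff j (twist 𝒜 (d : ℤ)) _ s).mpr hs⟩
  · obtain ⟨g, hgd, hgx, hgY⟩ := hcov (j x) (hjY x)
    set L' : X.Modules := (twist 𝒜 (d : ℤ)).restrict j with hL'
    let t : Γ(L', ⊤) := (twist 𝒜 (d : ℤ)).presheaf.map (homOfLE (le_top : j ''ᵁ ⊤ ≤ ⊤)).op
      (numSec hgd (d : ℤ) rfl)
    have e1 := (Groth.Agent.Lib.OXModTensor.tensorPowOne L').symm
    have hloc : CohB1.genLocus (CohB1.tensorPow L' (0 + 1)) (ofSection t ≫ e1.hom) =
        j ⁻¹ᵁ Proj.basicOpen 𝒜 g := by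
      rw [Groth.Agent.Lib.H78AmpleUnit.genLocus_comp_iso, genLocus_ofSection]
      have hres : ∀ U : X.Opens, L'.presheaf.map (homOfLE (le_top : U ≤ ⊤)).op t =
          (twist 𝒜 (d : ℤ)).presheaf.map (homOfLE (le_top : j ''ᵁ U ≤ ⊤)).op (numSec hgd (d : ℤ) rfl) := by
        intro U
        change (twist 𝒜 (d : ℤ)).presheaf.map _ ((twist 𝒜 (d : ℤ)).presheaf.map _ _) = _
        rw [← ConcreteCategory.comp_apply, ← Functor.map_comp]
        rfl
      apply le_antisymm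
      · refine sSup_le fun U hU => ?_
        have hU' : IsGen L' U (L'.presheaf.map (homOfLE (le_top : U ≤ ⊤)).op t) := hU
        rw [hres U] at hU'
        have h2 := (isGen_restrict_iff j (twist 𝒜 (d : ℤ)) U _).mp hU'
        have h3 : j ''ᵁ U ≤ Proj.basicOpen 𝒜 g := by
          refine le_basicOpen_of_isGen_numSec' hgd (d : ℤ) rfl ?_ h2
          intro y hy
          obtain ⟨x', -, rfl⟩ := hy
          obtain ⟨g', hg'd, hg'x, -⟩ := hcov (j x') (hjY x')
          exact ⟨g', hg'd, hg'x⟩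
        intro x' hx'
        exact h3 ⟨x', hx', rfl⟩
      · refine le_sSup ?_
        show IsGen L' _ (L'.presheaf.map (homOfLE le_top).op t)
        rw [hres]
        refine (isGen_restrict_iff j (twist 𝒜 (d : ℤ)) _ _).mpr ?_
        exact isGen_numSec_of_le hgd 1 (pow_one g).symm hgd (one_mul d).symm (d : ℤ) rfl
          (j.image_preimage_le _)
    refine ⟨0, ofSection t ≫ e1.hom, ?_, ?_⟩
    · rw [hloc]; exact hgx
    · rw [hloc]
      have haff : IsAffineOpen (Proj.basicOpen 𝒜 g) := Proj.isAffineOpen_basicOpen 𝒜 g hgd hd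
      rw [← himg g hgY] at haff
      exact (Scheme.Hom.isAffineOpen_iff_of_isOpenImmersion j).mp haff

end Groth.Agent.S9817
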