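import Groth.Statements.S9818
import Mathlib
import Groth.Agent.Lib.H90QCohLimits
import Groth.Agent.Lib.RestrictExact

set_option autoImplicit false
universe u
open CategoryTheory CategoryTheory.Limits AlgebraicGeometry TopologicalSpace Opposite
open Props

namespace Groth.Agent.S9818

/-- For an open subscheme U of a scheme X with quasi-compact inclusion, a quasi-coherent module G on U
with a map to the restriction of a quasi-coherent module F on X extends to a quasi-coherent module H
on X with a map to F restricting to the given one. Taking F = 0, every quasi-coherent module on U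
extends to a quasi-coherent module on X. -/
theorem result {X : Scheme.{u}} (U : X.Opens) [QuasiCompact U.ι]
    (F : X.Modules) [Coh.IsQCoh F] (G : (U : Scheme.{u}).Modules) [Coh.IsQCoh G] (φ : G ⟶ F.restrict U.ι) :
    ∃ (H : X.Modules) (ψ : H ⟶ F) (e : H.restrict U.ι ≅ G), Coh.IsQCoh H ∧
      e.hom ≫ φ = (Scheme.Modules.restrictFunctor U.ι).map ψ := by
  let R := Scheme.Modules.restrictFunctor U.ι
  let P := Scheme.Modules.pushforward U.ι
  let adj := Scheme.Modules.restrictAdjunction U.ι
  let a : P.obj G ⟶ P.obj (R.obj F) := P.map φ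
  let b : F ⟶ P.obj (R.obj F) := adj.unit.app F
  haveI : (P.obj G).IsQuasicoherent :=
    Groth.Agent.Lib.H90OXModQcqs.isQuasicoherent_pushforward_of_qcqs U.ι G
  haveI : (R.obj F).IsQuasicoherent := inferInstanceAs (F.restrict U.ι).IsQuasicoherent
  haveI : (P.obj (R.obj F)).IsQuasicoherent :=
    Groth.Agent.Lib.H90OXModQcqs.isQuasicoherent_pushforward_of_qcqs U.ι (R.obj F)
  have hq : (Limits.pullback a b).IsQuasicoherent :=
    Groth.Agent.Lib.H90QCohLimits.isQuasicoherent_pullback a b
  have htri : R.map b ≫ adj.counit.app (R.obj F) = 𝟙 _ := adj.left_triangle_components F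
  haveI : IsIso (adj.counit.app (R.obj F)) := inferInstance
  haveI : IsIso (R.map b) := IsIso.of_isIso_fac_right htri
  have sq : IsPullback (R.map (Limits.pullback.fst a b)) (R.map (Limits.pullback.snd a b))
      (R.map a) (R.map b) := (IsPullback.of_hasPullback a b).map R
  haveI : IsIso (R.map (Limits.pullback.fst a b)) := sq.isIso_fst_of_isIso
  let e : R.obj (Limits.pullback a b) ≅ G :=
    asIso (R.map (Limits.pullback.fst a b)) ≪≫ asIso (adj.counit.app G)
  refine ⟨Limits.pullback a b, Limits.pullback.snd a b, e, hq, ?_⟩
  have hnat : adj.counit.app G ≫ φ = R.map a ≫ adj.counit.app (R.obj F) :=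
    (adj.counit.naturality φ).symm
  calc e.hom ≫ φ = R.map (Limits.pullback.fst a b) ≫ adj.counit.app G ≫ φ := by
        simp [e]
    _ = R.map (Limits.pullback.fst a b) ≫ R.map a ≫ adj.counit.app (R.obj F) := by rw [hnat]
    _ = R.map (Limits.pullback.snd a b) ≫ R.map b ≫ adj.counit.app (R.obj F) := by
        rw [← Category.assoc, ← R.map_comp, Limits.pullback.condition, R.map_comp, Category.assoc]
    _ = R.map (Limits.pullback.snd a b) := by rw [htri, Category.comp_id]

end Groth.Agent.S9818
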