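import Groth.Statements.S9822
import Mathlib

set_option autoImplicit false
universe u
open CategoryTheory CategoryTheory.Limits AlgebraicGeometry TopologicalSpace Opposite
open Props

namespace Groth.Agent.S9822

/-- A scheme is irreducible if and only if it is nonempty and every nonempty affine open subset is
irreducible. -/
theorem result (X : Scheme.{u}) :
    IrreducibleSpace X ↔ Nonempty X ∧ ∀ U : X.Opens, IsAffineOpen U → (U : Set X).Nonempty → IsIrreducible (U : Set X) := by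
  constructor
  · intro h
    refine ⟨h.toNonempty, fun U _ hne => ⟨hne, ?_⟩⟩
    exact (PreirreducibleSpace.isPreirreducible_univ (X := X)).open_subset U.2 (Set.subset_univ _)
  · rintro ⟨hne, h⟩
    have hpre : PreirreducibleSpace X := by
      refine ⟨?_⟩
      intro u v hu hv ⟨x, _, hxu⟩ ⟨y, _, hyv⟩
      obtain ⟨_, ⟨U₁, hU₁, rfl⟩, hxU₁, hU₁u⟩ :=
        X.isBasis_affineOpens.exists_subset_of_mem_open hxu hu
      obtain ⟨_, ⟨U₂, hU₂, rfl⟩, hyU₂, hU₂v⟩ :=
        X.isBasis_affineOpens.exists_subset_of_mem_open hyv hv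
      by_cases hd : Disjoint U₁ U₂
      · exfalso
        have haff : IsAffineOpen (U₁ ⊔ U₂) := IsAffineOpen.sup_of_disjoint hU₁ hU₂ hd
        have hirr := h (U₁ ⊔ U₂) haff ⟨x, Or.inl hxU₁⟩
        obtain ⟨z, _, hz₁, hz₂⟩ := hirr.2 (U₁ : Set X) (U₂ : Set X) U₁.2 U₂.2
          ⟨x, Or.inl hxU₁, hxU₁⟩ ⟨y, Or.inr hyU₂, hyU₂⟩
        exact (Set.disjoint_left.mp ((Opens.coe_disjoint).mpr hd)) hz₁ hz₂
      · rw [← Opens.coe_disjoint, Set.not_disjoint_iff] at hd
        obtain ⟨z, hz₁, hz₂⟩ := hd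
        exact ⟨z, Set.mem_univ _, hU₁u hz₁, hU₂v hz₂⟩
    exact { toPreirreducibleSpace := hpre, toNonempty := hne }

end Groth.Agent.S9822
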