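import Groth.Statements.S9830
import Mathlib

set_option autoImplicit false
universe u
open CategoryTheory AlgebraicGeometry TopologicalSpace
open Props

namespace Groth.Agent.S9830

section Helpers

/-- For a domain `R` with fraction field `K`, `Spec K ⟶ Spec R` is dominant. -/
theorem isDominant_specMap (R K : Type u) [CommRing R] [IsDomain R] [Field K] [Algebra R K]
    [IsFractionRing R K] :
    IsDominant (Spec.map (CommRingCat.ofHom (algebraMap R K))) := by
  refine ⟨?_⟩
  change DenseRange (PrimeSpectrum.comap (algebraMap R K))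
  rw [PrimeSpectrum.denseRange_comap_iff_ker_le_nilRadical]
  rw [(RingHom.injective_iff_ker_eq_bot _).mp (IsFractionRing.injective R K)]
  exact bot_le

/-- A morphism from the spectrum of a domain to a `T1` scheme is constant on points. -/
theorem map_eq_of_t1 (X : Scheme.{u}) [T1Space X] (R : Type u) [CommRing R] [IsDomain R]
    (l : Spec (CommRingCat.of R) ⟶ X) (y : Spec (CommRingCat.of R)) :
    l y = l (⟨⊥, Ideal.isPrime_bot⟩ : PrimeSpectrum R) := by
  have h : (⟨⊥, Ideal.isPrime_bot⟩ : PrimeSpectrum R) ⤳ y := by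
    rw [← PrimeSpectrum.le_iff_specializes]
    exact bot_le (a := (y : PrimeSpectrum R).asIdeal)
  exact ((h.map l.continuous).eq).symm

end Helpers

/-- A scheme whose underlying space is Hausdorff is separated. (The published statement assumes X of
dimension zero; a Hausdorff scheme always has dimension at most zero, so this row omits that
hypothesis.) -/
theorem result (X : Scheme.{u}) [T2Space X] : X.IsSeparated := by
  have hqs : QuasiSeparatedSpace X :=
    ⟨fun U V _ hUc _ hVc => hUc.inter_right hVc.isClosed⟩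
  refine ⟨IsSeparated.of_valuativeCriterion _ ?_⟩
  intro S
  refine ⟨fun l₁ l₂ => ?_⟩
  suffices h : l₁.l = l₂.l by
    cases l₁; cases l₂; simp_all
  have := isDominant_specMap S.R S.K
  -- the common image point
  let η : Spec (CommRingCat.of S.R) := (⟨⊥, Ideal.isPrime_bot⟩ : PrimeSpectrum S.R)
  obtain ⟨_, ⟨U₀, hU, rfl⟩, hxU, -⟩ :=
    X.isBasis_affineOpens.exists_subset_of_mem_open (Set.mem_univ (l₁.l η)) isOpen_univ
  obtain ⟨U, rfl⟩ : ∃ U : X.Opens, U = U₀ := ⟨U₀, rfl⟩
  have hη : l₁.l η = l₂.l η := by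
    have hpt : ∃ pt : Spec (CommRingCat.of S.K),
        (Spec.map (CommRingCat.ofHom (algebraMap S.R S.K))) pt = η := by
      refine ⟨(⟨⊥, Ideal.isPrime_bot⟩ : PrimeSpectrum S.K), ?_⟩
      apply PrimeSpectrum.ext
      change Ideal.comap (algebraMap S.R S.K) ⊥ = ⊥
      rw [← RingHom.ker_eq_comap_bot]
      exact (RingHom.injective_iff_ker_eq_bot _).mp (IsFractionRing.injective S.R S.K)
    obtain ⟨pt, hpt⟩ := hpt
    rw [← hpt, ← Scheme.Hom.comp_apply, ← Scheme.Hom.comp_apply, l₁.fac_left, l₂.fac_left]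
  have h₁ : Set.range l₁.l ⊆ Set.range U.ι := by
    rintro _ ⟨y, rfl⟩
    rw [map_eq_of_t1 X S.R l₁.l y, Scheme.Opens.range_ι]
    exact hxU
  have h₂ : Set.range l₂.l ⊆ Set.range U.ι := by
    rintro _ ⟨y, rfl⟩
    rw [map_eq_of_t1 X S.R l₂.l y, Scheme.Opens.range_ι]
    change l₂.l η ∈ _
    rw [← hη]
    exact hxU
  have : IsAffine U.toScheme := hU
  have key : IsOpenImmersion.lift U.ι l₁.l h₁ = IsOpenImmersion.lift U.ι l₂.l h₂ := by
    apply ext_of_isDominant (Spec.map (CommRingCat.ofHom (algebraMap S.R S.K)))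
    rw [← cancel_mono U.ι]
    simp only [Category.assoc, IsOpenImmersion.lift_fac]
    rw [l₁.fac_left, l₂.fac_left]
  calc l₁.l = IsOpenImmersion.lift U.ι l₁.l h₁ ≫ U.ι := (IsOpenImmersion.lift_fac _ _ _).symm
    _ = IsOpenImmersion.lift U.ι l₂.l h₂ ≫ U.ι := by rw [key]
    _ = l₂.l := IsOpenImmersion.lift_fac _ _ _

end Groth.Agent.S9830
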