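import Groth.Statements.S9838
import Groth.Agent.Lib.H90OXModPushFinite

set_option autoImplicit false
open CategoryTheory CategoryTheory.Limits AlgebraicGeometry Opposite
universe u
open Desc

namespace Groth.Agent.S9838

open AlgebraicGeometry CategoryTheory TopologicalSpace in
set_option backward.isDefEq.respectTransparency false in
/-- finite morphism: if `f_*F` is of finite type then so is `F` (for `F` quasi-coherent) -/
theorem isFiniteType_of_pushforward {X Y : Scheme.{u}} (f : X ⟶ Y) [IsFinite f]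
    (F : X.Modules) [F.IsQuasicoherent]
    (h : SheafOfModules.IsFiniteType (R := Y.ringCatSheaf) ((Scheme.Modules.pushforward f).obj F)) :
    SheafOfModules.IsFiniteType (R := X.ringCatSheaf) F := by
  have hq := Groth.Agent.Lib.H90OXModPush.isQuasicoherent_pushforward f F
  have hcov : ⨆ V : Y.affineOpens, f ⁻¹ᵁ V.1 = ⊤ := by
    rw [← Scheme.Hom.preimage_iSup, AlgebraicGeometry.iSup_affineOpens_eq_top]
    rfl
  refine Groth.Agent.Lib.H90OXModAffineFT.isFiniteType_of_affine_cover F
    (fun V : Y.affineOpens => f ⁻¹ᵁ V.1) hcov (fun V => V.2.preimage f) fun V => ?_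
  have h2 : Module.Finite Γ(Y, V.1) Γ((Scheme.Modules.pushforward f).obj F, V.1) :=
    haveI : ((Scheme.Modules.pushforward f).obj F).IsFiniteType := h
    Groth.Agent.Lib.CohFinite.finite_sections_of_isAffineOpen _ V.2
  let _ := (f.app V.1).hom.toAlgebra
  let _ : Module Γ(Y, V.1) Γ(F, f ⁻¹ᵁ V.1) := Module.compHom _ (f.app V.1).hom
  have : IsScalarTower Γ(Y, V.1) Γ(X, f ⁻¹ᵁ V.1) Γ(F, f ⁻¹ᵁ V.1) := .of_algebraMap_smul fun _ _ => rfl
  have h3 : Module.Finite Γ(Y, V.1) Γ(F, f ⁻¹ᵁ V.1) := h2
  exact Module.Finite.of_restrictScalars_finite Γ(Y, V.1) Γ(X, f ⁻¹ᵁ V.1) Γ(F, f ⁻¹ᵁ V.1)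


/-- Let f : X ⟶ Y be a finite morphism of schemes and F a quasi-coherent O_X-module. The pushforward
f_*F is of finite type as an O_Y-module exactly when F itself is of finite type as an O_X-module. -/
theorem result {X Y : Scheme.{u}} (f : X ⟶ Y) [IsFinite f]
    (F : X.Modules) [F.IsQuasicoherent] :
    SheafOfModules.IsFiniteType (R := X.ringCatSheaf) F ↔
      SheafOfModules.IsFiniteType (R := Y.ringCatSheaf) ((Scheme.Modules.pushforward f).obj F) := by
  constructor
  · intro h
    exact (Groth.Agent.Lib.H90OXModPushFinite.isCoh_pushforward f F ⟨inferInstance, h⟩).2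
  · exact isFiniteType_of_pushforward f F

end Groth.Agent.S9838
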