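import Groth.Statements.S9839
-- import your own Groth.Agent.* helpers here
import Mathlib

set_option autoImplicit false
open CategoryTheory CategoryTheory.Limits AlgebraicGeometry Opposite
universe u
open Desc

namespace Groth.Agent.S9839


/-- A finite jointly surjective family of flat morphisms from affine schemes to an affine scheme is
jointly a quotient map. -/
theorem isOpen_of_finite_flat_family {T : Scheme.{u}} [IsAffine T] {m : ℕ} (W : Fin m → Scheme.{u})
    (c : ∀ j, W j ⟶ T) (hW : ∀ j, IsAffine (W j)) (hc : ∀ j, Flat (c j))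
    (hs : ∀ z : ↥T, ∃ j, z ∈ Set.range (c j)) (B : Set ↥T) (hB : ∀ j, IsOpen ((c j) ⁻¹' B)) :
    IsOpen B := by
  let W' : ULift.{u} (Fin m) → Scheme.{u} := fun j => W j.down
  let σ : (∐ W') ⟶ T := Sigma.desc (fun j => c j.down)
  have : ∀ j, IsAffine (W' j) := fun j => hW j.down
  have hflat : Flat σ := IsZariskiLocalAtSource.sigmaDesc (P := @Flat) (fun j => hc j.down)
  have hsurj : Surjective σ := by
    constructor
    intro z
    obtain ⟨j, w, hw⟩ := hs z
    refine ⟨Sigma.ι W' ⟨j⟩ w, ?_⟩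
    rw [← Scheme.Hom.comp_apply, Sigma.ι_desc]
    exact hw
  have hqc : QuasiCompact σ := inferInstance
  have hq := Flat.isQuotientMap_of_surjective σ
  rw [← hq.isOpen_preimage, ← (sigmaMk W').isOpen_preimage, isOpen_sigma_iff]
  intro j
  convert hB j.down using 1
  ext w
  simp only [Set.mem_preimage, sigmaMk_mk]
  rw [← Scheme.Hom.comp_apply, Sigma.ι_desc]

/-- Let f i : T i ⟶ T be an fpqc covering family of a scheme T (a family in the fpqc precoverage) and W
i ⊆ T i open subsets such that for all i, j the inverse images of W i and W j under the two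
projections of T i ×_T T j coincide. Then there is a unique open subset W ⊆ T with (f i)⁻¹(W) = W i
for every i. -/
theorem result {ι : Type u} {T : Scheme.{u}} {Ti : ι → Scheme.{u}}
    (f : ∀ i, Ti i ⟶ T) (hf : Presieve.ofArrows Ti f ∈ Scheme.fpqcPrecoverage T)
    (W : ∀ i, (Ti i).Opens)
    (hW : ∀ i j, (pullback.fst (f i) (f j)) ⁻¹ᵁ (W i) = (pullback.snd (f i) (f j)) ⁻¹ᵁ (W j)) :
    ∃! V : T.Opens, ∀ i, (f i) ⁻¹ᵁ V = W i := by
  classical
  -- unpack the covering condition
  have hf' := hf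
  rw [Scheme.fpqcPrecoverage, Scheme.propQCPrecoverage] at hf'
  obtain ⟨hqc, hfl⟩ := hf'
  rw [Scheme.ofArrows_mem_precoverage_iff] at hfl
  obtain ⟨hsurj, hflat⟩ := hfl
  let E : PreZeroHypercover.{u} T := ⟨ι, Ti, f⟩
  have hE : QuasiCompactCover E := by
    rw [← Scheme.presieve₀_mem_qcPrecoverage_iff]
    exact hqc
  -- the candidate
  let Vs : Set ↥T := ⋃ i, (f i) '' (W i : Set ↥(Ti i))
  have hpre : ∀ i, (f i) ⁻¹' Vs = (W i : Set ↥(Ti i)) := by
    intro i
    ext x
    constructor
    · intro hx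
      obtain ⟨j, y, hy, hyx⟩ := Set.mem_iUnion.mp hx
      obtain ⟨z, hz₁, hz₂⟩ := Scheme.Pullback.exists_preimage_pullback (f := f i) (g := f j) x y hyx.symm
      have hz : z ∈ (pullback.snd (f i) (f j)) ⁻¹ᵁ (W j) := by
        show (pullback.snd (f i) (f j)) z ∈ W j
        rw [hz₂]; exact hy
      rw [← hW i j] at hz
      have hz' : (pullback.fst (f i) (f j)) z ∈ W i := hz
      rw [hz₁] at hz'
      exact hz'
    · intro hx
      exact Set.mem_iUnion.mpr ⟨i, x, hx, rfl⟩
  have hopen : IsOpen Vs := by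
    have hcov : TopologicalSpace.IsOpenCover (fun A : T.affineOpens => (A : T.Opens)) :=
      iSup_affineOpens_eq_top T
    rw [hcov.isOpen_iff_coe_preimage]
    intro A
    obtain ⟨n, idx, V, hV, hVA⟩ := QuasiCompactCover.exists_isAffineOpen_of_isCompact E A.2.isCompact
    have hle : ∀ k, V k ≤ (f (idx k)) ⁻¹ᵁ (A : T.Opens) := by
      intro k x hx
      show (f (idx k)) x ∈ (A : T.Opens)
      have : (f (idx k)) x ∈ ⋃ i, (E.f (idx i)) '' (V i : Set ↥(E.X (idx i))) :=
        Set.mem_iUnion.mpr ⟨k, x, hx, rfl⟩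
      rw [hVA] at this
      exact this
    haveI : IsAffine ((A : T.Opens) : Scheme.{u}) := A.2
    refine isOpen_of_finite_flat_family (T := ((A : T.Opens) : Scheme.{u}))
      (fun k => ((V k : (Ti (idx k)).Opens) : Scheme.{u}))
      (fun k => (f (idx k)).resLE (A : T.Opens) (V k) (hle k)) (fun k => hV k)
      (fun k => by haveI := hflat (idx k); infer_instance) ?_ _ ?_
    · intro z
      let z' : ↥(A : T.Opens) := z
      have hz : (z'.1 : ↥T) ∈ ⋃ i, (E.f (idx i)) '' (V i : Set ↥(E.X (idx i))) := by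
        rw [hVA]; exact z'.2
      obtain ⟨k, x, hx, hxz⟩ := Set.mem_iUnion.mp hz
      refine ⟨k, ⟨x, hx⟩, ?_⟩
      apply Subtype.ext
      have := Scheme.Hom.resLE_comp_ι (f (idx k)) (hle k)
      have h2 := congrArg (fun g : ((V k : (Ti (idx k)).Opens) : Scheme.{u}) ⟶ T => g ⟨x, hx⟩) this
      simp only [Scheme.Hom.comp_apply] at h2
      exact h2.trans hxz
    · intro k
      have : ((f (idx k)).resLE (A : T.Opens) (V k) (hle k)) ⁻¹' (Subtype.val ⁻¹' Vs : Set ↥(A : T.Opens)) =
          (V k).ι ⁻¹' ((f (idx k)) ⁻¹' Vs) := by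
        ext x
        have := Scheme.Hom.resLE_comp_ι (f (idx k)) (hle k)
        have h2 := congrArg (fun g : ((V k : (Ti (idx k)).Opens) : Scheme.{u}) ⟶ T => g x) this
        simp only [Scheme.Hom.comp_apply] at h2
        simp only [Set.mem_preimage]
        rw [← h2]
        rfl
      rw [this, hpre]
      exact (W (idx k)).2.preimage (V k).ι.continuous
  refine ⟨⟨Vs, hopen⟩, ?_, ?_⟩
  · intro i
    ext x
    exact Set.ext_iff.mp (hpre i) x
  · intro V' hV'
    ext t
    obtain ⟨i, x, rfl⟩ := hsurj t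
    have h1 : (f i) x ∈ V' ↔ x ∈ W i := by
      rw [← hV' i]; rfl
    have h2 : (f i) x ∈ Vs ↔ x ∈ W i := by
      rw [← SetLike.mem_coe, ← hpre i]; rfl
    exact h1.trans h2.symm

end Groth.Agent.S9839
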