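import Groth.Statements.S9840

set_option autoImplicit false
open CategoryTheory CategoryTheory.Limits AlgebraicGeometry Opposite
universe u
open Desc

namespace Groth.Agent.S9840

/-- If a point `y` of `Y` is the image of a point `x` of a reduced scheme under a flat morphism,
then the stalk of `Y` at `y` is reduced. -/
theorem isReduced_stalk_of_flat {X Y : Scheme.{u}} (f : X ⟶ Y) [Flat f] [IsReduced X] (x : X) :
    _root_.IsReduced (Y.presheaf.stalk (f x)) := by
  have hinj : Function.Injective (f.stalkMap x).hom := by
    algebraize [(f.stalkMap x).hom]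
    have : Module.FaithfullyFlat (Y.presheaf.stalk (f x)) (X.presheaf.stalk x) :=
      @Module.FaithfullyFlat.of_flat_of_isLocalHom _ _ _ _ _ _ _
        (Flat.stalkMap f x) (f.toLRSHom.prop x)
    exact ‹RingHom.FaithfullyFlat _›.injective
  exact isReduced_of_injective (f.stalkMap x).hom hinj

/-- A scheme covered by images of flat morphisms from reduced schemes is reduced. -/
theorem isReduced_of_flat_family {ι : Type*} {Y : Scheme.{u}} {X : ι → Scheme.{u}}
    (f : ∀ i, X i ⟶ Y) [∀ i, Flat (f i)] [∀ i, IsReduced (X i)]
    (hsurj : ∀ y : Y, ∃ i, y ∈ Set.range (f i)) : IsReduced Y := by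
  have : ∀ y : Y, _root_.IsReduced (Y.presheaf.stalk y) := by
    intro y
    obtain ⟨i, x, rfl⟩ := hsurj y
    exact isReduced_stalk_of_flat (f i) x
  exact isReduced_of_isReduced_stalk Y

/-- For a flat, surjective morphism of schemes f : X ⟶ Y, reducedness of X forces Y to be reduced. -/
theorem result {X Y : Scheme.{u}} (f : X ⟶ Y) [Flat f] [Surjective f] [IsReduced X] :
    IsReduced Y := by
  apply isReduced_of_flat_family (ι := PUnit.{1}) (fun _ => f)
  intro y
  obtain ⟨x, rfl⟩ := f.surjective y
  exact ⟨PUnit.unit, x, rfl⟩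

end Groth.Agent.S9840
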