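-- Statement S9841.
import Groth.Statements.S9841
import Groth.Agent.S9840
import Groth.Agent.S9407
import Mathlib

set_option autoImplicit false
open CategoryTheory CategoryTheory.Limits AlgebraicGeometry Opposite
universe u
open Desc

namespace Groth.Agent.S9841

/-- Smooth over a reduced scheme is reduced. -/
theorem isReduced_of_smooth {X S : Scheme.{u}} (f : X ⟶ S) [Smooth f] [IsReduced S] :
    IsReduced X := by
  have : ∀ x : X, _root_.IsReduced (X.presheaf.stalk x) := by
    intro x
    obtain ⟨_, ⟨U, hU, rfl⟩, hfx, -⟩ := S.isBasis_affineOpens.exists_subset_of_mem_open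
      (Set.mem_univ (f.base x)) isOpen_univ
    obtain ⟨_, ⟨V, hV, rfl⟩, hxV, hVU⟩ := X.isBasis_affineOpens.exists_subset_of_mem_open
      (show x ∈ ((f ⁻¹ᵁ U : X.Opens) : Set X) from hfx) (f ⁻¹ᵁ U).isOpen
    have hsm := Smooth.smooth_appLE f hU hV hVU
    algebraize [(f.appLE U V hVU).hom]
    have : _root_.IsReduced Γ(X, V) := Groth.Agent.S9407.result Γ(S, U) Γ(X, V)
    let := X.presheaf.algebra_section_stalk ⟨x, hxV⟩
    have := hV.isLocalization_stalk ⟨x, hxV⟩
    exact isReduced_localizationPreserves (R := Γ(X, V)) (hV.primeIdealOf ⟨x, hxV⟩).asIdeal.primeCompl _ inferInstance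
  exact isReduced_of_isReduced_stalk X

/-- Being reduced is local in the smooth topology: for a jointly surjective family of smooth morphisms f
i : X i ⟶ S, the scheme S is reduced if and only if every X i is reduced. -/
theorem result {ι : Type u} {S : Scheme.{u}} {X : ι → Scheme.{u}} (f : ∀ i, X i ⟶ S)
    (hf : Presieve.ofArrows X f ∈ Scheme.precoverage @Smooth S) :
    IsReduced S ↔ ∀ i, IsReduced (X i) := by
  obtain ⟨hsurj, hsm⟩ := (Scheme.ofArrows_mem_precoverage_iff _).1 hf
  constructor
  · intro hS i
    have := hsm i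
    exact isReduced_of_smooth (f i)
  · intro hX
    have : ∀ i, Smooth (f i) := hsm
    exact Groth.Agent.S9840.isReduced_of_flat_family f hsurj

end Groth.Agent.S9841
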