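import Groth.Statements.S9842
import Mathlib.AlgebraicGeometry.Morphisms.UniversallyOpen
import Mathlib.AlgebraicGeometry.PullbackCarrier

set_option autoImplicit false
open CategoryTheory CategoryTheory.Limits AlgebraicGeometry Opposite
universe u
open Desc

namespace Groth.Agent.S9842

/-- Dominance can be checked after an open surjective base change. -/
theorem isDominant_iff_of_isOpenMap_of_surjective {X Y Y' : Scheme.{u}} (f : X ⟶ Y) (g : Y' ⟶ Y)
    (hopen : IsOpenMap g) (hsurj : Function.Surjective g) :
    IsDominant f ↔ IsDominant (pullback.snd f g) := by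
  rw [isDominant_iff, isDominant_iff, DenseRange, DenseRange, Scheme.Pullback.range_snd]
  constructor
  · intro h
    exact h.preimage hopen
  · intro h
    have h' : Dense (⇑g ⁻¹' Set.range ⇑f) := h
    have := hsurj.denseRange.dense_image g.continuous h'
    rwa [Set.image_preimage_eq _ hsurj] at this

/-- Let E/k be a field extension, Y a scheme over k and f : X ⟶ Y a morphism. Writing Y_E = Y ×_k Spec
E, the morphism f is dominant if and only if its base change X ×_Y Y_E ⟶ Y_E is dominant. -/
theorem result {k E : Type u} [Field k] [Field E] [Algebra k E]
    {X Y : Scheme.{u}} (f : X ⟶ Y) (q : Y ⟶ Spec (.of k)) :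
    IsDominant f ↔
      IsDominant (pullback.snd f (pullback.fst q (Spec.map (CommRingCat.ofHom (algebraMap k E))))) := by
  apply isDominant_iff_of_isOpenMap_of_surjective
  · exact (pullback.fst q (Spec.map (CommRingCat.ofHom (algebraMap k E)))).isOpenMap
  · have : Surjective (Spec.map (CommRingCat.ofHom (algebraMap k E))) := by
      constructor
      intro x
      exact ⟨IsLocalRing.closedPoint E, Subsingleton.elim _ _⟩
    exact (pullback.fst q (Spec.map (CommRingCat.ofHom (algebraMap k E)))).surjective

end Groth.Agent.S9842
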