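import Groth.Statements.S9843
import Mathlib.AlgebraicGeometry.Morphisms.UniversallyOpen
import Mathlib.AlgebraicGeometry.PullbackCarrier

set_option autoImplicit false
open CategoryTheory CategoryTheory.Limits AlgebraicGeometry Opposite
universe u
open Desc

namespace Groth.Agent.S9843

/-- Dominance can be checked after base change along a jointly surjective family of open maps. -/
theorem isDominant_iff_of_family {ι : Type*} {X Y : Scheme.{u}} {U : ι → Scheme.{u}} (f : X ⟶ Y)
    (g : ∀ i, U i ⟶ Y) (hopen : ∀ i, IsOpenMap (g i)) (hsurj : ∀ y : Y, ∃ i, y ∈ Set.range (g i)) :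
    IsDominant f ↔ ∀ i, IsDominant (pullback.snd f (g i)) := by
  simp only [isDominant_iff, DenseRange, Scheme.Pullback.range_snd]
  constructor
  · intro h i
    exact h.preimage (hopen i)
  · intro h y
    rw [mem_closure_iff]
    intro O hO hyO
    obtain ⟨i, u, rfl⟩ := hsurj y
    have hO' : IsOpen (⇑(g i) ⁻¹' O) := hO.preimage (g i).continuous
    obtain ⟨u', hu'O, hu'⟩ := (h i).inter_open_nonempty _ hO' ⟨u, hyO⟩
    exact ⟨g i u', hu'O, hu'⟩

/-- Being dominant is fppf local on the base: for every fppf covering family Y i ⟶ Y (flat, locally of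
finite presentation, jointly surjective), a morphism X ⟶ Y is dominant if and only if all its base
changes X ×_Y Y i ⟶ Y i are. -/
theorem result :
    MorphismProperty.IsLocalAtTarget (@IsDominant : MorphismProperty Scheme.{u}) Scheme.fppfPrecoverage := by
  apply MorphismProperty.IsLocalAtTarget.mk_of_iff_of_zeroHypercover
  intro X Y f 𝒰
  have h𝒰 : Presieve.ofArrows 𝒰.X 𝒰.f ∈
      Scheme.precoverage (@Flat ⊓ @LocallyOfFinitePresentation) Y := 𝒰.mem₀
  rw [Scheme.ofArrows_mem_precoverage_iff] at h𝒰
  apply isDominant_iff_of_family f 𝒰.f _ h𝒰.1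
  intro i
  have : Flat (𝒰.f i) := (h𝒰.2 i).1
  have : LocallyOfFinitePresentation (𝒰.f i) := (h𝒰.2 i).2
  exact (𝒰.f i).isOpenMap

end Groth.Agent.S9843
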