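import Groth.Statements.S9845

set_option autoImplicit false
open CategoryTheory CategoryTheory.Limits AlgebraicGeometry Opposite
universe u
open Desc

namespace Groth.Agent.S9845

/-- Openness of the underlying map can be checked on a jointly surjective family of open maps
into the source. -/
theorem isOpenMap_iff_of_family {ι : Type*} {X Y : Scheme.{u}} {U : ι → Scheme.{u}} (f : X ⟶ Y)
    (g : ∀ i, U i ⟶ X) (hopen : ∀ i, IsOpenMap (g i)) (hsurj : ∀ x : X, ∃ i, x ∈ Set.range (g i)) :
    IsOpenMap f ↔ ∀ i, IsOpenMap (g i ≫ f) := by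
  constructor
  · intro h i
    have : ⇑(g i ≫ f) = ⇑f ∘ ⇑(g i) := by
      ext x; rfl
    rw [this]
    exact h.comp (hopen i)
  · intro h O hO
    have : ⇑f '' O = ⋃ i, ⇑(g i ≫ f) '' (⇑(g i) ⁻¹' O) := by
      ext y
      simp only [Set.mem_image, Set.mem_iUnion, Set.mem_preimage]
      constructor
      · rintro ⟨x, hx, rfl⟩
        obtain ⟨i, u, rfl⟩ := hsurj x
        exact ⟨i, u, hx, rfl⟩
      · rintro ⟨i, u, hu, rfl⟩
        exact ⟨g i u, hu, rfl⟩
    rw [this]
    exact isOpen_iUnion fun i => h i _ (hO.preimage (g i).continuous)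

/-- Being an open morphism (open underlying map) is fppf local on the source: for every fppf covering
family g i : X i ⟶ X, a morphism f : X ⟶ Y has open underlying map if and only if every composite g
i ≫ f does. -/
theorem result :
    MorphismProperty.IsLocalAtSource (topologically (fun f => IsOpenMap f) : MorphismProperty Scheme.{u})
      Scheme.fppfPrecoverage := by
  apply MorphismProperty.IsLocalAtSource.mk_of_iff_of_zeroHypercover
  intro X Y f 𝒰
  have h𝒰 : Presieve.ofArrows 𝒰.X 𝒰.f ∈
      Scheme.precoverage (@Flat ⊓ @LocallyOfFinitePresentation) X := 𝒰.mem₀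
  rw [Scheme.ofArrows_mem_precoverage_iff] at h𝒰
  apply isOpenMap_iff_of_family f 𝒰.f _ h𝒰.1
  intro i
  have : Flat (𝒰.f i) := (h𝒰.2 i).1
  have : LocallyOfFinitePresentation (𝒰.f i) := (h𝒰.2 i).2
  exact (𝒰.f i).isOpenMap

end Groth.Agent.S9845
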