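import Groth.Statements.S9846
import Groth.Agent.S9845
import Mathlib.AlgebraicGeometry.PullbackCarrier

set_option autoImplicit false
open CategoryTheory CategoryTheory.Limits AlgebraicGeometry Opposite
universe u
open Desc

namespace Groth.Agent.S9846

/-- Being universally open is fppf local on the source: for every fppf covering family g i : X i ⟶ X, a
morphism f : X ⟶ Y is universally open if and only if every composite g i ≫ f is. -/
theorem result :
    MorphismProperty.IsLocalAtSource (@UniversallyOpen : MorphismProperty Scheme.{u}) Scheme.fppfPrecoverage := by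
  apply MorphismProperty.IsLocalAtSource.mk_of_iff_of_zeroHypercover
  intro X Y f 𝒰
  have h𝒰 : Presieve.ofArrows 𝒰.X 𝒰.f ∈
      Scheme.precoverage (@Flat ⊓ @LocallyOfFinitePresentation) X := 𝒰.mem₀
  rw [Scheme.ofArrows_mem_precoverage_iff] at h𝒰
  have hfl : ∀ i, Flat (𝒰.f i) := fun i => (h𝒰.2 i).1
  have hfp : ∀ i, LocallyOfFinitePresentation (𝒰.f i) := fun i => (h𝒰.2 i).2
  constructor
  · intro h i
    infer_instance
  · intro h
    refine ⟨fun X' Y' i₁ i₂ f' hf => ?_⟩
    change IsOpenMap f'
    rw [Groth.Agent.S9845.isOpenMap_iff_of_family f' (fun i => pullback.fst i₁ (𝒰.f i))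
      (fun i => (pullback.fst i₁ (𝒰.f i)).isOpenMap)]
    · intro i
      have hpb : IsPullback (pullback.fst i₁ (𝒰.f i) ≫ f') (pullback.snd i₁ (𝒰.f i)) i₂
          (𝒰.f i ≫ f) :=
        ((IsPullback.of_hasPullback i₁ (𝒰.f i)).flip.paste_vert hf.flip).flip
      exact (h i).universally_isOpenMap _ _ _ hpb
    · intro x'
      obtain ⟨i, u, hu⟩ := h𝒰.1 (i₁ x')
      obtain ⟨z, hz, -⟩ := Scheme.Pullback.exists_preimage_pullback x' u hu.symm
      exact ⟨i, z, hz⟩

end Groth.Agent.S9846
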