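import Groth.Statements.S9847
-- import your own Groth.Agent.* helpers here
import Groth.Agent.Lib.AlgSpSrcCover
import Groth.Agent.Lib.AlgSpLocP

set_option autoImplicit false
open CategoryTheory CategoryTheory.Limits AlgebraicGeometry Opposite
universe u
open Desc

namespace Groth.Agent.S9847

/-- Being etale is etale local on the source: for every etale covering family g i : X i ⟶ X (etale,
jointly surjective), a morphism f : X ⟶ Y is etale if and only if every composite g i ≫ f is. -/
theorem result :
    MorphismProperty.IsLocalAtSource (@Etale : MorphismProperty Scheme.{u}) Scheme.etalePrecoverage := by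
  have : IsZariskiLocalAtSource @Etale.{u} := HasRingHomProperty.instIsZariskiLocalAtSource
  exact Groth.Agent.Lib.AlgSpSrcCover.isLocalAtSource_etale Groth.Agent.Lib.AlgSpLocP.etLocalClass_etale

end Groth.Agent.S9847
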