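import Groth.Statements.S9851
-- import your own Groth.Agent.* helpers here
import Groth.Agent.Lib.EffDescFamZarH52

set_option autoImplicit false
open CategoryTheory CategoryTheory.Limits AlgebraicGeometry Opposite
universe u
open Desc

namespace Groth.Agent.S9851

/-- Let f i : X i ⟶ S be a family of morphisms of schemes and X = ∐ X i with its morphism to S. The
canonical functor from descent data for schemes relative to X ⟶ S to descent data relative to the
family, which pulls a datum back along the coprojections X i ⟶ X, is an equivalence of categories.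
(The published statement names the quasi-inverse functor, sending a family (V i, φ ij) to (∐ V i, ∐
φ ij); asserting that the canonical pullback functor is an equivalence is the same result.) -/
theorem result {ι : Type u} {S : Scheme.{u}} {X : ι → Scheme.{u}} (f : ∀ i, X i ⟶ S) :
    (Desc.SchDDFam.ofSchDD (Sigma.desc f) ⋙
      Desc.pullDDFam (f := fun _ : PUnit.{u + 1} => Sigma.desc f) (f' := f) (α := fun _ => PUnit.unit)
        (p := 𝟙 S) (p' := fun i => Sigma.ι X i)
        (fun i => (Sigma.ι_desc f i).trans (Category.comp_id (f i)).symm)).IsEquivalence := by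
  classical
  let wpf : ∀ i, Sigma.ι X i ≫ (fun _ : PUnit.{u + 1} => Sigma.desc f) PUnit.unit = f i ≫ 𝟙 S :=
    fun i => (Sigma.ι_desc f i).trans (Category.comp_id (f i)).symm
  have H : ∀ i, Groth.Agent.Lib.SchDDFamFF.smallSieve (fun _ : PUnit.{u + 1} => Sigma.desc f) f i ∈
      Scheme.fpqcTopology (∐ X) := by
    intro i
    have hmem : Sieve.generate (Presieve.ofArrows X (Sigma.ι X)) ∈
        Scheme.zariskiTopology (∐ X) :=
      Precoverage.generate_mem_toGrothendieck (sigmaOpenCover X).mem₀
    refine Scheme.fpqcTopology.superset_covering ?_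
      (Scheme.zariskiTopology_le_fpqcTopology _ hmem)
    rintro T t ⟨Y, h, g, ⟨j⟩, e⟩
    exact ⟨j, h, by rw [← e, Category.assoc, Sigma.ι_desc]⟩
  have hfull := Groth.Agent.Lib.SchDDFamFF.full_of_mem_fpqcTopology
    (f := fun _ : PUnit.{u + 1} => Sigma.desc f) (f' := f) (α := fun _ => PUnit.unit)
    (p' := fun i => Sigma.ι X i) wpf H
  have hfaith := Groth.Agent.Lib.SchDDFamFF.faithful_of_mem_fpqcTopology
    (f := fun _ : PUnit.{u + 1} => Sigma.desc f) (f' := f) (α := fun _ => PUnit.unit)
    (p' := fun i => Sigma.ι X i) wpf H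
  have hess : (Desc.pullDDFam (f := fun _ : PUnit.{u + 1} => Sigma.desc f) (f' := f)
      (α := fun _ => PUnit.unit) (p := 𝟙 S) (p' := fun i => Sigma.ι X i) wpf).EssSurj := by
    refine ⟨fun D' => ?_⟩
    obtain ⟨V, ε, hε⟩ := Groth.Agent.Lib.EffDescFamH52.exists_universal_overFunctor_of_zariski
      (Sigma.desc f) (fun i : ι => i) (fun i => Sigma.ι X i) (fun i => Sigma.ι_desc f i)
      (fun b => by
        obtain ⟨i, x, hx⟩ := (sigmaOpenCover X).exists_eq b
        exact ⟨i, x, hx⟩) D'
    let R := Groth.Agent.Lib.EffDescFamH52.repDataOfUniversal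
      (g := fun _ : PUnit.{u + 1} => Sigma.desc f) (fun _ => ε) (fun _ => hε)
    exact ⟨Groth.Agent.Lib.EffDescFamH52.ddOfRep R,
      ⟨Groth.Agent.Lib.EffDescFamH52.pullDdOfRepIso
        (g := fun _ : PUnit.{u + 1} => Sigma.desc f) (α := fun _ => PUnit.unit)
        (p' := fun i => Sigma.ι X i) wpf R⟩⟩
  have hP : (Desc.pullDDFam (f := fun _ : PUnit.{u + 1} => Sigma.desc f) (f' := f)
      (α := fun _ => PUnit.unit) (p := 𝟙 S) (p' := fun i => Sigma.ι X i) wpf).IsEquivalence :=
    { faithful := hfaith, full := hfull, essSurj := hess }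
  have hO : (Desc.SchDDFam.ofSchDD.{u, u} (Sigma.desc f)).IsEquivalence :=
    inferInstanceAs (Desc.SchDDFam.oneEquiv.{u, u} (Sigma.desc f)).inverse.IsEquivalence
  exact inferInstance

end Groth.Agent.S9851
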