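import Groth.Statements.S9855
-- import your own Groth.Agent.* helpers here
import Groth.Agent.Lib.EffDescFamZarH52
import Groth.Agent.S9854

set_option autoImplicit false
open CategoryTheory CategoryTheory.Limits AlgebraicGeometry Opposite
universe u
open Desc

namespace Groth.Agent.S9855

/-- Let u i : U i ⟶ S and v j : V j ⟶ S be two families of morphisms with target S and (α, g) a morphism
of families over the identity of S, i.e. g i : U i ⟶ V (α i) with g i ≫ v (α i) = u i. Assume that
for every index j the family of those g i with α i = j is a Zariski covering of V j (jointly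
surjective open immersions). Then the pullback functor from descent data for schemes relative to (v
j) to descent data relative to (u i) is an equivalence of categories. -/
theorem result {ι κ : Type u} {S : Scheme.{u}} {U : ι → Scheme.{u}} {V : κ → Scheme.{u}}
    (u : ∀ i, U i ⟶ S) (v : ∀ j, V j ⟶ S) (α : ι → κ) (g : ∀ i, U i ⟶ V (α i)) (w : ∀ i, g i ≫ v (α i) = u i)
    (hcov : ∀ j, Presieve.ofArrows (fun i : {i // α i = j} => U i.1)
      (fun i => g i.1 ≫ eqToHom (congrArg V i.2)) ∈ Scheme.zariskiPrecoverage (V j)) :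
    (Desc.pullDDFam (f := v) (f' := u) (α := α) (p := 𝟙 S) (p' := g) (fun i => (w i).trans (Category.comp_id (u i)).symm)).IsEquivalence := by
  classical
  let wpf : ∀ i, g i ≫ v (α i) = u i ≫ 𝟙 S := fun i => (w i).trans (Category.comp_id (u i)).symm
  have hcov' : ∀ j, Presieve.ofArrows (fun i : {i // α i = j} => U i.1)
      (fun i => g i.1 ≫ eqToHom (congrArg V i.2)) ∈ Scheme.fpqcPrecoverage (V j) :=
    fun j => Scheme.zariskiPrecoverage_le_fpqcPrecoverage _ (hcov j)
  obtain ⟨hfull, hfaith⟩ := Groth.Agent.S9854.result u v α g w hcov'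
  have hess : (Desc.pullDDFam (f := v) (f' := u) (α := α) (p := 𝟙 S) (p' := g) wpf).EssSurj := by
    refine ⟨fun D' => ?_⟩
    have hex : ∀ j, ∃ (W : Scheme.{u})
        (ε : (Groth.Agent.Lib.EffDescFamH52.overFunctor D' (v j)).obj (Opposite.op W)),
        ∀ ⦃T : Scheme.{u}⦄ (γ : (Groth.Agent.Lib.EffDescFamH52.overFunctor D' (v j)).obj
          (Opposite.op T)), ∃! r : T ⟶ W,
            (Groth.Agent.Lib.EffDescFamH52.overFunctor D' (v j)).map r.op ε = γ := by
      intro j
      have hj := hcov j
      rw [Scheme.zariskiPrecoverage, Scheme.ofArrows_mem_precoverage_iff] at hj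
      have : ∀ a : {i // α i = j}, IsOpenImmersion (g a.1 ≫ eqToHom (congrArg V a.2)) := hj.2
      refine Groth.Agent.Lib.EffDescFamH52.exists_universal_overFunctor_of_zariski (v j)
        (fun a : {i // α i = j} => a.1) (fun a => g a.1 ≫ eqToHom (congrArg V a.2)) ?_ ?_ D'
      · rintro ⟨i, rfl⟩
        simpa using w i
      · intro b
        obtain ⟨a, ha⟩ := hj.1 b
        exact ⟨a, ha⟩
    choose W ε hε using hex
    let R := Groth.Agent.Lib.EffDescFamH52.repDataOfUniversal (g := v) ε hε
    exact ⟨Groth.Agent.Lib.EffDescFamH52.ddOfRep R,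
      ⟨Groth.Agent.Lib.EffDescFamH52.pullDdOfRepIso (g := v) (α := α) (p' := g) wpf R⟩⟩
  exact { faithful := hfaith, full := hfull, essSurj := hess }

end Groth.Agent.S9855
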