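import Groth.Statements.S9857
import Mathlib
import Groth.Agent.Lib.H30FibBC

set_option autoImplicit false
open CategoryTheory CategoryTheory.Limits AlgebraicGeometry Opposite
universe u
open Desc

namespace Groth.Agent.S9857

/-- The property of a morphism being locally of finite type with relative dimension d may be checked
fpqc locally on the target; the descent direction for the dimension condition, stated for a single
flat surjective quasi-compact base change g : Y' ⟶ Y of a morphism f : X ⟶ Y locally of finite type
and a cartesian square with base change f' : X' ⟶ Y': if every irreducible component of every fibre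
of f' has dimension d, then every irreducible component of every fibre of f has dimension d. (Local
finite type itself descends along g by a separate result; stability under base change is the other
direction.) -/
theorem result {X Y X' Y' : Scheme.{u}} (f : X ⟶ Y) [LocallyOfFiniteType f] (g : Y' ⟶ Y)
    [Flat g] [Surjective g] [QuasiCompact g] (g' : X' ⟶ X) (f' : X' ⟶ Y') (hsq : IsPullback g' f' f g)
    (d : ℕ) (h : Cyc.HasRelDim f' d) : Cyc.HasRelDim f d := by
  haveI : LocallyOfFiniteType f' := MorphismProperty.of_isPullback hsq inferInstance
  rw [Groth.Agent.Lib.H30FibBC.hasRelDim_iff] at h ⊢
  intro x
  haveI : Surjective g' := MorphismProperty.of_isPullback hsq.flip inferInstance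
  obtain ⟨x', rfl⟩ := g'.surjective x
  rw [← Groth.Agent.Lib.H30FibBC.fibreDimAt_eq_of_isPullback f g g' f' hsq x']
  exact h x'

end Groth.Agent.S9857
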