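import Groth.Statements.S9859
import Mathlib.AlgebraicGeometry.Morphisms.UniversallyOpen
import Mathlib.AlgebraicGeometry.Restrict

set_option autoImplicit false
set_option linter.style.haveILetI false
open CategoryTheory CategoryTheory.Limits AlgebraicGeometry Opposite
universe u
open Desc

namespace Groth.Agent.S9859

variable (P : MorphismProperty Scheme.{u})

/-- any two base changes of `f` along `g` have `P` simultaneously -/
theorem iff_snd [P.RespectsIso] {X Y X' Y' : Scheme.{u}} {f : X ⟶ Y} {g : Y' ⟶ Y} {fst : X' ⟶ X}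
    {f' : X' ⟶ Y'} (h : IsPullback fst f' f g) : P f' ↔ P (pullback.snd f g) := by
  rw [← P.cancel_left_of_respectsIso h.isoPullback.inv, h.isoPullback_inv_snd]

variable [MorphismProperty.IsLocalAtTarget P Scheme.fppfPrecoverage]

/-- Lemma C': base change along any flat lfp morphism preserves `P`. -/
theorem baseChange_of_flat {X Y Y' : Scheme.{u}} (f : X ⟶ Y) (g : Y' ⟶ Y) [Flat g]
    [LocallyOfFinitePresentation g] (hf : P f) : P (pullback.snd f g) := by
  let Ys : Bool → Scheme.{u} := fun b => if b then Y' else Y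
  let gs : ∀ b, Ys b ⟶ Y := fun b => match b with
    | true => g
    | false => 𝟙 Y
  have hR : Presieve.ofArrows Ys gs ∈ Scheme.fppfPrecoverage Y := by
    rw [Scheme.fppfPrecoverage, Scheme.ofArrows_mem_precoverage_iff]
    refine ⟨fun x => ⟨false, x, rfl⟩, fun b => ?_⟩
    cases b
    · exact ⟨inferInstanceAs (Flat (𝟙 Y)), inferInstanceAs (LocallyOfFinitePresentation (𝟙 Y))⟩
    · exact ⟨inferInstanceAs (Flat g), inferInstanceAs (LocallyOfFinitePresentation g)⟩
  exact MorphismProperty.IsLocalAtTarget.pullbackSnd hR (Presieve.ofArrows.mk (ι := Bool) true) hf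

/-- Lemma A': descent along a flat lfp surjective morphism. -/
theorem of_baseChange_of_flat_surjective {X Y Y' : Scheme.{u}} (f : X ⟶ Y) (g : Y' ⟶ Y) [Flat g]
    [LocallyOfFinitePresentation g] [Surjective g] (hf : P (pullback.snd f g)) : P f := by
  refine MorphismProperty.IsLocalAtTarget.of_forall_pullbackSnd
    (g.singleton_mem_fppfPrecoverage) ?_
  rintro U g' _ ⟨⟩
  exact hf

/-- the restriction `f ∣_ W` as a base change of `f` along `W.ι` -/
theorem isPullback_restrict {X Y : Scheme.{u}} (f : X ⟶ Y) (W : Y.Opens) :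
    IsPullback (f ⁻¹ᵁ W).ι (f ∣_ W) f W.ι := (isPullback_morphismRestrict f W).flip

/-- restriction to a smaller open is a base change of the restriction to the larger open -/
theorem isPullback_restrict_le {X Y : Scheme.{u}} (f : X ⟶ Y) {W₀ W : Y.Opens} (h : W₀ ≤ W) :
    IsPullback (X.homOfLE (f.preimage_mono h)) (f ∣_ W₀) (f ∣_ W) (Y.homOfLE h) := by
  refine IsPullback.of_right (h₁₂ := (f ⁻¹ᵁ W).ι) (h₂₂ := W.ι) (v₁₃ := f) ?_ ?_
    (isPullback_restrict f W)
  · rw [Scheme.homOfLE_ι, Scheme.homOfLE_ι]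
    exact isPullback_restrict f W₀
  · rw [← cancel_mono W.ι]
    simp only [Category.assoc, morphismRestrict_ι, Scheme.homOfLE_ι, Scheme.homOfLE_ι_assoc]

/-- Zariski locality: `P` holds over the supremum of the opens over which it holds. -/
theorem prop_sSup {X Y : Scheme.{u}} (f : X ⟶ Y) (S : Set Y.Opens)
    (hS : ∀ W₀ ∈ S, P (f ∣_ W₀)) : P (f ∣_ sSup S) := by
  let W : Y.Opens := sSup S
  have hR : Presieve.ofArrows (fun W₀ : S => (W₀.1 : Y.Opens).toScheme)
      (fun W₀ : S => Y.homOfLE (le_sSup W₀.2 : W₀.1 ≤ W)) ∈ Scheme.fppfPrecoverage W.toScheme := by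
    rw [Scheme.fppfPrecoverage, Scheme.ofArrows_mem_precoverage_iff]
    refine ⟨fun x => ?_, fun W₀ => ⟨inferInstance, inferInstance⟩⟩
    obtain ⟨W₀, hW₀, hx⟩ := TopologicalSpace.Opens.mem_sSup.mp x.2
    refine ⟨⟨W₀, hW₀⟩, ⟨x.1, hx⟩, ?_⟩
    apply W.ι.isOpenEmbedding.injective
    rw [← Scheme.Hom.comp_apply, Scheme.homOfLE_ι]
    rfl
  refine MorphismProperty.IsLocalAtTarget.of_forall_pullbackSnd hR ?_
  rintro U g _ ⟨W₀⟩
  rw [← iff_snd P (isPullback_restrict_le f (le_sSup W₀.2 : W₀.1 ≤ W))]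
  exact hS W₀.1 W₀.2

/-- part (3): if the base change of `f` along a flat lfp `g` has `P`, then `P` holds over the
(open) image of `g`. -/
theorem prop_restrict_range {X Y Y' : Scheme.{u}} (f : X ⟶ Y) (g : Y' ⟶ Y) [Flat g]
    [LocallyOfFinitePresentation g] (hP : P (pullback.snd f g)) :
    ∃ O : Y.Opens, (O : Set Y) = Set.range g ∧ P (f ∣_ O) := by
  let O : Y.Opens := ⟨Set.range g, g.isOpenMap.isOpen_range⟩
  refine ⟨O, rfl, ?_⟩
  let gO : Y' ⟶ O.toScheme := IsOpenImmersion.lift O.ι g (by simp [O])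
  have hgO : gO ≫ O.ι = g := IsOpenImmersion.lift_fac _ _ _
  haveI : Flat gO := by
    have : Flat (gO ≫ O.ι) := by rw [hgO]; infer_instance
    exact MorphismProperty.of_postcomp (W := @Flat) (W' := @IsOpenImmersion) gO O.ι
      inferInstance this
  haveI : LocallyOfFinitePresentation gO := by
    have : LocallyOfFinitePresentation (gO ≫ O.ι) := by rw [hgO]; infer_instance
    exact MorphismProperty.of_postcomp (W := @LocallyOfFinitePresentation)
      (W' := @IsOpenImmersion) gO O.ι inferInstance this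
  haveI : Surjective gO := by
    constructor
    rintro ⟨o, y', rfl⟩
    refine ⟨y', ?_⟩
    apply O.ι.isOpenEmbedding.injective
    rw [← Scheme.Hom.comp_apply, hgO]
    rfl
  apply of_baseChange_of_flat_surjective P (f ∣_ O) gO
  -- `pullback.snd (f ∣_ O) gO` is a base change of `f` along `g`
  have h1 : IsPullback (pullback.fst (f ∣_ O) gO) (pullback.snd (f ∣_ O) gO) (f ∣_ O) gO :=
    IsPullback.of_hasPullback _ _
  have h2 := h1.paste_horiz (isPullback_restrict f O)
  rw [hgO] at h2
  exact (iff_snd P h2).mpr hP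

/-- Case τ = fppf: let P be a property of morphisms of schemes which is fppf local on the base and f : X
⟶ Y a morphism. There is a largest open W of Y such that the restriction of f over W has P;
moreover, first, if g : Y' ⟶ Y is flat and locally of finite presentation and the base change of f
to Y' has P, then the image of g lies in W; and second, for such g the largest open of Y' over which
the base change of f has P is exactly g⁻¹(W). -/
theorem result (P : MorphismProperty Scheme.{u})
    [MorphismProperty.IsLocalAtTarget P Scheme.fppfPrecoverage] {X Y : Scheme.{u}} (f : X ⟶ Y) :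
    ∃ W : Y.Opens, P (f ∣_ W) ∧ (∀ W₀ : Y.Opens, P (f ∣_ W₀) → W₀ ≤ W) ∧
      (∀ (Y' : Scheme.{u}) (g : Y' ⟶ Y), Flat g → LocallyOfFinitePresentation g →
        P (pullback.snd f g) → Set.range g.base ⊆ (W : Set Y)) ∧
      (∀ (Y' : Scheme.{u}) (g : Y' ⟶ Y), Flat g → LocallyOfFinitePresentation g →
        ∀ W' : Y'.Opens, P (pullback.snd f g ∣_ W') → (∀ W₀ : Y'.Opens, P (pullback.snd f g ∣_ W₀) → W₀ ≤ W') →
          W' = g ⁻¹ᵁ W) := by
  let S : Set Y.Opens := {W₀ | P (f ∣_ W₀)}
  have hW : P (f ∣_ sSup S) := prop_sSup P f S (fun W₀ h => h)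
  have hmax : ∀ W₀ : Y.Opens, P (f ∣_ W₀) → W₀ ≤ sSup S := fun W₀ h => le_sSup h
  have h3 : ∀ (Y' : Scheme.{u}) (g : Y' ⟶ Y), Flat g → LocallyOfFinitePresentation g →
      P (pullback.snd f g) → Set.range g.base ⊆ ((sSup S : Y.Opens) : Set Y) := by
    intro Y' g _ _ hP
    obtain ⟨O, hO, hPO⟩ := prop_restrict_range P f g hP
    have := hmax O hPO
    intro y hy
    apply this
    change y ∈ (O : Set Y)
    rw [hO]
    exact hy
  refine ⟨sSup S, hW, hmax, h3, ?_⟩
  intro Y' g _ _ W' hW' hW'max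
  apply le_antisymm
  · -- `W' ≤ g⁻¹ W`
    have hsq : IsPullback ((pullback.snd f g ⁻¹ᵁ W').ι ≫ pullback.fst f g)
        (pullback.snd f g ∣_ W') f (W'.ι ≫ g) :=
      (isPullback_restrict (pullback.snd f g) W').paste_horiz (IsPullback.of_hasPullback f g)
    have hP' : P (pullback.snd f (W'.ι ≫ g)) := (iff_snd P hsq).mp hW'
    have := h3 _ (W'.ι ≫ g) inferInstance inferInstance hP'
    intro y hy
    apply this
    exact ⟨⟨y, hy⟩, rfl⟩
  · -- `g⁻¹ W ≤ W'`
    apply hW'max
    -- the restriction over `g⁻¹ W` is a base change of `f ∣_ W` along `g ∣_ W`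
    have hsq : IsPullback ((pullback.snd f g ⁻¹ᵁ (g ⁻¹ᵁ sSup S)).ι ≫ pullback.fst f g)
        (pullback.snd f g ∣_ (g ⁻¹ᵁ sSup S)) f ((g ⁻¹ᵁ sSup S).ι ≫ g) :=
      (isPullback_restrict (pullback.snd f g) (g ⁻¹ᵁ sSup S)).paste_horiz
        (IsPullback.of_hasPullback f g)
    rw [iff_snd P hsq]
    -- factor through `W`
    have h1 : IsPullback (pullback.fst (f ∣_ sSup S) (g ∣_ sSup S))
        (pullback.snd (f ∣_ sSup S) (g ∣_ sSup S)) (f ∣_ sSup S) (g ∣_ sSup S) :=
      IsPullback.of_hasPullback _ _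
    have h2 := h1.paste_horiz (isPullback_restrict f (sSup S))
    rw [morphismRestrict_ι] at h2
    rw [← iff_snd P h2]
    exact baseChange_of_flat P (f ∣_ sSup S) (g ∣_ sSup S) hW

end Groth.Agent.S9859
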