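import Groth.Statements.S9865
import Groth.Agent.Lib.SchDDFamFF

set_option autoImplicit false
open CategoryTheory CategoryTheory.Limits AlgebraicGeometry Opposite
universe u
open Desc

namespace Groth.Agent.S9865

/-- Let f : X' ⟶ X be a morphism of schemes over S, with structure morphisms a' : X' ⟶ S and a : X ⟶ S,
and assume there exists a morphism g : X ⟶ X' over S (for instance a section of f). Then the
pullback functor along f, from descent data for schemes relative to X ⟶ S to descent data relative
to X' ⟶ S, is an equivalence of categories. (Descent data relative to a single morphism are written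
as descent data relative to the corresponding one-member family.) -/
theorem result {X X' S : Scheme.{u}} (a : X ⟶ S) (a' : X' ⟶ S) (f : X' ⟶ X)
    (h : f ≫ a = a') (hg : ∃ g : X ⟶ X', g ≫ a' = a) :
    (Desc.pullDDFam (f := fun _ : PUnit.{u + 1} => a) (f' := fun _ : PUnit.{u + 1} => a') (α := fun j => j)
        (p := 𝟙 S) (p' := fun _ => f) (fun _ => (h).trans (Category.comp_id a').symm)).IsEquivalence := by
  obtain ⟨g, hg⟩ := hg
  have wg : ∀ _ : PUnit.{u + 1}, g ≫ a' = a ≫ 𝟙 S := fun _ => hg.trans (Category.comp_id a).symm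
  have H : ∀ j, Groth.Agent.Lib.SchDDFamFF.smallSieve (fun _ : PUnit.{u + 1} => a)
      (fun _ : PUnit.{u + 1} => a') j ∈ Scheme.fpqcTopology X := by
    intro j
    refine Scheme.fpqcTopology.superset_covering ?_ (Scheme.fpqcTopology.top_mem X)
    intro T t _
    exact ⟨PUnit.unit, t ≫ g, by rw [Category.assoc, hg]⟩
  have h1 := Groth.Agent.Lib.SchDDFamFF.full_of_mem_fpqcTopology
    (f := fun _ : PUnit.{u + 1} => a) (f' := fun _ : PUnit.{u + 1} => a') (α := fun j => j)
    (p' := fun _ => f) (fun _ => (h).trans (Category.comp_id a').symm) H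
  have h2 := Groth.Agent.Lib.SchDDFamFF.faithful_of_mem_fpqcTopology
    (f := fun _ : PUnit.{u + 1} => a) (f' := fun _ : PUnit.{u + 1} => a') (α := fun j => j)
    (p' := fun _ => f) (fun _ => (h).trans (Category.comp_id a').symm) H
  have h3 : (Desc.pullDDFam (f := fun _ : PUnit.{u + 1} => a) (f' := fun _ : PUnit.{u + 1} => a')
      (α := fun j => j) (p := 𝟙 S) (p' := fun _ => f)
      (fun _ => (h).trans (Category.comp_id a').symm)).EssSurj :=
    ⟨fun D' => ⟨_, Groth.Agent.Lib.SchDDFamFF.nonempty_pull_pull_iso
      (f := fun _ : PUnit.{u + 1} => a) (f' := fun _ : PUnit.{u + 1} => a') (α := fun j => j)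
      (p' := fun _ => f) (fun _ => (h).trans (Category.comp_id a').symm)
      (β := fun j => j) (q' := fun _ => g) wg D'⟩⟩
  exact { }

end Groth.Agent.S9865
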