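import Groth.Statements.S9871
import Groth.Agent.Lib.H69AlgSp

set_option autoImplicit false
universe u
open CategoryTheory CategoryTheory.Limits AlgebraicGeometry
open AlgSp

namespace Groth.Agent.S9871

section aux

variable {S : Scheme.{u}} {R U R' U' : Over S} (s t : R ⟶ U) (g : U' ⟶ U) (s' t' : R' ⟶ U') (r : R' ⟶ R)

theorem etale_of_restr (w1 : t' ≫ g = r ≫ t) (w2 : s' ≫ g = r ≫ s)
    (hlift : ∀ {T : Over S} (a b : T ⟶ U') (ρ : T ⟶ R), ρ ≫ t = a ≫ g → ρ ≫ s = b ≫ g →
      ∃ r' : T ⟶ R', r' ≫ t' = a ∧ r' ≫ s' = b ∧ r' ≫ r = ρ)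
    (hext : ∀ {T : Over S} (r₁ r₂ : T ⟶ R'), r₁ ≫ t' = r₂ ≫ t' → r₁ ≫ s' = r₂ ≫ s' → r₁ ≫ r = r₂ ≫ r →
      r₁ = r₂) [Etale s.left] [Etale g.left] : Etale s'.left := by
  let l : R' ⟶ pullback g s := pullback.lift s' r w2
  have hl1 : l ≫ pullback.fst g s = s' := pullback.lift_fst _ _ _
  have hl2 : l ≫ pullback.snd g s = r := pullback.lift_snd _ _ _
  have hw : t' ≫ g = l ≫ pullback.snd g s ≫ t := by rw [← Category.assoc, hl2, w1]
  have key : ∀ c : PullbackCone g (pullback.snd g s ≫ t),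
      ∃ r' : c.pt ⟶ R', r' ≫ t' = c.fst ∧ r' ≫ s' = c.snd ≫ pullback.fst g s ∧
        r' ≫ r = c.snd ≫ pullback.snd g s := by
    intro c
    refine hlift c.fst (c.snd ≫ pullback.fst g s) (c.snd ≫ pullback.snd g s) ?_ ?_
    · rw [Category.assoc, c.condition]
    · rw [Category.assoc, Category.assoc, pullback.condition]
  have sqB : IsPullback t' l g (pullback.snd g s ≫ t) := by
    refine ⟨⟨hw⟩, ⟨PullbackCone.IsLimit.mk _ (fun c => (key c).choose) (fun c => (key c).choose_spec.1)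
      (fun c => ?_) (fun c m h1 h2 => ?_)⟩⟩
    · apply pullback.hom_ext
      · rw [Category.assoc, hl1, (key c).choose_spec.2.1]
      · rw [Category.assoc, hl2, (key c).choose_spec.2.2]
    · apply hext
      · rw [h1, (key c).choose_spec.1]
      · rw [(key c).choose_spec.2.1, ← h2, Category.assoc, hl1]
      · rw [(key c).choose_spec.2.2, ← h2, Category.assoc, hl2]
  have sqA := IsPullback.of_hasPullback g s
  have h1 : Etale l.left :=
    MorphismProperty.of_isPullback (P := @Etale) (sqB.map (Over.forget S)) ‹Etale g.left›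
  have h2 : Etale (pullback.fst g s).left :=
    MorphismProperty.of_isPullback (P := @Etale) (sqA.flip.map (Over.forget S)) ‹Etale s.left›
  have e : s'.left = l.left ≫ (pullback.fst g s).left := by rw [← Over.comp_left, hl1]
  rw [e]
  infer_instance

end aux

end Groth.Agent.S9871

namespace Groth.Agent.S9871

/-- Let `s, t : R ⟶ U` be an etale equivalence relation on a scheme `U` over `S` and let `g : U' ⟶ U` be
an etale morphism over `S`. Let `s', t' : R' ⟶ U'` be the restriction to `U'`: `R'`, with `(t', s')`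
and `R' ⟶ R`, is the fibre product of `U' ×_S U'` and `R` over `U ×_S U`. Then `s', t'` is again an
etale equivalence relation. -/
theorem result (S : Scheme.{u}) {R U R' U' : Over S} (s t : R ⟶ U)
    (g : U' ⟶ U) (s' t' : R' ⟶ U') (r : R' ⟶ R)
    (hsq : IsPullback (prod.lift t' s') r (prod.map g g) (prod.lift t s))
    (h : AlgSp.IsEtaleEqvRel s t) [Etale g.left] :
    AlgSp.IsEtaleEqvRel s' t' := by
  have hfst : prod.lift t' s' ≫ prod.map g g = prod.lift (t' ≫ g) (s' ≫ g) := prod.lift_map _ _ _ _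
  have w1 : t' ≫ g = r ≫ t := by
    have h1 := congrArg (fun m => m ≫ prod.fst) hsq.w
    simp only [Category.assoc, prod.map_fst, Limits.prod.lift_fst, Limits.prod.lift_fst_assoc] at h1
    exact h1
  have w2 : s' ≫ g = r ≫ s := by
    have h1 := congrArg (fun m => m ≫ prod.snd) hsq.w
    simp only [Category.assoc, prod.map_snd, Limits.prod.lift_snd, Limits.prod.lift_snd_assoc] at h1
    exact h1
  have hlift : ∀ {T : Over S} (a b : T ⟶ U') (ρ : T ⟶ R), ρ ≫ t = a ≫ g → ρ ≫ s = b ≫ g →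
      ∃ r' : T ⟶ R', r' ≫ t' = a ∧ r' ≫ s' = b ∧ r' ≫ r = ρ := by
    intro T a b ρ h1 h2
    have e2 : prod.lift a b ≫ prod.map g g = ρ ≫ prod.lift t s := by
      rw [prod.lift_map, prod.comp_lift, h1, h2]
    have h0 := hsq.lift_fst _ _ e2
    refine ⟨hsq.lift _ _ e2, ?_, ?_, hsq.lift_snd _ _ e2⟩
    · have h3 := congrArg (fun m => m ≫ prod.fst) h0
      rw [Category.assoc, Limits.prod.lift_fst, Limits.prod.lift_fst] at h3
      exact h3
    · have h3 := congrArg (fun m => m ≫ prod.snd) h0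
      rw [Category.assoc, Limits.prod.lift_snd, Limits.prod.lift_snd] at h3
      exact h3
  have hext : ∀ {T : Over S} (r₁ r₂ : T ⟶ R'), r₁ ≫ t' = r₂ ≫ t' → r₁ ≫ s' = r₂ ≫ s' → r₁ ≫ r = r₂ ≫ r →
      r₁ = r₂ := by
    intro T r₁ r₂ h1 h2 h3
    apply hsq.hom_ext
    · rw [prod.comp_lift, prod.comp_lift, h1, h2]
    · exact h3
  have rel_iff : ∀ (T : Over S) (a b : T ⟶ U'), (∃ r' : T ⟶ R', r' ≫ t' = a ∧ r' ≫ s' = b) ↔
      ∃ ρ : T ⟶ R, ρ ≫ t = a ≫ g ∧ ρ ≫ s = b ≫ g := by
    intro T a b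
    constructor
    · rintro ⟨r', rfl, rfl⟩
      exact ⟨r' ≫ r, by rw [Category.assoc, Category.assoc, w1], by rw [Category.assoc, Category.assoc, w2]⟩
    · rintro ⟨ρ, h1, h2⟩
      obtain ⟨r', h3, h4, -⟩ := hlift a b ρ h1 h2
      exact ⟨r', h3, h4⟩
  have hse : Etale s.left := h.etale_left
  have hte : Etale t.left := h.etale_right
  refine ⟨⟨?_, ?_⟩, ?_, ?_⟩
  · intro T r₁ r₂ h1 h2
    refine hext r₁ r₂ h1 h2 ?_
    apply h.injective
    · rw [Category.assoc, Category.assoc, ← w1, ← Category.assoc, ← Category.assoc, h1]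
    · rw [Category.assoc, Category.assoc, ← w2, ← Category.assoc, ← Category.assoc, h2]
  · intro T
    have hE := h.equivalence T
    refine ⟨fun a => (rel_iff T a a).2 (hE.refl (a ≫ g)),
      fun {a b} hab => (rel_iff T b a).2 (hE.symm ((rel_iff T a b).1 hab)),
      fun {a b c} hab hbc => (rel_iff T a c).2 (hE.trans ((rel_iff T a b).1 hab) ((rel_iff T b c).1 hbc))⟩
  · exact etale_of_restr s t g s' t' r w1 w2 hlift hext
  · exact etale_of_restr t s g t' s' r w2 w1
      (fun a b ρ h1 h2 => by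
        obtain ⟨r', h3, h4, h5⟩ := hlift b a ρ h2 h1
        exact ⟨r', h4, h3, h5⟩)
      (fun r₁ r₂ h1 h2 h3 => hext r₁ r₂ h2 h1 h3)

end Groth.Agent.S9871
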