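import Groth.Statements.S9876
import Groth.Agent.Lib.H69PSp
import Groth.Agent.Lib.H86Coprod

set_option autoImplicit false
universe u
open CategoryTheory CategoryTheory.Limits AlgebraicGeometry
open AlgSp

namespace Groth.Agent.S9876

/-- Let `X` be an algebraic space over `S` and `G` a presheaf of sets on schemes over `S` with a map `a
: G ⟶ X` of presheaves which is representable by schemes. Then `G` is an fppf sheaf and an algebraic
space over `S`. -/
theorem result (S : Scheme.{u}) (X : AlgSp.Space S)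
    (G : AlgSp.PSp S) (a : G ⟶ X.obj.obj) (ha : (AlgSp.pyon S).relativelyRepresentable a) :
    AlgSp.IsAlgSpaceP G := by
  have hsheaf : Presheaf.IsSheaf (AlgSp.J S) G :=
    Groth.Agent.Lib.H69PSp.isSheaf_of_relativelyRepresentable a ha X.obj.property
  refine ⟨hsheaf, ?_⟩
  let F : AlgSp.Sp S := ⟨G, hsheaf⟩
  let f : F ⟶ X.obj := ⟨a⟩
  refine Groth.Agent.Lib.H86Coprod.isAlgSpace_of_representable f ?_ X.property
  intro T z
  obtain ⟨V, snd, fst, H⟩ := ha z.hom
  let fst' : (AlgSp.yon S).obj V ⟶ F := ⟨fst⟩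
  refine ⟨V, snd, fst', ?_⟩
  refine IsPullback.of_map (sheafToPresheaf (AlgSp.J S) (Type (u + 1))) ?_ H
  apply Sheaf.hom_ext
  exact H.w

end Groth.Agent.S9876
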