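import Groth.Statements.S9879
import Groth.Agent.Lib.H86CoprodSp

set_option linter.style.haveILetI false

set_option autoImplicit false
universe u
open CategoryTheory CategoryTheory.Limits AlgebraicGeometry
open AlgSp

namespace Groth.Agent.S9879

/-- Let `U` be a scheme over `S` and `F_i` a family of fppf sheaves of sets over `S` whose coproduct in
sheaves is isomorphic to `h_U`. Then each `F_i` is representable by a scheme `V_i` over `S` such
that `V_i ⟶ U` (the morphism inducing `h_{V_i} ≅ F_i ⟶ ∐ F_i ≅ h_U`) is an open and closed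
immersion, and `U` is the coproduct of the `V_i` in schemes. -/
theorem result (S : Scheme.{u}) (U : Over S) {ι : Type u}
    (F : ι → AlgSp.Sp S) (c : Cofan F) (hc : IsColimit c) (e : c.pt ≅ (AlgSp.yon S).obj U) :
    ∃ (V : ι → Over S) (g : ∀ i, V i ⟶ U) (ei : ∀ i, (AlgSp.yon S).obj (V i) ≅ F i),
      (∀ i, IsOpenImmersion (g i).left ∧ IsClosedImmersion (g i).left) ∧
      (∀ i, (ei i).hom ≫ c.inj i ≫ e.hom = (AlgSp.yon S).map (g i)) ∧
      Nonempty (IsColimit (Cofan.mk U.left (fun i => (g i).left))) := by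
  classical
  -- the cofan transported to `h_U`
  let c' : Cofan F := Cofan.mk ((AlgSp.yon S).obj U) (fun i => c.inj i ≫ e.hom)
  have hc' : IsColimit c' := IsColimit.ofIsoColimit hc (Cofan.ext e (fun i => rfl))
  have hrep : ∀ i, AlgSp.RepWith (@IsOpenImmersion ⊓ @IsClosedImmersion) (c.inj i ≫ e.hom) :=
    fun i => Groth.Agent.Lib.H86Coprod.repWith_inj_of_isColimit c' hc' i
  choose V g fst sq using fun i => (hrep i).1 (𝟙 ((AlgSp.yon S).obj U))
  have hiso : ∀ i, IsIso (fst i) := fun i => (sq i).isIso_fst_of_isIso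
  have hw : ∀ i, fst i ≫ c.inj i ≫ e.hom = (AlgSp.yon S).map (g i) := fun i => by
    have := (sq i).w
    rwa [Category.comp_id] at this
  have hoc : ∀ i, IsOpenImmersion (g i).left ∧ IsClosedImmersion (g i).left := fun i =>
    (hrep i).2 (𝟙 _) (fst i) (g i) (sq i)
  refine ⟨V, g, fun i => asIso (fst i), hoc, hw, ?_⟩
  haveI : ∀ i, IsOpenImmersion (g i).left := fun i => (hoc i).1
  apply nonempty_isColimit_cofanMk_of
  · -- covering
    rw [eq_top_iff]
    intro x _
    have h := Groth.Agent.S10228.points_eq_iUnion_range F c' hc'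
    have hx : AlgSp.Points.ofPt (𝟙 ((AlgSp.yon S).obj U)) x ∈
        ⋃ i, Set.range (AlgSp.Points.map (c'.inj i)) := by rw [h]; trivial
    obtain ⟨i, hi⟩ := Set.mem_iUnion.1 hx
    have hr := Groth.Agent.Lib.H86AlgSpSub.range_left_eq_preimage (sq i)
    have hxr : x ∈ Set.range (g i).left := by rw [hr]; exact hi
    exact TopologicalSpace.Opens.mem_iSup.2 ⟨i, hxr⟩
  · -- disjointness
    intro i k hik
    change Disjoint (g i).left.opensRange (g k).left.opensRange
    rw [disjoint_iff, eq_bot_iff]
    rintro x ⟨⟨a, ha⟩, ⟨b, hb⟩⟩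
    exfalso
    have sqO : IsPullback (pullback.fst (g i) (g k)) (pullback.snd (g i) (g k)) (g i) (g k) :=
      IsPullback.of_hasPullback _ _
    have sqS := sqO.map (Over.forget S)
    obtain ⟨p, -, -⟩ := Scheme.exists_preimage_of_isPullback sqS a b (ha.trans hb.symm)
    have hE : IsEmpty ↥(pullback (g i) (g k)).left := by
      refine Groth.Agent.Lib.H86Coprod.isEmpty_of_inj_comp_eq c hc hik.symm
        ((AlgSp.yon S).map (pullback.fst (g i) (g k)) ≫ fst i)
        ((AlgSp.yon S).map (pullback.snd (g i) (g k)) ≫ fst k) ?_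
      rw [← cancel_mono e.hom]
      simp only [Category.assoc]
      rw [hw i, hw k, ← Functor.map_comp, ← Functor.map_comp, sqO.w]
    exact hE.false p

end Groth.Agent.S9879
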