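import Groth.Statements.S9908
-- import your own Groth.Agent.* helpers here
import Groth.Agent.Lib.AlgSpPoints

set_option autoImplicit false
universe u
open CategoryTheory CategoryTheory.Limits AlgebraicGeometry
open AlgSp

namespace Groth.Agent.S9908

/-- For a morphism of algebraic spaces representable by schemes, representable universal openness is
equivalent to openness of |Z x_Y X| -> |Z| after every base change along a morphism of algebraic
spaces. -/
theorem result {S : Scheme.{u}} {X Y : AlgSp.Space S} (f : X ⟶ Y)
    (hf : AlgSp.Representable f.hom) :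
    AlgSp.RepWith @UniversallyOpen f.hom ↔ AlgSp.IsUnivOpenMor f.hom := by
  constructor
  · intro h
    refine Groth.Agent.Lib.AlgSpPoints.univSp_of_repWith (Q := AlgSp.IsOpenMor)
      (P := @UniversallyOpen) (fun F G f hf => ?_) h
    refine Groth.Agent.Lib.AlgSpPoints.isOpenMap_map_of_representable hf.rep fun T g => ?_
    have : UniversallyOpen (hf.rep.snd g).left := hf.property_snd g
    exact (hf.rep.snd g).left.isOpenMap
  · intro h
    rw [UniversallyOpen.eq]
    exact Groth.Agent.Lib.AlgSpPoints.repWith_universally_of_univSp (Q := AlgSp.IsOpenMor)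
      (fun T T' φ hφ => (Groth.Agent.Lib.AlgSpPoints.isOpenMap_map_yon_map_iff φ).1 hφ) hf h

end Groth.Agent.S9908
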