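import Groth.Statements.S9913
-- import your own Groth.Agent.* helpers here
import Groth.Agent.Lib.AlgSpDescent

set_option autoImplicit false
universe u
open CategoryTheory CategoryTheory.Limits AlgebraicGeometry
open AlgSp

namespace Groth.Agent.S9913

/-- For a quasi-compact morphism of algebraic spaces, the induced map on points pulls quasi-compact
opens back to quasi-compact subsets. -/
theorem result {S : Scheme.{u}} {X Y : AlgSp.Space S} (f : X ⟶ Y)
    (hf : AlgSp.IsQuasiCompactMor f.hom) (V : Set (AlgSp.Points Y.obj)) (hV : IsOpen V) (hVc : IsCompact V) :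
    IsCompact (AlgSp.Points.map f.hom ⁻¹' V) := by
  classical
  obtain ⟨A, q, hqe, hqs⟩ := Y.property.atlas
  have hopen := Groth.Agent.Lib.AlgSpQC.isOpenMap_ofPt_of_repWith_etale hqe
  have hsurj := Groth.Agent.Lib.AlgSpQC.surjective_ofPt_of_repWith_surjective hqs
  have hcont := AlgSp.Points.continuous_ofPt q
  -- affine opens of `A` mapping into `V`
  obtain ⟨t, ht⟩ := hVc.elim_finite_subcover
    (fun W : {W : A.left.affineOpens // AlgSp.Points.ofPt q '' (W.1.1 : Set ↥A.left) ⊆ V} =>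
      AlgSp.Points.ofPt q '' (W.1.1 : Set ↥A.left))
    (fun W => hopen _ W.1.1.isOpen) (by
      intro y hy
      obtain ⟨a, rfl⟩ := hsurj y
      obtain ⟨_, ⟨W, hW, rfl⟩, haW, hWV⟩ := (A.left.isBasis_affineOpens).exists_subset_of_mem_open
        (show a ∈ AlgSp.Points.ofPt q ⁻¹' V from hy) (hcont.isOpen_preimage _ hV)
      exact Set.mem_iUnion.2 ⟨⟨⟨W, hW⟩, Set.image_subset_iff.2 hWV⟩, a, haW, rfl⟩)
  let A₀ : A.left.Opens := ⨆ W ∈ t, W.1.1
  have hA₀c : IsCompact (A₀ : Set ↥A.left) := by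
    have : (A₀ : Set ↥A.left) = ⋃ W ∈ t, (W.1.1 : Set ↥A.left) := by simp [A₀]
    rw [this]
    exact t.finite_toSet.isCompact_biUnion fun W _ => W.1.2.isCompact
  have hA₀V : ∀ a : ↥A₀, AlgSp.Points.ofPt q a.1 ∈ V := by
    intro a
    have := a.2
    simp only [A₀, TopologicalSpace.Opens.mem_iSup] at this
    obtain ⟨W, -, haW⟩ := this
    exact W.2 ⟨a.1, haW, rfl⟩
  have hVA₀ : ∀ y ∈ V, ∃ a : ↥A₀, AlgSp.Points.ofPt q a.1 = y := by
    intro y hy
    have := ht hy
    simp only [Set.mem_iUnion, Set.mem_image] at this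
    obtain ⟨W, hW, a, haW, rfl⟩ := this
    have haA₀ : a ∈ A₀ := by
      simp only [A₀, TopologicalSpace.Opens.mem_iSup]
      exact ⟨W, hW, haW⟩
    exact ⟨⟨a, haA₀⟩, rfl⟩
  -- the quasi-compact algebraic space `h_{A₀}` and its base change
  have hA₀qc : AlgSp.IsQuasiCompactSp ((AlgSp.yon S).obj (Over.mk (A₀.ι ≫ A.hom))) :=
    (Groth.Agent.Lib.AlgSpQC.isQuasiCompactSp_yon_iff _).2 (isCompact_iff_compactSpace.1 hA₀c)
  have sqP := IsPullback.of_hasPullback f.hom (Groth.Agent.Lib.AlgSpPoints.restrictChart q A₀)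
  have hP : AlgSp.IsQuasiCompactSp (pullback f.hom (Groth.Agent.Lib.AlgSpPoints.restrictChart q A₀)) :=
    hf (AlgSp.IsAlgSpace.yon_obj _) hA₀qc _ _ _ sqP
  have hPc := Groth.Agent.Lib.AlgSpQC.compactSpace_points_of_isQuasiCompactSp hP
  have key : AlgSp.Points.map f.hom ⁻¹' V =
      Set.range (AlgSp.Points.map (pullback.fst f.hom (Groth.Agent.Lib.AlgSpPoints.restrictChart q A₀))) := by
    ext x
    constructor
    · intro hx
      obtain ⟨a, ha⟩ := hVA₀ _ hx
      have e : AlgSp.Points.map f.hom x = AlgSp.Points.map (Groth.Agent.Lib.AlgSpPoints.restrictChart q A₀)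
          (AlgSp.Points.ofScheme _ a) := by
        rw [← AlgSp.Points.ofPt_eq_map_ofScheme, Groth.Agent.Lib.AlgSpPoints.ofPt_restrictChart, ha]
      obtain ⟨p, hp, -⟩ := Groth.Agent.Lib.AlgSpPoints.exists_point_of_isPullback sqP x _ e
      exact ⟨p, hp⟩
    · rintro ⟨p, rfl⟩
      change AlgSp.Points.map f.hom (AlgSp.Points.map _ p) ∈ V
      rw [← AlgSp.Points.map_comp, sqP.w, AlgSp.Points.map_comp]
      obtain ⟨a, ha⟩ := (AlgSp.Points.schemeHomeo _).surjective
        (AlgSp.Points.map (pullback.snd f.hom (Groth.Agent.Lib.AlgSpPoints.restrictChart q A₀)) p)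
      rw [← ha]
      change AlgSp.Points.map _ (AlgSp.Points.ofScheme _ a) ∈ V
      rw [← AlgSp.Points.ofPt_eq_map_ofScheme, Groth.Agent.Lib.AlgSpPoints.ofPt_restrictChart]
      exact hA₀V a
  rw [key]
  exact isCompact_range (AlgSp.Points.continuous_map _)

end Groth.Agent.S9913
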