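import Groth.Statements.S9917
-- import your own Groth.Agent.* helpers here
import Groth.Agent.Lib.AlgSpFibre
import Groth.Agent.Lib.AlgSpQC

set_option autoImplicit false
universe u
open CategoryTheory CategoryTheory.Limits AlgebraicGeometry
open AlgSp

namespace Groth.Agent.S9917

/-- (1) ⇔ (3): a morphism of algebraic spaces is quasi-compact if and only if its base change to every
affine scheme over the target is a quasi-compact algebraic space. -/
theorem result {S : Scheme.{u}} {X Y : AlgSp.Space S} (f : X ⟶ Y) :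
    AlgSp.IsQuasiCompactMor f.hom ↔
      ∀ (Z : Over S), IsAffine Z.left → ∀ (g : (AlgSp.yon S).obj Z ⟶ Y.obj) (P : AlgSp.Sp S)
        (fst : P ⟶ X.obj) (snd : P ⟶ (AlgSp.yon S).obj Z), IsPullback fst snd f.hom g →
        AlgSp.IsQuasiCompactSp P := by
  constructor
  · intro h Z hZ g P fst snd sq
    have : CompactSpace ↥Z.left := by infer_instance
    exact h (AlgSp.IsAlgSpace.yon_obj Z) ((Groth.Agent.Lib.AlgSpQC.isQuasiCompactSp_yon_iff Z).2 this)
      g fst snd sq
  · intro H T T' hT hTqc g fst snd sq
    have hT' : AlgSp.IsAlgSpace T' :=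
      Groth.Agent.Lib.AlgSpFibre.isAlgSpace_of_isPullback Y.property.diag X.property hT sq
    refine Groth.Agent.Lib.AlgSpQC.isQuasiCompactSp_of_affine_base_change hT' hTqc snd
      fun Z hZ g' P a b sqP => ?_
    exact Groth.Agent.Lib.AlgSpQC.compactSpace_points_of_isQuasiCompactSp
      (H Z hZ (g' ≫ g) P (a ≫ fst) b (sqP.paste_horiz sq))

end Groth.Agent.S9917
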