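import Groth.Statements.S9927
-- import your own Groth.Agent.* helpers here
import Groth.Agent.Lib.H69AlgSp
import Groth.Agent.Lib.SheafEpi

set_option autoImplicit false
universe u
open CategoryTheory CategoryTheory.Limits AlgebraicGeometry
open AlgSp

namespace Groth.Agent.S9927

/-- (4) ⇒ (1): being a monomorphism descends along a surjective etale base change from a scheme. -/
theorem result {S : Scheme.{u}} {X Y : AlgSp.Space S} (f : X ⟶ Y) (V : Over S)
    (p : (AlgSp.yon S).obj V ⟶ Y.obj) (hp : AlgSp.RepWith @Etale p) (hps : AlgSp.RepWith @Surjective p)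
    {P : AlgSp.Sp S} (fst : P ⟶ X.obj) (snd : P ⟶ (AlgSp.yon S).obj V) (sq : IsPullback fst snd f.hom p)
    [Mono snd] : Mono f.hom := by
  have hls : Sheaf.IsLocallySurjective p :=
    Groth.Agent.Lib.H69AlgSp.isLocallySurjective_of_etale_surjective p hp hps
  have hepi : Epi p := (Sheaf.isLocallySurjective_iff_epi p).1 hls
  constructor
  intro W a b hab
  have sq' := IsPullback.of_hasPullback (a ≫ f.hom) p
  have hπ : Epi (pullback.fst (a ≫ f.hom) p) := Groth.Agent.Lib.SheafEpi.epi_of_isPullback _ sq'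
  have e1 : (pullback.fst (a ≫ f.hom) p ≫ a) ≫ f.hom = pullback.snd (a ≫ f.hom) p ≫ p := by
    rw [Category.assoc, pullback.condition]
  have e2 : (pullback.fst (a ≫ f.hom) p ≫ b) ≫ f.hom = pullback.snd (a ≫ f.hom) p ≫ p := by
    rw [Category.assoc, ← hab, pullback.condition]
  have h1 : sq.lift _ _ e1 = sq.lift _ _ e2 := by
    rw [← cancel_mono snd, sq.lift_snd, sq.lift_snd]
  have h2 : pullback.fst (a ≫ f.hom) p ≫ a = pullback.fst (a ≫ f.hom) p ≫ b := by
    rw [← sq.lift_fst _ _ e1, h1, sq.lift_fst]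
  exact (cancel_epi _).1 h2

end Groth.Agent.S9927
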