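import Groth.Statements.S9928
-- import your own Groth.Agent.* helpers here

set_option autoImplicit false
universe u
open CategoryTheory CategoryTheory.Limits AlgebraicGeometry
open AlgSp

namespace Groth.Agent.S9928

open AlgSp in
/-- A morphism of fppf sheaves representable by monomorphisms of schemes is a monomorphism. -/
theorem mono_of_repWith {S : Scheme.{u}} {P : MorphismProperty Scheme.{u}}
    (hP : ∀ ⦃X Y : Scheme.{u}⦄ (f : X ⟶ Y), P f → Mono f) {F G : Sp S} {f : F ⟶ G}
    (hf : RepWith P f) : Mono f := by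
  constructor
  intro W a b hab
  apply GrothendieckTopology.hom_ext_uliftYoneda.{u+1} (J S)
  intro T p
  have hab' : (p ≫ a) ≫ f = (p ≫ b) ≫ f := by simp only [Category.assoc, hab]
  have sq := hf.rep.isPullback ((p ≫ a) ≫ f)
  obtain ⟨sa, hsa⟩ := (yon S).map_surjective (sq.lift (p ≫ a) (𝟙 _) (by simp))
  obtain ⟨sb, hsb⟩ := (yon S).map_surjective (sq.lift (p ≫ b) (𝟙 _) (by simp [hab']))
  have h1 : sa ≫ hf.rep.snd ((p ≫ a) ≫ f) = 𝟙 _ := (yon S).map_injective (by
    rw [Functor.map_comp, hsa, sq.lift_snd, CategoryTheory.Functor.map_id])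
  have h2 : sb ≫ hf.rep.snd ((p ≫ a) ≫ f) = 𝟙 _ := (yon S).map_injective (by
    rw [Functor.map_comp, hsb, sq.lift_snd, CategoryTheory.Functor.map_id])
  have hm : Mono (hf.rep.snd ((p ≫ a) ≫ f)).left := hP _ (hf.property_snd _)
  have hs : sa = sb := by
    apply Over.OverMorphism.ext
    rw [← cancel_mono (hf.rep.snd ((p ≫ a) ≫ f)).left, ← Over.comp_left, ← Over.comp_left, h1, h2]
  calc p ≫ a = (yon S).map sa ≫ hf.rep.fst ((p ≫ a) ≫ f) := by rw [hsa, sq.lift_fst]
    _ = (yon S).map sb ≫ hf.rep.fst ((p ≫ a) ≫ f) := by rw [hs]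
    _ = p ≫ b := by rw [hsb, sq.lift_fst]


/-- A morphism of algebraic spaces that is representable by immersions is a monomorphism of fppf
sheaves. -/
theorem result {S : Scheme.{u}} {X Y : AlgSp.Space S} (f : X ⟶ Y)
    (hf : AlgSp.RepWith @IsImmersion f.hom) : Mono f.hom := by
  refine mono_of_repWith (P := @IsImmersion) (fun X Y g hg => ?_) hf
  have : IsImmersion g := hg
  infer_instance

end Groth.Agent.S9928
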