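import Groth.Statements.S9929
-- import your own Groth.Agent.* helpers here
import Groth.Agent.Lib.AlgSpFpqcIso

set_option autoImplicit false
universe u
open CategoryTheory CategoryTheory.Limits AlgebraicGeometry
open AlgSp

namespace Groth.Agent.S9929

/-- A monomorphism from an algebraic space to the spectrum of a field is either the empty space or an
isomorphism. -/
theorem result {S : Scheme.{u}} {k : Type u} [Field k] (str : Spec (CommRingCat.of k) ⟶ S)
    (Z : AlgSp.Space S) (f : Z ⟶ (AlgSp.ofScheme S).obj (Over.mk str)) [Mono f.hom] :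
    IsEmpty (AlgSp.Points Z.obj) ∨ IsIso f := by
  by_cases hemp : IsEmpty (AlgSp.Points Z.obj)
  · exact Or.inl hemp
  right
  rw [not_isEmpty_iff] at hemp
  obtain ⟨z⟩ := hemp
  have hZ : AlgSp.IsAlgSpace Z.obj := Z.property
  obtain ⟨U, a, -, has⟩ := hZ.atlas
  obtain ⟨u0, -⟩ := Groth.Agent.Lib.AlgSpQC.surjective_ofPt_of_repWith_surjective has z
  obtain ⟨_, ⟨W, hW, rfl⟩, hu0W, -⟩ := (U.left.isBasis_affineOpens).exists_subset_of_mem_open
    (Set.mem_univ u0) isOpen_univ
  let Wa : U.left.affineOpens := ⟨W, hW⟩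
  have hWaff : IsAffine (Wa.1 : Scheme) := hW
  -- the affine chart `W` of `Z` as a scheme over `Spec k`
  let W' : Over S := Over.mk (Wa.1.ι ≫ U.hom)
  let jW : W' ⟶ U := Over.homMk Wa.1.ι rfl
  obtain ⟨w, hw⟩ := (AlgSp.yon S).map_surjective (((AlgSp.yon S).map jW ≫ a) ≫ f.hom)
  let w₀ : (Wa.1 : Scheme) ⟶ Spec (CommRingCat.of k) := w.left
  have hflat : Flat w₀ := inferInstance
  have hsurjw : Surjective w₀ := by
    constructor
    intro x
    exact ⟨⟨u0, hu0W⟩, Subsingleton.elim (α := ↥(Spec (CommRingCat.of k))) _ _⟩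
  have hkdiag : AlgSp.Representable (Limits.diag ((AlgSp.yon S).obj (Over.mk str))) :=
    (AlgSp.IsAlgSpace.yon_obj (Over.mk str)).diag
  -- the one-member family `{f}` has the fpqc refinement property
  have href : Groth.Agent.Lib.AlgSpFpqc.HasFpqcRefinement (ι := PUnit.{u+1}) (fun _ => Z.obj)
      (fun _ => f.hom) := by
    intro T hT h
    obtain ⟨t, rfl⟩ := (AlgSp.yon S).map_surjective h
    have hcond : pullback.snd t.left w.left ≫ W'.hom = pullback.fst t.left w.left ≫ T.hom := by
      rw [← Over.w w, ← Over.w t, ← Category.assoc, ← Category.assoc, pullback.condition]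
    let P' : Over S := Over.mk (pullback.fst t.left w.left ≫ T.hom)
    let c : P' ⟶ T := Over.homMk (pullback.fst t.left w.left) rfl
    let d : P' ⟶ W' := Over.homMk (pullback.snd t.left w.left) hcond
    have hcd : c ≫ t = d ≫ w := by
      ext
      exact pullback.condition
    let t₀ : T.left ⟶ Spec (CommRingCat.of k) := t.left
    have hTaff : IsAffine T.left := hT
    have hPaff : IsAffine P'.left := by
      change IsAffine (pullback t₀ w₀)
      infer_instance
    refine ⟨1, fun _ => P', fun _ => c, fun _ => hPaff, fun _ => ?_, fun x => ?_, fun _ => ?_⟩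
    · change Flat (pullback.fst t₀ w₀)
      infer_instance
    · have : Surjective (pullback.fst t₀ w₀) := inferInstance
      obtain ⟨y, hy⟩ := this.surj x
      exact ⟨0, y, hy⟩
    · refine ⟨PUnit.unit, (AlgSp.yon S).map d ≫ (AlgSp.yon S).map jW ≫ a, ?_⟩
      have e1 : ((AlgSp.yon S).map d ≫ (AlgSp.yon S).map jW ≫ a) ≫ f.hom =
          (AlgSp.yon S).map d ≫ (AlgSp.yon S).map w := by
        rw [hw]
        simp only [Category.assoc]
        rfl
      have e2 : (AlgSp.yon S).map d ≫ (AlgSp.yon S).map w =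
          (AlgSp.yon S).map c ≫ (AlgSp.yon S).map t := by
        rw [← Functor.map_comp, ← Functor.map_comp, hcd]
      exact e1.trans e2
  have sq : ∀ _ : PUnit.{u+1}, IsPullback (pullback.fst f.hom f.hom) (pullback.snd f.hom f.hom)
      f.hom f.hom := fun _ => IsPullback.of_hasPullback _ _
  have hiso : IsIso f.hom :=
    Groth.Agent.Lib.AlgSpFpqc.isIso_of_hasFpqcRefinement hZ hkdiag href sq fun _ =>
      (IsPullback.of_hasPullback f.hom f.hom).isIso_snd_iso_of_mono
  have : IsIso ((ObjectProperty.ι (AlgSp.IsAlgSpace (S := S))).map f) := hiso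
  exact isIso_of_reflects_iso f (ObjectProperty.ι (AlgSp.IsAlgSpace (S := S)))

end Groth.Agent.S9929
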