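import Groth.Statements.S9931
import Groth.Agent.Lib.H86ZarGlueRep
import Mathlib.AlgebraicGeometry.Morphisms.Immersion

set_option autoImplicit false
set_option linter.style.haveILetI false
universe u
open CategoryTheory CategoryTheory.Limits AlgebraicGeometry
open AlgSp

namespace Groth.Agent.S9931

open Groth.Agent.Lib.H86ZarGlue

/-- The general argument, for `P` stable under base change and Zariski local on the target. -/
theorem aux {S : Scheme.{u}} (P : MorphismProperty Scheme.{u}) [P.IsStableUnderBaseChange]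
    [IsZariskiLocalAtTarget P] {X Y : AlgSp.Space S} (f : X ⟶ Y)
    (h : ∀ (Z : Over S), IsAffine Z.left → ∀ (g : (AlgSp.yon S).obj Z ⟶ Y.obj) (P₀ : AlgSp.Sp S)
      (fst : P₀ ⟶ X.obj) (snd : P₀ ⟶ (AlgSp.yon S).obj Z), IsPullback fst snd f.hom g → AlgSp.RepWith P snd) :
    AlgSp.RepWith P f.hom := by
  refine repWith_of_forall_affine_isPullback f.hom P fun Z hZ g => ?_
  have sq := IsPullback.of_hasPullback f.hom g
  have hsnd : RepWith P (pullback.snd f.hom g) := h Z hZ g _ _ _ sq
  obtain ⟨W, i, fst', hpb⟩ := hsnd.1 (𝟙 _)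
  have hi : P i.left := hsnd.2 _ fst' i hpb
  have big := hpb.paste_horiz sq
  rw [Category.id_comp] at big
  exact ⟨W, i, fst' ≫ pullback.fst f.hom g, big, hi⟩

/-- (3) ⇒ (1): for P = closed immersion, open immersion or immersion, a morphism of algebraic spaces
whose base change to every affine scheme over the target is representable with P is itself
representable with P. -/
theorem result {S : Scheme.{u}} (P : MorphismProperty Scheme.{u})
    (hP : P = @IsClosedImmersion ∨ P = @IsOpenImmersion ∨ P = @IsImmersion) {X Y : AlgSp.Space S} (f : X ⟶ Y)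
    (h : ∀ (Z : Over S), IsAffine Z.left → ∀ (g : (AlgSp.yon S).obj Z ⟶ Y.obj) (P₀ : AlgSp.Sp S)
      (fst : P₀ ⟶ X.obj) (snd : P₀ ⟶ (AlgSp.yon S).obj Z), IsPullback fst snd f.hom g → AlgSp.RepWith P snd) :
    AlgSp.RepWith P f.hom := by
  rcases hP with rfl | rfl | rfl
  · exact aux _ f h
  · exact aux _ f h
  · exact aux _ f h

end Groth.Agent.S9931
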