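import Groth.Statements.S9932
import Groth.Agent.Lib.H69DescentAffine4
import Groth.Agent.Lib.AlgSpFpqcOpen
import Groth.Agent.Lib.AlgSpFppfCover
import Groth.Agent.Lib.H69Immersion

set_option autoImplicit false
universe u
open CategoryTheory CategoryTheory.Limits AlgebraicGeometry
open AlgSp

namespace Groth.Agent.S9932

/-- (4) ⇒ (1): for P = closed immersion, open immersion or immersion, being representable with P
descends along a surjective etale base change from a scheme. -/
theorem result {S : Scheme.{u}} (P : MorphismProperty Scheme.{u})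
    (hP : P = @IsClosedImmersion ∨ P = @IsOpenImmersion ∨ P = @IsImmersion) {X Y : AlgSp.Space S} (f : X ⟶ Y)
    (V : Over S) (p : (AlgSp.yon S).obj V ⟶ Y.obj) (hp : AlgSp.RepWith @Etale p) (hps : AlgSp.RepWith @Surjective p)
    {P₀ : AlgSp.Sp S} (fst : P₀ ⟶ X.obj) (snd : P₀ ⟶ (AlgSp.yon S).obj V) (sq : IsPullback fst snd f.hom p)
    (h : AlgSp.RepWith P snd) : AlgSp.RepWith P f.hom := by
  rcases hP with rfl | rfl | rfl
  · -- closed immersions: effective fppf descent for affine morphisms
    have := Groth.Agent.Lib.H69FppfLocal.isClosedImmersion.{u}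
    exact Groth.Agent.Lib.H69DescentAffine.repWith_of_fppf_cover_of_le_isAffineHom @IsClosedImmersion
      (fun _ _ g (hg : IsClosedImmersion g) => (inferInstance : IsAffineHom g)) f.hom p
      (Groth.Agent.Lib.H69AlgSp.repWith_flat_of_etale hp)
      (Groth.Agent.Lib.H69AlgSp.repWith_lfp_of_etale hp) hps fst snd sq h
  · -- open immersions: helper91's fpqc descent of open immersions
    exact Groth.Agent.Lib.AlgSpFpqc.repWith_isOpenImmersion_of_hasFpqcRefinement
      (ι := PUnit.{u+1}) X.property Y.property (Yi := fun _ => (AlgSp.yon S).obj V)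
      (fun _ => AlgSp.IsAlgSpace.yon_obj V) (g := fun _ => p)
      (Groth.Agent.Lib.AlgSpFpqc.isFpqcCover_of_etale_surjective_chart Y.property hp hps).2
      (Xi := fun _ => P₀) (p := fun _ => snd) (q := fun _ => fst) (fun _ => sq) (fun _ => h)
  · exact Groth.Agent.Lib.H69Immersion.repWith_isImmersion_of_etale_cover f.hom
      p hp hps fst snd sq h

end Groth.Agent.S9932
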