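import Groth.Statements.S9933
import Groth.Agent.Lib.AlgSpBasic

set_option autoImplicit false
universe u
open CategoryTheory CategoryTheory.Limits AlgebraicGeometry
open AlgSp

namespace Groth.Agent.S9933

/-- Permanence for Z -> Y -> X: the five representable finiteness/separation properties of Z -> X pass
to Z -> Y, and a closed immersion Z -> X with Y -> X separated gives a closed immersion Z -> Y. -/
theorem result {S : Scheme.{u}} {Z Y X : AlgSp.Space S} (a : Z ⟶ Y) (b : Y ⟶ X) :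
    ((AlgSp.Representable (a ≫ b).hom ∧ AlgSp.RepWith @LocallyOfFiniteType (a ≫ b).hom ∧
        AlgSp.RepWith (@LocallyQuasiFinite ⊓ @LocallyOfFiniteType) (a ≫ b).hom ∧
        AlgSp.RepWith @IsSeparated (a ≫ b).hom ∧
        AlgSp.RepWith (MorphismProperty.monomorphisms Scheme.{u}) (a ≫ b).hom) →
      (AlgSp.Representable a.hom ∧ AlgSp.RepWith @LocallyOfFiniteType a.hom ∧
        AlgSp.RepWith (@LocallyQuasiFinite ⊓ @LocallyOfFiniteType) a.hom ∧
        AlgSp.RepWith @IsSeparated a.hom ∧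
        AlgSp.RepWith (MorphismProperty.monomorphisms Scheme.{u}) a.hom)) ∧
    (AlgSp.RepWith @IsClosedImmersion (a ≫ b).hom → AlgSp.IsSeparatedMor b.hom →
      AlgSp.RepWith @IsClosedImmersion a.hom) := by
  have hcomp : (a ≫ b).hom = a.hom ≫ b.hom := rfl
  rw [hcomp]
  have hX : ∀ ⦃U : Over S⦄ (c : (AlgSp.yon S).obj U ⟶ X.obj), AlgSp.Representable c :=
    fun U c => X.property.representable_from_yon c
  have hdiag := Groth.Agent.Lib.AlgSpBasic.repWith_mono_lft_diagonal Y.property b.hom hX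
  refine ⟨fun ⟨h1, h2, h3, h4, h5⟩ => ⟨?_, ?_, ?_, ?_, ?_⟩, fun h1 h2 => ?_⟩
  · exact Groth.Agent.Lib.AlgSpBasic.representable_of_comp a.hom b.hom hdiag.1 h1
  · exact Groth.Agent.Lib.AlgSpBasic.repWith_of_comp @LocallyOfFiniteType a.hom b.hom
      (Groth.Agent.Lib.AlgSpBasic.repWith_mono inf_le_right hdiag) h2
  · refine Groth.Agent.Lib.AlgSpBasic.repWith_of_comp (@LocallyQuasiFinite ⊓ @LocallyOfFiniteType)
      a.hom b.hom (Groth.Agent.Lib.AlgSpBasic.repWith_mono ?_ hdiag) h3
    rintro A B g ⟨hg1, hg2⟩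
    have : Mono g := hg1
    have : LocallyOfFiniteType g := hg2
    exact ⟨inferInstance, hg2⟩
  · refine Groth.Agent.Lib.AlgSpBasic.repWith_of_comp @IsSeparated
      a.hom b.hom (Groth.Agent.Lib.AlgSpBasic.repWith_mono ?_ hdiag) h4
    rintro A B g ⟨hg1, hg2⟩
    have : Mono g := hg1
    exact (inferInstance : IsSeparated g)
  · exact Groth.Agent.Lib.AlgSpBasic.repWith_of_comp (MorphismProperty.monomorphisms Scheme.{u})
      a.hom b.hom (Groth.Agent.Lib.AlgSpBasic.repWith_mono inf_le_left hdiag) h5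
  · exact Groth.Agent.Lib.AlgSpBasic.repWith_of_comp @IsClosedImmersion a.hom b.hom h2 h1

end Groth.Agent.S9933
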