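import Groth.Statements.S9934
import Groth.Agent.Lib.AlgSpBasic
import Groth.Agent.Lib.AlgSpPoints

set_option autoImplicit false
universe u
open CategoryTheory CategoryTheory.Limits AlgebraicGeometry
open AlgSp

namespace Groth.Agent.S9934

/-- An immersion of algebraic spaces is a closed immersion exactly when its image on points is closed. -/
theorem result {S : Scheme.{u}} {Z X : AlgSp.Space S} (i : Z ⟶ X)
    (hi : AlgSp.RepWith @IsImmersion i.hom) :
    AlgSp.RepWith @IsClosedImmersion i.hom ↔ IsClosed (Set.range (AlgSp.Points.map i.hom)) := by
  constructor
  · intro h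
    have hc : IsClosedMap (AlgSp.Points.map i.hom) :=
      Groth.Agent.Lib.AlgSpPoints.isClosedMap_map_of_representable h.rep (fun T g => by
        have : IsClosedImmersion (h.rep.snd g).left := h.property_snd g
        exact (h.rep.snd g).left.isClosedEmbedding.isClosedMap)
    rw [← Set.image_univ]
    exact hc _ isClosed_univ
  · intro h
    have : MorphismProperty.RespectsIso @IsClosedImmersion.{u} := inferInstance
    have : (MorphismProperty.inverseImage @IsClosedImmersion.{u} (Over.forget S)).RespectsIso :=
      MorphismProperty.RespectsIso.inverseImage _ _
    refine MorphismProperty.relative_of_snd hi.rep (fun T g => ?_)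
    change IsClosedImmersion (hi.rep.snd g).left
    have h1 : IsImmersion (hi.rep.snd g).left := hi.property_snd g
    refine IsClosedImmersion.of_isPreimmersion _ ?_
    have h2 := Groth.Agent.Lib.AlgSpPoints.preimage_image_eq hi.rep g Set.univ
    rw [Set.image_univ, Set.preimage_univ, Set.image_univ] at h2
    rw [← h2]
    exact h.preimage (AlgSp.Points.continuous_ofPt g)

end Groth.Agent.S9934
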