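import Groth.Statements.S9942
import Groth.Agent.Lib.H69DescentAffine4
import Groth.Agent.Lib.H69ZarCover

set_option autoImplicit false
universe u
open CategoryTheory CategoryTheory.Limits AlgebraicGeometry
open AlgSp

namespace Groth.Agent.S9942

/-- (3) ⇒ (2): if X x_Y V is an affine scheme for every affine scheme V etale over Y, then f : X -> Y is
affine. -/
theorem result {S : Scheme.{u}} {X Y : AlgSp.Space S} (f : X ⟶ Y)
    (h : ∀ (V : Over S), IsAffine V.left → ∀ (b : (AlgSp.yon S).obj V ⟶ Y.obj), AlgSp.RepWith @Etale b →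
      ∀ (P : AlgSp.Sp S) (fst : P ⟶ X.obj) (snd : P ⟶ (AlgSp.yon S).obj V), IsPullback fst snd f.hom b →
      ∃ (W : Over S), IsAffine W.left ∧ Nonempty ((AlgSp.yon S).obj W ≅ P)) :
    AlgSp.IsAffineMor f.hom := by
  obtain ⟨U, a, ha1, ha2⟩ := Y.property.atlas
  refine Groth.Agent.Lib.H69DescentAffine.isAffineMor_of_fppf_cover f.hom a
    (Groth.Agent.Lib.H69AlgSp.repWith_flat_of_etale ha1) (Groth.Agent.Lib.H69AlgSp.repWith_lfp_of_etale ha1)
    ha2 (pullback.fst f.hom a) (pullback.snd f.hom a) (IsPullback.of_hasPullback _ _) ?_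
  rw [Groth.Agent.Lib.H86ZarGlue.isAffineMor_iff_repWith]
  have := Groth.Agent.Lib.H86ZarGlue.isZariskiLocalAtTarget_isAffineHom.{u}
  refine Groth.Agent.Lib.H69ZarCover.repWith_of_openCover @IsAffineHom (pullback.snd f.hom a)
    U.left.affineCover (fun j => ?_)
  -- the `j`-th member of the affine cover, etale over `Y`
  let ιj := Groth.Agent.Lib.H69ZarCover.coverMap U U.left.affineCover j
  have hUj : IsAffine (Groth.Agent.Lib.H69ZarCover.coverObj U U.left.affineCover j).left :=
    inferInstanceAs (IsAffine (U.left.affineCover.X j))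
  have hb : AlgSp.RepWith @Etale ((AlgSp.yon S).map ιj ≫ a) := by
    have h1 : AlgSp.RepWith @Etale ((AlgSp.yon S).map ιj) :=
      (AlgSp.repWith_yon_map_iff @Etale ιj).2
        (inferInstanceAs (Etale (U.left.affineCover.f j)))
    exact MorphismProperty.comp_mem _ _ _ h1 ha1
  have sqj : IsPullback (pullback.fst (pullback.snd f.hom a) ((AlgSp.yon S).map ιj) ≫ pullback.fst f.hom a)
      (pullback.snd (pullback.snd f.hom a) ((AlgSp.yon S).map ιj)) f.hom ((AlgSp.yon S).map ιj ≫ a) :=
    (IsPullback.of_hasPullback (pullback.snd f.hom a) ((AlgSp.yon S).map ιj)).paste_horiz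
      (IsPullback.of_hasPullback f.hom a)
  obtain ⟨W, hW, ⟨e⟩⟩ := h _ hUj _ hb _ _ _ sqj
  exact Groth.Agent.Lib.H69ZarCover.repWith_isAffineHom_of_iso_yon _ e hW hUj

end Groth.Agent.S9942
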