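import Groth.Statements.S9945
import Groth.Agent.Lib.H69DescentAffine4
import Groth.Agent.Lib.H86QcProd
import Mathlib.AlgebraicGeometry.Artinian
import Mathlib.AlgebraicGeometry.Morphisms.QuasiFinite

set_option linter.style.haveILetI false

set_option autoImplicit false
universe u
open CategoryTheory CategoryTheory.Limits AlgebraicGeometry
open AlgSp

namespace Groth.Agent.S9945

/-- Over a base scheme with quasi-separated underlying space, every morphism from the spectrum of an
Artinian ring to an algebraic space quasi-separated over S is affine. (The published statement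
assumes X quasi-separated in the absolute sense over any base; this row assumes the base
quasi-separated and X quasi-separated over it, which on such bases is the same condition.) -/
theorem result {S : Scheme.{u}} [QuasiSeparatedSpace ↥S] (X : AlgSp.Space S)
    (hX : AlgSp.IsQuasiSeparatedSp X.obj) (A : Type u) [CommRing A] [IsArtinianRing A]
    (str : Spec (CommRingCat.of A) ⟶ S) (a : (AlgSp.yon S).obj (Over.mk str) ⟶ X.obj) :
    AlgSp.IsAffineMor a := by
  obtain ⟨U, p, hpe, hps⟩ := X.property.atlas
  -- the base change of `a` to the atlas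
  let T : Over S := hpe.rep.pullback a
  let sndT : T ⟶ Over.mk str := hpe.rep.snd a
  obtain ⟨kU, hkU⟩ := (yon S).map_surjective (hpe.rep.fst a)
  have sqT : IsPullback ((yon S).map kU) ((yon S).map sndT) p a := by
    rw [hkU]; exact hpe.rep.isPullback a
  have hsndT : Etale sndT.left := hpe.property_snd a
  -- `T` is discrete
  haveI : IsLocallyArtinian (Over.mk str).left :=
    inferInstanceAs (IsLocallyArtinian (Spec (CommRingCat.of A)))
  haveI : Etale sndT.left := hsndT
  haveI : LocallyQuasiFinite sndT.left := Groth.Agent.Lib.AlgSpBasic.locallyQuasiFinite_of_etale _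
  haveI : IsLocallyArtinian T.left := IsLocallyArtinian.of_locallyQuasiFinite sndT.left
  haveI : DiscreteTopology ↥T.left := inferInstance
  -- the descent
  have hp1 : RepWith @Flat p :=
    Groth.Agent.Lib.H69AlgSp.repWith_mono (fun _ _ g (hg : Etale g) => (inferInstance : Flat g)) hpe
  have hp2 : RepWith @LocallyOfFinitePresentation p :=
    Groth.Agent.Lib.H69AlgSp.repWith_mono
      (fun _ _ g (hg : Etale g) => (inferInstance : LocallyOfFinitePresentation g)) hpe
  refine Groth.Agent.Lib.H69DescentAffine.isAffineMor_of_fppf_cover a p hp1 hp2 hps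
    ((yon S).map sndT) ((yon S).map kU) sqT.flip ?_
  refine (Groth.Agent.Lib.H86ZarGlue.isAffineMor_iff_repWith _).2
    ((repWith_yon_map_iff _ _).2 ?_)
  change IsAffineHom kU.left
  -- check on the affine cover of `U`
  let 𝒰 := U.left.affineCover
  haveI := Groth.Agent.Lib.H86ZarGlue.isZariskiLocalAtTarget_isAffineHom.{u}
  refine (IsZariskiLocalAtTarget.iff_of_openCover (P := @IsAffineHom) 𝒰).2 fun i => ?_
  haveI : IsAffine (pullback kU.left (𝒰.f i)) := by
    haveI : DiscreteTopology ↥(pullback kU.left (𝒰.f i)) :=
      (pullback.fst kU.left (𝒰.f i)).isOpenEmbedding.toIsEmbedding.discreteTopology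
    haveI : CompactSpace ↥(pullback kU.left (𝒰.f i)) := by
      have H : IsPullback (pullback.snd kU.left (𝒰.f i)) (pullback.fst kU.left (𝒰.f i)) (𝒰.f i)
          kU.left := (IsPullback.of_hasPullback kU.left (𝒰.f i)).flip
      have hw := Groth.Agent.Lib.AlgSpQC.isPullback_w_over kU _ _ _ H
      have sq1 := Groth.Agent.Lib.AlgSpQC.isPullback_yon_overMk kU _ _ _ H hw
      have sq2 := sq1.paste_horiz sqT.flip
      have hqc := Groth.Agent.Lib.H86QcProd.isQuasiCompactSp_of_isPullback_of_quasiSeparated hX sq2
        ((Groth.Agent.Lib.AlgSpQC.isQuasiCompactSp_yon_iff _).2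
          (inferInstanceAs (CompactSpace ↥(Spec (CommRingCat.of A)))))
        ((Groth.Agent.Lib.AlgSpQC.isQuasiCompactSp_yon_iff _).2
          (inferInstanceAs (CompactSpace ↥(𝒰.X i))))
      exact (Groth.Agent.Lib.AlgSpQC.isQuasiCompactSp_yon_iff _).1 hqc
    haveI : Finite ↥(pullback kU.left (𝒰.f i)) := finite_of_compact_of_discrete
    infer_instance
  change IsAffineHom (pullback.snd kU.left (𝒰.f i))
  infer_instance

end Groth.Agent.S9945
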