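import Groth.Statements.S9951
import Groth.Agent.Lib.AlgSpBasic

set_option autoImplicit false
universe u
open CategoryTheory CategoryTheory.Limits AlgebraicGeometry
open AlgSp

namespace Groth.Agent.S9951

/-- The source of a morphism locally of finite type with locally Noetherian target is locally
Noetherian. -/
theorem result {S : Scheme.{u}} {X Y : AlgSp.Space S} (f : X ⟶ Y)
    (hf : AlgSp.LocP @LocallyOfFiniteType f.hom) (hY : AlgSp.IsLocNoethSp Y.obj) : AlgSp.IsLocNoethSp X.obj := by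
  obtain ⟨V, q, hqe, hqs, hV⟩ := hY
  obtain ⟨U, p, hpe, hps⟩ := X.property.atlas
  have sq := hqe.rep.isPullback' (p ≫ f.hom)
  have hπe : AlgSp.RepWith @Etale ((AlgSp.yon S).map (hqe.rep.snd (p ≫ f.hom))) :=
    (AlgSp.repWith_yon_map_iff _ _).2 (hqe.property_snd _)
  have hπs : AlgSp.RepWith @Surjective ((AlgSp.yon S).map (hqe.rep.snd (p ≫ f.hom))) :=
    (AlgSp.repWith_yon_map_iff _ _).2 (hqs.property _ _ _ (hqe.rep.isPullback _))
  have hae : AlgSp.RepWith @Etale ((AlgSp.yon S).map (hqe.rep.snd (p ≫ f.hom)) ≫ p) :=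
    MorphismProperty.comp_mem _ _ _ hπe hpe
  have has : AlgSp.RepWith @Surjective ((AlgSp.yon S).map (hqe.rep.snd (p ≫ f.hom)) ≫ p) :=
    MorphismProperty.comp_mem _ _ _ hπs hps
  refine ⟨hqe.rep.pullback (p ≫ f.hom), _, hae, has, ?_⟩
  have hγ : LocallyOfFiniteType (hqe.rep.fst' (p ≫ f.hom)).left :=
    hf _ q (hqe.rep.fst' (p ≫ f.hom)) hae hqe (by rw [Category.assoc]; exact sq.w.symm)
  exact LocallyOfFiniteType.isLocallyNoetherian (hqe.rep.fst' (p ≫ f.hom)).left

end Groth.Agent.S9951
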