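import Groth.Statements.S9953
import Groth.Agent.Lib.AlgSpBasic

set_option autoImplicit false
universe u
open CategoryTheory CategoryTheory.Limits AlgebraicGeometry
open AlgSp

namespace Groth.Agent.S9953

/-- An immersion of algebraic spaces is locally of finite type. -/
theorem result {S : Scheme.{u}} {X Y : AlgSp.Space S} (f : X ⟶ Y)
    (hf : AlgSp.RepWith @IsImmersion f.hom) : AlgSp.LocP @LocallyOfFiniteType f.hom := by
  intro U V a b h ha hb comm
  have hX : ∀ ⦃T : Over S⦄ (c : (AlgSp.yon S).obj T ⟶ X.obj), AlgSp.Representable c :=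
    fun T c => X.property.representable_from_yon c
  have sqW := hf.rep.isPullback b
  have hw : IsImmersion (hf.rep.snd b).left := hf.property_snd b
  have hfstb : AlgSp.RepWith @Etale (hf.rep.fst b) :=
    Groth.Agent.Lib.AlgSpBasic.repWith_fst_of_isPullback _ sqW hb
  have e1 : hf.rep.lift a h comm ≫ hf.rep.snd b = h := hf.rep.lift_snd _ _ _
  have e2 : (AlgSp.yon S).map (hf.rep.lift a h comm) ≫ hf.rep.fst b = a := hf.rep.lift_fst _ _ _
  have hdiag : AlgSp.RepWith @LocallyOfFiniteType (pullback.diagonal (hf.rep.fst b)) :=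
    Groth.Agent.Lib.AlgSpBasic.repWith_mono inf_le_right
      (Groth.Agent.Lib.AlgSpBasic.repWith_mono_lft_diagonal (AlgSp.IsAlgSpace.yon_obj _)
        (hf.rep.fst b) hX)
  have ha' : AlgSp.RepWith @LocallyOfFiniteType
      ((AlgSp.yon S).map (hf.rep.lift a h comm) ≫ hf.rep.fst b) := by
    rw [e2]
    refine Groth.Agent.Lib.AlgSpBasic.repWith_mono ?_ ha
    intro A B g (hg : Etale g)
    exact (inferInstance : LocallyOfFiniteType g)
  have hl : LocallyOfFiniteType (hf.rep.lift a h comm).left :=
    (AlgSp.repWith_yon_map_iff _ _).1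
      (Groth.Agent.Lib.AlgSpBasic.repWith_of_comp @LocallyOfFiniteType _ _ hdiag ha')
  have e3 : h.left = (hf.rep.lift a h comm).left ≫ (hf.rep.snd b).left := by
    rw [← Over.comp_left, e1]
  rw [e3]
  infer_instance

end Groth.Agent.S9953
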