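import Groth.Statements.S9956
import Groth.Agent.Lib.AlgSpBasic

set_option autoImplicit false
universe u
open CategoryTheory CategoryTheory.Limits AlgebraicGeometry
open AlgSp

namespace Groth.Agent.S9956

/-- For morphisms X -> Y -> Z of algebraic spaces, local quasi-finiteness of the composite implies that
of the first map (locally quasi-finite includes locally of finite type, etale locally on source and
target). -/
theorem result {S : Scheme.{u}} {X Y Z : AlgSp.Space S} (f : X ⟶ Y) (g : Y ⟶ Z)
    (h : AlgSp.LocP ((@LocallyQuasiFinite : MorphismProperty Scheme.{u}) ⊓ @LocallyOfFiniteType) (f ≫ g).hom) :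
    AlgSp.LocP ((@LocallyQuasiFinite : MorphismProperty Scheme.{u}) ⊓ @LocallyOfFiniteType) f.hom := by
  have hcomp : (f ≫ g).hom = f.hom ≫ g.hom := rfl
  rw [hcomp] at h
  refine Groth.Agent.Lib.AlgSpBasic.locP_of_comp (@LocallyQuasiFinite ⊓ @LocallyOfFiniteType)
    (fun _ _ _ f' g' hfg => ?_) Z.property f.hom g.hom h
  have h1 : LocallyQuasiFinite (f' ≫ g') := hfg.1
  have h2 : LocallyOfFiniteType (f' ≫ g') := hfg.2
  exact ⟨LocallyQuasiFinite.of_comp f' g', locallyOfFiniteType_of_comp f' g'⟩

end Groth.Agent.S9956
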