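import Groth.Statements.S9957
-- import your own Groth.Agent.* helpers here
import Groth.Agent.Lib.H86QcProd
import Groth.Agent.Lib.H69AlgSpReduced

set_option autoImplicit false
universe u
open CategoryTheory CategoryTheory.Limits AlgebraicGeometry
open AlgSp

namespace Groth.Agent.S9957

/-- The source of a morphism of finite presentation whose target is Noetherian is itself Noetherian,
Noetherian meaning quasi-compact, quasi-separated over S and locally Noetherian. (The published
statement uses quasi-separatedness in the absolute sense; this row uses quasi-separatedness over S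
in hypothesis and conclusion.) -/
theorem result {S : Scheme.{u}} {X Y : AlgSp.Space S} (f : X ⟶ Y)
    (hf : AlgSp.IsFinitePresentationMor f.hom)
    (hY : AlgSp.IsQuasiCompactSp Y.obj ∧ AlgSp.IsQuasiSeparatedSp Y.obj ∧ AlgSp.IsLocNoethSp Y.obj) :
    AlgSp.IsQuasiCompactSp X.obj ∧ AlgSp.IsQuasiSeparatedSp X.obj ∧ AlgSp.IsLocNoethSp X.obj := by
  obtain ⟨hlfp, hqc, hqs⟩ := hf
  obtain ⟨hYc, hYs, hYn⟩ := hY
  refine ⟨?_, ?_, ?_⟩
  · exact hqc Y.property hYc (𝟙 Y.obj) (𝟙 X.obj) f.hom (IsPullback.of_horiz_isIso ⟨by simp⟩)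
  · rw [AlgSp.IsQuasiSeparatedSp, Groth.Agent.Lib.H86QcProd.repWith_diag_iff_diagonal_terminal] at hYs ⊢
    have hqs' : (AlgSp.RepWith (S := S) @QuasiCompact).diagonal f.hom := hqs
    have := (AlgSp.RepWith (S := S) @QuasiCompact).diagonal.comp_mem _ _ hqs' hYs
    rwa [terminal.comp_from] at this
  · obtain ⟨V, b, hbe, hbs, hV⟩ := hYn
    obtain ⟨U, p, hpe, hps⟩ := X.property.atlas
    obtain ⟨W, s, t, hse, hss, sq⟩ := Groth.Agent.Lib.H69AlgSpReduced.exists_chart f.hom p b hbe hbs
    have hse' : AlgSp.RepWith @Etale ((AlgSp.yon S).map s) := (AlgSp.repWith_yon_map_iff _ _).2 hse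
    have hss' : AlgSp.RepWith @Surjective ((AlgSp.yon S).map s) := (AlgSp.repWith_yon_map_iff _ _).2 hss
    have hae : AlgSp.RepWith @Etale ((AlgSp.yon S).map s ≫ p) := MorphismProperty.comp_mem _ _ _ hse' hpe
    have has : AlgSp.RepWith @Surjective ((AlgSp.yon S).map s ≫ p) :=
      MorphismProperty.comp_mem _ _ _ hss' hps
    have hw : ((AlgSp.yon S).map s ≫ p) ≫ f.hom = (AlgSp.yon S).map t ≫ b := by
      rw [Category.assoc]; exact sq.w.symm
    have hlfpt : LocallyOfFinitePresentation t.left := hlfp ((AlgSp.yon S).map s ≫ p) b t hae hbe hw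
    have : IsLocallyNoetherian V.left := hV
    exact ⟨W, (AlgSp.yon S).map s ≫ p, hae, has, LocallyOfFiniteType.isLocallyNoetherian t.left⟩

end Groth.Agent.S9957
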