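import Groth.Statements.S9958
import Groth.Agent.Lib.AlgSpBasic
import Groth.Agent.Lib.NoethDescent

set_option autoImplicit false
universe u
open CategoryTheory CategoryTheory.Limits AlgebraicGeometry
open AlgSp

namespace Groth.Agent.S9958

/-- Over a locally Noetherian algebraic space, locally of finite type implies locally of finite
presentation. -/
theorem result {S : Scheme.{u}} {X Y : AlgSp.Space S} (f : X ⟶ Y)
    (hY : AlgSp.IsLocNoethSp Y.obj) (hf : AlgSp.LocP @LocallyOfFiniteType f.hom) :
    AlgSp.LocP @LocallyOfFinitePresentation f.hom := by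
  intro U V a b h ha hb comm
  have hlft : LocallyOfFiniteType h.left := hf a b h ha hb comm
  obtain ⟨V0, q, hqe, hqs, hV0⟩ := hY
  have sq1 := hqe.rep.isPullback' b
  have hπe : Etale (hqe.rep.snd b).left := hqe.property_snd b
  have hπs : Surjective (hqe.rep.snd b).left := hqs.property _ _ _ (hqe.rep.isPullback b)
  have hγ : AlgSp.RepWith @Etale ((AlgSp.yon S).map (hqe.rep.fst' b)) :=
    Groth.Agent.Lib.AlgSpBasic.repWith_fst_of_isPullback _ sq1 hb
  have hγe : Etale (hqe.rep.fst' b).left := (AlgSp.repWith_yon_map_iff _ _).1 hγ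
  have h1 : IsLocallyNoetherian (hqe.rep.pullback b).left :=
    LocallyOfFiniteType.isLocallyNoetherian (hqe.rep.fst' b).left
  have h2 : IsLocallyNoetherian V.left :=
    Groth.Agent.Lib.NoethDescent.isLocallyNoetherian_of_fppf (hqe.rep.snd b).left
  exact (inferInstance : LocallyOfFinitePresentation h.left)

end Groth.Agent.S9958
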