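import Groth.Statements.S9960
import Groth.Agent.Lib.AlgSpBasic

set_option autoImplicit false
universe u
open CategoryTheory CategoryTheory.Limits AlgebraicGeometry
open AlgSp

namespace Groth.Agent.S9960

/-- The diagonal of a morphism locally of finite type is locally of finite presentation, and of finite
presentation when the morphism is also quasi-separated. -/
theorem result {S : Scheme.{u}} {X Y : AlgSp.Space S} (f : X ⟶ Y)
    (hf : AlgSp.LocP @LocallyOfFiniteType f.hom) :
    AlgSp.LocP @LocallyOfFinitePresentation (pullback.diagonal f.hom) ∧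
    (AlgSp.IsQuasiSeparatedMor f.hom → AlgSp.IsFinitePresentationMor (pullback.diagonal f.hom)) := by
  have hX : ∀ ⦃T : Over S⦄ (c : (AlgSp.yon S).obj T ⟶ X.obj), AlgSp.Representable c :=
    fun T c => X.property.representable_from_yon c
  have hYr : ∀ ⦃T : Over S⦄ (c : (AlgSp.yon S).obj T ⟶ Y.obj), AlgSp.Representable c :=
    fun T c => Y.property.representable_from_yon c
  obtain ⟨U, p, hp, hps⟩ := X.property.atlas
  obtain ⟨V, q, hq, hqs⟩ := Y.property.atlas
  have hΔ := Groth.Agent.Lib.AlgSpBasic.representable_diagonal X.property.diag f.hom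
  -- `p ≫ f` is representable and locally of finite type
  have hpf : AlgSp.RepWith @LocallyOfFiniteType (p ≫ f.hom) := by
    have sq1 := hq.rep.isPullback' (p ≫ f.hom)
    have hπe : AlgSp.RepWith @Etale ((AlgSp.yon S).map (hq.rep.snd (p ≫ f.hom))) :=
      (AlgSp.repWith_yon_map_iff _ _).2 (hq.property_snd _)
    have hae : AlgSp.RepWith @Etale ((AlgSp.yon S).map (hq.rep.snd (p ≫ f.hom)) ≫ p) :=
      MorphismProperty.comp_mem _ _ _ hπe hp
    have hγ : LocallyOfFiniteType (hq.rep.fst' (p ≫ f.hom)).left :=
      hf _ q (hq.rep.fst' (p ≫ f.hom)) hae hq (by rw [Category.assoc]; exact sq1.w.symm)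
    exact Groth.Agent.Lib.AlgSpBasic.repWith_of_fppfCov @LocallyOfFiniteType (hYr (p ≫ f.hom))
      (Groth.Agent.Lib.AlgSpBasic.repWith_fppfCov_of_etale_surjective hq hqs) sq1.flip
      ((AlgSp.repWith_yon_map_iff _ _).2 hγ)
  have hrep : AlgSp.RepWith @LocallyOfFinitePresentation (pullback.diagonal f.hom) := by
    refine Groth.Agent.Lib.AlgSpBasic.repWith_diagonal_of_atlas @LocallyOfFinitePresentation f.hom hΔ
      p hp hps hpf.rep (fun ρ h => ?_)
    have h1 : Etale (hp.rep.snd p).left := hp.property_snd p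
    have h2 : LocallyOfFiniteType (hpf.rep.snd (p ≫ f.hom)).left := hpf.property_snd _
    have h3 : ρ.left ≫ (hpf.rep.snd (p ≫ f.hom)).left = (hp.rep.snd p).left := by
      rw [← Over.comp_left, h]
    have h4 : LocallyOfFinitePresentation (ρ.left ≫ (hpf.rep.snd (p ≫ f.hom)).left) := by
      rw [h3]; infer_instance
    exact Groth.Agent.Lib.AlgSpBasic.locallyOfFinitePresentation_of_comp _ _ h4 h2
  have hloc : AlgSp.LocP @LocallyOfFinitePresentation (pullback.diagonal f.hom) := by
    refine Groth.Agent.Lib.AlgSpBasic.locP_of_repWith @LocallyOfFinitePresentation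
      (fun _ _ _ l w hl hw => ?_) hX hrep
    have : Etale l := hl
    have : LocallyOfFinitePresentation w := hw
    exact (inferInstance : LocallyOfFinitePresentation (l ≫ w))
  refine ⟨hloc, fun hqsep => ⟨hloc, ?_, ?_⟩⟩
  · exact Groth.Agent.Lib.AlgSpBasic.isQuasiCompactMor_of_repWith le_rfl hqsep
  · have hiso : IsIso (pullback.diagonal (pullback.diagonal f.hom)) :=
      (pullback.isIso_diagonal_iff _).mpr inferInstance
    exact MorphismProperty.of_isIso (AlgSp.RepWith @QuasiCompact) _

end Groth.Agent.S9960
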