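import Groth.Statements.S9975
import Groth.Agent.Lib.AlgSpFtPt2

set_option autoImplicit false
universe u
open CategoryTheory CategoryTheory.Limits AlgebraicGeometry
open AlgSp

namespace Groth.Agent.S9975

/-- A point of an algebraic space is a finite type point (represented by a locally finite type morphism
from the spectrum of a field) exactly when it is the image of a closed point of some etale scheme
chart. -/
theorem result {S : Scheme.{u}} (X : AlgSp.Space S) (x : AlgSp.Points X.obj) :
    (∃ (k : Type u) (_ : Field k) (str : Spec (CommRingCat.of k) ⟶ S) (ξ : (AlgSp.yon S).obj (Over.mk str) ⟶ X.obj),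
        AlgSp.LocP @LocallyOfFiniteType ξ ∧ AlgSp.Points.ofPt ξ (IsLocalRing.closedPoint k) = x) ↔
      ∃ (U : Over S) (φ : (AlgSp.yon S).obj U ⟶ X.obj) (u : ↥U.left), AlgSp.RepWith @Etale φ ∧
        IsClosed ({u} : Set ↥U.left) ∧ AlgSp.Points.ofPt φ u = x := by
  constructor
  · rintro ⟨k, hk, str, ξ, hξ, hx⟩
    exact Groth.Agent.Lib.AlgSpFtPt.exists_chart_of_isFtPt X.property x ⟨k, hk, str, ξ, hξ, hx⟩
  · rintro ⟨U, φ, u, hφ, hu, rfl⟩
    have h := Groth.Agent.Lib.AlgSpFtPt.isFtPt_of_closed X.property (𝟙 U) (by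
      change LocallyOfFiniteType (𝟙 U.left); infer_instance) φ hφ u hu
    rw [CategoryTheory.Functor.map_id, Category.id_comp] at h
    exact h

end Groth.Agent.S9975
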