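import Groth.Statements.S9978
import Groth.Agent.Lib.AlgSpFibreChart36
import Groth.Agent.S0566
import Groth.Agent.S9833

set_option autoImplicit false
universe u
open CategoryTheory CategoryTheory.Limits AlgebraicGeometry
open AlgSp

namespace Groth.Agent.S9978

/-- An algebraic space locally of finite type over a Nagata algebraic space is Nagata. -/
theorem result {S : Scheme.{u}} {X Y : AlgSp.Space S} (f : X ⟶ Y)
    (hf : AlgSp.LocP @LocallyOfFiniteType f.hom)
    (hY : AlgSp.EtaleLocally (fun U => ∀ V : U.Opens, IsAffineOpen V → CAlg.IsNagata ↑Γ(U, V)) Y.obj) :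
    AlgSp.EtaleLocally (fun U => ∀ V : U.Opens, IsAffineOpen V → CAlg.IsNagata ↑Γ(U, V)) X.obj := by
  obtain ⟨V, b, hb, hbs, hN⟩ := hY
  obtain ⟨U, a, k, ha, has, comm, -⟩ :=
    Groth.Agent.Lib.AlgSpFibreChart36.exists_global_chart X.property f.hom b hb hbs
  have hk : LocallyOfFiniteType k.left := hf a b k ha hb comm
  refine ⟨U, a, ha, has, ?_⟩
  -- scheme-level: locally of finite type over a Nagata scheme is Nagata
  have key : ∀ x : ↥U.left, ∃ O : U.left.Opens, IsAffineOpen O ∧ x ∈ O ∧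
      CAlg.IsNagata ↑Γ(U.left, O) := by
    intro x
    obtain ⟨B, hB, hxB, -⟩ := (TopologicalSpace.Opens.isBasis_iff_nbhd.1 V.left.isBasis_affineOpens)
      (show k.left x ∈ (⊤ : V.left.Opens) from trivial)
    obtain ⟨A, hA, hxA, hAB⟩ := (TopologicalSpace.Opens.isBasis_iff_nbhd.1 U.left.isBasis_affineOpens)
      (show x ∈ k.left ⁻¹ᵁ B from hxB)
    refine ⟨A, hA, hxA, ?_⟩
    have hft : (k.left.appLE B A hAB).hom.FiniteType := hk.finiteType_appLE hB hA hAB
    algebraize [(k.left.appLE B A hAB).hom]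
    exact Groth.Agent.S0566.result ↑Γ(V.left, B) (hN B hB) ↑Γ(U.left, A)
  choose O hO1 hO2 hO3 using key
  intro W hW
  refine Groth.Agent.S9833.result U.left O ?_ hO1 hO3 W hW
  rw [eq_top_iff]
  intro x _
  exact TopologicalSpace.Opens.mem_iSup.2 ⟨x, hO2 x⟩

end Groth.Agent.S9978
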