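import Groth.Statements.S9981
import Groth.Agent.Lib.H86AlgSpPoints
import Groth.Agent.Lib.H86LocConstr

set_option autoImplicit false
set_option linter.style.haveILetI false
universe u
open CategoryTheory CategoryTheory.Limits AlgebraicGeometry
open AlgSp

namespace Groth.Agent.S9981

open Groth.Agent.Lib.H86AlgSpPoints Groth.Agent.Lib.H86LocConstr

/-- The inverse image of an etale locally constructible subset under a morphism of algebraic spaces is
etale locally constructible. -/
theorem result {S : Scheme.{u}} {X Y : AlgSp.Space S} (f : X ⟶ Y)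
    (E : Set (AlgSp.Points Y.obj))
    (hE : (∀ (U : Over S) (φ : (AlgSp.yon S).obj U ⟶ Y.obj), AlgSp.RepWith @Etale φ →
        Topology.IsLocallyConstructible (AlgSp.Points.ofPt φ ⁻¹' E))) :
    (∀ (U : Over S) (φ : (AlgSp.yon S).obj U ⟶ X.obj), AlgSp.RepWith @Etale φ →
        Topology.IsLocallyConstructible (AlgSp.Points.ofPt φ ⁻¹' (AlgSp.Points.map f.hom ⁻¹' E))) := by
  intro U φ _
  obtain ⟨V₀, q, hqe, hqs⟩ := Y.property.atlas
  obtain ⟨W, snd, fst, hpb⟩ := hqe.1 (φ ≫ f.hom)
  haveI hse : Etale snd.left := hqe.2 _ fst snd hpb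
  haveI hss : Surjective snd.left := hqs.2 _ fst snd hpb
  obtain ⟨fst', rfl⟩ := (yon S).map_surjective fst
  apply isLocallyConstructible_of_preimage snd.left
  have e : snd.left ⁻¹' (AlgSp.Points.ofPt φ ⁻¹' (AlgSp.Points.map f.hom ⁻¹' E)) =
      fst'.left ⁻¹' (AlgSp.Points.ofPt q ⁻¹' E) := by
    ext w
    simp only [Set.mem_preimage]
    rw [Points.map_ofPt, ← ofPt_map_comp snd (φ ≫ f.hom) w, ← ofPt_map_comp fst' q w, hpb.w]
  rw [e]
  exact isLocallyConstructible_preimage fst'.left (hE V₀ q hqe)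

end Groth.Agent.S9981
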