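import Groth.Statements.S9982
import Groth.Agent.Lib.H86AlgSpPoints
import Groth.Agent.Lib.H86LocConstr
import Groth.Agent.Lib.AlgSpPoints
import Groth.Agent.Lib.AlgSpQC
set_option linter.style.haveILetI false

set_option autoImplicit false
universe u
open CategoryTheory CategoryTheory.Limits AlgebraicGeometry
open AlgSp

namespace Groth.Agent.S9982

open Groth.Agent.Lib.H86AlgSpPoints Groth.Agent.Lib.H86LocConstr
open scoped Set.Notation

set_option backward.isDefEq.respectTransparency false in
/-- A quasi-compact morphism locally of finite presentation between algebraic spaces maps etale locally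
constructible sets to etale locally constructible sets. -/
theorem result {S : Scheme.{u}} {X Y : AlgSp.Space S} (f : X ⟶ Y)
    (hq : AlgSp.IsQuasiCompactMor f.hom) (hfp : AlgSp.LocP @LocallyOfFinitePresentation f.hom)
    (E : Set (AlgSp.Points X.obj))
    (hE : (∀ (U : Over S) (φ : (AlgSp.yon S).obj U ⟶ X.obj), AlgSp.RepWith @Etale φ →
        Topology.IsLocallyConstructible (AlgSp.Points.ofPt φ ⁻¹' E))) :
    (∀ (U : Over S) (φ : (AlgSp.yon S).obj U ⟶ Y.obj), AlgSp.RepWith @Etale φ →
        Topology.IsLocallyConstructible (AlgSp.Points.ofPt φ ⁻¹' (AlgSp.Points.map f.hom '' E))) := by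
  intro U φ hφ
  have key : ∀ u : ↥U.left, ∃ N : U.left.Opens, u ∈ N ∧
      Topology.IsLocallyConstructible ((N : Set ↥U.left) ↓∩
        (AlgSp.Points.ofPt φ ⁻¹' (AlgSp.Points.map f.hom '' E))) := by
    intro u
    obtain ⟨O, hO, huO, -⟩ := exists_isAffineOpen_mem_and_subset (X := U.left) (x := u)
      (U := ⊤) trivial
    refine ⟨O, huO, ?_⟩
    haveI : IsAffine (O : Scheme.{u}) := hO
    -- the affine open as an object over `S`
    let U' : Over S := Over.mk (O.ι ≫ U.hom)
    let ι : U' ⟶ U := Over.homMk O.ι rfl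
    have hι : AlgSp.RepWith (S := S) @Etale ((AlgSp.yon S).map ι) :=
      (AlgSp.repWith_yon_map_iff @Etale ι).2 (by
        show Etale O.ι
        infer_instance)
    let ψ : (AlgSp.yon S).obj U' ⟶ Y.obj := (AlgSp.yon S).map ι ≫ φ
    have hψ : AlgSp.RepWith (S := S) @Etale ψ :=
      (AlgSp.RepWith (S := S) @Etale).comp_mem _ _ hι hφ
    -- the base change of `f` to `U'`
    have sq : IsPullback (pullback.fst f.hom ψ) (pullback.snd f.hom ψ) f.hom ψ :=
      IsPullback.of_hasPullback _ _
    have hZ' : AlgSp.IsQuasiCompactSp (pullback f.hom ψ) :=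
      hq (AlgSp.IsAlgSpace.yon_obj U')
        ((Groth.Agent.Lib.AlgSpQC.isQuasiCompactSp_yon_iff U').2
          (by show CompactSpace ↥(O : Scheme.{u}); infer_instance)) ψ _ _ sq
    obtain ⟨T, c, hce, hcs, hT⟩ := hZ'
    haveI : CompactSpace ↥T.left := hT
    have hfst : AlgSp.RepWith (S := S) @Etale (pullback.fst f.hom ψ) :=
      (AlgSp.RepWith (S := S) @Etale).of_isPullback sq.flip hψ
    have hcf : AlgSp.RepWith (S := S) @Etale (c ≫ pullback.fst f.hom ψ) :=
      (AlgSp.RepWith (S := S) @Etale).comp_mem _ _ hce hfst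
    obtain ⟨t, ht⟩ := (AlgSp.yon S).map_surjective (c ≫ pullback.snd f.hom ψ)
    have hsq : (c ≫ pullback.fst f.hom ψ) ≫ f.hom = (AlgSp.yon S).map t ≫ ψ := by
      rw [ht, Category.assoc, Category.assoc, sq.w]
    haveI hlfp : LocallyOfFinitePresentation t.left := hfp _ _ t hcf hψ hsq
    haveI : IsAffine U'.left := hO
    haveI hqc : QuasiCompact t.left :=
      (HasAffineProperty.iff_of_isAffine (P := @QuasiCompact)).mpr
        (inferInstance : CompactSpace ↥T.left)
    have hET : Topology.IsLocallyConstructible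
        (AlgSp.Points.ofPt (c ≫ pullback.fst f.hom ψ) ⁻¹' E) := hE T _ hcf
    have h2 := t.left.isLocallyConstructible_image hET
    have e : ((O : Set ↥U.left) ↓∩ (AlgSp.Points.ofPt φ ⁻¹' (AlgSp.Points.map f.hom '' E))) =
        t.left '' (AlgSp.Points.ofPt (c ≫ pullback.fst f.hom ψ) ⁻¹' E) := by
      refine Set.ext fun (x : ↥U'.left) => ?_
      have hx : AlgSp.Points.ofPt φ (ι.left x) = AlgSp.Points.ofPt ψ x :=
        (ofPt_map_comp ι φ x).symm
      have hιx : (ι.left x : ↥U.left) = Subtype.val (show ↥(O : Set ↥U.left) from x) := rfl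
      show AlgSp.Points.ofPt φ (Subtype.val (show ↥(O : Set ↥U.left) from x)) ∈
        AlgSp.Points.map f.hom '' E ↔ _
      rw [← hιx, hx]
      simp only [Set.mem_preimage, Set.mem_image]
      constructor
      · rintro ⟨y, hyE, hy⟩
        have hy' : AlgSp.Points.map f.hom y =
            AlgSp.Points.map ψ (AlgSp.Points.ofPt (𝟙 ((AlgSp.yon S).obj U')) x) := by
          rw [hy, AlgSp.Points.map_ofPt, Category.id_comp]
        obtain ⟨z, hz1, hz2⟩ := Groth.Agent.Lib.AlgSpPoints.exists_point_of_isPullback sq y _ hy'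
        obtain ⟨τ, hτ⟩ := Groth.Agent.Lib.AlgSpQC.surjective_ofPt_of_repWith_surjective hcs z
        refine ⟨τ, ?_, ?_⟩
        · rw [← AlgSp.Points.map_ofPt, hτ, hz1]
          exact hyE
        · have h3 : AlgSp.Points.ofPt (𝟙 ((AlgSp.yon S).obj U')) (t.left τ) =
              AlgSp.Points.ofPt (𝟙 ((AlgSp.yon S).obj U')) x := by
            rw [← ofPt_map_comp t (𝟙 _) τ, Category.comp_id, ht, ← AlgSp.Points.map_ofPt, hτ, hz2]
          exact (AlgSp.Points.schemeEquiv U').injective h3
      · rintro ⟨τ, hτE, rfl⟩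
        refine ⟨_, hτE, ?_⟩
        rw [AlgSp.Points.map_ofPt, hsq, ofPt_map_comp]
    rw [e]
    exact h2
  choose N hvN hN using key
  exact Topology.IsLocallyConstructible.of_isOpenCover (U := N)
    (TopologicalSpace.IsOpenCover.mk (by
      refine eq_top_iff.2 fun v _ => ?_
      exact TopologicalSpace.Opens.mem_iSup.2 ⟨v, hvN v⟩)) hN

end Groth.Agent.S9982
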