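import Groth.Statements.S9990
import Groth.Agent.Lib.H69ModPushFF
import Groth.Agent.Lib.H69PushClosedFF
import Groth.Agent.Lib.H69EtRing

set_option autoImplicit false
universe u
open CategoryTheory CategoryTheory.Limits AlgebraicGeometry Opposite
open AlgSp

namespace Groth.Agent.S9990

/-- For a closed immersion i : Z ⟶ X of algebraic spaces over S and any O_Z-module G on the small etale
site, the counit i^* i_* G ⟶ G of the adjunction between i^* and i_* is invertible, so that i^* is
left inverse to i_*. -/
theorem result {S : Scheme.{u}} {Z X : AlgSp.Space S} (i : Z ⟶ X)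
    (hi : AlgSp.RepWith @IsClosedImmersion i.hom)
    [(SheafOfModules.pushforward.{u + 1} (AlgSp.bcRingHom hi.1)).IsRightAdjoint] (G : AlgSp.ModEt Z.obj) :
    IsIso ((AlgSp.pullPushAdjModEt hi.1).counit.app G) := by
  haveI : (EtOver.bc hi.1).IsCoverDense (etTop Z.obj) :=
    Groth.Agent.Lib.H69PushClosedFF.isCoverDense i.hom hi X.property
  haveI : (EtOver.bc hi.1).IsLocallyFull (etTop Z.obj) :=
    Groth.Agent.Lib.H69PushClosedFF.isLocallyFull i.hom hi
  have hφ : Presheaf.IsLocallySurjective (etTop X.obj) (bcRingHom hi.1).hom :=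
    Groth.Agent.Lib.H69EtRing.isLocallySurjective_bcRingHom_of_isClosedImmersion hi
  haveI : (SheafOfModules.pushforward.{u + 1} (AlgSp.bcRingHom hi.1)).Faithful :=
    Groth.Agent.Lib.H69ModPushFF.faithful_pushforward.{u + 1} (bcRingHom hi.1)
  haveI : (SheafOfModules.pushforward.{u + 1} (AlgSp.bcRingHom hi.1)).Full :=
    Groth.Agent.Lib.H69ModPushFF.full_pushforward'.{u + 1} (bcRingHom hi.1) hφ
  infer_instance

end Groth.Agent.S9990
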