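import Groth.Statements.S9993
import Groth.Agent.Lib.AlgSpAtPt

set_option autoImplicit false
universe u
open CategoryTheory CategoryTheory.Limits AlgebraicGeometry
open AlgSp

namespace Groth.Agent.S9993

/-- A morphism f : X ⟶ Y of algebraic spaces has P at the point x in the neighbourhood sense (some chart
diagram through x whose top arrow has P on an open neighbourhood of the chosen point) if and only if
some open subspace X' of X through x has its restriction X' ⟶ Y in the class P etale locally on the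
source and target. -/
theorem result {S : Scheme.{u}} (P : MorphismProperty Scheme.{u})
    (hP : P = @LocallyOfFiniteType ∨ P = @LocallyOfFinitePresentation ∨ P = @Flat ∨ P = @Smooth ∨ P = @Etale ∨
      (∀ ⦃A B : Scheme.{u}⦄ (g : A ⟶ B), P g ↔ (LocallyQuasiFinite g ∧ LocallyOfFiniteType g)) ∨
      (∀ ⦃A B : Scheme.{u}⦄ (g : A ⟶ B), P g ↔ (LocallyOfFiniteType g ∧ FormallyUnramified g)))
    {X Y : AlgSp.Space S} (f : X ⟶ Y) (x : AlgSp.Points X.obj) :
    AlgSp.HasAtMor (fun U _ h u => ∃ W : U.Opens, u ∈ W ∧ P (W.ι ≫ h)) f.hom x ↔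
      ∃ (X' : AlgSp.Space S) (j : X' ⟶ X), AlgSp.RepWith @IsOpenImmersion j.hom ∧
        x ∈ Set.range (AlgSp.Points.map j.hom) ∧ AlgSp.LocP P (j ≫ f).hom := by
  have h7 : Groth.Agent.Lib.AlgSpLocP.SevenClass P := hP
  constructor
  · intro h
    obtain ⟨X', j, hX', hj, hx, hl⟩ :=
      Groth.Agent.Lib.AlgSpAtPt.exists_open_of_hasAtMor h7 X.property Y.property f.hom x h
    exact ⟨⟨X', hX'⟩, ObjectProperty.homMk j, hj, hx, hl⟩
  · rintro ⟨X', j, hj, hx, hl⟩
    exact Groth.Agent.Lib.AlgSpAtPt.hasAtMor_of_open h7 Y.property f.hom x j.hom X'.property hj hx hl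

end Groth.Agent.S9993
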