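import Groth.Statements.S9995
import Groth.Agent.Lib.H86QFFibre2

set_option linter.style.haveILetI false

set_option autoImplicit false
universe u
open CategoryTheory CategoryTheory.Limits AlgebraicGeometry
open AlgSp

namespace Groth.Agent.S9995

/-- For a morphism f : X ⟶ Y of algebraic spaces of finite type and a point y of |Y|, the set of points
of |X| over y where f is quasi-finite is finite (in the neighbourhood sense, through some chart
diagram). -/
theorem result {S : Scheme.{u}} {X Y : AlgSp.Space S} (f : X ⟶ Y)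
    (hf : AlgSp.IsFiniteTypeMor f.hom) (y : AlgSp.Points Y.obj) :
    {x : AlgSp.Points X.obj | AlgSp.Points.map f.hom x = y ∧
      AlgSp.HasAtMor (fun U _ h u => ∃ W : U.Opens, u ∈ W ∧ LocallyQuasiFinite (W.ι ≫ h) ∧
        LocallyOfFiniteType (W.ι ≫ h)) f.hom x}.Finite := by
  induction y using Points.ind with | h η => ?_
  have sq := IsPullback.of_hasPullback f.hom η.toHom
  haveI : TopologicalSpace.NoetherianSpace (Points (pullback f.hom η.toHom)) :=
    Groth.Agent.Lib.H86QFFibre2.noetherianSpace_points_of_finiteType X.property Y.property f.hom hf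
      η.str η.toHom _ _ sq
  have hfin := Groth.Agent.Lib.H86QFFibre2.finite_setOf_isOpen_singleton
    (α := Points (pullback f.hom η.toHom))
  refine (hfin.image (Points.map (pullback.fst f.hom η.toHom))).subset ?_
  rintro x ⟨hx1, hx2⟩
  let pt₀ : ↥η.pt.left := (IsLocalRing.closedPoint η.K : ↥(Spec (CommRingCat.of η.K)))
  have hη : Points.mk η = Points.map η.toHom (Points.ofScheme η.pt pt₀) :=
    (Points.ofPt_toHom η pt₀).symm.trans (Points.ofPt_eq_map_ofScheme _ _)
  obtain ⟨w', hw'1, -⟩ := Groth.Agent.Lib.AlgSpPoints.exists_point_of_isPullback sq x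
    (Points.ofScheme η.pt pt₀) (by rw [hx1, hη])
  exact ⟨w', Groth.Agent.Lib.H86QFFibre2.isOpen_singleton_of_quasiFiniteAt Y.property f.hom x hx2
    η.str η.toHom _ _ sq w' hw'1, hw'1⟩

end Groth.Agent.S9995
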