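import Groth.Statements.S9998
import Groth.Agent.Lib.H69PushClosedStalk

set_option autoImplicit false
universe u
open CategoryTheory CategoryTheory.Limits AlgebraicGeometry Opposite
open AlgSp

namespace Groth.Agent.S9998

/-- For a closed immersion i : Z ⟶ X of algebraic spaces over S, a geometric point z of Z and a sheaf of
sets F on the small etale site of Z, the stalk of i_* F at the image point of z is the stalk of F at
z: the map sending the germ at an etale neighbourhood (U, u) of the image point of a section s ∈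
(i_* F)(U) = F(U ×_X Z) to the germ of s at the neighbourhood (U ×_X Z, lift of u) of z is a well
defined bijection. (The published statement writes the two stalks with their subscripts
interchanged; the stalk of i_* F is taken at the point of X and that of F at the point of Z, the
only meaningful reading.) -/
theorem result {S : Scheme.{u}} {Z X : AlgSp.Space S} (i : Z ⟶ X)
    (hi : AlgSp.RepWith @IsClosedImmersion i.hom) (z : AlgSp.FieldPt Z.obj) (hz : z.IsGeometric)
    (F : AlgSp.EtSh Z.obj (Type (u + 1))) :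
    ∃ φ : AlgSp.stalkEt (z.map i.hom) ((AlgSp.pushEt hi.1 (Type (u + 1))).obj F) ≃ AlgSp.stalkEt z F,
      ∀ (N : AlgSp.EtNbhd (z.map i.hom)) (s : F.obj.obj (op ((AlgSp.EtOver.bc hi.1).obj N.1))),
        φ (AlgSp.stalkEtι (z.map i.hom) ((AlgSp.pushEt hi.1 (Type (u + 1))).obj F) N s) =
          AlgSp.stalkEtι z F ⟨(AlgSp.EtOver.bc hi.1).obj N.1,
            ⟨hi.1.lift z.toHom N.2.1 ((N.2.2.trans (AlgSp.FieldPt.toHom_map i.hom z)).symm),
              hi.1.lift_fst _ _ _⟩⟩ s := by
  classical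
  have hzX : (z.map i.hom).IsGeometric := hz
  let pX := Groth.Agent.Lib.H69EtPoint.point (z.map i.hom) X.property hzX
  let pZ := Groth.Agent.Lib.H69EtPoint.point z Z.property hz
  let G : AlgSp.EtSh X.obj (Type (u + 1)) := (AlgSp.pushEt hi.1 (Type (u + 1))).obj F
  -- the comparison map
  let φ₀ : AlgSp.stalkEt (z.map i.hom) G ⟶ AlgSp.stalkEt z F :=
    pX.presheafFiberDesc (P := G.obj) (T := AlgSp.stalkEt z F)
      (fun N n => pZ.toPresheafFiber ((AlgSp.EtOver.bc hi.1).obj N)
        (Groth.Agent.Lib.H69PushClosedStalk.bcLift i.hom hi z n) F.obj)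
      (fun N N' q n => by
        have h1 := pZ.toPresheafFiber_w ((AlgSp.EtOver.bc hi.1).map q)
          (Groth.Agent.Lib.H69PushClosedStalk.bcLift i.hom hi z n) F.obj
        exact h1.trans (congrArg (fun t => pZ.toPresheafFiber ((AlgSp.EtOver.bc hi.1).obj N') t F.obj)
          (Groth.Agent.Lib.H69PushClosedStalk.bcLift_map i.hom hi z q n)))
  have hφ₀ : ∀ (N : AlgSp.EtOver X.obj) (n : (AlgSp.FieldPt.liftsTo (z.map i.hom)).obj N)
      (s : F.obj.obj (op ((AlgSp.EtOver.bc hi.1).obj N))),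
      φ₀ (pX.toPresheafFiber N n G.obj s) = pZ.toPresheafFiber ((AlgSp.EtOver.bc hi.1).obj N)
        (Groth.Agent.Lib.H69PushClosedStalk.bcLift i.hom hi z n) F.obj s := by
    intro N n s
    exact ConcreteCategory.congr_hom (pX.toPresheafFiber_presheafFiberDesc (P := G.obj) _ _ N n) s
  have hinj : Function.Injective φ₀ := by
    intro a b hab
    obtain ⟨N, n, s₁, s₂, rfl, rfl⟩ := pX.toPresheafFiber_jointly_surjective₂ (P := G.obj) a b
    rw [hφ₀, hφ₀] at hab
    obtain ⟨M, g, m, hm, hs⟩ := (GrothendieckTopology.Point.toPresheafFiber_eq_iff' pZ _ _ s₁ s₂).1 hab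
    obtain ⟨N', n', q, h, hq, -, hhg⟩ :=
      Groth.Agent.Lib.H69PushClosedStalk.exists_refine i.hom hi z hz n m g hm
    refine (GrothendieckTopology.Point.toPresheafFiber_eq_iff' pX _ _ s₁ s₂).2 ⟨N', q, n', hq, ?_⟩
    change F.obj.map ((AlgSp.EtOver.bc hi.1).map q).op s₁ = F.obj.map ((AlgSp.EtOver.bc hi.1).map q).op s₂
    rw [← hhg, op_comp, Functor.map_comp]
    exact congrArg (F.obj.map h.op) hs
  have hsurj : Function.Surjective φ₀ := by
    intro a
    obtain ⟨M, m, s, rfl⟩ := pZ.toPresheafFiber_jointly_surjective (P := F.obj) a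
    obtain ⟨⟨N₀, n₀⟩⟩ := Groth.Agent.Lib.H69EtNbhd.nonempty_etNbhd (z.map i.hom) X.property hzX
    let M' : AlgSp.EtOver Z.obj := AlgSp.EtOver.prodObj M ((AlgSp.EtOver.bc hi.1).obj N₀)
    let m' := Groth.Agent.Lib.H69EtNbhd.prodLift z m (Groth.Agent.Lib.H69PushClosedStalk.bcLift i.hom hi z n₀)
    obtain ⟨N, n, q, h, -, hh, -⟩ :=
      Groth.Agent.Lib.H69PushClosedStalk.exists_refine i.hom hi z hz n₀ m'
        (AlgSp.EtOver.prodSnd M _) (Groth.Agent.Lib.H69EtNbhd.map_prodSnd_prodLift z m _)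
    refine ⟨pX.toPresheafFiber N n G.obj (F.obj.map (h ≫ AlgSp.EtOver.prodFst M _).op s), ?_⟩
    rw [hφ₀]
    have h1 := pZ.toPresheafFiber_w_apply (h ≫ AlgSp.EtOver.prodFst M _)
      (Groth.Agent.Lib.H69PushClosedStalk.bcLift i.hom hi z n) F.obj s
    have hm' : (AlgSp.FieldPt.liftsTo z).map (h ≫ AlgSp.EtOver.prodFst M _)
        (Groth.Agent.Lib.H69PushClosedStalk.bcLift i.hom hi z n) = m := by
      rw [Functor.map_comp_apply, hh]
      exact Groth.Agent.Lib.H69EtNbhd.map_prodFst_prodLift z m _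
    exact h1.trans (congrArg (fun t => (ConcreteCategory.hom (pZ.toPresheafFiber M t F.obj)) s) hm')
  refine ⟨Equiv.ofBijective φ₀ ⟨hinj, hsurj⟩, fun N s => ?_⟩
  exact hφ₀ N.1 N.2 s

end Groth.Agent.S9998
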